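import Groth.Agent.CycInter.RatOn
import Groth.Agent.Cycles.FlatFam
import Groth.Agent.Cycles.PullPush
import Groth.Agent.Cycles.DimFunBC
import Groth.Agent.Cycles.PushDiv
import Groth.Agent.EGA43Topo.JacobsonDim
import Groth.Agent.EtCd.DimClosure
import Groth.Agent.S0603
import Groth.Agent.S9358
import Groth.Agent.Ega4Algebra1.CMTensor
import Groth.Agent.KoszShLib.CMLocal

/-! Exterior products of cycles over a field. -/

set_option linter.style.haveILetI false
universe u

open CategoryTheory CategoryTheory.Limits AlgebraicGeometry IsLocalRing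
open Groth.CycleLimits

namespace Groth.CycInter.Ext

variable {K : Type u} [Field K]

/-- Schemes locally of finite type over a field carry a dimension function. -/
theorem isSetup_field {X : Scheme.{u}} (f : X ⟶ Spec (CommRingCat.of K)) [LocallyOfFiniteType f]
    {δ : X → ℤ} (hδ : Cyc.DeltaCompat f δ fun _ => 0) : Cyc.IsSetup X δ := by
  have : LocCoh.IsCohenMacaulayRing K :=
    Groth.KoszShLib.isCohenMacaulayRing_of_local K
      (Groth.Ega4Algebra1.isCohenMacaulayLocalRing_of_krullDimLE_zero K)
  have hK : CAlg.IsUniversallyCatenary K := Groth.Agent.S0603.result K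
  have hst := fun p => Groth.EtCdDim.isUniversallyCatenary_stalk hK p
  have hS : Cyc.IsSetup (Spec (CommRingCat.of K)) fun _ => (0 : ℤ) :=
    ⟨inferInstance, hst, fun x y _ hne => (hne (Subsingleton.elim (α := PrimeSpectrum K) x y)).elim⟩
  exact ⟨LocallyOfFiniteType.isLocallyNoetherian f,
    fun x => Groth.EGA43Topo.JacobsonDim.isUnivCat_stalk f x (hst _),
    Groth.Cycles.isDimFun_of_deltaCompat f hS hδ⟩

variable {P X Y : Scheme.{u}}

/-- A dimension function compatible with a composite is compatible with the first factor. -/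
theorem deltaCompat_of_comp {S : Scheme.{u}} (h : P ⟶ X) (f : X ⟶ S) [LocallyOfFiniteType h]
    {δP : P → ℤ} {δX : X → ℤ} {δS : S → ℤ} (hP : Cyc.DeltaCompat (h ≫ f) δP δS)
    (hX : Cyc.DeltaCompat f δX δS) : Cyc.DeltaCompat h δP δX := by
  intro z
  obtain ⟨a, ha, ha'⟩ := hX (h z)
  obtain ⟨d, hd, hd'⟩ := hP z
  obtain ⟨m, hm, -⟩ := Groth.FibreDim.exists_relTrdeg_eq_height h z
  refine ⟨m, hm, ?_⟩
  have h1 := Groth.Cycles.relTrdeg_comp_add h f z
  rw [show Groth.Variety2.Dim.relTrdeg (h ≫ f) z = d from hd,
    show Groth.Variety2.Dim.relTrdeg f (h z) = a from ha, hm] at h1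
  have h2 : d = a + m := by exact_mod_cast h1
  rw [Scheme.Hom.comp_apply] at hd'
  omega

/-- Pullbacks of cycles along quasi-compact morphisms of finite type are cycles. -/
theorem exists_pullCycle [IsLocallyNoetherian P] (q : P ⟶ X) [LocallyOfFiniteType q] [QuasiCompact q]
    (δP : P → ℤ) (δX : X → ℤ) (c : ℤ) (α : AlgebraicCycle X ℤ) :
    ∃ γ : AlgebraicCycle P ℤ, ⇑γ = Cyc.pullFun q δP δX c ⇑α := by
  refine ⟨⟨Cyc.pullFun q δP δX c ⇑α, Set.subset_univ _, fun z _ => ?_⟩, rfl⟩
  obtain ⟨_, ⟨V, hV, rfl⟩, hzV, -⟩ :=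
    P.isBasis_affineOpens.exists_subset_of_mem_open (Set.mem_univ z) isOpen_univ
  refine ⟨V, V.isOpen.mem_nhds hzV, ?_⟩
  have hS := α.locallyFiniteSupport.finite_inter_support_of_isCompact (hV.isCompact.image q.continuous)
  refine (hS.biUnion fun x _ => ?_ :
    (⋃ x ∈ q '' (V : Set P) ∩ Function.support ⇑α, {v : P | q v = x ∧ IsFibreGeneric q v}).Finite).subset ?_
  · have : LocallyOfFiniteType (q.fiberToSpecResidueField x) :=
      inferInstanceAs (LocallyOfFiniteType (pullback.snd q (X.fromSpecResidueField x)))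
    have : QuasiCompact (q.fiberToSpecResidueField x) :=
      inferInstanceAs (QuasiCompact (pullback.snd q (X.fromSpecResidueField x)))
    have : IsLocallyNoetherian (q.fiber x) := LocallyOfFiniteType.isLocallyNoetherian (q.fiberToSpecResidueField x)
    have : CompactSpace (q.fiber x) := QuasiCompact.compactSpace_of_compactSpace (q.fiberToSpecResidueField x)
    have : AlgebraicGeometry.IsNoetherian (q.fiber x) := ⟨⟩
    refine ((Groth.Cycles.finite_setOf_isMax (X := q.fiber x)).image (q.fiberι x)).subset ?_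
    rintro v ⟨rfl, hv⟩
    refine ⟨q.asFiber v, Groth.Cycles.isMax_iff.mpr fun w hw => (q.fiberι _).isEmbedding.injective ?_,
      q.fiberι_asFiber v⟩
    rw [q.fiberι_asFiber]
    exact hv _ (Groth.FibreDim.apply_fiberι q _ w)
      ((hw.map (q.fiberι (q v)).continuous).trans (specializes_of_eq (q.fiberι_asFiber v)))
  rintro v ⟨hvV, hv⟩
  simp only [Function.mem_support, Cyc.pullFun] at hv
  split_ifs at hv with h
  · refine Set.mem_biUnion (x := q v) ⟨⟨v, hvV, rfl⟩, left_ne_zero_of_mul hv⟩ ⟨rfl, by_contra fun hg => ?_⟩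
    exact right_ne_zero_of_mul hv (Nat.cast_eq_zero.mpr (length_toNat_eq_zero_of_not q v hg))
  · exact absurd rfl hv

/-- A morphism to a field is flat. -/
theorem flat_of_field (g : P ⟶ Spec (CommRingCat.of K)) : Flat g := by
  rw [Flat.iff_flat_stalkMap]
  intro z
  refine RingHom.Flat.of_isField ?_ _
  rw [show g z = genericPoint (Spec (CommRingCat.of K)) from Subsingleton.elim (α := PrimeSpectrum K) _ _]
  exact Field.toIsField (Spec (CommRingCat.of K)).functionField

/-- Generic points of the fibres of a product with an integral scheme. -/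
theorem delta_fibreGeneric (f : X ⟶ Spec (CommRingCat.of K)) (g : Y ⟶ Spec (CommRingCat.of K))
    [LocallyOfFiniteType f] [LocallyOfFiniteType g]
    (px : P ⟶ X) (py : P ⟶ Y) (sq : IsPullback px py f g) {δX : X → ℤ} {δY : Y → ℤ} {δ : P → ℤ}
    (hX : Cyc.DeltaCompat f δX fun _ => 0) (hY : Cyc.DeltaCompat g δY fun _ => 0)
    (hP : Cyc.DeltaCompat (px ≫ f) δ fun _ => 0) {W : Scheme.{u}} (j : W ⟶ Y) [IsClosedImmersion j]
    [IsIntegral W] (v : ↥(pullback py j)) (hv : IsFibreGeneric (pullback.fst py j ≫ px) v) :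
    δ (pullback.fst py j v) = δX ((pullback.fst py j ≫ px) v) + δY (j (genericPoint W)) := by
  have : LocallyOfFiniteType px := MorphismProperty.of_isPullback sq.flip ‹LocallyOfFiniteType g›
  have hpx := deltaCompat_of_comp px f hP hX
  let i := pullback.fst py j
  let q := i ≫ px
  have hsq : IsPullback (pullback.snd py j) q (j ≫ g) f :=
    (IsPullback.of_hasPullback py j).flip.paste_vert sq.flip
  have : Flat (j ≫ g) := flat_of_field _
  set w := pullback.snd py j v with hw
  have hwη : w = genericPoint W := by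
    let e := hsq.flip.isoPullback
    have e1 : e.hom ≫ pullback.fst f (j ≫ g) = q := hsq.flip.isoPullback_hom_fst
    have e2 : e.hom ≫ pullback.snd f (j ≫ g) = pullback.snd py j := hsq.flip.isoPullback_hom_snd
    have he : IsFibreGeneric (pullback.fst f (j ≫ g)) (e.hom v) := by
      intro t ht hs
      obtain ⟨t', rfl⟩ := e.hom.surjective t
      rw [← Scheme.Hom.comp_apply, ← Scheme.Hom.comp_apply, e1] at ht
      rw [hv t' ht (e.hom.isEmbedding.isInducing.specializes_iff.mp hs)]
    have h2 := Groth.Cycles.isFibreGeneric_snd_of_fst f (j ≫ g) he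
    rw [← Scheme.Hom.comp_apply, e2] at h2
    exact (h2 _ (Subsingleton.elim (α := PrimeSpectrum K) _ _) (genericPoint_specializes w)).symm
  obtain ⟨t, ht, hd⟩ := Groth.Cycles.relTrdeg_eq_fibreDimAt_of_isFibreGeneric (j ≫ g) (x := genericPoint W)
    (fun z _ h => (h.antisymm (genericPoint_specializes z)).eq)
  have : LocallyOfFiniteType (j ≫ g) := inferInstance
  obtain ⟨t', ht', hd'⟩ := Groth.Cycles.relTrdeg_eq_fibreDimAt_of_isFibreGeneric q hv
  have hbc := (Groth.Agent.S9358.result (j ≫ g) f (pullback.snd py j) q hsq 0).1 v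
  change FlatMor.fibreDimAt q v = FlatMor.fibreDimAt (j ≫ g) w at hbc
  rw [hd', hwη, hd] at hbc
  have htt : t' = t := by exact_mod_cast hbc
  rw [Groth.Cycles.relTrdeg_comp_add, Groth.Variety2.Dim.relTrdeg_eq_zero_of_surjective j _
    (Groth.Variety2.Dim.residueFieldMap_surjective j _), add_zero] at ht
  rw [Groth.Cycles.relTrdeg_comp_add, Groth.Variety2.Dim.relTrdeg_eq_zero_of_surjective i _
    (Groth.Variety2.Dim.residueFieldMap_surjective i _), add_zero] at ht'
  obtain ⟨a, ha, ha'⟩ := hY (j (genericPoint W))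
  obtain ⟨b, hb, hb'⟩ := hpx (i v)
  have h1 : a = t := by
    have := (show Groth.Variety2.Dim.relTrdeg g (j (genericPoint W)) = a from ha).symm.trans ht
    exact_mod_cast this
  have h2 : b = t' := by
    have := (show Groth.Variety2.Dim.relTrdeg px (i v) = b from hb).symm.trans ht'
    exact_mod_cast this
  simp only [zero_add] at ha'
  change δ (i v) = δX (px (i v)) + _
  omega

/-- The dimension of a point of a product is at most the sum of the dimensions of its projections. -/
theorem delta_le (f : X ⟶ Spec (CommRingCat.of K)) (g : Y ⟶ Spec (CommRingCat.of K))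
    [LocallyOfFiniteType f] [LocallyOfFiniteType g]
    (px : P ⟶ X) (py : P ⟶ Y) (sq : IsPullback px py f g) {δX : X → ℤ} {δY : Y → ℤ} {δ : P → ℤ}
    (hX : Cyc.DeltaCompat f δX fun _ => 0) (hY : Cyc.DeltaCompat g δY fun _ => 0)
    (hP : Cyc.DeltaCompat (px ≫ f) δ fun _ => 0) (z : P) : δ z ≤ δX (px z) + δY (py z) := by
  have : LocallyOfFiniteType px := MorphismProperty.of_isPullback sq.flip ‹LocallyOfFiniteType g›
  obtain ⟨W, j, _, _, _, -, hjη⟩ := Groth.Cycles.closure_scheme (py z)
  have : IsIntegral W := isIntegral_of_irreducibleSpace_of_isReduced W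
  obtain ⟨v, rfl, -⟩ := Scheme.Pullback.exists_preimage_pullback (f := py) (g := j) z (genericPoint W) hjη.symm
  have h := Groth.Cycles.delta_le_add (pullback.fst py j ≫ px)
    (Groth.Cycles.isSetup_closedImmersion (pullback.fst py j) (isSetup_field (px ≫ f) hP))
    (δY := δX) (c := δY (j (genericPoint W))) (fun v' hv' => delta_fibreGeneric f g px py sq hX hY hP j v' hv') v
  rw [hjη] at h
  simpa using h

/-- The coefficients of the exterior product with the class of `y`. -/
noncomputable def slice (px : P ⟶ X) (py : P ⟶ Y) (δX : X → ℤ) (δY : Y → ℤ) (δ : P → ℤ) (α : X → ℤ)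
    (y : Y) : P → ℤ := fun z =>
  open Classical in
  if py z = y ∧ δ z = δX (px z) + δY (py z) then
    α (px z) * ((Module.length (P.presheaf.stalk z) (P.presheaf.stalk z ⧸
      (fibreIdeal px z ⊔ fibreIdeal py z))).toNat : ℤ)
  else 0

set_option maxHeartbeats 1000000 in
theorem ratZeroOn_slice (f : X ⟶ Spec (CommRingCat.of K)) (g : Y ⟶ Spec (CommRingCat.of K))
    [LocallyOfFiniteType f] [QuasiCompact f] [LocallyOfFiniteType g] [QuasiCompact g]
    (px : P ⟶ X) (py : P ⟶ Y) (sq : IsPullback px py f g) {δX : X → ℤ} {δY : Y → ℤ} {δ : P → ℤ}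
    (hX : Cyc.DeltaCompat f δX fun _ => 0) (hY : Cyc.DeltaCompat g δY fun _ => 0)
    (hP : Cyc.DeltaCompat (px ≫ f) δ fun _ => 0) (r s : ℤ) (α : AlgebraicCycle X ℤ)
    (hα : α ∈ Cyc.Zk X δX r) (h0 : Cyc.RatEquivZero δX r α) (y : Y) (hy : δY y = s) :
    RatZeroOn δ (r + s) Set.univ (slice px py δX δY δ ⇑α y) := by
  classical
  have : LocallyOfFiniteType px := MorphismProperty.of_isPullback sq.flip ‹LocallyOfFiniteType g›
  have : QuasiCompact px := MorphismProperty.of_isPullback sq.flip ‹QuasiCompact g›
  have hXs := isSetup_field f hX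
  have hYs := isSetup_field g hY
  have hPs := isSetup_field (px ≫ f) hP
  have hpx := deltaCompat_of_comp px f hP hX
  obtain ⟨W, j, _, _, _, hjr, hjη⟩ := Groth.Cycles.closure_scheme y
  have : IsIntegral W := isIntegral_of_irreducibleSpace_of_isReduced W
  let i := pullback.fst py j
  let q := i ≫ px
  have hsq : IsPullback (pullback.snd py j) q (j ≫ g) f :=
    (IsPullback.of_hasPullback py j).flip.paste_vert sq.flip
  have : Flat (j ≫ g) := flat_of_field _
  have : Flat q := MorphismProperty.of_isPullback hsq ‹Flat (j ≫ g)›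
  have hsqz : ∀ v, py (i v) = j (pullback.snd py j v) := fun v => by
    rw [← Scheme.Hom.comp_apply, pullback.condition, Scheme.Hom.comp_apply]
  have hc : ∀ v, IsFibreGeneric q v → (δ ∘ i) v = δX (q v) + s := fun v hv => by
    show δ (i v) = _
    rw [delta_fibreGeneric f g px py sq hX hY hP j v hv, hjη, hy]
  have hQs : Cyc.IsSetup (pullback py j) (δ ∘ i) := Groth.Cycles.isSetup_closedImmersion i hPs
  have := hQs.1
  obtain ⟨γ, hγ⟩ := exists_pullCycle q (δ ∘ i) δX s α
  have h1 := Groth.Cycles.ratEquivZero_pullFun (δ ∘ i) δX hQs hXs q s hc r α h0 γ hγ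
  have h2 := Groth.Cycles.ratEquivZero_map (δ ∘ i) δ hQs hPs i (Groth.Cycles.deltaCompat_preimmersion i δ) _ γ h1
  have h3 : RatZeroOn δ (r + s) Set.univ ⇑(AlgebraicCycle.map i (δ ∘ i) δ γ) := by
    obtain ⟨ι, ξ, F, hξ, hF, hlf, hsum⟩ := h2
    exact ⟨ι, ξ, F, hF, fun a _ => ⟨hξ a, trivial⟩,
      fun V hV => (Groth.Cycles.finite_of_isCompact ξ hlf hV.isCompact).subset
        fun a ha => ⟨ξ a, subset_closure rfl, ha.2⟩, hsum⟩
  refine h3.congr fun z => ?_
  by_cases hz : z ∈ Set.range i
  · obtain ⟨v, rfl⟩ := hz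
    rw [Groth.Cycles.map_apply_eq_sum i (δ ∘ i) δ γ (i v) {v}
      (fun w hw _ => Finset.mem_singleton.mpr (i.isEmbedding.injective hw)), Finset.sum_singleton, if_pos rfl,
      Groth.Cycles.mapCoeff_preimmersion, Nat.cast_one, mul_one, hγ]
    have hq : q v = px (i v) := Scheme.Hom.comp_apply ..
    set w := pullback.snd py j v with hw
    have hspec : y ⤳ py (i v) := by
      rw [hsqz, ← hjη]
      exact (genericPoint_specializes _).map j.continuous
    by_cases hpy : py (i v) = y
    · have hwη : w = genericPoint W := j.isEmbedding.injective (by rw [hjη, ← hpy, hsqz])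
      unfold slice Cyc.pullFun
      simp only [Function.comp_apply, hq, hpy, hy, true_and]
      split_ifs with hd
      · congr 3
        have hker : RingHom.ker (i.stalkMap v).hom = fibreIdeal py (i v) := by
          refine le_antisymm (Groth.Cycles.ker_stalkMap_fst_le py j v) ?_
          have hfield : ∀ w' : W, w' = genericPoint W → maximalIdeal (W.presheaf.stalk w') = ⊥ := by
            rintro _ rfl
            exact IsLocalRing.maximalIdeal_eq_bot
          have e : (fibreIdeal py (i v)).map (i.stalkMap v).hom = ⊥ := by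
            rw [← Groth.Cycles.fibreIdeal_comp,
              Groth.Cycles.fibreIdeal_congr (pullback.condition (f := py) (g := j)),
              Groth.Cycles.fibreIdeal_comp, Groth.Cycles.fibreIdeal_closedImmersion j,
              hfield _ hwη, Ideal.map_bot]
          exact Ideal.map_eq_bot_iff_le_ker _ |>.mp e
        letI : Algebra (P.presheaf.stalk (i v)) ((pullback py j).presheaf.stalk v) := (i.stalkMap v).hom.toAlgebra
        have hsurj : Function.Surjective (algebraMap (P.presheaf.stalk (i v)) ((pullback py j).presheaf.stalk v)) :=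
          i.stalkMap_surjective v
        let π : P.presheaf.stalk (i v) →ₗ[P.presheaf.stalk (i v)] (pullback py j).presheaf.stalk v ⧸
            (fibreIdeal px (i v)).map (algebraMap _ ((pullback py j).presheaf.stalk v)) :=
          (Ideal.Quotient.mkₐ (P.presheaf.stalk (i v)) _).toLinearMap.comp (Algebra.linearMap _ _)
        have hπ : Function.Surjective π := Ideal.Quotient.mk_surjective.comp hsurj
        have hπk : LinearMap.ker π = fibreIdeal px (i v) ⊔ fibreIdeal py (i v) := by
          ext a
          rw [LinearMap.mem_ker]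
          show Ideal.Quotient.mk _ (algebraMap _ _ a) = 0 ↔ _
          rw [Ideal.Quotient.eq_zero_iff_mem, ← Ideal.mem_comap, Ideal.comap_map_of_surjective _ hsurj,
            ← RingHom.ker_eq_comap_bot, RingHom.algebraMap_toAlgebra, hker]
        have hI : fibreIdeal q v = (fibreIdeal px (i v)).map
            (algebraMap _ ((pullback py j).presheaf.stalk v)) := Groth.Cycles.fibreIdeal_comp i px v
        refine Eq.symm ?_
        change (Module.length ((pullback py j).presheaf.stalk v)
          ((pullback py j).presheaf.stalk v ⧸ fibreIdeal q v)) = _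
        rw [hI]
        exact (Module.length_eq_of_surjective (R := (pullback py j).presheaf.stalk v) hsurj).symm.trans
          (((Submodule.quotEquivOfEq _ _ hπk).symm.trans (π.quotKerEquivOfSurjective hπ)).length_eq).symm
      · rfl
    · unfold slice Cyc.pullFun
      simp only [Function.comp_apply, hq, hpy, false_and, if_false]
      refine (if_neg fun hd => ?_).symm
      have hlt : δY (py (i v)) < s := hy ▸ (hYs.2.2 y _ hspec fun e => hpy e.symm).1
      have := delta_le f g px py sq hX hY hP (i v)
      omega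
  · rw [Groth.Cycles.map_apply_eq_sum i (δ ∘ i) δ γ z ∅ (fun w hw _ => (hz ⟨w, hw⟩).elim), Finset.sum_empty]
    unfold slice
    refine if_neg fun h => hz ?_
    obtain ⟨v, hv, -⟩ := Scheme.Pullback.exists_preimage_pullback (f := py) (g := j) z (genericPoint W)
      (h.1.trans hjη.symm)
    exact ⟨v, hv⟩

/-- The exterior product of a cycle rationally equivalent to zero with a cycle. -/
theorem ratEquivZero_ext (f : X ⟶ Spec (CommRingCat.of K)) (g : Y ⟶ Spec (CommRingCat.of K))
    [LocallyOfFiniteType f] [QuasiCompact f] [LocallyOfFiniteType g] [QuasiCompact g]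
    (px : P ⟶ X) (py : P ⟶ Y) (sq : IsPullback px py f g) {δX : X → ℤ} {δY : Y → ℤ} {δ : P → ℤ}
    (hX : Cyc.DeltaCompat f δX fun _ => 0) (hY : Cyc.DeltaCompat g δY fun _ => 0)
    (hP : Cyc.DeltaCompat (px ≫ f) δ fun _ => 0) (r s : ℤ) (α : AlgebraicCycle X ℤ)
    (hα : α ∈ Cyc.Zk X δX r) (h0 : Cyc.RatEquivZero δX r α) (β : AlgebraicCycle Y ℤ)
    (hβ : β ∈ Cyc.Zk Y δY s) (γ : AlgebraicCycle P ℤ)
    (hγ : ∀ z, γ z = if δ z = δX (px z) + δY (py z) then α (px z) * β (py z) *
      ((Module.length (P.presheaf.stalk z) (P.presheaf.stalk z ⧸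
        (fibreIdeal px z ⊔ fibreIdeal py z))).toNat : ℤ) else 0) :
    Cyc.RatEquivZero δ (r + s) γ := by
  classical
  have : LocallyOfFiniteType px := MorphismProperty.of_isPullback sq.flip ‹LocallyOfFiniteType g›
  have hPs := isSetup_field (px ≫ f) hP
  refine ratEquivZero_of_ratZeroOn hPs (Z := Set.univ) ?_
  have : CompactSpace Y := QuasiCompact.compactSpace_of_compactSpace g
  have hfin : (Function.support ⇑β).Finite := by
    simpa using β.locallyFiniteSupport.finite_inter_support_of_isCompact (isCompact_univ (X := Y))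
  have hnil : RatZeroOn δ (r + s) Set.univ fun _ : P => (0 : ℤ) :=
    ⟨PEmpty, fun a => a.elim, fun a => a.elim, fun a => a.elim, fun a => a.elim,
      fun _ _ => Set.toFinite _, fun _ => (finsum_of_isEmpty _).symm⟩
  have key : ∀ S : Finset Y, (∀ y ∈ S, δY y = s) → ∀ c : Y → ℤ,
      RatZeroOn δ (r + s) Set.univ (fun z => ∑ y ∈ S, c y * slice px py δX δY δ ⇑α y z) := by
    intro S
    induction S using Finset.induction with
    | empty => intro _ _; exact hnil.congr fun z => Finset.sum_empty
    | insert a S ha ih =>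
      intro hS c
      have h1 := ratZeroOn_slice f g px py sq hX hY hP r s α hα h0 a (hS a (Finset.mem_insert_self _ _))
      have h2 : ∀ n : ℤ, RatZeroOn δ (r + s) Set.univ fun z => n * slice px py δX δY δ ⇑α a z := by
        intro n
        induction n using Int.induction_on with
        | zero => exact hnil.congr fun z => zero_mul _
        | succ n hn => exact (ratZeroOn_add hPs hn h1).congr fun z => by ring
        | pred n hn => exact (ratZeroOn_sub hPs hn h1).congr fun z => by ring
      exact (ratZeroOn_add hPs (h2 (c a)) (ih (fun y hy => hS y (Finset.mem_insert_of_mem hy)) c)).congr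
        fun z => Finset.sum_insert ha
  refine (key hfin.toFinset (fun y hy => by_contra fun h => hfin.mem_toFinset.1 hy (hβ y h)) ⇑β).congr
    fun z => ?_
  rw [hγ]
  by_cases hd : δ z = δX (px z) + δY (py z)
  · rw [if_pos hd, Finset.sum_eq_single (py z)]
    · unfold slice
      rw [if_pos ⟨rfl, hd⟩]
      ring
    · intro y _ hy
      unfold slice
      rw [if_neg (fun h => hy h.1.symm), mul_zero]
    · intro h
      have : β (py z) = 0 := by
        by_contra h'
        exact h (hfin.mem_toFinset.2 h')
      rw [this, zero_mul]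
  · rw [if_neg hd]
    refine (Finset.sum_eq_zero fun y _ => ?_).symm
    unfold slice
    rw [if_neg (fun h => hd h.2), mul_zero]

end Groth.CycInter.Ext
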