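import Groth.Prelude.Def_IntMult
import Groth.Agent.HTopHyper.HTor.Balance
import Groth.Agent.Calg6.TorAcyclic
import Groth.Agent.Calg6.TorCM
import Mathlib.RingTheory.Flat.Stability
import Mathlib.LinearAlgebra.TensorProduct.Tower

/-! Higher Tor of a base change against a module flat over the base. -/

universe u

open TensorProduct IsLocalRing

namespace Groth.CycInter.ExtTor

variable (B : Type u) [CommRing B] {A : Type u} [CommRing A] [Algebra B A] [Module.Flat B A]

theorem injective_rTensor_baseChange {K F : Type u} [AddCommGroup K] [Module B K] [AddCommGroup F] [Module B F]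
    (v : K →ₗ[B] F) (hv : Function.Injective v) (N : Type u) [AddCommGroup N] [Module A N] [Module B N]
    [IsScalarTower B A N] [Module.Flat B N] : Function.Injective ((v.baseChange A).rTensor N) := by
  let e : ∀ (P : Type u) [AddCommGroup P] [Module B P], (A ⊗[B] P) ⊗[A] N ≃ₗ[A] N ⊗[B] P := fun P _ _ =>
    (TensorProduct.comm A (A ⊗[B] P) N).trans (AlgebraTensorModule.cancelBaseChange B A A N P)
  have hnat : ∀ z, e F ((v.baseChange A).rTensor N z) = v.lTensor N (e K z) := fun z => by
    induction z using TensorProduct.induction_on with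
    | zero => simp
    | add x y hx hy => simp only [map_add, hx, hy]
    | tmul x n =>
      induction x using TensorProduct.induction_on with
      | zero => simp
      | add x y hx hy => simp only [map_add, TensorProduct.add_tmul, hx, hy]
      | tmul a k => simp [e]
  intro a b h
  exact (e K).injective (Module.Flat.lTensor_preserves_injective_linearMap v hv (by rw [← hnat, ← hnat, h]))

omit [Module.Flat B A] in
theorem exact_baseChange {K F P : Type u} [AddCommGroup K] [Module B K] [AddCommGroup F] [Module B F]
    [AddCommGroup P] [Module B P] (v : K →ₗ[B] F) (ρ : F →ₗ[B] P) (hρ : Function.Surjective ρ)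
    (h : Function.Exact v ρ) : Function.Exact (v.baseChange A) (ρ.baseChange A) := fun x =>
  lTensor_exact A h hρ x

/-- A presentation by a free module. -/
theorem exists_pres (P : Type u) [AddCommGroup P] [Module B P] :
    ∃ (K F : Type u) (_ : AddCommGroup K) (_ : Module B K) (_ : AddCommGroup F) (_ : Module B F)
      (_ : Module.Flat B F) (v : K →ₗ[B] F) (ρ : F →ₗ[B] P),
      Function.Injective v ∧ Function.Surjective ρ ∧ Function.Exact v ρ :=
  ⟨LinearMap.ker (Finsupp.linearCombination B (id : P → P)), P →₀ B, inferInstance, inferInstance, inferInstance,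
    inferInstance, inferInstance, (LinearMap.ker (Finsupp.linearCombination B (id : P → P))).subtype,
    Finsupp.linearCombination B id, Submodule.subtype_injective _, fun x => ⟨Finsupp.single x 1, by simp⟩,
    LinearMap.exact_subtype_ker_map _⟩

/-- Higher Tor of a base changed module against a module flat over the base vanishes. -/
theorem subsingleton_tor (N : Type u) [AddCommGroup N] [Module A N] [Module B N] [IsScalarTower B A N]
    [Module.Flat B N] : ∀ (p : ℕ) (P : Type u) [AddCommGroup P] [Module B P] (M : Type u) [AddCommGroup M]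
      [Module A M] (_ : (A ⊗[B] P) ≃ₗ[A] M), Subsingleton (DRing.Tor A (p + 1) M N) := by
  intro p
  induction p with
  | zero =>
    intro P _ _ M _ _ e
    obtain ⟨K, F, _, _, _, _, _, v, ρ, hv, hρ, hvρ⟩ := exists_pres B P
    have hv' : Function.Injective (v.baseChange A) := Module.Flat.lTensor_preserves_injective_linearMap v hv
    have hρ' : Function.Surjective (e.toLinearMap.comp (ρ.baseChange A)) :=
      e.surjective.comp (LinearMap.lTensor_surjective A hρ)
    have hexA' := exact_baseChange B (A := A) v ρ hρ hvρ
    have hex : Function.Exact (v.baseChange A) (e.toLinearMap.comp (ρ.baseChange A)) := fun x =>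
      (LinearEquiv.map_eq_zero_iff e).trans (hexA' x)
    obtain ⟨e'⟩ := Groth.Calg6.TorAcyclic.tor_one hv' hρ' hex N
      (Groth.HTorLib.subsingleton_tor_of_flat_left _ _ 0)
    have : LinearMap.ker ((v.baseChange A).rTensor N) = ⊥ :=
      (Submodule.eq_bot_iff _).2 fun x hx => injective_rTensor_baseChange B v hv N (hx.trans (map_zero _).symm)
    have : Subsingleton (LinearMap.ker ((v.baseChange A).rTensor N)) := Submodule.subsingleton_iff_eq_bot.2 this
    exact e'.toEquiv.subsingleton
  | succ p ih =>
    intro P _ _ M _ _ e
    obtain ⟨K, F, _, _, _, _, _, v, ρ, hv, hρ, hvρ⟩ := exists_pres B P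
    have hv' : Function.Injective (v.baseChange A) := Module.Flat.lTensor_preserves_injective_linearMap v hv
    have hρ' : Function.Surjective (e.toLinearMap.comp (ρ.baseChange A)) :=
      e.surjective.comp (LinearMap.lTensor_surjective A hρ)
    have hexA' := exact_baseChange B (A := A) v ρ hρ hvρ
    have hex : Function.Exact (v.baseChange A) (e.toLinearMap.comp (ρ.baseChange A)) := fun x =>
      (LinearEquiv.map_eq_zero_iff e).trans (hexA' x)
    obtain ⟨e'⟩ := Groth.HTorLib.tor_shift_left hv' hρ' hex N p
    have := ih K (A ⊗[B] K) (LinearEquiv.refl A _)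
    exact e'.toEquiv.subsingleton

/-- The intersection number when one side is flat over the base of the other. -/
theorem chi_eq [IsLocalRing A] [IsNoetherianRing A] (b : Ideal B) (J : Ideal A) [Module.Flat B (A ⧸ J)] :
    IntMult.chi A (A ⧸ b.map (algebraMap B A)) (A ⧸ J) =
      ((Module.length A (A ⧸ (b.map (algebraMap B A) ⊔ J))).toNat : ℤ) := by
  rw [IntMult.chi, finsum_eq_single _ 0 fun i hi => ?_]
  · obtain ⟨e₁⟩ := Groth.HTorLib.tor_zero_equiv (A := A) (A ⧸ b.map (algebraMap B A)) (A ⧸ J)
    obtain ⟨q⟩ := Groth.Calg6.TorCM.exists_tensor_quotient_equiv (b.map (algebraMap B A)) J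
    rw [pow_zero, one_mul, (e₁.trans q).length_eq]
  · obtain ⟨j, rfl⟩ := Nat.exists_eq_succ_of_ne_zero hi
    have := subsingleton_tor B (A ⧸ J) j (B ⧸ b) (A ⧸ b.map (algebraMap B A))
      (Algebra.TensorProduct.quotIdealMapEquivTensorQuot A b).toLinearEquiv.symm
    rw [Module.length_eq_zero]
    simp

end Groth.CycInter.ExtTor
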