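import Groth.Agent.Calg6.ChiBaseChange
import Groth.Agent.Calg6.DiagChi
import Groth.Agent.Calg6.ChiFormula
import Groth.Agent.MilnorKLambda.FinLen
import Groth.Agent.CycInter.ExtTor

/-!
Tor and intersection numbers at a localisation.
-/

universe u

set_option autoImplicit false

open TensorProduct IsLocalRing

namespace Groth.CycInter.TorLocal

variable (A : Type u) [CommRing A] (A' : Type u) [CommRing A'] [Algebra A A']

/-- Tor commutes with flat base change. -/
theorem nonempty_tor_baseChange [Module.Flat A A'] (N : Type u) [AddCommGroup N] [Module A N] :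
    ∀ (i : ℕ) (M : Type u) [AddCommGroup M] [Module A M],
      Nonempty (DRing.Tor A' i (A' ⊗[A] M) (A' ⊗[A] N) ≃ₗ[A'] A' ⊗[A] DRing.Tor A i M N) := by
  intro i
  induction i using Nat.strong_induction_on with
  | _ i ih =>
  intro M _ _
  obtain ⟨K, F, _, _, _, _, _, v, ρ, hv, hρ, hvρ⟩ := Groth.CycInter.ExtTor.exists_pres A M
  have hv' : Function.Injective (v.baseChange A') := Module.Flat.lTensor_preserves_injective_linearMap _ hv
  have hρ' : Function.Surjective (ρ.baseChange A') := LinearMap.lTensor_surjective A' hρ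
  have hex' : Function.Exact (v.baseChange A') (ρ.baseChange A') := lTensor_exact A' hvρ hρ
  match i, ih with
  | 0, _ =>
    obtain ⟨e₁⟩ := Groth.HTorLib.tor_zero_equiv (A := A') (A' ⊗[A] M) (A' ⊗[A] N)
    obtain ⟨e₂⟩ := Groth.HTorLib.tor_zero_equiv (A := A) M N
    exact ⟨e₁.trans ((AlgebraTensorModule.distribBaseChange A A' M N).symm.trans (e₂.symm.baseChange A A' _ _))⟩
  | 1, _ =>
    obtain ⟨e₁⟩ := Groth.Calg6.TorAcyclic.tor_one hv' hρ' hex' (A' ⊗[A] N)
      (Groth.HTorLib.subsingleton_tor_of_flat_left _ _ 0)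
    obtain ⟨e₂⟩ := Groth.Calg6.TorAcyclic.tor_one hv hρ hvρ N (Groth.HTorLib.subsingleton_tor_of_flat_left _ _ 0)
    obtain ⟨e₃⟩ := Groth.Calg6.ChiBaseChange.exists_ker_equiv A A' v N
    exact ⟨(e₁.trans e₃).trans (e₂.symm.baseChange A A' _ _)⟩
  | p + 2, ih =>
    obtain ⟨e₁⟩ := Groth.HTorLib.tor_shift_left hv' hρ' hex' (A' ⊗[A] N) p
    obtain ⟨e₂⟩ := Groth.HTorLib.tor_shift_left hv hρ hvρ N p
    obtain ⟨e₃⟩ := ih (p + 1) (by omega) K
    exact ⟨(e₁.trans e₃).trans (e₂.symm.baseChange A A' _ _)⟩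

/-- The length at a prime is the length after any localisation there. -/
theorem lq_eq_length (p : Ideal A) [p.IsPrime] [IsLocalization.AtPrime A' p] (T : Type u) [AddCommGroup T]
    [Module A T] : Groth.MilnorKLambda.Per.lq p T = Module.length A' (A' ⊗[A] T) := by
  let e : Localization.AtPrime p ≃ₐ[A] A' := IsLocalization.algEquiv p.primeCompl _ _
  letI : Algebra (Localization.AtPrime p) A' := e.toRingEquiv.toRingHom.toAlgebra
  haveI : IsScalarTower A (Localization.AtPrime p) A' :=
    IsScalarTower.of_algebraMap_eq fun r => (e.commutes r).symm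
  haveI : IsLocalizedModule p.primeCompl (TensorProduct.mk A A' T 1) :=
    (isLocalizedModule_iff_isBaseChange p.primeCompl A' _).mpr (TensorProduct.isBaseChange A T A')
  have e2 := ((IsLocalizedModule.iso p.primeCompl (TensorProduct.mk A A' T 1)).extendScalarsOfIsLocalization
    p.primeCompl (Localization.AtPrime p)).length_eq
  rw [Groth.MilnorKLambda.Per.lq, e2]
  exact Module.length_eq_of_surjective (R := A') (S := Localization.AtPrime p) (M := A' ⊗[A] T) e.surjective

/-- The intersection number at a localisation through the local lengths of Tor. -/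
theorem chi_localization (p : Ideal A) [p.IsPrime] [IsLocalization.AtPrime A' p] (I J : Ideal A) :
    IntMult.chi A' (A' ⧸ I.map (algebraMap A A')) (A' ⧸ J.map (algebraMap A A')) =
      ∑ᶠ i : ℕ, (-1 : ℤ) ^ i * ((Groth.MilnorKLambda.Per.lq p (DRing.Tor A i (A ⧸ I) (A ⧸ J))).toNat : ℤ) := by
  haveI : Module.Flat A A' := IsLocalization.flat A' p.primeCompl
  rw [Groth.Calg6.Diag.intMult_chi_congr_left (Algebra.TensorProduct.quotIdealMapEquivTensorQuot A' I).toLinearEquiv,
    Groth.Calg6.Diag.intMult_chi_symm,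
    Groth.Calg6.Diag.intMult_chi_congr_left (Algebra.TensorProduct.quotIdealMapEquivTensorQuot A' J).toLinearEquiv,
    Groth.Calg6.Diag.intMult_chi_symm, IntMult.chi]
  refine finsum_congr fun i => ?_
  obtain ⟨e⟩ := nonempty_tor_baseChange A A' (A ⧸ J) i (A ⧸ I)
  rw [e.length_eq, lq_eq_length A A' p]

end Groth.CycInter.TorLocal
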