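import Groth.Agent.CycInter.EulerTensor
import Groth.Agent.FrobLCI.GrInt.Main
import Groth.Agent.Ega4Algebra1.GlobalDim
import Groth.Agent.Ega4Algebra1.PdBasic
import Groth.Agent.Calg6.ChiFormula

/-!
Associativity of the Euler characteristic of three modules over a regular local ring.
-/

universe u

set_option autoImplicit false

open CategoryTheory CategoryTheory.Limits HomologicalComplex MonoidalCategory
open Groth.DerivedCoh Groth.DAlg.KFlatMod IsLocalRing

namespace Groth.CycInter.Euler

local notation "up" => ComplexShape.up ℤ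

variable {A : Type u} [CommRing A]

theorem subsingleton_tor_of_pdLT : ∀ (n : ℕ) (M : Type u) [AddCommGroup M] [Module A M],
    Groth.Ega4Algebra1.PdLT A M (n + 1) → ∀ (N : Type u) [AddCommGroup N] [Module A N] (i : ℕ), n ≤ i →
      Subsingleton (DRing.Tor A (i + 1) M N) := by
  intro n
  induction n with
  | zero =>
    intro M _ _ h N _ _ i _
    have : Module.Projective A M := Groth.Ega4Algebra1.PdLT.one_iff.1 h
    exact Groth.HTorLib.subsingleton_tor_of_flat_left M N i
  | succ n ih =>
    intro M _ _ h N _ _ i hi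
    obtain ⟨j, rfl⟩ : ∃ j, i = j + 1 := ⟨i - 1, by omega⟩
    let ρ := Finsupp.linearCombination A (id : M → M)
    have hρ : Function.Surjective ρ := fun x => ⟨Finsupp.single x 1, by simp [ρ]⟩
    obtain ⟨e⟩ := Groth.HTorLib.tor_shift_left (Submodule.subtype_injective _) hρ
      (LinearMap.exact_subtype_ker_map ρ) N j
    have := ih (LinearMap.ker ρ) ((Groth.Ega4Algebra1.PdLT.ker_iff ρ hρ n).1 h) N j (by omega)
    exact e.toEquiv.subsingleton

/-- the projective resolution used below -/
noncomputable abbrev res (U : Type u) [AddCommGroup U] [Module A U] : DRing.Cx A :=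
  (projectiveResolution (ModuleCat.of A U)).cochainComplex

theorem nonempty_slice_res (U N : Type u) [AddCommGroup U] [Module A U] [AddCommGroup N] [Module A N] (i : ℕ) :
    Nonempty ((slice (res U) (ModuleCat.of A N)).homology (-(i : ℤ)) ≃ₗ[A] DRing.Tor A i N U) :=
  nonempty_slice_resolution _ _ _ i

variable [IsRegularLocalRing A]

theorem exists_tor_vanish : ∃ d : ℕ, ∀ (M N : Type u) [AddCommGroup M] [Module A M] [AddCommGroup N] [Module A N]
    (i : ℕ), d < i → Subsingleton (DRing.Tor A i M N) := by
  refine ⟨(maximalIdeal A).spanFinrank, fun M N _ _ _ _ i hi => ?_⟩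
  obtain ⟨j, rfl⟩ : ∃ j, i = j + 1 := ⟨i - 1, by omega⟩
  exact subsingleton_tor_of_pdLT _ M (Groth.Ega4Algebra1.pdLT_all_of_isRegularLocalRing A _
    (IsRegularLocalRing.spanFinrank_maximalIdeal (R := A)).symm (ModuleCat.of A M)) N j (by omega)

/-- The slice of a resolution has Euler characteristic the intersection number. -/
theorem good_slice_res (U N : Type u) [AddCommGroup U] [Module A U] [Module.Finite A U] [AddCommGroup N]
    [Module A N] [Module.Finite A N]
    (h : ∀ p ∈ Module.support A N, p ∈ Module.support A U → p.asIdeal = maximalIdeal A) :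
    Good (slice (res U) (ModuleCat.of A N)) ∧
      eul (slice (res U) (ModuleCat.of A N)) = IntMult.chi A N U := by
  classical
  obtain ⟨d, hd⟩ := exists_tor_vanish (A := A)
  have hfl := Groth.Calg6.Diag.isFiniteLength_tensor N U h
  have hpos : ∀ n : ℤ, 0 < n → hl (slice (res U) (ModuleCat.of A N)) n = 0 :=
    fun n hn => hl_slice_resolution_pos _ _ _ n hn
  have hneg : ∀ i : ℕ, hl (slice (res U) (ModuleCat.of A N)) (-(i : ℤ)) = Module.length A (DRing.Tor A i N U) :=
    fun i => hl_slice_resolution _ _ _ i
  refine ⟨⟨fun n => ?_, (Set.finite_Icc (-(d : ℤ)) 0).subset fun n hn => ?_⟩, ?_⟩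
  · rcases lt_or_ge 0 n with hn | hn
    · simp [hpos n hn]
    · obtain ⟨i, rfl⟩ := Int.exists_eq_neg_ofNat hn
      rw [hneg]
      exact Module.length_ne_top_iff.2 (Groth.GrInt.isFiniteLength_tor hfl i)
  · refine ⟨?_, by by_contra hc; exact hn (hpos n (by omega))⟩
    by_contra hc
    obtain ⟨i, rfl⟩ := Int.exists_eq_neg_ofNat (show n ≤ 0 by omega)
    have := hd N U i (by omega)
    exact hn (by rw [hneg]; exact Module.length_eq_zero)
  · let g : ℤ → ℤ := fun n => (n.negOnePow : ℤ) * ((hl (slice (res U) (ModuleCat.of A N)) n).toNat : ℤ)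
    have hinj : Function.Injective (fun i : ℕ => -(i : ℤ)) := fun a b hab => by simpa using hab
    trans ∑ᶠ n ∈ Set.range (fun i : ℕ => -(i : ℤ)), g n
    · refine (finsum_mem_inter_support g _).symm.trans ?_ |>.symm
      rw [eul]
      refine (finsum_congr fun n => ?_)
      by_cases hn : n ≤ 0
      · obtain ⟨i, rfl⟩ := Int.exists_eq_neg_ofNat hn
        by_cases hg : g (-(i : ℤ)) = 0
        · rw [finsum_eq_if, if_neg (fun hh => hh.2 hg)]; exact hg.symm
        · rw [finsum_eq_if, if_pos ⟨⟨i, rfl⟩, hg⟩]
      · have hg : g n = 0 := by simp [g, hpos n (by omega)]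
        rw [finsum_eq_if, if_neg (fun hh => hh.2 hg)]; exact hg.symm
    · rw [finsum_mem_range hinj, IntMult.chi]
      refine finsum_congr fun i => ?_
      show ((-(i : ℤ)).negOnePow : ℤ) * _ = _
      rw [hneg, Int.negOnePow_neg]
      simp [Int.negOnePow_def]

/-- One side of associativity. -/
theorem eul_tot_res (U V W : Type u) [AddCommGroup U] [Module A U] [Module.Finite A U] [AddCommGroup V]
    [Module A V] [Module.Finite A V] [AddCommGroup W] [Module A W] [Module.Finite A W]
    (h : ∀ p ∈ Module.support A V, p ∈ Module.support A W → p ∈ Module.support A U → p.asIdeal = maximalIdeal A) :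
    eul (KFlat.tot (T A) (slice (res W) (ModuleCat.of A V)) (res U)) =
      ∑ᶠ i : ℕ, (-1 : ℤ) ^ i * IntMult.chi A (DRing.Tor A i V W) U := by
  classical
  obtain ⟨d, hd⟩ := exists_tor_vanish (A := A)
  let M := slice (res W) (ModuleCat.of A V)
  have hz : ∀ n : ℤ, n ∉ (Finset.range (d + 1)).image (fun i : ℕ => -(i : ℤ)) → IsZero (M.homology n) := by
    intro n hn
    rw [ModuleCat.isZero_iff_subsingleton]
    rcases lt_or_ge 0 n with hpos | hneg
    · exact Module.length_eq_zero_iff.1 (hl_slice_resolution_pos _ _ _ n hpos)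
    · obtain ⟨i, rfl⟩ := Int.exists_eq_neg_ofNat hneg
      obtain ⟨e⟩ := nonempty_slice_res (A := A) W V i
      have := hd V W i (by
        by_contra hc
        exact hn (Finset.mem_image.2 ⟨i, Finset.mem_range.2 (by omega), rfl⟩))
      exact e.toEquiv.subsingleton
  have hs : ∀ i : ℕ, ∀ p ∈ Module.support A (DRing.Tor A i V W), p ∈ Module.support A U →
      p.asIdeal = maximalIdeal A := fun i p hp hpU => by
    have hann : Module.annihilator A V ⊔ Module.annihilator A W ≤ p.asIdeal :=
      (Groth.GrInt.annihilator_sup_le_tor (A := A) (M := V) (N := W) i).trans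
        (Module.annihilator_le_of_mem_support hp)
    exact h p ((Module.mem_support_iff_of_finite (R := A) (M := V)).2 (le_sup_left.trans hann))
      ((Module.mem_support_iff_of_finite (R := A) (M := W)).2 (le_sup_right.trans hann)) hpU
  have hgi : ∀ i : ℕ, Good (slice (res U) (M.homology (-(i : ℤ)))) ∧
      eul (slice (res U) (M.homology (-(i : ℤ)))) = IntMult.chi A (DRing.Tor A i V W) U := fun i => by
    haveI : Module.Finite A (DRing.Tor A i V W) :=
      Groth.Calg7.Tor.finite_T (ModuleCat.of A V) (ModuleCat.of A W) i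
    obtain ⟨e⟩ := nonempty_slice_res (A := A) W V i
    obtain ⟨g1, g2⟩ := good_slice_res U (DRing.Tor A i V W) (hs i)
    have c := congr_hl (fun n => (hl_iso ((NatIso.mapHomologicalComplex
      ((T A).mapIso e.toModuleIso) up).app (res U)) n).symm) g1
    exact ⟨c.1, c.2.trans g2⟩
  have hgood : ∀ n : ℤ, Good (slice (res U) (M.homology n)) := fun n => by
    by_cases hn : n ∈ (Finset.range (d + 1)).image (fun i : ℕ => -(i : ℤ))
    · obtain ⟨i, -, rfl⟩ := Finset.mem_image.1 hn
      exact (hgi i).1
    · exact (good_zero (hl_eq_zero_of_acyclic fun i => ExactAt.of_isZero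
        (((T A).flip.obj _).map_isZero (hz n hn)))).1
  rw [(good_tot (res U) (isKFlat_resolution _ _) (flat_resolution _ _) _ M hz hgood).2,
    Finset.sum_image (fun a _ b _ hab => by simpa using hab),
    finsum_eq_sum_of_support_subset _ (s := Finset.range (d + 1)) fun i hi => ?_]
  · refine Finset.sum_congr rfl fun i _ => ?_
    rw [(hgi i).2, Int.negOnePow_neg]
    simp [Int.negOnePow_def]
  · rw [Finset.coe_range, Set.mem_Iio]
    by_contra hc
    have := hd V W i (by omega)
    exact hi (by
      show (-1 : ℤ) ^ i * IntMult.chi A (DRing.Tor A i V W) U = 0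
      rw [Groth.Calg6.Diag.intMult_chi_symm, IntMult.chi, finsum_eq_zero_of_forall_eq_zero, mul_zero]
      intro j
      have : Subsingleton (DRing.Tor A j U (DRing.Tor A i V W)) := by
        obtain ⟨e⟩ := Groth.HTorLib.tor_symm (A := A) j U (DRing.Tor A i V W)
        cases j with
        | zero =>
          obtain ⟨e0⟩ := Groth.HTorLib.tor_zero_equiv (A := A) U (DRing.Tor A i V W)
          exact e0.toEquiv.subsingleton
        | succ j =>
          have := Groth.HTorLib.subsingleton_tor_of_flat_left (A := A) (DRing.Tor A i V W) U j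
          exact e.toEquiv.subsingleton
      rw [Module.length_eq_zero]
      simp)

/-- Associativity of the intersection number of three modules. -/
theorem chi_assoc (U V W : Type u) [AddCommGroup U] [Module A U] [Module.Finite A U] [AddCommGroup V]
    [Module A V] [Module.Finite A V] [AddCommGroup W] [Module A W] [Module.Finite A W]
    (h : ∀ p ∈ Module.support A V, p ∈ Module.support A W → p ∈ Module.support A U → p.asIdeal = maximalIdeal A) :
    ∑ᶠ i : ℕ, (-1 : ℤ) ^ i * IntMult.chi A (DRing.Tor A i V W) U =
      ∑ᶠ i : ℕ, (-1 : ℤ) ^ i * IntMult.chi A (DRing.Tor A i V U) W := by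
  rw [← eul_tot_res U V W h, ← eul_tot_res W V U fun p hV hU hW => h p hV hW hU]
  let S := (single (ModuleCat.{u} A) up 0).obj (ModuleCat.of A V)
  let e : KFlat.tot (T A) (slice (res W) (ModuleCat.of A V)) (res U) ≅
      KFlat.tot (T A) (slice (res U) (ModuleCat.of A V)) (res W) :=
    (KFlat.totL (T A) (res U)).mapIso (KFlat.totSingleIso (T A) (ModuleCat.of A V) (res W)).symm ≪≫
      HomologicalComplex.associator S (res W) (res U) ≪≫
      (KFlat.totR (T A) S).mapIso (Groth.DerivedCoh.RelAmp.brT (res W) (res U)) ≪≫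
      (HomologicalComplex.associator S (res U) (res W)).symm ≪≫
      (KFlat.totL (T A) (res W)).mapIso (KFlat.totSingleIso (T A) (ModuleCat.of A V) (res U))
  exact finsum_congr fun n => by rw [hl_iso e n]

end Groth.CycInter.Euler
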