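import Groth.Agent.CycInter.C1Basic
import Groth.Agent.Cycles.ClosureDiv

/-!
Families of principal divisors supported in a closed subset, and their restriction to a closed subscheme.
-/

universe u

set_option autoImplicit false

open CategoryTheory AlgebraicGeometry IsLocalRing
open Groth.RefRank Groth.QCohMod

namespace Groth.CycInter

variable {X : Scheme.{u}} {δ : X → ℤ} {k : ℤ}

/-- A function on points is a locally finite sum of principal divisors on closures of points in `Z`. -/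
def RatZeroOn (δ : X → ℤ) (k : ℤ) (Z : Set X) (F : X → ℤ) : Prop :=
  ∃ (ι : Type u) (ξ : ι → X) (f : (i : ι) → X.residueField (ξ i)), (∀ i, f i ≠ 0) ∧
    (∀ i, f i ≠ 1 → δ (ξ i) = k + 1 ∧ ξ i ∈ Z) ∧
    (∀ V : X.Opens, IsAffineOpen V → {i | f i ≠ 1 ∧ ξ i ∈ V}.Finite) ∧
    ∀ z, F z = ∑ᶠ i, Cyc.divFun δ (ξ i) (f i) z

theorem ratEquivZero_of_ratZeroOn (hX : Cyc.IsSetup X δ) {Z : Set X} {γ : AlgebraicCycle X ℤ}
    (h : RatZeroOn δ k Z ⇑γ) : Cyc.RatEquivZero δ k γ := by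
  obtain ⟨ι, ξ, f, hf, hδ, hfin, hF⟩ := h
  exact Groth.Cycles.ratEquivZero_of_family hX ι ξ f hf (fun i hi => (hδ i hi).1) hfin hF

theorem finite_divTerm (hX : Cyc.IsSetup X δ) {ι : Type u} {ξ : ι → X} {f : (i : ι) → X.residueField (ξ i)}
    (hfin : ∀ V : X.Opens, IsAffineOpen V → {i | f i ≠ 1 ∧ ξ i ∈ V}.Finite) (z : X) :
    (Function.support fun i => Cyc.divFun δ (ξ i) (f i) z).Finite := by
  obtain ⟨_, ⟨V, hV, rfl⟩, hzV, -⟩ :=
    X.isBasis_affineOpens.exists_subset_of_mem_open (Set.mem_univ z) isOpen_univ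
  refine (hfin V hV).subset fun i hi => ?_
  have hs : ξ i ⤳ z := by_contra fun h => hi (divFun_of_not_specializes _ h)
  exact ⟨fun h => hi (by simp only [h]; exact Groth.Cycles.divFun_one hX _ _), hs.mem_open V.2 hzV⟩

theorem RatZeroOn.mono {Z Z' : Set X} (hZ : Z ⊆ Z') {F : X → ℤ} (h : RatZeroOn δ k Z F) :
    RatZeroOn δ k Z' F := by
  obtain ⟨ι, ξ, f, hf, hδ, hfin, hF⟩ := h
  exact ⟨ι, ξ, f, hf, fun i hi => ⟨(hδ i hi).1, hZ (hδ i hi).2⟩, hfin, hF⟩

theorem RatZeroOn.congr {Z : Set X} {F G : X → ℤ} (h : RatZeroOn δ k Z F) (e : ∀ z, G z = F z) :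
    RatZeroOn δ k Z G := by
  rwa [funext e]

theorem ratZeroOn_add (hX : Cyc.IsSetup X δ) {Z : Set X} {F G : X → ℤ} (h : RatZeroOn δ k Z F)
    (h' : RatZeroOn δ k Z G) : RatZeroOn δ k Z fun z => F z + G z := by
  obtain ⟨ι, ξ, f, hf, hδ, hfin, hF⟩ := h
  obtain ⟨ι', ξ', f', hf', hδ', hfin', hF'⟩ := h'
  classical
  refine ⟨ι ⊕ ι', Sum.elim ξ ξ', fun i => Sum.rec (motive := fun i => X.residueField (Sum.elim ξ ξ' i)) f f' i,
    ?_, ?_, ?_, fun z => ?_⟩
  · rintro (i | i)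
    exacts [hf i, hf' i]
  · rintro (i | i) hi
    exacts [hδ i hi, hδ' i hi]
  · intro V hV
    refine (((hfin V hV).image Sum.inl).union ((hfin' V hV).image Sum.inr)).subset ?_
    rintro (i | i) hi
    exacts [Or.inl ⟨i, hi, rfl⟩, Or.inr ⟨i, hi, rfl⟩]
  · dsimp only
    rw [hF, hF']
    have h1 := finite_divTerm hX hfin z
    have h2 := finite_divTerm hX hfin' z
    rw [finsum_eq_sum _ h1, finsum_eq_sum _ h2,
      finsum_eq_sum_of_support_subset _ (s := h1.toFinset.disjSum h2.toFinset) ?_, Finset.sum_disjSum]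
    · rfl
    rintro (i | i) hi
    · exact Finset.mem_coe.mpr (Finset.inl_mem_disjSum.mpr ((Set.Finite.mem_toFinset _).mpr hi))
    · exact Finset.mem_coe.mpr (Finset.inr_mem_disjSum.mpr ((Set.Finite.mem_toFinset _).mpr hi))

theorem ratZeroOn_neg (hX : Cyc.IsSetup X δ) {Z : Set X} {F : X → ℤ} (h : RatZeroOn δ k Z F) :
    RatZeroOn δ k Z fun z => - F z := by
  obtain ⟨ι, ξ, f, hf, hδ, hfin, hF⟩ := h
  have hne : ∀ i, (f i)⁻¹ ≠ 1 → f i ≠ 1 := fun i hi h => hi (by rw [h, inv_one])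
  refine ⟨ι, ξ, fun i => (f i)⁻¹, fun i => inv_ne_zero (hf i), fun i hi => hδ i (hne i hi),
    fun V hV => (hfin V hV).subset fun i hi => ⟨hne i hi.1, hi.2⟩, fun z => ?_⟩
  dsimp only
  rw [hF, ← finsum_neg_distrib]
  refine finsum_congr fun i => ?_
  rw [← zpow_neg_one, Groth.Cycles.divFun_zpow hX (hf i), neg_one_mul]

theorem ratZeroOn_sub (hX : Cyc.IsSetup X δ) {Z : Set X} {F G : X → ℤ} (h : RatZeroOn δ k Z F)
    (h' : RatZeroOn δ k Z G) : RatZeroOn δ k Z fun z => F z - G z :=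
  (ratZeroOn_add hX h (ratZeroOn_neg hX h')).congr fun z => sub_eq_add_neg (F z) (G z)

/-- A sum of principal divisors of points of `Z`, weighted by a function finite on affine opens. -/
theorem ratZeroOn_of_points (hX : Cyc.IsSetup X δ) {Z : Set X} (F : X → ℤ)
    (hfin : ∀ V : X.Opens, IsAffineOpen V → ((V : Set X) ∩ Function.support F).Finite)
    (hF : ∀ ξ, F ξ ≠ 0 → δ ξ = k + 1) (g : (ξ : X) → X.residueField ξ) (hg : ∀ ξ, g ξ ≠ 0)
    (hZ : ∀ ξ, F ξ ≠ 0 → g ξ ≠ 1 → ξ ∈ Z) :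
    RatZeroOn δ k Z fun z => ∑ᶠ ξ, F ξ * Cyc.divFun δ ξ (g ξ) z := by
  have hne : ∀ ξ, g ξ ^ F ξ ≠ 1 → F ξ ≠ 0 ∧ g ξ ≠ 1 := fun ξ h =>
    ⟨fun h' => h (by rw [h', zpow_zero]), fun h' => h (by rw [h', one_zpow])⟩
  exact ⟨X, fun ξ => ξ, fun ξ => g ξ ^ F ξ, fun ξ => zpow_ne_zero _ (hg ξ),
    fun ξ h => ⟨hF ξ (hne ξ h).1, hZ ξ (hne ξ h).1 (hne ξ h).2⟩,
    fun V hV => (hfin V hV).subset fun ξ h => ⟨h.2, (hne ξ h.1).1⟩,
    fun z => finsum_congr fun ξ => (Groth.Cycles.divFun_zpow hX (hg ξ) z _).symm⟩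

variable {D : Scheme.{u}} (i : D ⟶ X) [IsClosedImmersion i]

theorem closedImm_specializes_iff {e d : D} : i e ⤳ i d ↔ e ⤳ d :=
  i.isEmbedding.isInducing.specializes_iff

theorem divFun_closedImm (δ : X → ℤ) (e : D) (F : X.residueField (i e)) (d : D) :
    Cyc.divFun (fun d => δ (i d)) e ((i.residueFieldMap e).hom F) d = Cyc.divFun δ (i e) F (i d) := by
  by_cases h : e ⤳ d ∧ δ (i d) + 1 = δ (i e)
  · rw [Cyc.divFun, dif_pos h, Cyc.divFun, dif_pos ⟨h.1.map i.continuous, h.2⟩]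
    exact Groth.Cycles.ordAt_preimmersion i _ _ F
  · rw [Cyc.divFun, dif_neg h, Cyc.divFun,
      dif_neg fun h' => h ⟨(closedImm_specializes_iff i).mp h'.1, h'.2⟩]

theorem exists_pull_point (δ : X → ℤ) {x : X} (hx : x ∈ Set.range i) (F : X.residueField x) (hF : F ≠ 0) :
    ∃ (e : D) (g : D.residueField e), i e = x ∧ g ≠ 0 ∧
      ∀ d, Cyc.divFun (fun d => δ (i d)) e g d = Cyc.divFun δ x F (i d) := by
  obtain ⟨e, rfl⟩ := hx
  exact ⟨e, (i.residueFieldMap e).hom F, rfl,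
    (map_ne_zero_iff _ (i.residueFieldMap e).hom.injective).mpr hF, divFun_closedImm i δ e F⟩

/-- Restriction to a closed subscheme containing the supports. -/
theorem RatZeroOn.restrict (hX : Cyc.IsSetup X δ) {Z : Set X} (hZ : Z ⊆ Set.range i) {F : X → ℤ}
    (h : RatZeroOn δ k Z F) {γ : AlgebraicCycle D ℤ} (hγ : ∀ d, γ d = F (i d)) :
    Cyc.RatEquivZero (fun d => δ (i d)) k γ := by
  classical
  obtain ⟨ι, ξ, f, hf, hδ, hfin, hF⟩ := h
  choose e g he hg hdiv using fun j : {j // f j ≠ 1} =>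
    exists_pull_point i δ (hZ (hδ j.1 j.2).2) (f j.1) (hf j.1)
  refine ⟨{j // f j ≠ 1}, e, g, fun j => ?_, hg, fun y => ?_, fun d => ?_⟩
  · show δ (i (e j)) = k + 1
    rw [he]; exact (hδ j.1 j.2).1
  · obtain ⟨_, ⟨V, hV, rfl⟩, hyV, -⟩ :=
      X.isBasis_affineOpens.exists_subset_of_mem_open (Set.mem_univ (i y)) isOpen_univ
    refine ⟨i ⁻¹' V, V.2.preimage i.continuous, hyV, ?_⟩
    refine ((hfin V hV).preimage Subtype.val_injective.injOn).subset ?_
    rintro j ⟨x, hx, hxV⟩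
    refine ⟨j.2, ?_⟩
    have := (specializes_iff_mem_closure.mpr hx).mem_open (V.2.preimage i.continuous) hxV
    rw [Set.mem_preimage, he] at this
    exact this
  · rw [hγ, hF, finsum_congr fun j => hdiv j d,
      finsum_subtype_eq_finsum_cond (f := fun j => Cyc.divFun δ (ξ j) (f j) (i d)) (p := fun j => f j ≠ 1)]
    refine finsum_congr fun j => ?_
    by_cases h : f j = 1
    · rw [finsum_eq_if, if_neg (not_not.mpr h), h, Groth.Cycles.divFun_one hX]
    · rw [finsum_eq_if, if_pos h]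

/-- A finsum on `X` supported in the image is a finsum on the closed subscheme. -/
theorem finsum_closedImm (G : X → ℤ) (hG : ∀ x, x ∉ Set.range i → G x = 0) :
    ∑ᶠ x, G x = ∑ᶠ e : D, G (i e) := by
  rw [← finsum_mem_range (f := G) i.isEmbedding.injective]
  classical
  refine finsum_congr fun x => ?_
  by_cases hx : x ∈ Set.range i
  · rw [finsum_eq_if, if_pos hx]
  · rw [finsum_eq_if, if_neg hx, hG x hx]

theorem finite_preimage_support (F : X → ℤ) (hfin : ∀ V : X.Opens, IsAffineOpen V → ((V : Set X) ∩ Function.support F).Finite)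
    (V : D.Opens) (hV : IsAffineOpen V) : ((V : Set D) ∩ Function.support fun d => F (i d)).Finite := by
  classical
  choose W hW hxW using fun x : X =>
    (X.isBasis_affineOpens.exists_subset_of_mem_open (Set.mem_univ x) isOpen_univ).imp fun W h => h.imp_right And.left
  choose O hO hOW using hW
  have hc : IsCompact ((i : D → X) '' V) := hV.isCompact.image i.continuous
  obtain ⟨T, hT⟩ := hc.elim_finite_subcover (fun x => (O x : Set X)) (fun x => (O x).2)
    fun x _ => Set.mem_iUnion.mpr ⟨x, (hOW x) ▸ hxW x⟩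
  refine ((T.finite_toSet.biUnion fun x _ => hfin (O x) (hO x)).preimage i.isEmbedding.injective.injOn).subset ?_
  rintro d ⟨hdV, hd⟩
  obtain ⟨x, hx, hdx⟩ := Set.mem_iUnion₂.mp (hT ⟨d, hdV, rfl⟩)
  exact Set.mem_biUnion hx ⟨hdx, hd⟩

/-- Restriction of a family of principal divisors to a closed subscheme containing it. -/
theorem RatZeroOn.comap (hX : Cyc.IsSetup X δ) {Z : Set X} (hZ : Z ⊆ Set.range i) {F : X → ℤ}
    (h : RatZeroOn δ k Z F) : RatZeroOn (fun d => δ (i d)) k (i ⁻¹' Z) fun d => F (i d) := by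
  classical
  obtain ⟨ι, ξ, f, hf, hδ, hfin, hF⟩ := h
  choose e g he hg hdiv using fun j : {j // f j ≠ 1} =>
    exists_pull_point i δ (hZ (hδ j.1 j.2).2) (f j.1) (hf j.1)
  refine ⟨{j // f j ≠ 1}, e, g, hg, fun j _ => ⟨?_, ?_⟩, fun V hV => ?_, fun d => ?_⟩
  · show δ (i (e j)) = k + 1
    rw [he]; exact (hδ j.1 j.2).1
  · show i (e j) ∈ Z
    rw [he]; exact (hδ j.1 j.2).2
  · have hc : IsCompact ((i : D → X) '' V) := hV.isCompact.image i.continuous
    obtain ⟨T, hT⟩ := hc.elim_finite_subcover (fun O : {O : X.Opens // IsAffineOpen O} => (O.1 : Set X))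
      (fun O => O.1.2) fun x _ => by
        obtain ⟨_, ⟨O, hO, rfl⟩, hxO, -⟩ :=
          X.isBasis_affineOpens.exists_subset_of_mem_open (Set.mem_univ x) isOpen_univ
        exact Set.mem_iUnion.mpr ⟨⟨O, hO⟩, hxO⟩
    refine ((T.finite_toSet.biUnion fun O _ => hfin O.1 O.2).preimage Subtype.val_injective.injOn).subset ?_
    rintro j ⟨-, hjV⟩
    obtain ⟨O, hO, hjO⟩ := Set.mem_iUnion₂.mp (hT ⟨e j, hjV, rfl⟩)
    exact Set.mem_biUnion hO ⟨j.2, by rw [← he j]; exact hjO⟩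
  · dsimp only
    rw [hF, finsum_congr fun j => hdiv j d,
      finsum_subtype_eq_finsum_cond (f := fun j => Cyc.divFun δ (ξ j) (f j) (i d)) (p := fun j => f j ≠ 1)]
    refine finsum_congr fun j => ?_
    by_cases h : f j = 1
    · rw [finsum_eq_if, if_neg (not_not.mpr h), h, Groth.Cycles.divFun_one hX]
    · rw [finsum_eq_if, if_pos h]

end Groth.CycInter
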