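import Groth.Agent.CycInter.P1Graph
import Groth.Agent.CycInter.RatOn

/-!
Every principal divisor is the difference of the two fibres of a subvariety of the projective line.
-/

universe u

set_option autoImplicit false

open CategoryTheory CategoryTheory.Limits AlgebraicGeometry
open Groth.RefRank Groth.Cycles Groth.Variety2.Dim Groth.Misc15.ProjPts

namespace Groth.CycInter.P1C

variable {X V Z Z' : Scheme.{u}}

theorem toP1_toBase (i : V ⟶ X) :
    P1.toP1 i ≫ CohB1.ProjSpaceOver.toBase 1 X = CohB1.ProjSpaceOver.toBase 1 V ≫ i :=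
  pullback.lift_snd _ _ _

theorem toP1_pr (i : V ⟶ X) : P1.toP1 i ≫ pr X = pr V :=
  (pullback.lift_fst _ _ _).trans (Category.comp_id _)

theorem isPullback_toP1' (i : V ⟶ X) :
    IsPullback (P1.toP1 i) (CohB1.ProjSpaceOver.toBase 1 V) (CohB1.ProjSpaceOver.toBase 1 X) i := by
  refine IsPullback.of_right ?_ (toP1_toBase i) (IsPullback.of_hasPullback _ (specULiftZIsTerminal.from X))
  rw [show P1.toP1 i ≫ pullback.fst (CohB1.ProjSpace.toSpec 1 _) (specULiftZIsTerminal.from X) = pr V from toP1_pr i,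
    show i ≫ specULiftZIsTerminal.from X = specULiftZIsTerminal.from V from specULiftZIsTerminal.hom_ext _ _]
  exact IsPullback.of_hasPullback _ _

theorem toP1_mem_C (i : V ⟶ X) (j : Fin (1 + 1)) (p : CohB1.ProjSpaceOver 1 V) :
    P1.toP1 i p ∈ C X j ↔ p ∈ C V j := by
  show pr X (P1.toP1 i p) ∈ D j ↔ pr V p ∈ D j
  rw [← Scheme.Hom.comp_apply, toP1_pr]

theorem isPullback_sect_toP1 (i : V ⟶ X) (j : Fin (1 + 1)) :
    IsPullback (P1.sect V j) i (P1.toP1 i) (P1.sect X j) := by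
  refine IsPullback.of_right ?_ ?_ (isPullback_toP1' i).flip
  · rw [sect_toBase, sect_toBase]
    exact IsPullback.of_horiz_isIso ⟨by simp⟩
  · apply pullback.hom_ext
    · change (P1.sect V j ≫ P1.toP1 i) ≫ pr X = (i ≫ P1.sect X j) ≫ pr X
      rw [Category.assoc, Category.assoc, toP1_pr i,
        show P1.sect V j ≫ pr V = specULiftZIsTerminal.from V ≫ P1.point j from pullback.lift_fst _ _ _,
        show P1.sect X j ≫ pr X = specULiftZIsTerminal.from X ≫ P1.point j from pullback.lift_fst _ _ _,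
        ← Category.assoc]
      congr 1
      exact specULiftZIsTerminal.hom_ext _ _
    · change (P1.sect V j ≫ P1.toP1 i) ≫ CohB1.ProjSpaceOver.toBase 1 X = (i ≫ P1.sect X j) ≫ CohB1.ProjSpaceOver.toBase 1 X
      rw [Category.assoc, Category.assoc, toP1_toBase, sect_toBase, ← Category.assoc, sect_toBase,
        Category.id_comp, Category.comp_id]

theorem subschemeFun_iso (δ : X → ℤ) (k : ℤ) (e : Z ≅ Z') (q : Z' ⟶ X) :
    Cyc.subschemeFun δ k (e.hom ≫ q) = Cyc.subschemeFun δ k q := by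
  funext x
  unfold Cyc.subschemeFun
  by_cases hx : δ x = k
  swap
  · rw [if_neg hx, if_neg hx]
  rw [if_pos hx, if_pos hx]
  refine finsum_mem_eq_of_bijOn e.hom ⟨fun z hz => ?_, fun a _ b _ h => e.hom.homeomorph.injective h,
    fun z hz => ⟨e.inv z, ?_, ?_⟩⟩ fun z _ => ?_
  · simpa using hz
  · show (e.hom ≫ q) (e.inv z) = x
    rw [← Scheme.Hom.comp_apply, e.inv_hom_id_assoc]; exact hz
  · rw [← Scheme.Hom.comp_apply, e.inv_hom_id]; rfl
  · congr 2
    let r : Z'.presheaf.stalk (e.hom z) ≃+* Z.presheaf.stalk z := (asIso (e.hom.stalkMap z)).commRingCatIsoToRingEquiv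
    letI := r.toRingHom.toAlgebra
    rw [← Module.length_eq_of_surjective (R := Z.presheaf.stalk z) (S := Z'.presheaf.stalk (e.hom z))
      (M := Z.presheaf.stalk z) r.surjective]
    exact ((LinearEquiv.ofBijective (Algebra.linearMap (Z'.presheaf.stalk (e.hom z)) (Z.presheaf.stalk z))
      r.bijective).length_eq).symm

theorem subschemeFun_comp_closedImm (δ : X → ℤ) (k : ℤ) (i : V ⟶ X) [IsClosedImmersion i] (q : Z ⟶ V)
    (v : V) : Cyc.subschemeFun δ k (q ≫ i) (i v) = Cyc.subschemeFun (fun v => δ (i v)) k q v := by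
  have hs : {z : Z | (q ≫ i) z = i v} = {z : Z | q z = v} := Set.ext fun z => i.isEmbedding.injective.eq_iff
  unfold Cyc.subschemeFun
  by_cases h : δ (i v) = k
  · rw [if_pos h, if_pos h, hs]
  · rw [if_neg h, if_neg h]

theorem exists_fibres {δ : X → ℤ} (hX : Cyc.IsSetup X δ) {δP : ↥(CohB1.ProjSpaceOver 1 X) → ℤ}
    (hP : Cyc.DeltaCompat (CohB1.ProjSpaceOver.toBase 1 X) δP δ) (k : ℤ) (ξ : X) (hξ : δ ξ = k + 1)
    (F : X.residueField ξ) (hF : F ≠ 0) :
    ∃ (W : Scheme.{u}) (ι : W ⟶ CohB1.ProjSpaceOver 1 X) (_ : IsIntegral W) (_ : IsClosedImmersion ι),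
      (δP (ι (genericPoint W)) = k + 1 ∧ ι (genericPoint W) ∉ Set.range ⇑(P1.sect X 0) ∧
        ι (genericPoint W) ∉ Set.range ⇑(P1.sect X 1)) ∧
      (∀ w : W, ξ ⤳ CohB1.ProjSpaceOver.toBase 1 X (ι w)) ∧
      ∀ x : X, Cyc.divFun δ ξ F x = Cyc.subschemeFun δ k (pullback.snd ι (P1.sect X 0)) x -
        Cyc.subschemeFun δ k (pullback.snd ι (P1.sect X 1)) x := by
  obtain ⟨V, i, _, _, _, hir, hiξ⟩ := closure_scheme ξ
  subst hiξ
  haveI : IsIntegral V := isIntegral_of_irreducibleSpace_of_isReduced V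
  have hV : Cyc.IsSetup V (fun v => δ (i v)) := isSetup_closedImmersion i hX
  set a := (i.residueFieldMap (genericPoint V)).hom F with ha
  have ha0 : a ≠ 0 := (map_ne_zero_iff _ (i.residueFieldMap _).hom.injective).mpr hF
  obtain ⟨a', ha'⟩ := (residue_gen_bijective (X := V)).2 a
  obtain ⟨U₀, hU₀, g₀, hg₀⟩ := TopCat.Presheaf.germ_exist V.presheaf (x := genericPoint V) a'
  have hg0u : IsUnit a' := by
    refine IsUnit.mk0 a' ?_
    intro e; exact ha0 (by rw [← ha', e, map_zero])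
  set U := V.basicOpen g₀ with hU
  have hηU : genericPoint V ∈ U := (V.mem_basicOpen g₀ _ hU₀).mpr (hg₀ ▸ hg0u)
  set g := V.presheaf.map (homOfLE (V.basicOpen_le g₀)).op g₀ with hg
  have hgu : IsUnit g := RingedSpace.isUnit_res_basicOpen _ g₀
  have hev : V.evaluation U (genericPoint V) hηU g = a := by
    rw [← residue_eq_evaluation, hg, TopCat.Presheaf.germ_res_apply, hg₀, ha']
  have hdiv := divFun_eq_fibres V (fun v => δ (i v)) hV (k + 1) hξ U hηU g hgu
  rw [hev, add_sub_cancel_right] at hdiv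
  haveI : IsClosedImmersion (P1.toP1 i) :=
    MorphismProperty.of_isPullback (P := @IsClosedImmersion) (isPullback_toP1' i).flip ‹IsClosedImmersion i›
  haveI : IsProper (CohB1.ProjSpaceOver.toBase 1 V) := Groth.Variety2.isProper_projSpaceOver_toBase _ _
  set gr := P1.graph V U g with hgr
  have := hV.1
  haveI : Nonempty (U : Scheme.{u}) := ⟨⟨genericPoint V, hηU⟩⟩
  haveI : IsIntegral (U : Scheme.{u}) := isIntegral_of_isOpenImmersion U.ι
  haveI : QuasiCompact (gr ≫ CohB1.ProjSpaceOver.toBase 1 V) := by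
    rw [hgr, graph_toBase]; infer_instance
  haveI : QuasiCompact gr := QuasiCompact.of_comp gr (CohB1.ProjSpaceOver.toBase 1 V)
  haveI : IsIntegral gr.ker.subscheme := Groth.PropsBasic.isIntegral_image gr
  haveI : IsDominant gr.toImage := inferInstance
  let ι := P1.graphClosureι V U g
  haveI : IsClosedImmersion ι := inferInstanceAs (IsClosedImmersion gr.ker.subschemeι)
  have hfac : gr.toImage ≫ ι = gr := gr.toImage_imageι
  have hgen : ι (genericPoint gr.ker.subscheme) = gr (genericPoint (U : Scheme.{u})) := by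
    have hgη : gr.toImage (genericPoint (U : Scheme.{u})) = genericPoint gr.ker.subscheme := by
      refine ((genericPoint_specializes _).antisymm ?_).eq.symm
      rw [specializes_iff_mem_closure]
      refine closure_minimal ?_ isClosed_closure (gr.toImage.denseRange _)
      rintro _ ⟨v, rfl⟩
      exact ((genericPoint_specializes v).map gr.toImage.continuous).mem_closure
    rw [← hgη, ← Scheme.Hom.comp_apply, hfac]
  have hC0 : gr (genericPoint (U : Scheme.{u})) ∈ C V 0 := graph_mem_C V U g (Set.mem_univ _)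
  have hC1 : gr (genericPoint (U : Scheme.{u})) ∈ C V (oth 0) := by
    rw [← isUnit_germ_t_iff V 0 _ hC0, ← isUnit_map_iff (gr.stalkMap _).hom,
      Scheme.Hom.germ_stalkMap_apply gr (C V 0) _ hC0 (t V 0)]
    have h1 : IsUnit ((gr.appLE (C V 0) ⊤ (graph_mem_C V U g)).hom (t V 0)) := by
      rw [show (gr.appLE (C V 0) ⊤ (graph_mem_C V U g)).hom (t V 0) = U.topIso.inv g from graph_t V U g]
      exact hgu.map U.topIso.inv.hom
    have h2 := h1.map ((U : Scheme.{u}).presheaf.germ ⊤ (genericPoint (U : Scheme.{u})) trivial).hom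
    refine Eq.subst (motive := IsUnit) ?_ h2
    exact TopCat.Presheaf.germ_res_apply (U : Scheme.{u}).presheaf (homOfLE (graph_mem_C V U g))
      (genericPoint (U : Scheme.{u})) trivial ((gr.app (C V 0)).hom (t V 0))
  refine ⟨gr.ker.subscheme, ι ≫ P1.toP1 i, inferInstance, inferInstance, ⟨?_, ?_, ?_⟩, fun w => ?_, fun x => ?_⟩
  · rw [Scheme.Hom.comp_apply, hgen, ← Scheme.Hom.comp_apply]
    have hq : (gr ≫ P1.toP1 i) ≫ CohB1.ProjSpaceOver.toBase 1 X = U.ι ≫ i := by
      rw [Category.assoc, toP1_toBase, ← Category.assoc, hgr, graph_toBase]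
    haveI : IsPreimmersion ((gr ≫ P1.toP1 i) ≫ CohB1.ProjSpaceOver.toBase 1 X) := by rw [hq]; infer_instance
    rw [(delta_eq_of_closedImm_comp _ hP (gr ≫ P1.toP1 i) _).1, ← Scheme.Hom.comp_apply, hq,
      Scheme.Hom.comp_apply, genericPoint_eq_of_isOpenImmersion U.ι, hξ]
  · rw [range_sect, Set.mem_setOf_eq, not_not, Scheme.Hom.comp_apply, toP1_mem_C, hgen]
    exact hC1
  · rw [range_sect, Set.mem_setOf_eq, not_not, Scheme.Hom.comp_apply, toP1_mem_C, hgen]
    exact hC0
  · rw [← Scheme.Hom.comp_apply, Category.assoc, toP1_toBase, ← Category.assoc, Scheme.Hom.comp_apply]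
    exact (genericPoint_specializes _).map i.continuous
  · have key : ∀ j : Fin (1 + 1), Cyc.subschemeFun δ k (pullback.snd (ι ≫ P1.toP1 i) (P1.sect X j)) =
        Cyc.subschemeFun δ k (pullback.snd ι (P1.sect V j) ≫ i) := fun j => by
      have sq : IsPullback (pullback.fst ι (P1.sect V j)) (pullback.snd ι (P1.sect V j) ≫ i) (ι ≫ P1.toP1 i)
          (P1.sect X j) :=
        (IsPullback.of_hasPullback ι (P1.sect V j)).paste_vert (isPullback_sect_toP1 i j) |>.flip.flip
      rw [← sq.isoPullback_hom_snd, subschemeFun_iso]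
    simp only [key]
    by_cases hx : x ∈ Set.range i
    · obtain ⟨v, rfl⟩ := hx
      rw [subschemeFun_comp_closedImm, subschemeFun_comp_closedImm, ← Groth.CycInter.divFun_closedImm i δ (genericPoint V) F v, ← ha]
      exact congrFun hdiv v
    · rw [divFun_of_not_specializes _ (fun h => hx (h.mem_closed i.isClosedEmbedding.isClosed_range ⟨_, rfl⟩))]
      have hz : ∀ j : Fin (1 + 1), Cyc.subschemeFun δ k (pullback.snd ι (P1.sect V j) ≫ i) x = 0 := fun j => by
        by_contra hne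
        obtain ⟨-, z, hz⟩ := Groth.Calg6.ClosedImmStalk.exists_of_subschemeFun_ne_zero _ _ _ _ hne
        exact hx ⟨_, hz⟩
      rw [hz, hz, sub_zero]

theorem exists_family {δ : X → ℤ} (hX : Cyc.IsSetup X δ) {δP : ↥(CohB1.ProjSpaceOver 1 X) → ℤ}
    (hP : Cyc.DeltaCompat (CohB1.ProjSpaceOver.toBase 1 X) δP δ) (k : ℤ) (α : AlgebraicCycle X ℤ)
    (h0 : Cyc.RatEquivZero δ k α) :
    ∃ (I : Type u) (W : I → Scheme.{u}) (ι : (i : I) → (W i ⟶ CohB1.ProjSpaceOver 1 X))
      (_ : ∀ i, IsIntegral (W i)) (_ : ∀ i, IsClosedImmersion (ι i)),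
      (∀ i, δP (ι i (genericPoint (W i))) = k + 1 ∧ ι i (genericPoint (W i)) ∉ Set.range ⇑(P1.sect X 0) ∧
        ι i (genericPoint (W i)) ∉ Set.range ⇑(P1.sect X 1)) ∧
      (∀ p : ↥(CohB1.ProjSpaceOver 1 X), ∃ U : Set ↥(CohB1.ProjSpaceOver 1 X), IsOpen U ∧ p ∈ U ∧
        {i | (Set.range ⇑(ι i) ∩ U).Nonempty}.Finite) ∧
      ∀ x : X, α x = ∑ᶠ i, (Cyc.subschemeFun δ k (pullback.snd (ι i) (P1.sect X 0)) x -
        Cyc.subschemeFun δ k (pullback.snd (ι i) (P1.sect X 1)) x) := by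
  obtain ⟨I, ξ, f, hδ, hf, hlf, hα⟩ := h0
  choose W ι hint hci hgen hsp hdiv using fun i => exists_fibres hX hP k (ξ i) (hδ i) (f i) (hf i)
  refine ⟨I, W, ι, hint, hci, hgen, fun p => ?_, fun x => (hα x).trans (finsum_congr fun i => hdiv i x)⟩
  obtain ⟨U, hUo, hpU, hfin⟩ := hlf (CohB1.ProjSpaceOver.toBase 1 X p)
  refine ⟨CohB1.ProjSpaceOver.toBase 1 X ⁻¹' U, hUo.preimage (Scheme.Hom.continuous _), hpU, hfin.subset ?_⟩
  rintro i ⟨_, ⟨w, rfl⟩, hw⟩
  exact ⟨_, (hsp i w).mem_closure, hw⟩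

end Groth.CycInter.P1C
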