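import Groth.Prelude.Def_IntMult
import Groth.Agent.CycInter.P1Family
import Groth.Agent.CycInter.ExtTor
import Groth.Agent.S6470
import Groth.Agent.Misc15.P1Stalk

/-!
The intersection product of a cycle on the projective line over a scheme with a section at zero or infinity.
-/

universe u

set_option autoImplicit false
set_option linter.style.haveILetI false

open CategoryTheory CategoryTheory.Limits AlgebraicGeometry IsLocalRing TensorProduct

namespace Groth.CycInter.SectProd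

/-- The intersection number of a hypersurface with an integral closed subscheme not contained in it. -/
theorem chi_span {A : Type u} [CommRing A] [IsLocalRing A] [IsNoetherianRing A] [IsDomain A] (p : Ideal A)
    [p.IsPrime] {a : A} (ha : a ∉ p) :
    IntMult.chi A (A ⧸ Ideal.span {a}) (A ⧸ p) =
      ((Module.length A (A ⧸ (p ⊔ Ideal.span {a}))).toNat : ℤ) := by
  have ha0 : a ≠ 0 := fun h => ha (h ▸ p.zero_mem)
  let v : A →ₗ[A] A := LinearMap.mul A A a
  let ρ : A →ₗ[A] A ⧸ Ideal.span {a} := Submodule.mkQ (Ideal.span {a})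
  have hv : Function.Injective v := fun x y h => mul_left_cancel₀ ha0 h
  have hρ : Function.Surjective ρ := Submodule.mkQ_surjective _
  have hex : Function.Exact v ρ := fun x => by
    rw [Submodule.mkQ_apply, Submodule.Quotient.mk_eq_zero, Ideal.mem_span_singleton]
    exact ⟨fun ⟨c, hc⟩ => ⟨c, hc.symm⟩, fun ⟨c, hc⟩ => ⟨c, hc.symm⟩⟩
  have hinj : Function.Injective (v.rTensor (A ⧸ p)) := by
    let e := TensorProduct.lid A (A ⧸ p)
    have hn : ∀ z, e (v.rTensor (A ⧸ p) z) = a • e z := fun z => by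
      induction z using TensorProduct.induction_on with
      | zero => simp
      | add x y hx hy => simp only [map_add, hx, hy, smul_add]
      | tmul c n => simp [e, v, mul_smul]
    have hreg : ∀ y : A ⧸ p, a • y = 0 → y = 0 := fun y h => by
      obtain ⟨y, rfl⟩ := Ideal.Quotient.mk_surjective y
      rw [Algebra.smul_def, Ideal.Quotient.algebraMap_eq, ← map_mul, Ideal.Quotient.eq_zero_iff_mem] at h
      exact Ideal.Quotient.eq_zero_iff_mem.mpr ((‹p.IsPrime›.mem_or_mem h).resolve_left ha)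
    rw [injective_iff_map_eq_zero]
    intro z hz
    apply e.injective
    rw [map_zero]
    exact hreg _ (by rw [← hn, hz, map_zero])
  rw [IntMult.chi, finsum_eq_single _ 0 fun i hi => ?_]
  · obtain ⟨e₁⟩ := Groth.HTorLib.tor_zero_equiv (A := A) (A ⧸ Ideal.span {a}) (A ⧸ p)
    obtain ⟨q⟩ := Groth.Calg6.TorCM.exists_tensor_quotient_equiv (Ideal.span {a}) p
    rw [pow_zero, one_mul, (e₁.trans q).length_eq, sup_comm]
  · obtain ⟨j, rfl⟩ := Nat.exists_eq_succ_of_ne_zero hi
    have hsub : Subsingleton (DRing.Tor A (j + 1) (A ⧸ Ideal.span {a}) (A ⧸ p)) := by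
      cases j with
      | zero =>
        obtain ⟨e'⟩ := Groth.Calg6.TorAcyclic.tor_one hv hρ hex (A ⧸ p)
          (Groth.HTorLib.subsingleton_tor_of_flat_left _ _ 0)
        have : Subsingleton (LinearMap.ker (v.rTensor (A ⧸ p))) :=
          Submodule.subsingleton_iff_eq_bot.2 (LinearMap.ker_eq_bot.2 hinj)
        exact e'.toEquiv.subsingleton
      | succ j =>
        obtain ⟨e'⟩ := Groth.HTorLib.tor_shift_left hv hρ hex (A ⧸ p) j
        have := Groth.HTorLib.subsingleton_tor_of_flat_left (A := A) A (A ⧸ p) j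
        exact e'.toEquiv.subsingleton
    rw [Module.length_eq_zero]
    simp

variable {X : Scheme.{u}}

/-- The order of a germ along an immediate specialisation. -/
theorem ordAt_specMap [IsLocallyNoetherian X] {δ : X → ℤ} (hδ : Cyc.IsDimFun X δ) {x ξ : X} (h : ξ ⤳ x)
    (hd : δ x + 1 = δ ξ) (a : X.presheaf.stalk x) (ha : a ∉ (Groth.Cycles.genPrime h).asIdeal) :
    Cyc.ordAt x ξ h (Cyc.specMap x ξ h a) =
      ((Module.length (X.presheaf.stalk x)
        (X.presheaf.stalk x ⧸ ((Groth.Cycles.genPrime h).asIdeal ⊔ Ideal.span {a}))).toNat : ℤ) := by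
  have := Groth.Cycles.isFractionRing_locQuot h
  have hp := Groth.Cycles.genPrime_asIdeal h
  haveI : (RingHom.ker (Cyc.specMap x ξ h)).IsPrime := hp ▸ (Groth.Cycles.genPrime h).isPrime
  haveI : IsDomain (Cyc.LocQuot x ξ h) := Ideal.Quotient.isDomain _
  haveI : Ring.KrullDimLE 1 (Cyc.LocQuot x ξ h) := by
    rw [Ring.krullDimLE_iff, Groth.Cycles.ringKrullDim_locQuot x ξ h, Groth.Cycles.krullDim_interval hδ (h : x ≤ ξ),
      show δ ξ - δ x = 1 by omega]
    exact le_rfl
  have hne : Ideal.Quotient.mk (RingHom.ker (Cyc.specMap x ξ h)) a ≠ 0 := fun h0 =>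
    ha (hp.ge (Ideal.Quotient.eq_zero_iff_mem.mp h0))
  refine (Groth.RefRank.ordFrac_algebraMap' (A := Cyc.LocQuot x ξ h) (K := X.residueField ξ) hne).trans ?_
  congr 2
  rw [Ring.ord, hp, ← Module.length_eq_of_surjective (R := Cyc.LocQuot x ξ h) (S := X.presheaf.stalk x)
    (M := Cyc.LocQuot x ξ h ⧸ Ideal.span {Ideal.Quotient.mk (RingHom.ker (Cyc.specMap x ξ h)) a})
    Ideal.Quotient.mk_surjective]
  refine LinearEquiv.length_eq ?_
  exact ((Ideal.quotientEquivAlgOfEq (X.presheaf.stalk x) (by rw [Ideal.map_span, Set.image_singleton]; rfl)).trans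
    (DoubleQuot.quotQuotEquivQuotSupₐ (X.presheaf.stalk x) (RingHom.ker (Cyc.specMap x ξ h))
      (Ideal.span {a}))).toLinearEquiv

/-- The prime of the image of the generic point of an integral closed subscheme. -/
theorem genPrime_closedImm {Y : Scheme.{u}} [IsIntegral Y] (i : Y ⟶ X) [IsClosedImmersion i] (y : Y)
    (h : i (genericPoint Y) ⤳ i y) :
    (Groth.Cycles.genPrime h).asIdeal = IntMult.stalkIdeal i.ker (i y) := by
  rw [← Groth.Calg6.ClosedImmStalk.ker_stalkMap_eq i y]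
  ext a
  have e : (i.stalkMap (genericPoint Y)).hom ((X.presheaf.stalkSpecializes h).hom a) =
      (Y.presheaf.stalkSpecializes (genericPoint_specializes y)).hom ((i.stalkMap y).hom a) := by
    rw [← CommRingCat.comp_apply, Scheme.Hom.stalkSpecializes_stalkMap, CommRingCat.comp_apply]
  show (X.presheaf.stalkSpecializes h).hom a ∈ maximalIdeal _ ↔ (i.stalkMap y).hom a = 0
  rw [IsLocalRing.mem_maximalIdeal, mem_nonunits_iff, ← isUnit_map_iff (i.stalkMap (genericPoint Y)).hom, e,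
    isUnit_iff_ne_zero, not_not]
  exact (map_eq_zero_iff (Y.presheaf.stalkSpecializes (genericPoint_specializes y)).hom
    (Groth.RefRank.rspec_gen_injective y)).trans Iff.rfl

open Groth.CycInter.P1C

/-- The local rings of the projective line over an integral scheme are domains. -/
theorem isDomain_stalk [IsIntegral X] (p : CohB1.ProjSpaceOver 1 X) :
    IsDomain ((CohB1.ProjSpaceOver 1 X).presheaf.stalk p) := by
  obtain ⟨U, hU, hpU, -⟩ := exists_isAffineOpen_mem_and_subset (U := (⊤ : X.Opens))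
    (x := CohB1.ProjSpaceOver.toBase 1 X p) trivial
  haveI : Nonempty U := ⟨⟨_, hpU⟩⟩
  haveI : IsOpenImmersion hU.fromSpec := hU.isOpenImmersion_fromSpec
  haveI : IsOpenImmersion (P1.toP1 hU.fromSpec) :=
    MorphismProperty.of_isPullback (P := @IsOpenImmersion) (isPullback_toP1' hU.fromSpec).flip inferInstance
  obtain ⟨s, hs⟩ : CohB1.ProjSpaceOver.toBase 1 X p ∈ Set.range hU.fromSpec := hU.range_fromSpec.symm ▸ hpU
  obtain ⟨q, hq, -⟩ := Scheme.exists_preimage_of_isPullback (isPullback_toP1' hU.fromSpec) p s hs.symm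
  subst hq
  haveI : IsIntegral (CohB1.ProjSpaceOver 1 (Spec Γ(X, U))) :=
    Groth.Misc15.P1Stalk.isIntegral_projSpaceOver 1 Γ(X, U)
  exact (asIso ((P1.toP1 hU.fromSpec).stalkMap q)).commRingCatIsoToRingEquiv.injective.isDomain _

variable [IsIntegral X] {δP : ↥(CohB1.ProjSpaceOver 1 X) → ℤ}

theorem delta_sect {δ : X → ℤ} (hP : Cyc.DeltaCompat (CohB1.ProjSpaceOver.toBase 1 X) δP δ) (i : Fin (1 + 1))
    (x : X) : δP (P1.sect X i x) = δ x := by
  haveI : IsPreimmersion (P1.sect X i ≫ CohB1.ProjSpaceOver.toBase 1 X) := by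
    rw [sect_toBase]; infer_instance
  rw [(delta_eq_of_closedImm_comp _ hP (P1.sect X i) x).1, ← Scheme.Hom.comp_apply, sect_toBase]
  rfl

theorem sect_specializes_iff (i : Fin (1 + 1)) (ζ : CohB1.ProjSpaceOver 1 X) :
    P1.sect X i (genericPoint X) ⤳ ζ ↔ ζ ∉ C X (oth i) := by
  rw [← Set.mem_setOf (p := fun p => p ∉ C X (oth i)), ← range_sect]
  refine ⟨fun h => h.mem_closed (P1.sect X i).isClosedEmbedding.isClosed_range ⟨_, rfl⟩, ?_⟩
  rintro ⟨x, rfl⟩
  exact (genericPoint_specializes x).map (P1.sect X i).continuous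

theorem mult_sect [IsLocallyNoetherian (CohB1.ProjSpaceOver 1 X)] {ξ ζ : CohB1.ProjSpaceOver 1 X}
    (h : ξ ⤳ ζ) (i : Fin (1 + 1)) (hζ : ζ ∉ C X (oth i)) (hC : ζ ∈ C X i)
    (ha : (CohB1.ProjSpaceOver 1 X).presheaf.germ (C X i) ζ hC (t X i) ∉ (Groth.Cycles.genPrime h).asIdeal) :
    IntMult.mult (IntMult.ptIdeal ξ) (IntMult.ptIdeal (P1.sect X i (genericPoint X))) ζ =
      ((Module.length ((CohB1.ProjSpaceOver 1 X).presheaf.stalk ζ)
        ((CohB1.ProjSpaceOver 1 X).presheaf.stalk ζ ⧸ ((Groth.Cycles.genPrime h).asIdeal ⊔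
          Ideal.span {(CohB1.ProjSpaceOver 1 X).presheaf.germ (C X i) ζ hC (t X i)}))).toNat : ℤ) := by
  have hη := (sect_specializes_iff i ζ).mpr hζ
  have hζ' : ζ ∈ Set.range (P1.sect X i) := (range_sect X i).ge hζ
  obtain ⟨y, rfl⟩ := hζ'
  haveI := isDomain_stalk (P1.sect X i y)
  rw [IntMult.mult, Groth.Agent.S6470.stalkIdeal_ptIdeal h, Groth.Agent.S6470.stalkIdeal_ptIdeal hη,
    genPrime_closedImm (P1.sect X i) y hη, (stalkIdeal_sect X i _).1 hC]
  exact chi_span (Groth.Cycles.genPrime h).asIdeal ha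

theorem interProd_indicator (δ : ↥(CohB1.ProjSpaceOver 1 X) → ℤ) (n : ℤ) (α : ↥(CohB1.ProjSpaceOver 1 X) → ℤ)
    (η ζ : CohB1.ProjSpaceOver 1 X) [∀ ξ, Decidable (ξ ⤳ ζ ∧ η ⤳ ζ ∧ δ ξ + δ η - n = δ ζ)] :
    IntMult.interProd δ n α (Set.indicator {η} 1) ζ = ∑ᶠ ξ, α ξ *
      (if ξ ⤳ ζ ∧ η ⤳ ζ ∧ δ ξ + δ η - n = δ ζ then IntMult.mult (IntMult.ptIdeal ξ) (IntMult.ptIdeal η) ζ
        else 0) := by
  classical
  let Q := {ξ : ↥(CohB1.ProjSpaceOver 1 X) // ξ ⤳ ζ ∧ η ⤳ ζ ∧ δ ξ + δ η - n = δ ζ}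
  let e : Q → {p : ↥(CohB1.ProjSpaceOver 1 X) × ↥(CohB1.ProjSpaceOver 1 X) //
      p.1 ⤳ ζ ∧ p.2 ⤳ ζ ∧ δ p.1 + δ p.2 - n = δ ζ} := fun q => ⟨(q.1, η), q.2⟩
  have he : Function.Injective e := fun a b h => Subtype.ext (congrArg (fun p => p.1.1) h)
  have hout : ∀ p, p ∉ Set.range e → α p.1.1 * Set.indicator {η} 1 p.1.2 *
      IntMult.mult (IntMult.ptIdeal p.1.1) (IntMult.ptIdeal p.1.2) ζ = (0 : ℤ) := by
    rintro ⟨⟨a, b⟩, hab⟩ hp
    have : b ≠ η := by
      rintro rfl; exact hp ⟨⟨a, hab⟩, rfl⟩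
    rw [Set.indicator_of_notMem (by exact this)]
    simp
  calc IntMult.interProd δ n α (Set.indicator {η} 1) ζ
      = ∑ᶠ p ∈ Set.range e, α p.1.1 * Set.indicator {η} 1 p.1.2 *
          IntMult.mult (IntMult.ptIdeal p.1.1) (IntMult.ptIdeal p.1.2) ζ := by
        refine finsum_congr fun p => ?_
        by_cases hp : p ∈ Set.range e
        · rw [finsum_eq_if, if_pos hp]
        · rw [finsum_eq_if, if_neg hp, hout p hp]
    _ = ∑ᶠ q : Q, α q.1 * IntMult.mult (IntMult.ptIdeal q.1) (IntMult.ptIdeal η) ζ := by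
        rw [finsum_mem_range he]
        refine finsum_congr fun q => ?_
        show α q.1 * Set.indicator {η} 1 η * _ = _
        rw [Set.indicator_of_mem (Set.mem_singleton η), Pi.one_apply, mul_one]
    _ = _ := by
        rw [finsum_subtype_eq_finsum_cond (f := fun ξ => α ξ * IntMult.mult (IntMult.ptIdeal ξ)
          (IntMult.ptIdeal η) ζ) (p := fun ξ => ξ ⤳ ζ ∧ η ⤳ ζ ∧ δ ξ + δ η - n = δ ζ)]
        refine finsum_congr fun ξ => ?_
        rw [finsum_eq_if, mul_ite, mul_zero]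

end Groth.CycInter.SectProd
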