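import Groth.Agent.CycInter.EulerChi
import Groth.Agent.CycInter.TorLocal
import Groth.Agent.S6470
import Groth.Agent.VarietyBC.SmoothChart
import Groth.Agent.Calg6.ClosedImmStalk
import Groth.Agent.EtaleAlgebra.EtaleCriterion

/-!
The triple intersection product of prime cycles.
-/

universe u

set_option autoImplicit false

open CategoryTheory CategoryTheory.Limits AlgebraicGeometry IsLocalRing

namespace Groth.CycInter.Assoc

variable {X : Scheme.{u}}

theorem mult_comm (I J : X.IdealSheafData) (x : X) : IntMult.mult I J x = IntMult.mult J I x :=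
  Groth.Calg6.Diag.intMult_chi_symm _ _

theorem interProd_comm (δ : X → ℤ) (n : ℤ) (α β : X → ℤ) :
    IntMult.interProd δ n α β = IntMult.interProd δ n β α := by
  funext ζ
  refine finsum_eq_of_bijective (fun p => ⟨(p.1.2, p.1.1), p.2.2.1, p.2.1, by
    have := p.2.2.2
    dsimp only
    omega⟩) ⟨fun p q h => ?_, fun p => ?_⟩ fun p => ?_
  · have h1 := congrArg (fun r => (r : _).1.1) h
    have h2 := congrArg (fun r => (r : _).1.2) h
    exact Subtype.ext (Prod.ext h2 h1)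
  · exact ⟨⟨(p.1.2, p.1.1), p.2.2.1, p.2.1, by have := p.2.2.2; dsimp only; omega⟩, rfl⟩
  · dsimp only
    rw [mult_comm, mul_comm (α p.1.1)]

theorem intersectProperly_comm {δ : X → ℤ} {n : ℤ} {α β : X → ℤ} (h : IntMult.IntersectProperly δ n α β) :
    IntMult.IntersectProperly δ n β α := fun ξ η ζ hξ hη h1 h2 => by
  have := h η ξ ζ hη hξ h2 h1
  omega

open Classical in
theorem interProd_single (δ : X → ℤ) (n : ℤ) (a : X) (β : X → ℤ) (ζ : X) :
    IntMult.interProd δ n (Set.indicator {a} 1) β ζ = ∑ᶠ η, β η *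
      (if a ⤳ ζ ∧ η ⤳ ζ ∧ δ a + δ η - n = δ ζ then
        IntMult.mult (IntMult.ptIdeal a) (IntMult.ptIdeal η) ζ else 0) := by
  let Q := {η : X // a ⤳ ζ ∧ η ⤳ ζ ∧ δ a + δ η - n = δ ζ}
  let e : Q → {p : X × X // p.1 ⤳ ζ ∧ p.2 ⤳ ζ ∧ δ p.1 + δ p.2 - n = δ ζ} := fun q => ⟨(a, q.1), q.2⟩
  have he : Function.Injective e := fun x y h => Subtype.ext (congrArg (fun p => p.1.2) h)
  have hout : ∀ p, p ∉ Set.range e → Set.indicator {a} 1 p.1.1 * β p.1.2 *
      IntMult.mult (IntMult.ptIdeal p.1.1) (IntMult.ptIdeal p.1.2) ζ = (0 : ℤ) := by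
    rintro ⟨⟨x, y⟩, hxy⟩ hp
    have : x ≠ a := by
      rintro rfl; exact hp ⟨⟨y, hxy⟩, rfl⟩
    rw [Set.indicator_of_notMem (by exact this)]
    simp
  calc IntMult.interProd δ n (Set.indicator {a} 1) β ζ
      = ∑ᶠ p ∈ Set.range e, Set.indicator {a} 1 p.1.1 * β p.1.2 *
          IntMult.mult (IntMult.ptIdeal p.1.1) (IntMult.ptIdeal p.1.2) ζ := by
        refine finsum_congr fun p => ?_
        by_cases hp : p ∈ Set.range e
        · rw [finsum_eq_if, if_pos hp]
        · rw [finsum_eq_if, if_neg hp, hout p hp]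
    _ = ∑ᶠ q : Q, β q.1 * IntMult.mult (IntMult.ptIdeal a) (IntMult.ptIdeal q.1) ζ := by
        rw [finsum_mem_range he]
        refine finsum_congr fun q => ?_
        show Set.indicator {a} 1 a * β q.1 * _ = _
        rw [Set.indicator_of_mem (Set.mem_singleton a), Pi.one_apply, one_mul]
    _ = _ := by
        rw [finsum_subtype_eq_finsum_cond (f := fun η => β η * IntMult.mult (IntMult.ptIdeal a)
          (IntMult.ptIdeal η) ζ) (p := fun η => a ⤳ ζ ∧ η ⤳ ζ ∧ δ a + δ η - n = δ ζ)]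
        refine finsum_congr fun η => ?_
        rw [finsum_eq_if, mul_ite, mul_zero]

open Classical in
theorem interProd_single_single (δ : X → ℤ) (n : ℤ) (b c η : X) :
    IntMult.interProd δ n (Set.indicator {b} 1) (Set.indicator {c} 1) η =
      if b ⤳ η ∧ c ⤳ η ∧ δ b + δ c - n = δ η then
        IntMult.mult (IntMult.ptIdeal b) (IntMult.ptIdeal c) η else 0 := by
  rw [interProd_single, finsum_eq_single _ c fun x hx => by
    rw [Set.indicator_of_notMem (by exact hx), zero_mul],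
    Set.indicator_of_mem (Set.mem_singleton c), Pi.one_apply, one_mul]

/-- the quotient of a local ring by the ideal of the closure of a point -/
abbrev Q (a ζ : X) : Type u := X.presheaf.stalk ζ ⧸ IntMult.stalkIdeal (IntMult.ptIdeal a) ζ

theorem mem_support_iff {a ζ : X} (h : a ⤳ ζ) (p : PrimeSpectrum (X.presheaf.stalk ζ)) :
    p ∈ Module.support (X.presheaf.stalk ζ) (Q a ζ) ↔ a ⤳ X.fromSpecStalk ζ p := by
  rw [Module.support_eq_zeroLocus, PrimeSpectrum.mem_zeroLocus, Ideal.annihilator_quotient, SetLike.coe_subset_coe,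
    Groth.Agent.S6470.stalkIdeal_ptIdeal h]
  refine (PrimeSpectrum.le_iff_specializes (Groth.Cycles.genPrime h) p).trans ?_
  refine ((X.fromSpecStalk ζ).isEmbedding.isInducing.specializes_iff
    (x := Groth.Cycles.genPrime h) (y := p)).symm.trans ?_
  rw [Groth.Cycles.fromSpecStalk_genPrime]

theorem triple' {K : Type u} [Field K] (f : X ⟶ Spec (CommRingCat.of K)) [Smooth f] [IsIntegral X] {δ : X → ℤ}
    (hX : Cyc.IsSetup X δ) (hδ : Cyc.DeltaCompat f δ (fun _ => 0)) {n : ℤ} (hn : δ (genericPoint X) = n)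
    (a b c ζ : X) (hbc : ∀ p : X, b ⤳ p → c ⤳ p → p ⤳ ζ → δ p ≤ δ b + δ c - n)
    (habc : ∀ p : X, a ⤳ p → b ⤳ p → c ⤳ p → p ⤳ ζ → δ p ≤ δ a + δ b + δ c - 2 * n)
    [Decidable (a ⤳ ζ ∧ b ⤳ ζ ∧ c ⤳ ζ ∧ δ ζ = δ a + δ b + δ c - 2 * n)] :
    IntMult.interProd δ n (Set.indicator {a} 1)
        (IntMult.interProd δ n (Set.indicator {b} 1) (Set.indicator {c} 1)) ζ =
      if a ⤳ ζ ∧ b ⤳ ζ ∧ c ⤳ ζ ∧ δ ζ = δ a + δ b + δ c - 2 * n then
        ∑ᶠ i : ℕ, (-1 : ℤ) ^ i * IntMult.chi (X.presheaf.stalk ζ)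
          (DRing.Tor (X.presheaf.stalk ζ) i (Q b ζ) (Q c ζ)) (Q a ζ)
      else 0 := by
  classical
  rw [interProd_single]
  by_cases hall : a ⤳ ζ ∧ b ⤳ ζ ∧ c ⤳ ζ ∧ δ ζ = δ a + δ b + δ c - 2 * n
  swap
  · rw [if_neg hall]
    refine finsum_eq_zero_of_forall_eq_zero fun η => ?_
    rw [interProd_single_single]
    split_ifs with h1 h2
    · exact absurd ⟨h2.1, h1.1.trans h2.2.1, h1.2.1.trans h2.2.1, by omega⟩ hall
    all_goals simp
  rw [if_pos hall]
  obtain ⟨haζ, hbζ, hcζ, hdim⟩ := hall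
  letI : X.Over (Spec (CommRingCat.of K)) := ⟨f⟩
  haveI : Smooth (X ↘ Spec (CommRingCat.of K)) := inferInstanceAs (Smooth f)
  haveI : IsRegularLocalRing (X.presheaf.stalk ζ) :=
    Groth.VarietyBC.isRegularLocalRing_of_mem_smoothLocus (k := K) (by
      rw [Scheme.Hom.smoothLocus_eq_top]; trivial)
  have hδh := Groth.Agent.S6470.delta_eq_height f δ hδ
  obtain ⟨h, hh, hhδ⟩ := hδh ζ
  -- a chart
  obtain ⟨U₀, hU₀, U, hU, hxU, hle, hstd⟩ := Smooth.exists_isStandardSmooth f ζ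
  obtain rfl : U₀ = ⊤ := top_le_iff.1 fun z _ => (Subsingleton.elim (f ζ) z) ▸ hle hxU
  let φ : K →+* Γ(X, U) := (f.appLE ⊤ U hle).hom.comp (Scheme.ΓSpecIso (CommRingCat.of K)).inv.hom
  have hφ : φ.IsStandardSmooth := RingHom.isStandardSmooth_respectsIso.2 _
    (Scheme.ΓSpecIso (CommRingCat.of K)).commRingCatIsoToRingEquiv.symm hstd
  obtain ⟨n', g, hg, hget⟩ := hφ.exists_etale_mvPolynomial
  letI : Algebra K Γ(X, U) := φ.toAlgebra
  letI : Algebra (MvPolynomial (Fin n') K) Γ(X, U) := g.toAlgebra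
  haveI : IsScalarTower K (MvPolynomial (Fin n') K) Γ(X, U) := IsScalarTower.of_algebraMap_eq' hg.symm
  haveI : Algebra.Etale (MvPolynomial (Fin n') K) Γ(X, U) := hget
  haveI : Algebra.FiniteType K Γ(X, U) :=
    Algebra.FiniteType.trans (S := MvPolynomial (Fin n') K) inferInstance inferInstance
  haveI : IsOpenImmersion hU.fromSpec := hU.isOpenImmersion_fromSpec
  have hht : ∀ (x : X) (hx : x ∈ U), ringKrullDim (Γ(X, U) ⧸ (hU.primeIdealOf ⟨x, hx⟩).asIdeal) =
      ((Order.height x : ℕ∞) : WithBot ℕ∞) := fun x hx => by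
    rw [← Groth.FibreDim.height_spec_eq (S := Γ(X, U)) (hU.primeIdealOf ⟨x, hx⟩),
      ← Groth.Variety2.Dim.height_eq_of_isPreimmersion (hU.fromSpec ≫ f) f hU.fromSpec rfl
        (hU.primeIdealOf ⟨x, hx⟩), hU.fromSpec_primeIdealOf]
  have hn' : n ≤ (n' : ℤ) := by
    obtain ⟨N, hN, hNδ⟩ := hδh (genericPoint X)
    have hmem : genericPoint X ∈ U := (genericPoint_specializes ζ).mem_open U.2 hxU
    have h1 := hht _ hmem
    rw [hN] at h1
    have h2 : ringKrullDim Γ(X, U) ≤ (n' : WithBot ℕ∞) := by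
      rw [ringKrullDim_le_iff_isMaximal_height_le]
      intro M hM
      rw [← IsLocalization.AtPrime.ringKrullDim_eq_height M (Localization.AtPrime M),
        Groth.Agent.EtaleAlgebra.EtaleCriterion.ringKrullDim_atPrime_of_etale (k := K) (n := n') M]
    have h3 : (N : WithBot ℕ∞) ≤ (n' : WithBot ℕ∞) := by
      refine le_trans (le_of_eq ?_) ((ringKrullDim_quotient_le (hU.primeIdealOf ⟨genericPoint X, hmem⟩).asIdeal).trans h2)
      exact h1.symm
    rw [← hn, hNδ]
    exact_mod_cast h3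
  letI : Algebra Γ(X, U) (X.presheaf.stalk ζ) := (X.presheaf.germ U ζ hxU).hom.toAlgebra
  haveI : IsLocalization.AtPrime (X.presheaf.stalk ζ) (hU.primeIdealOf ⟨ζ, hxU⟩).asIdeal :=
    hU.isLocalization_stalk ⟨ζ, hxU⟩
  -- points
  let A := X.presheaf.stalk ζ
  let pt : PrimeSpectrum A → X := fun p => X.fromSpecStalk ζ p
  have hpt : ∀ p, pt p ⤳ ζ := fun p => Scheme.range_fromSpecStalk.le ⟨p, rfl⟩
  have hptinj : Function.Injective pt := (X.fromSpecStalk ζ).isEmbedding.injective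
  let D : PrimeSpectrum A → ℕ := fun p => (δ (pt p)).toNat
  have hDδ : ∀ p, ((D p : ℕ) : ℤ) = δ (pt p) := fun p => by
    obtain ⟨a, -, ha⟩ := hδh (pt p)
    simp only [D, ha, Int.toNat_natCast]
  have hD : ∀ p q : PrimeSpectrum A, p < q → D q < D p := fun p q hpq => by
    have hs' : pt p ⤳ pt q := ((PrimeSpectrum.le_iff_specializes p q).1 hpq.le).map (X.fromSpecStalk ζ).continuous
    have := (hX.2.2 (pt p) (pt q) hs' fun e => hpq.ne (hptinj e)).1
    rw [← hDδ, ← hDδ] at this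
    exact_mod_cast this
  have hDdim : ∀ p : PrimeSpectrum A,
      ringKrullDim (Γ(X, U) ⧸ p.asIdeal.comap (algebraMap Γ(X, U) (X.presheaf.stalk ζ))) = D p := fun p => by
    have hp : p.asIdeal.comap (algebraMap Γ(X, U) (X.presheaf.stalk ζ)) =
        (hU.primeIdealOf ⟨pt p, (hpt p).mem_open U.2 hxU⟩).asIdeal := by
      conv_lhs => rw [← Groth.Cycles.genPrime_fromSpecStalk p (hpt p)]
      exact Groth.Agent.S6470.comap_genPrime hU hxU (hpt p)
    rw [ringKrullDim_eq_of_ringEquiv (Ideal.quotEquivOfEq hp), hht]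
    obtain ⟨a, ha, ha'⟩ := hδh (pt p)
    rw [ha, show D p = a by simp only [D, ha', Int.toNat_natCast]]
    rfl
  have hmax : ∀ p : PrimeSpectrum A, δ (pt p) ≤ δ ζ → p.asIdeal = maximalIdeal A := fun p hp => by
    by_contra hne
    have := hD _ (IsLocalRing.closedPoint A)
      (lt_of_le_of_ne (IsLocalRing.le_maximalIdeal p.isPrime.ne_top) fun e => hne (congrArg PrimeSpectrum.asIdeal e))
    have e1 := hDδ p
    have e2 := hDδ (IsLocalRing.closedPoint A)
    have e3 : pt (IsLocalRing.closedPoint A) = ζ := Scheme.fromSpecStalk_closedPoint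
    rw [e3] at e2
    omega
  obtain ⟨d, hd⟩ : ∃ d : ℕ, (d : ℤ) = δ b + δ c - n := by
    have h1 := hbc ζ hbζ hcζ (specializes_refl ζ)
    exact ⟨(δ b + δ c - n).toNat, Int.toNat_of_nonneg (by omega)⟩
  obtain ⟨r, hr, -⟩ : ∃ r : ℕ, (r : ℤ) = δ a ∧ True := by
    obtain ⟨r, -, hr⟩ := hδh a
    exact ⟨r, hr.symm, trivial⟩
  let T : ℕ → Type u := fun i => DRing.Tor A i (Q b ζ) (Q c ζ)
  have hsuppT : ∀ i, ∀ p ∈ Module.support A (T i), b ⤳ pt p ∧ c ⤳ pt p := fun i p hp => by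
    have hann : Module.annihilator A (Q b ζ) ⊔ Module.annihilator A (Q c ζ) ≤ p.asIdeal :=
      (Groth.GrInt.annihilator_sup_le_tor (A := A) (M := Q b ζ) (N := Q c ζ) i).trans
        (Module.annihilator_le_of_mem_support hp)
    exact ⟨(mem_support_iff hbζ p).1 ((Module.mem_support_iff_of_finite (R := A) (M := Q b ζ)).2 (le_sup_left.trans hann)),
      (mem_support_iff hcζ p).1 ((Module.mem_support_iff_of_finite (R := A) (M := Q c ζ)).2 (le_sup_right.trans hann))⟩
  have hTd : ∀ i, ∀ p ∈ Module.support A (T i), D p ≤ d := fun i p hp => by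
    obtain ⟨h1, h2⟩ := hsuppT i p hp
    have := hbc (pt p) h1 h2 (hpt p)
    have := hDδ p
    omega
  have hUa : ∀ p ∈ Module.support A (Q a ζ), D p ≤ r := fun p hp => by
    have : δ (pt p) ≤ δ a := Groth.Cycles.delta_le_of_specializes hX.2.2 ((mem_support_iff haζ p).1 hp)
    have := hDδ p
    omega
  let cfun : PrimeSpectrum A → ℤ := fun p => IntMult.chi A (Q a ζ) (A ⧸ p.asIdeal)
  let pa := Groth.Cycles.genPrime haζ
  have hpa : pt pa = a := Groth.Cycles.fromSpecStalk_genPrime haζ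
  have hchi : ∀ i, IntMult.chi A (T i) (Q a ζ) = ∑ᶠ p, Groth.Calg6.DevissageSum.F D d cfun (T i) p := fun i => by
    haveI : Module.Finite A (T i) := Groth.Calg7.Tor.finite_T (ModuleCat.of A (Q b ζ)) (ModuleCat.of A (Q c ζ)) i
    rw [Groth.Calg6.Diag.intMult_chi_eq_finsum (k := K) (n := n') (hU.primeIdealOf ⟨ζ, hxU⟩).asIdeal
      (T i) (Q a ζ) D hD (h := h) (r := d) (s := r) (by rw [hht, hh]; rfl) hDdim (by omega) (hTd i) hUa
      fun p hp hp' => hmax p (by
        have := habc (pt p) ((mem_support_iff haζ p).1 hp') (hsuppT i p hp).1 (hsuppT i p hp).2 (hpt p)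
        omega)]
    refine finsum_congr fun p => ?_
    by_cases hp : D p = d
    swap
    · simp [Groth.Calg6.DevissageSum.F, hp]
    simp only [Groth.Calg6.DevissageSum.F, if_pos hp]
    congr 1
    have hDa : D pa = r := by
      have := hDδ pa
      rw [hpa] at this
      omega
    rw [finsum_eq_single _ pa fun q hq => ?_]
    · have hid : IntMult.stalkIdeal (IntMult.ptIdeal a) ζ = pa.asIdeal := Groth.Agent.S6470.stalkIdeal_ptIdeal haζ
      rw [if_pos hDa, Groth.MilnorKLambda.Per.lq_congr pa.asIdeal (Submodule.quotEquivOfEq _ _ hid),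
        Groth.MilnorKLambda.Per.lq_quot_self, ENat.toNat_one, Nat.cast_one, one_mul]
      show IntMult.chi A (A ⧸ pa.asIdeal) (A ⧸ p.asIdeal) = _
      exact (Groth.Calg6.Diag.intMult_chi_congr_left (Submodule.quotEquivOfEq _ _ hid) _).symm
    · split_ifs with hq'
      · rw [Groth.MilnorKLambda.Per.lq_eq_zero_of_notMem]
        · simp
        · intro hm
          have h1 := (mem_support_iff haζ q).1 hm
          refine hq (hptinj (hpa.symm ▸ ?_))
          by_contra hne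
          have := (hX.2.2 a (pt q) h1 fun e => hne e.symm).1
          have := hDδ q
          omega
      · rfl
  obtain ⟨L, hL⟩ := Groth.CycInter.Euler.exists_tor_vanish (A := A)
  have hzero : ∀ i, L < i → ∀ e p, Groth.Calg6.DevissageSum.F D d e (T i) p = 0 := fun i hi e p => by
    haveI := hL (Q b ζ) (Q c ζ) i hi
    have : Groth.MilnorKLambda.Per.lq p.asIdeal (T i) = 0 :=
      Groth.MilnorKLambda.Per.lq_eq_zero_of_notMem _ (by rw [Module.support_eq_empty]; exact Set.notMem_empty _)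
    simp [Groth.Calg6.DevissageSum.F, this]
  rw [finsum_eq_sum_of_support_subset _ (s := Finset.range (L + 1)) fun i hi => ?_]
  swap
  · rw [Finset.coe_range, Set.mem_Iio]
    by_contra hc
    refine hi ?_
    dsimp only
    rw [hchi i, finsum_eq_zero_of_forall_eq_zero fun p => hzero i (by omega) cfun p, mul_zero]
  have hfin : ∀ i ∈ Finset.range (L + 1),
      (Function.support fun p => (-1 : ℤ) ^ i * Groth.Calg6.DevissageSum.F D d cfun (T i) p).Finite := fun i _ =>
    haveI : Module.Finite A (T i) := Groth.Calg7.Tor.finite_T (ModuleCat.of A (Q b ζ)) (ModuleCat.of A (Q c ζ)) i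
    (Groth.Calg6.DevissageSum.finite_support D d cfun hD (T i) (hTd i)).subset fun p hp => right_ne_zero_of_mul hp
  rw [Finset.sum_congr rfl fun i _ => by rw [hchi i, mul_finsum], ← finsum_sum_comm _ _ hfin]
  -- the points
  let G : X → ℤ := fun η => IntMult.interProd δ n (Set.indicator {b} 1) (Set.indicator {c} 1) η *
      (if a ⤳ ζ ∧ η ⤳ ζ ∧ δ a + δ η - n = δ ζ then
        IntMult.mult (IntMult.ptIdeal a) (IntMult.ptIdeal η) ζ else 0)
  trans ∑ᶠ η ∈ Set.range pt, G η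
  · refine finsum_congr fun η => ?_
    rw [finsum_eq_if]
    split_ifs with hη hη' hη'
    · simp only [G, if_pos hη]
    · exact absurd (Scheme.range_fromSpecStalk.ge hη.2.1) hη'
    · simp only [G, if_neg hη]
    · rw [mul_zero]
  rw [finsum_mem_range hptinj]
  refine finsum_congr fun p => ?_
  simp only [G]
  rw [interProd_single_single]
  by_cases hp : D p = d
  swap
  · have : ¬ (b ⤳ pt p ∧ c ⤳ pt p ∧ δ b + δ c - n = δ (pt p)) := fun h => hp (by
      have := hDδ p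
      have := h.2.2
      omega)
    simp [Groth.Calg6.DevissageSum.F, hp, this]
  have hδp : δ b + δ c - n = δ (pt p) := by
    have := hDδ p
    omega
  rw [if_pos (show a ⤳ ζ ∧ pt p ⤳ ζ ∧ δ a + δ (pt p) - n = δ ζ from ⟨haζ, hpt p, by omega⟩)]
  simp only [Groth.Calg6.DevissageSum.F, if_pos hp, ← mul_assoc]
  rw [← Finset.sum_mul]
  have hcp : cfun p = IntMult.mult (IntMult.ptIdeal a) (IntMult.ptIdeal (pt p)) ζ := by
    rw [IntMult.mult, Groth.Agent.S6470.stalkIdeal_ptIdeal (hpt p), Groth.Cycles.genPrime_fromSpecStalk p (hpt p),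
      Groth.Calg6.Diag.intMult_chi_symm]
  rw [← hcp]
  congr 1
  by_cases hbp : b ⤳ pt p ∧ c ⤳ pt p
  swap
  · rw [if_neg (fun h => hbp ⟨h.1, h.2.1⟩)]
    refine (Finset.sum_eq_zero fun i _ => ?_).symm
    rw [Groth.MilnorKLambda.Per.lq_eq_zero_of_notMem _ fun hm => hbp (hsuppT i p hm)]
    simp
  rw [if_pos ⟨hbp.1, hbp.2, hδp⟩, IntMult.mult, Groth.Calg6.Diag.intMult_chi_symm,
    Groth.Calg6.ClosedImmStalk.stalkIdeal_gen (IntMult.ptIdeal b) (hpt p),
    Groth.Calg6.ClosedImmStalk.stalkIdeal_gen (IntMult.ptIdeal c) (hpt p)]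
  letI := (X.presheaf.stalkSpecializes (hpt p)).hom.toAlgebra
  haveI : IsLocalization.AtPrime (X.presheaf.stalk (pt p)) p.asIdeal := by
    have := Groth.Cycles.isLocalization_stalkSpecializes (hpt p)
    rwa [Groth.Cycles.genPrime_fromSpecStalk p (hpt p)] at this
  refine Eq.trans (Groth.CycInter.TorLocal.chi_localization A (X.presheaf.stalk (pt p)) p.asIdeal
    (IntMult.stalkIdeal (IntMult.ptIdeal b) ζ) (IntMult.stalkIdeal (IntMult.ptIdeal c) ζ)) ?_
  refine finsum_eq_sum_of_support_subset _ fun i hi => ?_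
  rw [Finset.coe_range, Set.mem_Iio]
  by_contra hc
  haveI := hL (Q b ζ) (Q c ζ) i (by omega)
  exact hi (by
    show (-1 : ℤ) ^ i * _ = 0
    rw [show Groth.MilnorKLambda.Per.lq p.asIdeal (T i) = 0 from
      Groth.MilnorKLambda.Per.lq_eq_zero_of_notMem _ (by rw [Module.support_eq_empty]; exact Set.notMem_empty _)]
    simp)

theorem triple {K : Type u} [Field K] (f : X ⟶ Spec (CommRingCat.of K)) [Smooth f] [IsIntegral X] {δ : X → ℤ}
    (hX : Cyc.IsSetup X δ) (hδ : Cyc.DeltaCompat f δ (fun _ => 0)) {n : ℤ} (hn : δ (genericPoint X) = n)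
    (a b c : X) (hbc : IntMult.IntersectProperly δ n (Set.indicator {b} 1) (Set.indicator {c} 1))
    (habc : ∀ ζ : X, a ⤳ ζ → b ⤳ ζ → c ⤳ ζ → δ ζ ≤ δ a + δ b + δ c - 2 * n) (ζ : X)
    [Decidable (a ⤳ ζ ∧ b ⤳ ζ ∧ c ⤳ ζ ∧ δ ζ = δ a + δ b + δ c - 2 * n)] :
    IntMult.interProd δ n (Set.indicator {a} 1)
        (IntMult.interProd δ n (Set.indicator {b} 1) (Set.indicator {c} 1)) ζ =
      if a ⤳ ζ ∧ b ⤳ ζ ∧ c ⤳ ζ ∧ δ ζ = δ a + δ b + δ c - 2 * n then
        ∑ᶠ i : ℕ, (-1 : ℤ) ^ i * IntMult.chi (X.presheaf.stalk ζ)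
          (DRing.Tor (X.presheaf.stalk ζ) i (Q b ζ) (Q c ζ)) (Q a ζ)
      else 0 :=
  triple' f hX hδ hn a b c ζ
    (fun p h1 h2 _ => hbc b c p (by rw [Set.indicator_of_mem (Set.mem_singleton _)]; exact one_ne_zero)
      (by rw [Set.indicator_of_mem (Set.mem_singleton _)]; exact one_ne_zero) h1 h2)
    fun p h1 h2 h3 _ => habc p h1 h2 h3

/-- Associativity of the product of three prime cycles at a point, with hypotheses at its generisations only. -/
theorem assoc_at {K : Type u} [Field K] (f : X ⟶ Spec (CommRingCat.of K)) [Smooth f] [IsIntegral X] {δ : X → ℤ}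
    (hX : Cyc.IsSetup X δ) (hδ : Cyc.DeltaCompat f δ (fun _ => 0)) {n : ℤ} (hn : δ (genericPoint X) = n)
    (a b c ζ : X) (hbc : ∀ p : X, b ⤳ p → c ⤳ p → p ⤳ ζ → δ p ≤ δ b + δ c - n)
    (hba : ∀ p : X, b ⤳ p → a ⤳ p → p ⤳ ζ → δ p ≤ δ b + δ a - n)
    (habc : ∀ p : X, a ⤳ p → b ⤳ p → c ⤳ p → p ⤳ ζ → δ p ≤ δ a + δ b + δ c - 2 * n) :
    IntMult.interProd δ n (Set.indicator {a} 1)
        (IntMult.interProd δ n (Set.indicator {b} 1) (Set.indicator {c} 1)) ζ =
      IntMult.interProd δ n (Set.indicator {c} 1)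
        (IntMult.interProd δ n (Set.indicator {b} 1) (Set.indicator {a} 1)) ζ := by
  classical
  rw [triple' f hX hδ hn a b c ζ hbc habc, triple' f hX hδ hn c b a ζ hba
    (fun p h1 h2 h3 h4 => by have := habc p h3 h2 h1 h4; omega)]
  by_cases h : a ⤳ ζ ∧ b ⤳ ζ ∧ c ⤳ ζ ∧ δ ζ = δ a + δ b + δ c - 2 * n
  · rw [if_pos h, if_pos ⟨h.2.2.1, h.2.1, h.1, by omega⟩]
    obtain ⟨hU, hV, hW, hd⟩ := h
    letI : X.Over (Spec (CommRingCat.of K)) := ⟨f⟩
    haveI : Smooth (X ↘ Spec (CommRingCat.of K)) := inferInstanceAs (Smooth f)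
    haveI : IsRegularLocalRing (X.presheaf.stalk ζ) :=
      Groth.VarietyBC.isRegularLocalRing_of_mem_smoothLocus (k := K) (by
        rw [Scheme.Hom.smoothLocus_eq_top]; trivial)
    refine Groth.CycInter.Euler.chi_assoc _ _ _ fun p hpV hpW hpU => ?_
    have e1 := (mem_support_iff hV p).1 hpV
    have e2 := (mem_support_iff hW p).1 hpW
    have e3 := (mem_support_iff hU p).1 hpU
    have hs : X.fromSpecStalk ζ p ⤳ ζ := Scheme.range_fromSpecStalk.le ⟨p, rfl⟩
    have hle := habc _ e3 e1 e2 hs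
    by_contra hne
    have hlt : p < IsLocalRing.closedPoint (X.presheaf.stalk ζ) :=
      lt_of_le_of_ne (IsLocalRing.le_maximalIdeal p.isPrime.ne_top) fun e => hne (congrArg PrimeSpectrum.asIdeal e)
    have hne' : X.fromSpecStalk ζ p ≠ ζ := fun e => hlt.ne
      ((X.fromSpecStalk ζ).isEmbedding.injective (e.trans Scheme.fromSpecStalk_closedPoint.symm))
    have := (hX.2.2 (X.fromSpecStalk ζ p) ζ hs hne').1
    omega
  · rw [if_neg h, if_neg fun h' => h ⟨h'.2.2.1, h'.2.1, h'.1, by omega⟩]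

end Groth.CycInter.Assoc
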