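import Groth.Agent.CycInter.DvrModel
import Groth.Agent.Cycles.PushDiv
import Groth.Agent.Cycles.PullPush
import Groth.Agent.Cycles.PushC1
import Groth.Agent.Cycles.FlatFam

/-!
Specialization commutes with proper pushforward.
-/

universe u

set_option autoImplicit false

open CategoryTheory CategoryTheory.Limits AlgebraicGeometry IsLocalRing
open Groth.RefRank Groth.Cycles Groth.Variety2.Dim

namespace Groth.CycInter.Dvr

variable {R : Type u} [CommRing R] [IsDomain R] [IsDiscreteValuationRing R] {X Y : Scheme.{u}}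
  (b : Y ⟶ Spec (CommRingCat.of R)) (f : X ⟶ Y)

theorem piGerm_comp (x : X) : piGerm (f ≫ b) x = (f.stalkMap x).hom (piGerm b (f x)) := by
  unfold piGerm
  rw [Scheme.Hom.stalkMap_comp]
  rfl

theorem piX_comp (x : X) : piX (f ≫ b) x = (f.residueFieldMap x).hom (piX b (f x)) := by
  rw [piX, piGerm_comp, piX, ← CommRingCat.comp_apply, ← CommRingCat.comp_apply,
    Scheme.residue_residueFieldMap]

theorem deltaCompat_of_comp {δX : X → ℤ} {δY : Y → ℤ} {Z : Scheme.{u}} {g : Y ⟶ Z} {δZ : Z → ℤ}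
    (hX : Cyc.DeltaCompat (f ≫ g) δX δZ) (hY : Cyc.DeltaCompat g δY δZ) : Cyc.DeltaCompat f δX δY := by
  intro x
  obtain ⟨n, hn, hn'⟩ := hX x
  obtain ⟨m, hm, hm'⟩ := hY (f x)
  have hn2 : relTrdeg (f ≫ g) x = (n : Cardinal.{u}) := hn
  have hm2 : relTrdeg g (f x) = (m : Cardinal.{u}) := hm
  rw [relTrdeg_comp_add, hm2] at hn2
  have hlt : relTrdeg f x < Cardinal.aleph0 :=
    lt_of_le_of_lt (le_add_self.trans hn2.le) (Cardinal.natCast_lt_aleph0 (n := n))
  obtain ⟨k, hk⟩ := Cardinal.lt_aleph0.mp hlt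
  rw [hk] at hn2
  have hnat : m + k = n := by exact_mod_cast hn2
  refine ⟨k, hk, ?_⟩
  rw [hn', hm', Scheme.Hom.comp_apply, ← hnat]
  push_cast
  ring

theorem residueDegree_preimmersion {W V : Scheme.{u}} (i : W ⟶ V) [IsPreimmersion i] (w : W) :
    i.residueDegree w = 1 :=
  letI := (i.residueFieldMap w).hom.toAlgebra
  (LinearEquiv.ofBijective (Algebra.linearMap (V.residueField (i w)) (W.residueField w))
    (residueFieldMap_bijective i w)).finrank_eq.symm.trans (Module.finrank_self _)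

theorem residueDegree_sq {W V : Scheme.{u}} (g : W ⟶ V) (i : W ⟶ X) [IsPreimmersion i] (j : V ⟶ Y)
    [IsPreimmersion j] (h : g ≫ j = i ≫ f) (w : W) : g.residueDegree w = f.residueDegree (i w) := by
  have := congrArg (fun q => Scheme.Hom.residueDegree q w) h
  simpa only [residueDegree_comp, residueDegree_preimmersion, one_mul, mul_one] using this

theorem mapCoeff_fibre [LocallyOfFiniteType b] [LocallyOfFiniteType f] {δX : X → ℤ} {δY : Y → ℤ}
    (hX : Cyc.DeltaCompat (f ≫ b) δX (δ₀ R)) (hY : Cyc.DeltaCompat b δY (δ₀ R))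
    (t : Spec (CommRingCat.of R)) {δXt : ↥((f ≫ b).fiber t) → ℤ} {δYt : ↥(b.fiber t) → ℤ}
    (hXt : Cyc.DeltaCompat ((f ≫ b).fiberToSpecResidueField t) δXt (fun _ => 0))
    (hYt : Cyc.DeltaCompat (b.fiberToSpecResidueField t) δYt (fun _ => 0))
    (g : (f ≫ b).fiber t ⟶ b.fiber t) (hg : g ≫ b.fiberι t = (f ≫ b).fiberι t ≫ f) (ζ : (f ≫ b).fiber t) :
    AlgebraicCycle.mapCoeff g δXt δYt ζ = AlgebraicCycle.mapCoeff f δX δY ((f ≫ b).fiberι t ζ) := by
  have h : f ((f ≫ b).fiberι t ζ) = b.fiberι t (g ζ) := by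
    rw [← Scheme.Hom.comp_apply, ← hg, Scheme.Hom.comp_apply]
  have e : δX ((f ≫ b).fiberι t ζ) = δY (f ((f ≫ b).fiberι t ζ)) ↔ δXt ζ = δYt (g ζ) := by
    rw [h, delta_fiber (f ≫ b) hX _ hXt, delta_fiber b hY _ hYt, add_right_inj]
  simp only [AlgebraicCycle.mapCoeff, residueDegree_sq f g ((f ≫ b).fiberι t) (b.fiberι t) hg ζ, e]

theorem mem_range_fiberι_comp {t : Spec (CommRingCat.of R)} {x : X} {y : b.fiber t}
    (h : f x = b.fiberι t y) : x ∈ Set.range ((f ≫ b).fiberι t) := by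
  refine mem_range_fiberι (f ≫ b) ?_
  rw [Scheme.Hom.comp_apply, h, Groth.FibreDim.apply_fiberι]

/-- Specialization commutes with proper pushforward. -/
theorem spFun_map [LocallyOfFiniteType b] [IsProper f] {δXη : ↥((f ≫ b).fiber (eta R)) → ℤ}
    {δXs : ↥((f ≫ b).fiber (closedPoint R)) → ℤ} {δYη : ↥(b.fiber (eta R)) → ℤ}
    {δYs : ↥(b.fiber (closedPoint R)) → ℤ}
    (hXη : Cyc.DeltaCompat ((f ≫ b).fiberToSpecResidueField (eta R)) δXη (fun _ => 0))
    (hXs : Cyc.DeltaCompat ((f ≫ b).fiberToSpecResidueField (closedPoint R)) δXs (fun _ => 0))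
    (hYη : Cyc.DeltaCompat (b.fiberToSpecResidueField (eta R)) δYη (fun _ => 0))
    (hYs : Cyc.DeltaCompat (b.fiberToSpecResidueField (closedPoint R)) δYs (fun _ => 0))
    (fη : (f ≫ b).fiber (eta R) ⟶ b.fiber (eta R)) [QuasiCompact fη]
    (hfη : fη ≫ b.fiberι (eta R) = (f ≫ b).fiberι (eta R) ≫ f)
    (fs : (f ≫ b).fiber (closedPoint R) ⟶ b.fiber (closedPoint R)) [QuasiCompact fs]
    (hfs : fs ≫ b.fiberι (closedPoint R) = (f ≫ b).fiberι (closedPoint R) ≫ f) (r : ℤ)
    (α : AlgebraicCycle ((f ≫ b).fiber (eta R)) ℤ) (hα : ∀ ζ, δXη ζ ≠ r → α ζ = 0)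
    (β : AlgebraicCycle ((f ≫ b).fiber (closedPoint R)) ℤ)
    (hβ : ⇑β = Cyc.spFun (f ≫ b) (eta R) (closedPoint R) δXη δXs r ⇑α) :
    Cyc.spFun b (eta R) (closedPoint R) δYη δYs r ⇑(AlgebraicCycle.map fη δXη δYη α) =
      ⇑(AlgebraicCycle.map fs δXs δYs β) := by
  classical
  obtain ⟨δX, hδX, hX⟩ := exists_model (f ≫ b)
  obtain ⟨δY, hδY, hY⟩ := exists_model b
  have hf := deltaCompat_of_comp f hδX hδY
  have := hX.1
  have := hY.1
  set ιη := (f ≫ b).fiberι (eta R) with hιη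
  set ιs := (f ≫ b).fiberι (closedPoint R) with hιs
  set jη := b.fiberι (eta R) with hjη
  set js := b.fiberι (closedPoint R) with hjs
  funext y
  by_cases hy : δYs y = r
  swap
  · rw [Cyc.spFun, if_neg hy, map_apply_eq_sum fs δXs δYs β y
      (finite_preimage_inter_support fs β y).toFinset (fun x hx h => by simp [hx, h])]
    refine (Finset.sum_eq_zero fun x _ => ?_).symm
    split_ifs with hx
    · by_cases hr : δXs x = r
      · simp [AlgebraicCycle.mapCoeff, hx, hr, Ne.symm hy]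
      · rw [hβ, Cyc.spFun, if_neg hr, zero_mul]
    · rfl
  set M := AlgebraicCycle.map fη δXη δYη α with hM
  obtain ⟨_, ⟨V, hV, rfl⟩, hyV, -⟩ :=
    Y.isBasis_affineOpens.exists_subset_of_mem_open (Set.mem_univ (js y)) isOpen_univ
  haveI : IsAffineHom ((Spec (CommRingCat.of R)).fromSpecResidueField (eta R)) := inferInstance
  haveI : QuasiCompact ιη := MorphismProperty.pullback_fst _ _ inferInstance
  have hfin : {ζ | f (ιη ζ) ∈ V ∧ α ζ ≠ 0}.Finite :=
    (α.locallyFiniteSupport.finite_inter_support_of_isCompact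
      (ιη.isCompact_preimage (f.isCompact_preimage hV.isCompact))).subset fun ζ hζ => ⟨hζ.1, hζ.2⟩
  set I := hfin.toFinset with hI
  have hsq : ∀ ζ, f (ιη ζ) = jη (fη ζ) := fun ζ => by rw [← Scheme.Hom.comp_apply, ← hfη, Scheme.Hom.comp_apply]
  have hsqs : ∀ x, f (ιs x) = js (fs x) := fun x => by rw [← Scheme.Hom.comp_apply, ← hfs, Scheme.Hom.comp_apply]
  set D : Y → ℤ := fun η' => Cyc.divFun δY η' (piX b η') (js y) with hD
  -- the left hand side
  have hL : Cyc.spFun b (eta R) (closedPoint R) δYη δYs r ⇑M y =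
      ∑ ζ ∈ I, α ζ * (AlgebraicCycle.mapCoeff fη δXη δYη ζ : ℤ) * D (jη (fη ζ)) := by
    set G : Y → ℤ := Function.extend jη (fun ζ => if δYη ζ = r then M ζ else 0) 0 with hG
    rw [spFun_eq b hY hδY hYη hYs r _ G (fun ζ hζ => by
        rw [hG, jη.isEmbedding.injective.extend_apply, if_pos hζ]) (fun ξ hξ => ?_) (piX b) (fun _ _ => rfl) y hy]
    swap
    · by_cases hr : ∃ ζ, jη ζ = ξ
      · obtain ⟨ζ, rfl⟩ := hr
        rw [hG, jη.isEmbedding.injective.extend_apply] at hξ
        refine ⟨Groth.FibreDim.apply_fiberι b _ ζ, ?_⟩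
        rw [hjη, delta_fiber b hδY _ hYη, δ₀_eta, by_contra fun h => hξ (if_neg h), add_comm]
      · exact absurd (Function.extend_apply' _ _ _ hr) hξ
    have hMeq : ∀ ζ', jη ζ' ∈ V → M ζ' =
        ∑ ζ ∈ I, if fη ζ = ζ' then α ζ * (AlgebraicCycle.mapCoeff fη δXη δYη ζ : ℤ) else 0 := fun ζ' hV' =>
      map_apply_eq_sum fη δXη δYη α ζ' I fun ζ hζ h => hfin.mem_toFinset.mpr ⟨by rw [hsq, hζ]; exact hV', h⟩
    rw [finsum_eq_sum_of_support_subset _ (s := I.image fun ζ => jη (fη ζ)) ?_]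
    · rw [← Finset.sum_fiberwise_of_maps_to (s := I) (t := I.image fun ζ => jη (fη ζ))
        (g := fun ζ => jη (fη ζ)) (fun ζ hζ => Finset.mem_image_of_mem _ hζ)]
      refine Finset.sum_congr rfl fun η' hη' => ?_
      obtain ⟨ζ₀, hζ₀, rfl⟩ := Finset.mem_image.mp hη'
      have hV' : jη (fη ζ₀) ∈ V := by rw [← hsq]; exact (hfin.mem_toFinset.mp hζ₀).1
      rw [Finset.sum_filter, hG, jη.isEmbedding.injective.extend_apply, hMeq _ hV']
      show (if _ then _ else _) * D (jη (fη ζ₀)) = _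
      split_ifs with hr
      · rw [Finset.sum_mul]
        refine Finset.sum_congr rfl fun ζ _ => ?_
        by_cases e : fη ζ = fη ζ₀
        · rw [if_pos e, if_pos (congrArg jη e), e]
        · rw [if_neg e, if_neg fun e' => e (jη.isEmbedding.injective e'), zero_mul]
      · rw [zero_mul]
        refine (Finset.sum_eq_zero fun ζ _ => ?_).symm
        split_ifs with e
        · by_cases hrζ : δXη ζ = r
          · have : δXη ζ ≠ δYη (fη ζ) := by
              rw [jη.isEmbedding.injective e, hrζ]; exact Ne.symm hr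
            rw [AlgebraicCycle.mapCoeff, if_neg this]
            simp
          · rw [hα ζ hrζ]; simp
        · rfl
    · intro η' hη'
      have hsp : η' ⤳ js y := by_contra fun hn => right_ne_zero_of_mul hη' (divFun_of_not_specializes _ hn)
      have hV' : η' ∈ V := hsp.mem_open V.isOpen hyV
      have hG' := left_ne_zero_of_mul hη'
      by_cases hr : ∃ ζ, jη ζ = η'
      · obtain ⟨ζ', rfl⟩ := hr
        rw [hG, jη.isEmbedding.injective.extend_apply] at hG'
        have hne : M ζ' ≠ 0 := fun h => hG' (by rw [h]; exact ite_self _)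
        rw [hMeq ζ' hV'] at hne
        obtain ⟨ζ, hζ, hne'⟩ := Finset.exists_ne_zero_of_sum_ne_zero hne
        refine Finset.mem_coe.mpr (Finset.mem_image.mpr ⟨ζ, hζ, congrArg jη ?_⟩)
        exact by_contra fun h => hne' (if_neg h)
      · exact absurd (Function.extend_apply' _ _ _ hr) hG'
  -- the pushforward of the divisors
  choose γ hγ hγe hγn using fun ζ : (f ≫ b).fiber (eta R) => exists_push_divFun δX δY hX hY f hf (ιη ζ) (piX (f ≫ b) (ιη ζ))
    (piX_ne_zero (f ≫ b) (Groth.FibreDim.apply_fiberι (f ≫ b) _ ζ))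
  have hpush : ∀ ζ, AlgebraicCycle.map f δX δY (γ ζ) (js y) =
      (AlgebraicCycle.mapCoeff fη δXη δYη ζ : ℤ) * D (jη (fη ζ)) := by
    intro ζ
    rw [mapCoeff_fibre b f hδX hδY (eta R) hXη hYη fη hfη ζ, ← hsq, AlgebraicCycle.mapCoeff]
    split_ifs with he
    · rw [(hγe ζ he).2]
      rw [show piX (f ≫ b) (ιη ζ) = (f.residueFieldMap (ιη ζ)).hom (piX b (f (ιη ζ))) from piX_comp b f _,
        normGen_residueFieldMap, divFun_pow]
      exact piX_ne_zero b ((Scheme.Hom.comp_apply f b _).symm.trans (Groth.FibreDim.apply_fiberι (f ≫ b) _ ζ))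
    · rw [hγn ζ he]
      simp
  -- the right hand side
  set T := (finite_preimage_inter_support fs β y).toFinset ∪
    I.biUnion fun ζ => ((finite_preimage_inter_support f (γ ζ) (js y)).preimage
      (f := ιs) ιs.isEmbedding.injective.injOn).toFinset with hT
  have hR : AlgebraicCycle.map fs δXs δYs β y =
      ∑ ζ ∈ I, α ζ * AlgebraicCycle.map f δX δY (γ ζ) (js y) := by
    rw [map_apply_eq_sum fs δXs δYs β y T fun x hx h => Finset.mem_union_left _ (by simp [hx, h])]
    have e : ∀ ζ ∈ I, AlgebraicCycle.map f δX δY (γ ζ) (js y) =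
        ∑ x ∈ T, if fs x = y then γ ζ (ιs x) * (AlgebraicCycle.mapCoeff fs δXs δYs x : ℤ) else 0 := by
      intro ζ hζ
      rw [map_apply_eq_sum f δX δY (γ ζ) (js y) (T.image ιs) fun x' hx' h => ?_,
        Finset.sum_image ιs.isEmbedding.injective.injOn]
      · refine Finset.sum_congr rfl fun x _ => ?_
        rw [mapCoeff_fibre b f hδX hδY (closedPoint R) hXs hYs fs hfs x]
        refine if_congr ⟨fun h => ?_, fun h => ?_⟩ rfl rfl
        · exact js.isEmbedding.injective ((hsqs x).symm.trans h)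
        · rw [hsqs, h]
      · obtain ⟨x, rfl⟩ := mem_range_fiberι_comp b f hx'
        exact Finset.mem_image.mpr ⟨x, Finset.mem_union_right _ (Finset.mem_biUnion.mpr
          ⟨ζ, hζ, (Set.Finite.mem_toFinset _).mpr ⟨hx', h⟩⟩), rfl⟩
    rw [Finset.sum_congr (s₁ := I) rfl fun ζ hζ => (congrArg (α ζ * ·) (e ζ hζ)).trans (Finset.mul_sum _ _ _),
      Finset.sum_comm]
    refine Finset.sum_congr rfl fun x _ => ?_
    split_ifs with hx
    swap
    · simp
    by_cases hr : δXs x = r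
    swap
    · simp [AlgebraicCycle.mapCoeff, hx, hy, hr]
    simp only [← mul_assoc]
    rw [← Finset.sum_mul]
    congr 1
    rw [hβ, spFun_eq (f ≫ b) hX hδX hXη hXs r _ (Function.extend ιη (⇑α) 0)
      (fun ζ _ => ιη.isEmbedding.injective.extend_apply _ _ _) (fun ξ hξ => ?_) (piX (f ≫ b)) (fun _ _ => rfl) x hr]
    · rw [finsum_eq_sum_of_support_subset _ (s := I.image ιη) ?_, Finset.sum_image ιη.isEmbedding.injective.injOn]
      · refine Finset.sum_congr rfl fun ζ _ => ?_
        rw [ιη.isEmbedding.injective.extend_apply, hγ]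
      · intro ξ hξ
        have hsp : ξ ⤳ ιs x := by_contra fun hn => right_ne_zero_of_mul hξ (divFun_of_not_specializes _ hn)
        by_cases hr' : ∃ ζ, ιη ζ = ξ
        · obtain ⟨ζ, rfl⟩ := hr'
          have hne := left_ne_zero_of_mul hξ
          rw [ιη.isEmbedding.injective.extend_apply] at hne
          refine Finset.mem_coe.mpr (Finset.mem_image_of_mem _ (hfin.mem_toFinset.mpr ⟨?_, hne⟩))
          exact (hsp.map f.continuous).mem_open V.isOpen (by rw [hsqs, hx]; exact hyV)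
        · exact absurd (Function.extend_apply' _ _ _ hr') (left_ne_zero_of_mul hξ)
    · by_cases hr' : ∃ ζ, ιη ζ = ξ
      · obtain ⟨ζ, rfl⟩ := hr'
        rw [ιη.isEmbedding.injective.extend_apply] at hξ
        refine ⟨Groth.FibreDim.apply_fiberι (f ≫ b) _ ζ, ?_⟩
        rw [hιη, delta_fiber (f ≫ b) hδX _ hXη, δ₀_eta, by_contra fun h => hξ (hα ζ h), add_comm]
      · exact absurd (Function.extend_apply' _ _ _ hr') hξ
  rw [hL, hR]
  refine Finset.sum_congr rfl fun ζ _ => ?_
  rw [hpush, mul_assoc]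

end Groth.CycInter.Dvr
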