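import Groth.Agent.CycInter.P1Div
import Groth.Agent.Cycles.PushDiv
import Groth.Agent.Cycles.DimFunLft
import Groth.Agent.EGA43Topo.JacobsonDim

/-!
The fibres at zero and infinity of an integral closed subscheme of the projective line over `X`.
-/

universe u

set_option autoImplicit false

open CategoryTheory CategoryTheory.Limits AlgebraicGeometry
open Groth.RefRank Groth.Cycles Groth.Variety2.Dim

namespace Groth.CycInter.P1C

variable {X Y Z : Scheme.{u}} {δ : X → ℤ} {δY : Y → ℤ}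

theorem isSetup_of_lft (hX : Cyc.IsSetup X δ) (q : Y ⟶ X) [LocallyOfFiniteType q]
    (hδ : Cyc.DeltaCompat q δY δ) : Cyc.IsSetup Y δY :=
  have := hX.1
  ⟨LocallyOfFiniteType.isLocallyNoetherian q,
    fun y => Groth.EGA43Topo.JacobsonDim.isUnivCat_stalk q y (hX.2.1 _),
    isDimFun_of_deltaCompat q hX hδ⟩

theorem deltaCompat_restrict_left (h : Z ⟶ Y) [IsPreimmersion h] (q : Y ⟶ X) (hδ : Cyc.DeltaCompat q δY δ) :
    Cyc.DeltaCompat (h ≫ q) (fun z => δY (h z)) δ := by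
  have := deltaCompat_restrict q hδ h (𝟙 X) (h ≫ q) (Category.comp_id _)
  exact this

theorem delta_eq_of_closedImm_comp (p : Y ⟶ X) (hδ : Cyc.DeltaCompat p δY δ) (j : Z ⟶ Y)
    [IsPreimmersion (j ≫ p)] (z : Z) :
    δY (j z) = δ (p (j z)) ∧ p.residueDegree (j z) = 1 := by
  have hsurj : Function.Surjective (p.residueFieldMap (j z)) := by
    intro b
    obtain ⟨a, ha⟩ := residueFieldMap_surjective (j ≫ p) z ((j.residueFieldMap z) b)
    refine ⟨a, (j.residueFieldMap z).hom.injective ?_⟩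
    rw [Scheme.residueFieldMap_comp] at ha
    exact ha
  refine ⟨?_, ?_⟩
  · obtain ⟨n, hn, hn'⟩ := hδ (j z)
    have h0 : relTrdeg p (j z) = 0 := relTrdeg_eq_zero_of_surjective p (j z) hsurj
    have hn0 : (n : Cardinal.{u}) = 0 := hn.symm.trans h0
    rw [hn', show n = 0 by exact_mod_cast hn0]
    simp
  · letI := (p.residueFieldMap (j z)).hom.toAlgebra
    exact (LinearEquiv.ofBijective (Algebra.linearMap (X.residueField (p (j z))) (Y.residueField (j z)))
      ⟨(p.residueFieldMap (j z)).hom.injective, hsurj⟩).finrank_eq.symm.trans (Module.finrank_self _)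

theorem map_subscheme (p : Y ⟶ X) [QuasiCompact p] (hδ : Cyc.DeltaCompat p δY δ) (j : Z ⟶ Y)
    [IsClosedImmersion j] (q : Z ⟶ X) (hq : j ≫ p = q) [IsClosedImmersion q] (k : ℤ) (α : AlgebraicCycle Y ℤ)
    (hα : ⇑α = Cyc.subschemeFun δY k j) :
    ⇑(AlgebraicCycle.map p δY δ α) = Cyc.subschemeFun δ k q := by
  classical
  subst hq
  funext x
  by_cases hx : x ∈ Set.range (j ≫ p)
  · obtain ⟨z, rfl⟩ := hx
    obtain ⟨hd, hr⟩ := delta_eq_of_closedImm_comp p hδ j z
    rw [map_apply_eq_sum p δY δ α _ {j z} (fun y hy hne => ?_), Finset.sum_singleton,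
      if_pos (Scheme.Hom.comp_apply j p z).symm, hα, AlgebraicCycle.mapCoeff, if_pos (by exact hd),
      hr, Nat.cast_one, mul_one, Groth.Calg6.ClosedImmStalk.subschemeFun_eq δY k j z,
      Groth.Calg6.ClosedImmStalk.subschemeFun_eq δ k (j ≫ p) z]
    · rw [Scheme.Hom.comp_apply, hd]
    · rw [hα] at hne
      obtain ⟨-, z', rfl⟩ := Groth.Calg6.ClosedImmStalk.exists_of_subschemeFun_ne_zero _ _ _ _ hne
      rw [Finset.mem_singleton, (j ≫ p).isClosedEmbedding.injective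
        ((Scheme.Hom.comp_apply j p z').trans hy)]
  · rw [map_apply_eq_sum p δY δ α x ∅ (fun y hy hne => ?_), Finset.sum_empty]
    · by_contra hne
      obtain ⟨-, hz⟩ := Groth.Calg6.ClosedImmStalk.exists_of_subschemeFun_ne_zero _ _ _ _ (Ne.symm hne)
      exact hx hz
    · rw [hα] at hne
      obtain ⟨-, z', rfl⟩ := Groth.Calg6.ClosedImmStalk.exists_of_subschemeFun_ne_zero _ _ _ _ hne
      exact absurd ⟨z', (Scheme.Hom.comp_apply j p z').trans hy⟩ hx

/-- The two fibres of an integral closed subscheme of the projective line as cycles. -/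
theorem exists_fibre_cycles (hX : Cyc.IsSetup X δ) {δP : ↥(CohB1.ProjSpaceOver 1 X) → ℤ}
    (hP : Cyc.DeltaCompat (CohB1.ProjSpaceOver.toBase 1 X) δP δ) {W : Scheme.{u}} [IsIntegral W]
    (ι : W ⟶ CohB1.ProjSpaceOver 1 X) [IsClosedImmersion ι] {n : ℤ} (hn : δP (ι (genericPoint W)) = n)
    (h0 : ι (genericPoint W) ∈ C X 0) (h1 : ι (genericPoint W) ∈ C X (oth 0)) :
    ∃ α β : AlgebraicCycle W ℤ,
      ⇑α = Cyc.subschemeFun (fun w => δP (ι w)) (n - 1) (pullback.fst ι (P1.sect X 0)) ∧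
      ⇑β = Cyc.subschemeFun (fun w => δP (ι w)) (n - 1) (pullback.fst ι (P1.sect X (oth 0))) ∧
      Cyc.RatEquiv (fun w => δP (ι w)) (n - 1) α β ∧
      ⇑(AlgebraicCycle.map (ι ≫ CohB1.ProjSpaceOver.toBase 1 X) (fun w => δP (ι w)) δ α) =
        Cyc.subschemeFun δ (n - 1) (pullback.snd ι (P1.sect X 0)) ∧
      ⇑(AlgebraicCycle.map (ι ≫ CohB1.ProjSpaceOver.toBase 1 X) (fun w => δP (ι w)) δ β) =
        Cyc.subschemeFun δ (n - 1) (pullback.snd ι (P1.sect X (oth 0))) := by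
  haveI : IsProper (CohB1.ProjSpaceOver.toBase 1 X) := Groth.Variety2.isProper_projSpaceOver_toBase _ _
  set p := ι ≫ CohB1.ProjSpaceOver.toBase 1 X with hp
  set δW := fun w => δP (ι w) with hδW
  have hδ : Cyc.DeltaCompat p δW δ := deltaCompat_restrict_left ι _ hP
  have hW : Cyc.IsSetup W δW := isSetup_of_lft hX p hδ
  have hdiv := divFun_ratT ι hW (n := n) hn 0 h0 h1
  obtain ⟨γ, hγ⟩ := exists_cycle_eq_divFun hW (genericPoint W) rfl (ratT ι 0 h0)
    (left_ne_zero_of_mul_eq_one (ratT_mul ι 0 h0 h1))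
  have hsub : ∀ i : Fin (1 + 1), Function.support (Cyc.subschemeFun δW (n - 1) (pullback.fst ι (P1.sect X i))) ⊆
      Function.support ⇑γ := by
    intro i w hw
    obtain ⟨-, z, hz⟩ := Groth.Calg6.ClosedImmStalk.exists_of_subschemeFun_ne_zero _ _ _ _ hw
    have hni : ι w ∉ C X (oth i) := fun hc => notMem_range_fst ι i hc ⟨z, hz⟩
    have hoth : Cyc.subschemeFun δW (n - 1) (pullback.fst ι (P1.sect X (oth i))) w = 0 :=
      subschemeFun_fst_of_notMem ι δW (n - 1) (oth i)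
        (by rw [oth_oth]; exact (mem_C_or X (ι w) i).resolve_right hni)
    rw [Function.mem_support] at hw ⊢
    rw [hγ, hdiv]
    rcases eq_or_ne i 0 with rfl | hi
    · dsimp only; rw [hoth, sub_zero]; exact hw
    · obtain rfl : i = oth 0 := by revert hi; fin_cases i <;> simp <;> rfl
      rw [oth_oth] at hoth
      dsimp only; rw [hoth, zero_sub]; exact neg_ne_zero.mpr hw
  let cyc : Fin (1 + 1) → AlgebraicCycle W ℤ := fun i =>
    ⟨Cyc.subschemeFun δW (n - 1) (pullback.fst ι (P1.sect X i)), Set.subset_univ _, fun w hw => by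
      obtain ⟨t, ht, hfin⟩ := γ.supportLocallyFiniteWithinDomain' w hw
      exact ⟨t, ht, hfin.subset (Set.inter_subset_inter_right _ (hsub i))⟩⟩
  have hfst : ∀ i : Fin (1 + 1), pullback.fst ι (P1.sect X i) ≫ p = pullback.snd ι (P1.sect X i) := fun i => by
    rw [hp, ← Category.assoc, pullback.condition, Category.assoc, sect_toBase, Category.comp_id]
  refine ⟨cyc 0, cyc (oth 0), rfl, rfl, ?_, map_subscheme p hδ _ _ (hfst 0) _ _ rfl,
    map_subscheme p hδ _ _ (hfst (oth 0)) _ _ rfl⟩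
  refine ⟨PUnit, fun _ => genericPoint W, fun _ => ratT ι 0 h0, fun _ => ?_,
    fun _ => left_ne_zero_of_mul_eq_one (ratT_mul ι 0 h0 h1), fun w => ⟨Set.univ, isOpen_univ, trivial,
      Set.toFinite _⟩, fun w => ?_⟩
  · show δP (ι (genericPoint W)) = n - 1 + 1
    omega
  · rw [Function.locallyFinsuppWithin.coe_sub, Pi.sub_apply, finsum_unique, hdiv]
    rfl

theorem ratEquiv_fibres (hX : Cyc.IsSetup X δ) {δP : ↥(CohB1.ProjSpaceOver 1 X) → ℤ}
    (hP : Cyc.DeltaCompat (CohB1.ProjSpaceOver.toBase 1 X) δP δ) (k : ℤ) {W : Scheme.{u}} [IsIntegral W]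
    (ι : W ⟶ CohB1.ProjSpaceOver 1 X) [IsClosedImmersion ι] (hW : δP (ι (genericPoint W)) = k + 1)
    (h0 : ι (genericPoint W) ∉ Set.range ⇑(P1.sect X 0)) (h1 : ι (genericPoint W) ∉ Set.range ⇑(P1.sect X 1))
    (α β : AlgebraicCycle X ℤ) (hα : ⇑α = Cyc.subschemeFun δ k (pullback.snd ι (P1.sect X 0)))
    (hβ : ⇑β = Cyc.subschemeFun δ k (pullback.snd ι (P1.sect X 1))) : Cyc.RatEquiv δ k α β := by
  haveI : IsProper (CohB1.ProjSpaceOver.toBase 1 X) := Groth.Variety2.isProper_projSpaceOver_toBase _ _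
  rw [range_sect, Set.mem_setOf_eq, not_not] at h0 h1
  obtain ⟨a, b, -, -, hab, ha, hb⟩ := exists_fibre_cycles hX hP ι (n := k + 1) hW h1 h0
  rw [add_sub_cancel_right] at hab ha hb
  have hδ : Cyc.DeltaCompat (ι ≫ CohB1.ProjSpaceOver.toBase 1 X) (fun w => δP (ι w)) δ :=
    deltaCompat_restrict_left ι _ hP
  have h2 := ratEquivZero_map (fun w => δP (ι w)) δ (isSetup_of_lft hX _ hδ) hX
    (ι ≫ CohB1.ProjSpaceOver.toBase 1 X) hδ k (a - b) hab
  rw [map_sub'] at h2
  have ea : α = AlgebraicCycle.map (ι ≫ CohB1.ProjSpaceOver.toBase 1 X) (fun w => δP (ι w)) δ a :=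
    DFunLike.coe_injective (hα.trans ha.symm)
  have eb : β = AlgebraicCycle.map (ι ≫ CohB1.ProjSpaceOver.toBase 1 X) (fun w => δP (ι w)) δ b :=
    DFunLike.coe_injective (hβ.trans hb.symm)
  rw [Cyc.RatEquiv, ea, eb]
  exact h2

end Groth.CycInter.P1C
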