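import Groth.Prelude.Def_W4stkchowintpicEnv
import Groth.Agent.CycInter.P1Fibre
import Groth.Agent.Cycles.PushDiv
import Groth.Agent.Cycles.PushC1
import Groth.Agent.Cycles.Excision

/-!
The exact sequence of an envelope.
-/

universe u

set_option autoImplicit false

open CategoryTheory CategoryTheory.Limits AlgebraicGeometry
open Groth.RefRank Groth.Cycles Groth.Variety2.Dim

namespace Groth.CycInter.Env

variable {X Y : Scheme.{u}}

theorem divFun_congr {δ : X → ℤ} {ξ ξ' : X} (e : ξ' = ξ) (g : X.residueField ξ) :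
    Cyc.divFun δ ξ' ((X.residueFieldCongr e.symm).hom g) = Cyc.divFun δ ξ g := by
  subst e; simp

theorem residueDegree_eq_one (f : Y ⟶ X) (y : Y) (h : Function.Surjective (f.residueFieldMap y).hom) :
    f.residueDegree y = 1 :=
  letI := (f.residueFieldMap y).hom.toAlgebra
  (LinearEquiv.ofBijective (Algebra.linearMap (X.residueField (f y)) (Y.residueField y))
    ⟨(f.residueFieldMap y).hom.injective, h⟩).finrank_eq.symm.trans (Module.finrank_self _)

theorem delta_eq (f : Y ⟶ X) {δY : Y → ℤ} {δ : X → ℤ} (hδ : Cyc.DeltaCompat f δY δ) (y : Y)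
    (h : Function.Surjective (f.residueFieldMap y).hom) : δY y = δ (f y) := by
  obtain ⟨n, hn, hn'⟩ := hδ y
  have hn0 : (n : Cardinal.{u}) = 0 := hn.symm.trans (relTrdeg_eq_zero_of_surjective f y h)
  rw [hn', show n = 0 by exact_mod_cast hn0]
  simp

/-- A point of the self product over a point and the chosen lift of its image. -/
theorem exists_pair (f : Y ⟶ X) {δY : Y → ℤ} {δ2 : ↥(pullback f f) → ℤ}
    (hδ2 : Cyc.DeltaCompat (pullback.fst f f) δ2 δY) (y w : Y) (hw : f w = f y)
    (hsurj : Function.Surjective (f.residueFieldMap w).hom) :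
    ∃ z : ↥(pullback f f), pullback.fst f f z = y ∧ pullback.snd f f z = w ∧ δ2 z = δY y ∧
      (pullback.fst f f).residueDegree z = 1 ∧ (pullback.snd f f).residueDegree z = f.residueDegree y := by
  have hbij : Function.Bijective (f.residueFieldMap w).hom := ⟨(f.residueFieldMap w).hom.injective, hsurj⟩
  haveI : IsIso (f.residueFieldMap w) := (ConcreteCategory.isIso_iff_bijective _).mpr hbij
  let b : Spec (Y.residueField y) ⟶ Y :=
    Spec.map (inv (f.residueFieldMap w) ≫ (X.residueFieldCongr hw).hom ≫ f.residueFieldMap y) ≫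
      Y.fromSpecResidueField w
  have hb : Y.fromSpecResidueField y ≫ f = b ≫ f := by
    simp only [b, Category.assoc]
    rw [← Scheme.Hom.SpecMap_residueFieldMap_fromSpecResidueField (f := f) w, ← Category.assoc (Spec.map _),
      ← Spec.map_comp, IsIso.hom_inv_id_assoc, Spec.map_comp, Category.assoc,
      Scheme.residueFieldCongr_fromSpecResidueField, Scheme.Hom.SpecMap_residueFieldMap_fromSpecResidueField]
  let q : Spec (Y.residueField y) ⟶ pullback f f := pullback.lift (Y.fromSpecResidueField y) b hb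
  let p : Spec (Y.residueField y) := IsLocalRing.closedPoint _
  have h1 : pullback.fst f f (q p) = y := by
    rw [← Scheme.Hom.comp_apply, pullback.lift_fst, Scheme.fromSpecResidueField_apply]
  have h2 : pullback.snd f f (q p) = w := by
    rw [← Scheme.Hom.comp_apply, pullback.lift_snd]
    simp only [b, Scheme.Hom.comp_apply, Scheme.fromSpecResidueField_apply]
  haveI : IsPreimmersion (q ≫ pullback.fst f f) := by
    simp only [q, pullback.lift_fst]; infer_instance
  obtain ⟨hd, hr⟩ := P1C.delta_eq_of_closedImm_comp (pullback.fst f f) hδ2 q p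
  refine ⟨q p, h1, h2, hd.trans (by rw [h1]), hr, ?_⟩
  have h := congrArg (fun g : pullback f f ⟶ X => g.residueDegree (q p)) (pullback.condition (f := f) (g := f))
  simp only [residueDegree_comp, hr, h1, h2, residueDegree_eq_one f w hsurj, one_mul, mul_one] at h
  exact h.symm

/-- The kernel of the pushforward along an envelope comes from the self product, modulo rational equivalence. -/
theorem exists_ratEquiv_map_sub_map {δ : X → ℤ} {δY : Y → ℤ} (hX : Cyc.IsSetup X δ) (hY : Cyc.IsSetup Y δY)
    (f : Y ⟶ X) [IsProper f] (hcd : Cyc.IsCompletelyDecomposed f) (hδ : Cyc.DeltaCompat f δY δ)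
    {δ2 : ↥(pullback f f) → ℤ} (hδ2 : Cyc.DeltaCompat (pullback.fst f f) δ2 δY) (k : ℤ)
    (β : AlgebraicCycle Y ℤ) (hβ : β ∈ Cyc.Zk Y δY k)
    (h0 : Cyc.RatEquivZero δ k (AlgebraicCycle.map f δY δ β)) :
    ∃ γ : AlgebraicCycle (pullback f f) ℤ, γ ∈ Cyc.Zk (pullback f f) δ2 k ∧
      Cyc.RatEquiv δY k β (AlgebraicCycle.map (pullback.fst f f) δ2 δY γ -
        AlgebraicCycle.map (pullback.snd f f) δ2 δY γ) := by
  classical
  have := hX.1
  have := hY.1
  choose s hs hsurj using hcd
  have hsδ : ∀ x, δY (s x) = δ x := fun x => by rw [delta_eq f hδ _ (hsurj x), hs]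
  -- lift the rational functions
  obtain ⟨ι, ξ, g, hξ, hg, hlf, hsum⟩ := h0
  let G : (i : ι) → Y.residueField (s (ξ i)) := fun i =>
    (f.residueFieldMap (s (ξ i))).hom ((X.residueFieldCongr (hs (ξ i)).symm).hom (g i))
  have hG : ∀ i, G i ≠ 0 := fun i => (map_ne_zero_iff _ (f.residueFieldMap _).hom.injective).mpr
    ((map_ne_zero_iff _ (X.residueFieldCongr (hs (ξ i)).symm).hom.hom.injective).mpr (hg i))
  have hmem : ∀ i y, y ∈ closure {s (ξ i)} → f y ∈ closure {ξ i} := fun i y hy =>
    specializes_iff_mem_closure.mp (by simpa [hs] using (specializes_iff_mem_closure.mpr hy).map f.continuous)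
  have hmeet : ∀ V : X.Opens, IsAffineOpen V →
      {i | (closure {s (ξ i)} ∩ f ⁻¹' (V : Set X)).Nonempty}.Finite := fun V hV =>
    (Groth.Cycles.finite_of_isCompact ξ hlf hV.isCompact).subset fun i ⟨y, hy, hyV⟩ => ⟨f y, hmem i y hy, hyV⟩
  have hlfY : ∀ y : Y, ∃ U : Set Y, IsOpen U ∧ y ∈ U ∧ {i | (closure {s (ξ i)} ∩ U).Nonempty}.Finite := by
    intro y
    obtain ⟨_, ⟨V, hV, rfl⟩, hyV, -⟩ :=
      X.isBasis_affineOpens.exists_subset_of_mem_open (Set.mem_univ (f y)) isOpen_univ
    exact ⟨f ⁻¹' (V : Set X), V.isOpen.preimage f.continuous, hyV, hmeet V hV⟩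
  obtain ⟨β', hβ'⟩ := exists_cycle_finsum_divFun hY (fun i => s (ξ i)) G hG hlfY
  have hrat : Cyc.RatEquivZero δY k β' := ⟨ι, fun i => s (ξ i), G, fun i => (hsδ _).trans (hξ i), hG, hlfY, hβ'⟩
  choose c hc hce _ using fun i => exists_push_divFun δY δ hY hX f hδ (s (ξ i)) (G i) (hG i)
  have hpush : AlgebraicCycle.map f δY δ β' = AlgebraicCycle.map f δY δ β := by
    ext x
    obtain ⟨_, ⟨V, hV, rfl⟩, hxV, -⟩ :=
      X.isBasis_affineOpens.exists_subset_of_mem_open (Set.mem_univ x) isOpen_univ
    have hout : ∀ i ∉ (hmeet V hV).toFinset, ∀ y, f y = x → c i y = 0 := by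
      intro i hi y hy
      rw [hc, Cyc.divFun, dif_neg]
      exact fun h => hi ((hmeet V hV).mem_toFinset.mpr ⟨y, h.1.mem_closure, show f y ∈ V by rw [hy]; exact hxV⟩)
    set S := (finite_preimage_inter_support f β' x).toFinset ∪
      (hmeet V hV).toFinset.biUnion fun i => (finite_preimage_inter_support f (c i) x).toFinset
    have hsum' : ∀ y, f y = x → β' y = ∑ i ∈ (hmeet V hV).toFinset, c i y := fun y hy => by
      rw [hβ', finsum_congr fun i => congrFun (hc i).symm y]
      exact finsum_eq_sum_of_support_subset _ fun i hi => by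
        by_contra h; exact hi (hout i h y hy)
    have hci : ∀ i, AlgebraicCycle.map f δY δ (c i) x = Cyc.divFun δ (ξ i) (g i) x := fun i => by
      rw [(hce i (by rw [hsδ, hs])).2, normGen_residueFieldMap, residueDegree_eq_one f _ (hsurj _), pow_one,
        divFun_congr (hs (ξ i))]
    rw [map_apply_eq_sum f δY δ β' x S fun y hy h => Finset.mem_union_left _ (by simp [hy, h]), hsum x,
      finsum_eq_sum_of_support_subset _ (s := (hmeet V hV).toFinset) (fun i hi => by
        by_contra h
        refine hi ((hci i).symm.trans ?_)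
        rw [map_apply_eq_sum f δY δ (c i) x ∅ fun y hy hne => (hne (hout i h y hy)).elim, Finset.sum_empty]),
      Finset.sum_congr rfl fun i hi => (hci i).symm.trans (map_apply_eq_sum f δY δ (c i) x S fun y hy h =>
        Finset.mem_union_right _ (Finset.mem_biUnion.mpr ⟨i, hi, by simp [hy, h]⟩)), Finset.sum_comm]
    refine Finset.sum_congr rfl fun y _ => ?_
    split_ifs with hy
    · rw [hsum' y hy, Finset.sum_mul]
    · simp
  set b := β - β' with hb
  have hbk : ∀ y, δY y ≠ k → b y = 0 := by
    intro y hy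
    have h2 : β' y = 0 := by
      rw [hβ']
      refine finsum_eq_zero_of_forall_eq_zero fun i => dif_neg fun h => hy ?_
      have := h.2
      rw [hsδ, hξ] at this
      omega
    simp [hb, hβ y hy, h2]
  have hb0 : AlgebraicCycle.map f δY δ b = 0 := by rw [hb, map_sub', hpush, sub_self]
  -- the cycle on the self product
  choose z hz1 hz2 hzδ hz3 hz4 using fun y => exists_pair f hδ2 y (s (f y)) (hs (f y)) (hsurj (f y))
  set γ : AlgebraicCycle (pullback f f) ℤ := ⟨fun p => if z (pullback.fst f f p) = p then b (pullback.fst f f p) else 0,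
    Set.subset_univ _, fun p _ => by
      obtain ⟨t, ht, hfin⟩ := b.supportLocallyFiniteWithinDomain' (pullback.fst f f p) (Set.mem_univ _)
      refine ⟨pullback.fst f f ⁻¹' t, (pullback.fst f f).continuous.continuousAt.preimage_mem_nhds ht,
        (hfin.image z).subset ?_⟩
      rintro p' ⟨hp', hne⟩
      by_cases he : z (pullback.fst f f p') = p'
      · exact ⟨pullback.fst f f p', ⟨hp', fun h0 => hne (by show (if _ then _ else _) = (0 : ℤ); rw [if_pos he]; exact h0)⟩, he⟩
      · exact absurd (if_neg he) hne⟩ with hγ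
  have hγz : ∀ y, γ (z y) = b y := fun y => by
    show (if _ then _ else _) = b y
    rw [hz1, if_pos rfl]
  have hγne : ∀ p, γ p ≠ 0 → p = z (pullback.fst f f p) := fun p hp => by
    by_contra h
    exact hp (if_neg (Ne.symm h))
  refine ⟨γ, fun p hp => ?_, ?_⟩
  · by_contra hne
    have he := hγne p hne
    rw [he] at hne hp
    rw [hγz] at hne
    exact hne (hbk _ fun h => hp (by rw [hzδ, h]))
  have h1 : AlgebraicCycle.map (pullback.fst f f) δ2 δY γ = b := by
    ext y
    rw [map_apply_eq_sum (pullback.fst f f) δ2 δY γ y {z y}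
      (fun p hp hne => Finset.mem_singleton.mpr (by rw [hγne p hne, hp])), Finset.sum_singleton, if_pos (hz1 y),
      hγz, AlgebraicCycle.mapCoeff, if_pos (by rw [hzδ, hz1]), hz3]
    simp
  have h2 : AlgebraicCycle.map (pullback.snd f f) δ2 δY γ = 0 := by
    ext w
    set T := ((finite_preimage_inter_support f b (f w)).toFinset).image z with hT
    rw [map_apply_eq_sum (pullback.snd f f) δ2 δY γ w T fun p hp hne => ?_, hT,
      Finset.sum_image fun a _ a' _ h => by rw [← hz1 a, ← hz1 a', h]]
    · by_cases hw : s (f w) = w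
      · refine Eq.trans ?_ (DFunLike.congr_fun hb0 (f w))
        rw [map_apply_eq_sum f δY δ b (f w) (finite_preimage_inter_support f b (f w)).toFinset
          fun y hy h => by simp [hy, h]]
        refine Finset.sum_congr rfl fun y hy => ?_
        have hy' : f y = f w := ((Set.Finite.mem_toFinset _).mp hy).1
        rw [if_pos (by rw [hz2, hy', hw]), if_pos hy', hγz]
        congr 2
        simp only [AlgebraicCycle.mapCoeff, hzδ, hz2, hz4, hsδ]
      · refine Finset.sum_eq_zero fun y hy => if_neg fun h => hw ?_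
        have hy' : f y = f w := ((Set.Finite.mem_toFinset _).mp hy).1
        rw [← hy', ← hz2, h]
    · have he := hγne p hne
      refine Finset.mem_image.mpr ⟨pullback.fst f f p, (Set.Finite.mem_toFinset _).mpr ⟨?_, fun h0 => hne ?_⟩, he.symm⟩
      · rw [← hp, ← Scheme.Hom.comp_apply, pullback.condition, Scheme.Hom.comp_apply]
      · rw [he, hγz, h0]
  show Cyc.RatEquivZero δY k _
  rwa [h1, h2, sub_zero, hb, sub_sub_cancel]

end Groth.CycInter.Env
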