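import Groth.Agent.CycInter.GysinTwice
import Groth.Agent.Cycles.PushC1

/-!
Functoriality of the Gysin map of a zero scheme for proper pushforward and flat pullback.
-/

universe u

set_option autoImplicit false

open CategoryTheory AlgebraicGeometry IsLocalRing Limits
open Groth.RefRank Groth.QCohMod

namespace Groth.CycInter

variable {X X' D P : Scheme.{u}} {δ : X → ℤ} {δ' : X' → ℤ} {L : X.Modules}

theorem eq_of_coef_eq {M : X.Modules} {ξ : X} {t : M.presheaf.stalk ξ} (ht : IsStalkBasis M ξ t)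
    {a b : Cyc.secFibre M ξ} (h : Groth.Cycles.coef M ξ t a = Groth.Cycles.coef M ξ t b) : a = b := by
  obtain ⟨φ, rfl⟩ := Groth.Cycles.exists_coef ht a
  obtain ⟨ψ, rfl⟩ := Groth.Cycles.exists_coef ht b
  rw [Groth.Cycles.coef_smul ht, Groth.Cycles.coef_smul ht] at h
  exact (Groth.Cycles.smul_fmk_eq_iff ht φ ψ).mpr h

theorem pullFib_eq (f : X' ⟶ X) (hL : PicF.IsInvertible L) (ξ : X') (s : Cyc.secFibre L (f ξ)) :
    Groth.Cycles.pullFib f hL s = pullFib f hL ξ s := by
  obtain ⟨U, e, hU, he⟩ := Groth.Cycles.exists_gen_nhd hL (f ξ)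
  refine eq_of_coef_eq (isStalkBasis_germ_of_gen (he.pull f) (x := ξ) hU) ?_
  rw [Groth.Cycles.coef_pullFib f hL he hU]
  refine (coef_pullFib f hL ξ (isStalkBasis_germ_of_gen he hU) s).symm.trans ?_
  rw [pullGerm_germ]

/-- The divisor of the inverse image of the section used by the Gysin map is supported over the zero locus. -/
theorem secDivFun_pull_gysinChoice_of_notMem (f : X' ⟶ X) (hX' : Cyc.IsSetup X' δ') (hL : PicF.IsInvertible L)
    {s : L.presheaf.obj (Opposite.op ⊤)} {w : (ξ : X) → Cyc.secFibre L ξ} (hw : ∀ ξ, w ξ ≠ 0) (ξ : X')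
    {x : X'} (hx : f x ∉ zeroLocus L s) :
    Cyc.secDivFun δ' ((Scheme.Modules.pullback f).obj L) ξ (pullFib f hL ξ (Cyc.gysinChoice L s w (f ξ))) x = 0 := by
  by_cases h : ξ ⤳ x
  swap
  · exact secDivFun_of_not_specializes _ h
  have hb := isStalkBasis_germ_of_notMem hL hx
  have hM := Groth.PicAux.isInvertible_pullback f hL
  rw [Groth.Cycles.secDivFun_eq hX' hM h (specializes_refl x) (isStalkBasis_pullGerm f hL hb)
      (pullFib_ne_zero f hL ξ (gysinChoice_ne_zero hw _)),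
    Groth.Cycles.ratCoef, mspec_pullGerm, mspec_germ_top]
  have hξ : f ξ ∉ zeroLocus L s := fun h' => hx (mem_zeroLocus_of_specializes hL (h.map f.continuous) h')
  rw [coef_pullFib f hL ξ (isStalkBasis_germ_of_notMem hL hξ), coef_gysinChoice hL w hξ, map_one,
    Groth.Cycles.divFun_one hX']

theorem c1CapFun_pull_gysin_of_notMem (f : X' ⟶ X) (hX' : Cyc.IsSetup X' δ') (hL : PicF.IsInvertible L)
    {s : L.presheaf.obj (Opposite.op ⊤)} {w : (ξ : X) → Cyc.secFibre L ξ} (hw : ∀ ξ, w ξ ≠ 0) (F : X' → ℤ)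
    {x : X'} (hx : f x ∉ zeroLocus L s) :
    Cyc.c1CapFun δ' ((Scheme.Modules.pullback f).obj L) F
      (fun ξ => pullFib f hL ξ (Cyc.gysinChoice L s w (f ξ))) x = 0 :=
  finsum_eq_zero_of_forall_eq_zero fun ξ =>
    mul_eq_zero_of_right _ (secDivFun_pull_gysinChoice_of_notMem f hX' hL hw ξ hx)

variable {f : X' ⟶ X} {i : D ⟶ X} [IsClosedImmersion i] {j : P ⟶ X'} {q : P ⟶ D}

/-- The Gysin map upstairs computed with inverse images of the sections downstairs. -/
theorem gysin_pull_sections (hX' : Cyc.IsSetup X' δ') (hL : PicF.IsInvertible L)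
    {s : L.presheaf.obj (Opposite.op ⊤)} (hD : Cyc.IsZeroSchemeOf i L s) (sq : IsPullback j q f i)
    {s' : ((Scheme.Modules.pullback f).obj L).presheaf.obj (Opposite.op ⊤)}
    (hD' : Cyc.IsZeroSchemeOf j ((Scheme.Modules.pullback f).obj L) s') {k : ℤ} (F : X' → ℤ)
    (hfin : ∀ V : X'.Opens, IsAffineOpen V → ((V : Set X') ∩ Function.support F).Finite)
    (hF : ∀ ξ, F ξ ≠ 0 → δ' ξ = k + 1) {w : (ξ : X) → Cyc.secFibre L ξ} (hw : ∀ ξ, w ξ ≠ 0)
    {w' : (ξ : X') → Cyc.secFibre ((Scheme.Modules.pullback f).obj L) ξ} (hw' : ∀ ξ, w' ξ ≠ 0) :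
    RatZeroOn (fun z => δ' (j z)) k Set.univ fun z =>
      Cyc.c1CapFun δ' ((Scheme.Modules.pullback f).obj L) F (Cyc.gysinChoice _ s' w') (j z) -
        Cyc.c1CapFun δ' ((Scheme.Modules.pullback f).obj L) F
          (fun ξ => pullFib f hL ξ (Cyc.gysinChoice L s w (f ξ))) (j z) := by
  have hj := isClosedImmersion_of_isPullback sq
  have hM := Groth.PicAux.isInvertible_pullback f hL
  have h := c1CapFun_sections hX' hM (k := k) (Z := Set.range j) F hfin hF
    (gysinChoice_ne_zero (s := s') hw')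
    (fun ξ => pullFib_ne_zero f hL ξ (gysinChoice_ne_zero (s := s) hw (f ξ))) fun e _ he x => by
      rw [gysinChoice_of_notMem w' fun h' => he ((range_eq_zeroLocus hD').symm ▸ h'),
        gysinChoice_of_notMem w fun h' => he (by
          rw [range_of_isPullback sq, Set.mem_preimage, range_eq_zeroLocus hD]; exact h'),
        secDivFun_of_zeroScheme_eq_of_hom hX' hL hD sq hD' he x]
  exact (h.comap j hX' subset_rfl).mono (Set.subset_univ _)

omit [IsClosedImmersion i] in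
/-- The cycle on a closed subscheme given by the values of a cycle. -/
theorem exists_restrict_cycle (j : P ⟶ X') [IsClosedImmersion j] (γ : AlgebraicCycle X' ℤ) :
    ∃ β : AlgebraicCycle P ℤ, ∀ z, β z = γ (j z) := by
  refine ⟨⟨fun z => γ (j z), Set.subset_univ _, fun y _ => ?_⟩, fun z => rfl⟩
  obtain ⟨_, ⟨V, hV, rfl⟩, hyV, -⟩ :=
    X'.isBasis_affineOpens.exists_subset_of_mem_open (Set.mem_univ (j y)) isOpen_univ
  refine ⟨j ⁻¹' V, (V.2.preimage j.continuous).mem_nhds hyV, ?_⟩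
  exact ((finite_cycle γ V hV).preimage j.isEmbedding.injective.injOn).subset fun z hz => ⟨hz.1, hz.2⟩

/-- The Gysin map commutes with proper pushforward. -/
theorem gysin_map (hX : Cyc.IsSetup X δ) (hX' : Cyc.IsSetup X' δ') [IsProper f]
    (hδ : Cyc.DeltaCompat f δ' δ) (hL : PicF.IsInvertible L) {s : L.presheaf.obj (Opposite.op ⊤)}
    (hD : Cyc.IsZeroSchemeOf i L s) [IsProper q] (sq : IsPullback j q f i)
    {s' : ((Scheme.Modules.pullback f).obj L).presheaf.obj (Opposite.op ⊤)}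
    (hD' : Cyc.IsZeroSchemeOf j ((Scheme.Modules.pullback f).obj L) s') (k : ℤ) (α' : AlgebraicCycle X' ℤ)
    (hα' : α' ∈ Cyc.Zk X' δ' (k + 1)) {w : (ξ : X) → Cyc.secFibre L ξ} (hw : ∀ ξ, w ξ ≠ 0)
    {w' : (ξ : X') → Cyc.secFibre ((Scheme.Modules.pullback f).obj L) ξ} (hw' : ∀ ξ, w' ξ ≠ 0)
    {γ : AlgebraicCycle D ℤ}
    (hγ : ∀ d, γ d = Cyc.c1CapFun δ L ⇑(AlgebraicCycle.map f δ' δ α') (Cyc.gysinChoice L s w) (i d))
    {γ' : AlgebraicCycle P ℤ}
    (hγ' : ∀ z, γ' z = Cyc.c1CapFun δ' ((Scheme.Modules.pullback f).obj L) ⇑α'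
      (Cyc.gysinChoice ((Scheme.Modules.pullback f).obj L) s' w') (j z)) :
    Cyc.RatEquiv (fun d => δ (i d)) k γ
      (AlgebraicCycle.map q (fun z => δ' (j z)) (fun d => δ (i d)) γ') := by
  have hj := isClosedImmersion_of_isPullback sq
  have hP := isSetup_sub j hX'
  have hDs := isSetup_sub i hX
  have hM := Groth.PicAux.isInvertible_pullback f hL
  have hG := gysinChoice_ne_zero (L := L) (s := s) hw
  have hpf : ∀ ξ, pullFib f hL ξ (Cyc.gysinChoice L s w (f ξ)) ≠ 0 := fun ξ => pullFib_ne_zero f hL ξ (hG _)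
  obtain ⟨γ₀, hγ₀⟩ := Groth.Cycles.exists_cycle_c1CapFun hX' hM α' hpf
  obtain ⟨β, hβ⟩ := exists_restrict_cycle j γ₀
  have hδq : Cyc.DeltaCompat q (fun z => δ' (j z)) (fun d => δ (i d)) :=
    Groth.Cycles.deltaCompat_restrict f hδ j i q sq.w.symm
  have hdiff : Cyc.RatEquivZero (fun z => δ' (j z)) k (β - γ') := by
    refine ratEquivZero_of_ratZeroOn hP ((ratZeroOn_neg hP (gysin_pull_sections hX' hL hD sq hD' ⇑α'
      (finite_cycle α') (fun ξ h => by_contra fun h' => h (hα' ξ h')) hw hw')).congr fun z => ?_)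
    simp only [Function.locallyFinsuppWithin.coe_sub, Pi.sub_apply, hβ, hγ', hγ₀]
    ring
  have hpush := Groth.Cycles.ratEquivZero_map _ _ hP hDs q hδq k _ hdiff
  rw [Groth.Cycles.map_sub'] at hpush
  have hmap : AlgebraicCycle.map j (fun z => δ' (j z)) δ' β = γ₀ := by
    ext x
    by_cases hx : x ∈ Set.range j
    · obtain ⟨z, rfl⟩ := hx
      rw [map_closedImm_apply, hβ]
    · rw [map_closedImm_apply_of_notMem _ hx, hγ₀]
      refine (c1CapFun_pull_gysin_of_notMem f hX' hL hw _ fun h => hx ?_).symm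
      rwa [range_of_isPullback sq, Set.mem_preimage, range_eq_zeroLocus hD]
  have e : γ = AlgebraicCycle.map q (fun z => δ' (j z)) (fun d => δ (i d)) β := by
    ext d
    rw [hγ, ← map_closedImm_apply (δ := δ) (i := i)
      (AlgebraicCycle.map q (fun z => δ' (j z)) (fun d => δ (i d)) β) d]
    have h1 : AlgebraicCycle.map i (fun d => δ (i d)) δ
        (AlgebraicCycle.map q (fun z => δ' (j z)) (fun d => δ (i d)) β) =
        AlgebraicCycle.map f δ' δ γ₀ := by
      rw [← hmap, Groth.Cycles.map_map_eq q i hδq (Groth.Cycles.deltaCompat_preimmersion i δ),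
        Groth.Cycles.map_map_eq j f (show Cyc.DeltaCompat j (fun z => δ' (j z)) δ' from Groth.Cycles.deltaCompat_preimmersion j δ') hδ]
      congr 1
      exact sq.w.symm
    rw [h1]
    refine (Groth.Cycles.map_c1CapFun_pullFib δ' δ hX' hX f hδ hL α' hG γ₀ ?_ (i d)).symm
    rw [hγ₀]
    simp only [pullFib_eq]
  rw [e]
  exact hpush

/-- The Gysin map commutes with flat pullback. -/
theorem gysin_pull (hX : Cyc.IsSetup X δ) (hX' : Cyc.IsSetup X' δ') [Flat f] (c : ℤ)
    (hc : ∀ x, Groth.CycleLimits.IsFibreGeneric f x → δ' x = δ (f x) + c) (hL : PicF.IsInvertible L)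
    {s : L.presheaf.obj (Opposite.op ⊤)} (hD : Cyc.IsZeroSchemeOf i L s)
    {s' : ((Scheme.Modules.pullback f).obj L).presheaf.obj (Opposite.op ⊤)}
    (hD' : Cyc.IsZeroSchemeOf (pullback.fst f i) ((Scheme.Modules.pullback f).obj L) s') (k : ℤ)
    (α : AlgebraicCycle X ℤ) (hα : α ∈ Cyc.Zk X δ (k + 1)) {w : (ξ : X) → Cyc.secFibre L ξ}
    (hw : ∀ ξ, w ξ ≠ 0) {w' : (ξ : X') → Cyc.secFibre ((Scheme.Modules.pullback f).obj L) ξ}
    (hw' : ∀ ξ, w' ξ ≠ 0) {ζ₁ ζ₂ : AlgebraicCycle (pullback f i) ℤ}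
    (h₁ : ∀ z, ζ₁ z = Cyc.c1CapFun δ' ((Scheme.Modules.pullback f).obj L) (Cyc.pullFun f δ' δ c ⇑α)
      (Cyc.gysinChoice ((Scheme.Modules.pullback f).obj L) s' w') (pullback.fst f i z))
    (h₂ : ⇑ζ₂ = Cyc.pullFun (pullback.snd f i) (fun z => δ' (pullback.fst f i z)) (fun d => δ (i d)) c
      (fun d => Cyc.c1CapFun δ L ⇑α (Cyc.gysinChoice L s w) (i d))) :
    Cyc.RatEquiv (fun z => δ' (pullback.fst f i z)) (k + c) ζ₁ ζ₂ := by
  have hP := isSetup_sub (pullback.fst f i) hX'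
  have hG := gysinChoice_ne_zero (L := L) (s := s) hw
  obtain ⟨A, hA⟩ := Groth.Cycles.exists_pullCycle δ' δ hX' hX f c hc α
  have hAk : ∀ ξ, A ξ ≠ 0 → δ' ξ = k + c + 1 := fun ξ h => by
    rw [hA, Groth.Cycles.pullFun_eq_mult] at h
    rw [Groth.Cycles.delta_of_pullMult_ne (right_ne_zero_of_mul h),
      show δ (f ξ) = k + 1 from by_contra fun h' => left_ne_zero_of_mul h (hα _ h')]
    ring
  refine ratEquivZero_of_ratZeroOn hP ((gysin_pull_sections hX' hL hD (IsPullback.of_hasPullback f i) hD' ⇑A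
    (finite_cycle A) hAk hw hw').congr fun z => ?_)
  simp only [Function.locallyFinsuppWithin.coe_sub, Pi.sub_apply, h₁, h₂, hA]
  congr 1
  have e := Groth.Cycles.pullFun_c1CapFun δ' δ hX' hX f c hc hL α hG (pullback.fst f i z)
  simp only [pullFib_eq] at e
  have hsq : f (pullback.fst f i z) = i (pullback.snd f i z) := by
    rw [← Scheme.Hom.comp_apply, pullback.condition, Scheme.Hom.comp_apply]
  rw [← e, Groth.Cycles.pullFun_eq_mult, Groth.Cycles.pullFun_eq_mult]
  refine congrArg₂ (· * ·) (congrArg (fun y => Cyc.c1CapFun δ L ⇑α (Cyc.gysinChoice L s w) y) hsq.symm) ?_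
  simp only [Groth.Cycles.pullMult, Cyc.pullFun, one_mul]
  have hlen : (Module.length ((pullback f i).presheaf.stalk z)
      ((pullback f i).presheaf.stalk z ⧸ Ideal.map ((pullback.snd f i).stalkMap z).hom
        (maximalIdeal (D.presheaf.stalk (pullback.snd f i z))))) =
      Module.length (X'.presheaf.stalk (pullback.fst f i z))
        (X'.presheaf.stalk (pullback.fst f i z) ⧸ Ideal.map (f.stalkMap (pullback.fst f i z)).hom
          (maximalIdeal (X.presheaf.stalk (f (pullback.fst f i z))))) :=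
    Groth.Cycles.length_fibre_pullback f i z
  rw [hlen]
  have hd : δ (i (pullback.snd f i z)) = δ (f (pullback.fst f i z)) := congrArg δ hsq.symm
  rw [hd]

end Groth.CycInter
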