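import Groth.Prelude.Def_Bivar2
import Groth.Agent.CycInter.DvrPush
import Groth.Agent.CycInter.Envelope
import Groth.Agent.CycInter.GysinFunct
import Groth.Agent.Cycles.C1Basic
import Groth.Agent.Cycles.PushC1
import Groth.Agent.Cycles.PullFib
import Groth.Agent.S1855

/-!
Basic tools for bivariant classes: classes of rationally equivalent cycles, isomorphic modules.
-/

universe u

set_option autoImplicit false

open CategoryTheory CategoryTheory.Limits AlgebraicGeometry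
open Groth.RefRank Groth.Cycles Groth.QCohMod

namespace Groth.CycInter.Biv

variable {X Y : Scheme.{u}} {δ : X → ℤ} {k : ℤ}

theorem cl_eq {α β : AlgebraicCycle X ℤ} (hα : α ∈ Cyc.Zk X δ k) (hβ : β ∈ Cyc.Zk X δ k)
    (h : Cyc.RatEquiv δ k α β) : ChowOps.cl α hα = ChowOps.cl β hβ := by
  refine sub_eq_zero.mp ?_
  show ChowOps.clHom X δ k ⟨α, hα⟩ - ChowOps.clHom X δ k ⟨β, hβ⟩ = 0
  rw [← map_sub]
  exact (QuotientAddGroup.eq_zero_iff _).mpr (AddSubgroup.subset_closure h)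

/-- An additive map on cycles killing cycles rationally equivalent to zero, on Chow groups. -/
noncomputable def liftCH {H : Type u} [AddCommGroup H] (F : ↥(ChowOps.zk X δ k) →+ H)
    (hF : ∀ (α : AlgebraicCycle X ℤ) (hα : α ∈ Cyc.Zk X δ k), Cyc.RatEquivZero δ k α → F ⟨α, hα⟩ = 0) :
    ChowOps.CH X δ k →+ H :=
  QuotientAddGroup.lift (ChowOps.ratTriv X δ k) F
    ((AddSubgroup.closure_le (K := F.ker)).mpr fun a ha => hF a.1 a.2 ha)

theorem liftCH_cl {H : Type u} [AddCommGroup H] (F : ↥(ChowOps.zk X δ k) →+ H)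
    (hF : ∀ (α : AlgebraicCycle X ℤ) (hα : α ∈ Cyc.Zk X δ k), Cyc.RatEquivZero δ k α → F ⟨α, hα⟩ = 0)
    (α : AlgebraicCycle X ℤ) (hα : α ∈ Cyc.Zk X δ k) :
    liftCH F hF (ChowOps.cl α hα) = F ⟨α, hα⟩ := rfl

theorem isSetup_osq {δX : X → ℤ} (hX : Cyc.IsSetup X δX) (s : Bivar.OSq X δX) : Cyc.IsSetup s.Y s.δ :=
  haveI := s.lft
  P1C.isSetup_of_lft hX s.g s.compat

theorem delta_closedImmersion {δY : Y → ℤ} {i : Y ⟶ X} [IsClosedImmersion i] (h : Cyc.DeltaCompat i δY δ) :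
    δY = fun y => δ (i y) :=
  funext fun y => Env.delta_eq i h y (Groth.Variety2.Dim.residueFieldMap_surjective i y)

theorem c1Cap_mem (L : X.Modules) {α : AlgebraicCycle X ℤ} (hα : α ∈ Cyc.Zk X δ k)
    (s : (ξ : X) → Cyc.secFibre L ξ) {γ : AlgebraicCycle X ℤ} (hγ : ⇑γ = Cyc.c1CapFun δ L ⇑α s) :
    γ ∈ Cyc.Zk X δ (k - 1) := by
  intro x hx
  rw [hγ]
  refine finsum_eq_zero_of_forall_eq_zero fun ξ => ?_
  by_cases hξ : δ ξ = k
  · rw [show Cyc.secDivFun δ L ξ (s ξ) x = 0 from dif_neg fun h => hx (by have := h.2; omega), mul_zero]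
  · rw [hα ξ hξ, zero_mul]

theorem exists_secs {L : X.Modules} (hL : PicF.IsInvertible L) :
    ∃ v : (ξ : X) → Cyc.secFibre L ξ, ∀ ξ, v ξ ≠ 0 := by
  choose v hv _ using fun ξ => exists_coef_eq (bas_spec hL ξ) (one_ne_zero (α := X.residueField ξ))
  exact ⟨v, hv⟩

theorem bijective_stalkMap_iso {M N : X.Modules} (e : M ≅ N) (ξ : X) :
    Function.Bijective (RefHull.stalkMapₗ e.hom ξ) :=
  (isIso_iff_bijective_stalk e.hom).mp inferInstance ξ

theorem isStalkBasis_iso {M N : X.Modules} (e : M ≅ N) {ξ : X} {t : M.presheaf.stalk ξ}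
    (ht : IsStalkBasis M ξ t) : IsStalkBasis N ξ (RefHull.stalkMapₗ e.hom ξ t) := by
  have : (fun a : X.presheaf.stalk ξ => a • RefHull.stalkMapₗ e.hom ξ t) =
      RefHull.stalkMapₗ e.hom ξ ∘ fun a => a • t := funext fun a => (map_smul _ a t).symm
  unfold IsStalkBasis
  rw [this]
  exact (bijective_stalkMap_iso e ξ).comp ht

theorem secDivFun_iso (hX : Cyc.IsSetup X δ) {M N : X.Modules} (hM : PicF.IsInvertible M)
    (hN : PicF.IsInvertible N) (e : M ≅ N) {ξ : X} {a : Cyc.secFibre M ξ} (ha : a ≠ 0)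
    {b : Cyc.secFibre N ξ} (hb : b ≠ 0)
    (hab : coef N ξ (RefHull.stalkMapₗ e.hom ξ (bas hM ξ)) b = coef M ξ (bas hM ξ) a) (z : X) :
    Cyc.secDivFun δ N ξ b z = Cyc.secDivFun δ M ξ a z := by
  by_cases h : ξ ⤳ z
  swap
  · rw [secDivFun_of_not_specializes _ h, secDivFun_of_not_specializes _ h]
  have hbz := bas_spec hM z
  rw [secDivFun_eq hX hN h (specializes_refl z) (isStalkBasis_iso e hbz) hb,
    secDivFun_eq hX hM h (specializes_refl z) hbz ha]
  congr 1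
  unfold ratCoef
  obtain ⟨w, hw, hwt⟩ := exists_unit_of_basis (bas_spec hM ξ)
    (isStalkBasis_mspec hM (h.trans (specializes_refl z)) hbz).span_eq_top
  rw [← stalkMapₗ_mspec, hwt, map_smul]
  have h1 := coef_smul_left (isStalkBasis_iso e (bas_spec hM ξ)) hw b
  have h2 := coef_smul_left (bas_spec hM ξ) hw a
  rw [hab, h2] at h1
  exact (mul_right_cancel₀ (hw.map (X.residue ξ).hom).ne_zero h1).symm

/-- The first Chern classes of isomorphic modules agree. -/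
theorem c1_iso (hX : Cyc.IsSetup X δ) {M N : X.Modules} (hM : PicF.IsInvertible M) (hN : PicF.IsInvertible N)
    (e : M ≅ N) {α : AlgebraicCycle X ℤ} (hα : α ∈ Cyc.Zk X δ k)
    {u : (ξ : X) → Cyc.secFibre M ξ} (hu : ∀ ξ, u ξ ≠ 0) {v : (ξ : X) → Cyc.secFibre N ξ} (hv : ∀ ξ, v ξ ≠ 0)
    {γ₁ γ₂ : AlgebraicCycle X ℤ} (h₁ : ⇑γ₁ = Cyc.c1CapFun δ M ⇑α u) (h₂ : ⇑γ₂ = Cyc.c1CapFun δ N ⇑α v) :
    Cyc.RatEquiv δ (k - 1) γ₁ γ₂ := by
  choose v' hv' hc using fun ξ => exists_coef_eq (isStalkBasis_iso e (bas_spec hM ξ))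
    (coef_ne_zero (bas_spec hM ξ) (hu ξ))
  refine Groth.Cycles.c1_change hX hN (k := k - 1) (by rwa [sub_add_cancel]) hv' hv (h₁.trans ?_) h₂
  funext z
  exact finsum_congr fun ξ => by rw [secDivFun_iso hX hM hN e (hu ξ) (hv' ξ) (hc ξ) z]

/-- Pullback along a morphism over a base. -/
noncomputable def pullIso {Z T : Scheme.{u}} {h : T ⟶ Y} {g : Y ⟶ Z} {q : T ⟶ Z} (w : h ≫ g = q) (L : Z.Modules) :
    (Scheme.Modules.pullback h).obj ((Scheme.Modules.pullback g).obj L) ≅ (Scheme.Modules.pullback q).obj L :=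
  (Scheme.Modules.pullbackComp h g).app L ≪≫ (Scheme.Modules.pullbackCongr w).app L

end Groth.CycInter.Biv
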