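import Groth.Agent.CycInter.BivBasic

/-!
Inverse images of zero schemes.
-/

universe u

set_option autoImplicit false

open CategoryTheory CategoryTheory.Limits AlgebraicGeometry IsLocalRing
open Groth.RefRank Groth.Cycles Groth.QCohMod

namespace Groth.CycInter.Biv

variable {X X' D P : Scheme.{u}}

theorem mk_smul_eq_zero_iff {M : X.Modules} {x : X} {t : M.presheaf.stalk x} (ht : IsStalkBasis M x t)
    (a : X.presheaf.stalk x) :
    (Submodule.Quotient.mk (a • t) : Cyc.secFibre M x) = 0 ↔ ¬ IsUnit a := by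
  have h := smul_fmk_eq_iff ht a 0
  rw [zero_smul, map_zero] at h
  rw [Submodule.Quotient.mk_smul]
  refine h.trans ?_
  exact (IsLocalRing.residue_eq_zero_iff a).trans (IsLocalRing.mem_maximalIdeal a)

/-- The inverse image of a global section. -/
noncomputable def pullTop (f : X' ⟶ X) (L : X.Modules) (s : L.presheaf.obj (Opposite.op ⊤)) :
    ((Scheme.Modules.pullback f).obj L).presheaf.obj (Opposite.op ⊤) :=
  Groth.PicAux.pullSec f L (U := (⊤ : X.Opens)) s

theorem germ_pullTop (f : X' ⟶ X) (L : X.Modules) (s : L.presheaf.obj (Opposite.op ⊤)) (x : X') :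
    (((Scheme.Modules.pullback f).obj L).presheaf.germ ⊤ x trivial) (pullTop f L s) =
      pullGerm f L x ((L.presheaf.germ ⊤ (f x) trivial) s) :=
  (pullGerm_germ f L x (U := (⊤ : X.Opens)) trivial s).symm

/-- The inverse image of a zero scheme is the zero scheme of the inverse image of the section. -/
theorem isZeroSchemeOf_pullTop {f : X' ⟶ X} {i : D ⟶ X} [IsClosedImmersion i] {j : P ⟶ X'} {q : P ⟶ D}
    {L : X.Modules} (hL : PicF.IsInvertible L) {s : L.presheaf.obj (Opposite.op ⊤)}
    (hD : Cyc.IsZeroSchemeOf i L s) (sq : IsPullback j q f i) :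
    Cyc.IsZeroSchemeOf j ((Scheme.Modules.pullback f).obj L) (pullTop f L s) := by
  have := isClosedImmersion_of_isPullback sq
  have hgerm : ∀ (x : X') (t : L.presheaf.stalk (f x)) (g : X.presheaf.stalk (f x)),
      (L.presheaf.germ ⊤ (f x) trivial) s = g • t →
      (((Scheme.Modules.pullback f).obj L).presheaf.germ ⊤ x trivial) (pullTop f L s) =
        (f.stalkMap x).hom g • pullGerm f L x t := fun x t g hg => by
    rw [germ_pullTop, hg, pullGerm_smul]
  refine ⟨Set.ext fun x => ?_, fun z => ?_⟩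
  · rw [range_of_isPullback sq, Set.mem_preimage, hD.1, Set.mem_setOf_eq, Set.mem_setOf_eq]
    obtain ⟨g, hg⟩ := (bas_spec hL (f x)).2 ((L.presheaf.germ ⊤ (f x) trivial) s)
    dsimp only at hg
    rw [hgerm x _ g hg.symm, ← hg, mk_smul_eq_zero_iff (bas_spec hL (f x)),
      mk_smul_eq_zero_iff (isStalkBasis_pullGerm f hL (bas_spec hL (f x))), isUnit_map_iff]
  · obtain ⟨t, g, h1, h2, h3⟩ := exists_eqn_of_mem i hD (y := f (j z))
      (by have := Set.mem_range_self (f := j) z; rwa [range_of_isPullback sq] at this)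
    obtain ⟨b, hb, hbt⟩ := exists_unit_of_basis (bas_spec hL (f (j z))) h1
    refine ⟨pullGerm f L (j z) t, (f.stalkMap (j z)).hom g, ?_, hgerm _ t g h2, ?_⟩
    · rw [hbt, pullGerm_smul]
      exact (isStalkBasis_smul (isStalkBasis_pullGerm f hL (bas_spec hL _))
        (hb.map (f.stalkMap (j z)).hom)).span_eq_top
    · rw [← stalkIdeal_ker j z, ker_of_isPullback sq, Groth.ParaFormal.stalkIdeal_comap, h3, Ideal.map_span,
        Set.image_singleton]

/-- Zero schemes are invariant under isomorphisms of modules. -/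
theorem isZeroSchemeOf_iso {i : D ⟶ X} {M N : X.Modules} (e : M ≅ N) {s : M.presheaf.obj (Opposite.op ⊤)}
    (hM : PicF.IsInvertible M) (hD : Cyc.IsZeroSchemeOf i M s) :
    Cyc.IsZeroSchemeOf i N (e.hom.app ⊤ s) := by
  have hgerm : ∀ x : X, (N.presheaf.germ ⊤ x trivial) (e.hom.app ⊤ s) =
      RefHull.stalkMapₗ e.hom x ((M.presheaf.germ ⊤ x trivial) s) := fun x =>
    (RefHull.stalkMapₗ_germ e.hom x (U := (⊤ : X.Opens)) trivial s).symm
  refine ⟨hD.1.trans (Set.ext fun x => ?_), fun d => ?_⟩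
  · rw [Set.mem_setOf_eq, Set.mem_setOf_eq, hgerm]
    obtain ⟨g, hg⟩ := (bas_spec hM x).2 ((M.presheaf.germ ⊤ x trivial) s)
    dsimp only at hg
    rw [← hg, map_smul, mk_smul_eq_zero_iff (bas_spec hM x),
      mk_smul_eq_zero_iff (isStalkBasis_iso e (bas_spec hM x))]
  · obtain ⟨t, g, h1, h2, h3⟩ := hD.2 d
    obtain ⟨b, hb, hbt⟩ := exists_unit_of_basis (bas_spec hM (i d)) h1
    refine ⟨RefHull.stalkMapₗ e.hom (i d) t, g, ?_, by rw [hgerm, h2, map_smul], h3⟩
    rw [hbt, map_smul]
    exact (isStalkBasis_smul (isStalkBasis_iso e (bas_spec hM _)) hb).span_eq_top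

end Groth.CycInter.Biv
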