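import Groth.Agent.CycInter.BivBasic
import Groth.Agent.CycInter.BivZero
import Groth.Agent.GitLin.SymTotal
import Groth.Agent.SymAlg.Univ
import Groth.Agent.Ega2Proj2.Vertex
import Groth.Agent.Grauert.Criterion
import Groth.Agent.PicAux.Cocycle

/-!
An invertible module as the restriction to the zero section of a line bundle of an invertible module with
a section cutting out that zero section.
-/

universe u

set_option autoImplicit false
set_option backward.isDefEq.respectTransparency.types false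

open CategoryTheory CategoryTheory.Limits AlgebraicGeometry Opposite TopologicalSpace Polynomial
open Groth.PicAux (Gen)

noncomputable section

namespace Groth.CycInter.Biv

variable {Y : Scheme.{u}} (M : Y.Modules) [M.IsQuasicoherent]

/-- The total space. -/
abbrev tot : Scheme.{u} := (Groth.SymAlg.symQC M).spec

/-- The augmentation killing the generators. -/
def totAug : Groth.SymAlg.symQC M ⟶ RelSpec.QCAlg.unit Y :=
  Groth.SymAlg.liftAlg (RelSpec.QCAlg.unit Y) 0

/-- The zero section. -/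
def zeroSec : Y ⟶ tot M :=
  haveI := Groth.Ega2P2.isIso_unit_π Y
  inv (RelSpec.QCAlg.unit Y).π ≫ RelSpec.QCAlg.specMap (totAug M)

theorem zeroSec_π : zeroSec M ≫ GitLin.proj M = 𝟙 Y := by
  haveI := Groth.Ega2P2.isIso_unit_π Y
  rw [zeroSec, Category.assoc, RelSpec.QCAlg.specMap_π, IsIso.inv_hom_id]

theorem isClosedImmersion_zeroSec : IsClosedImmersion (zeroSec M) := by
  haveI : IsClosedImmersion (zeroSec M ≫ GitLin.proj M) := by rw [zeroSec_π]; infer_instance
  exact IsClosedImmersion.of_comp (zeroSec M) (GitLin.proj M)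

theorem zeroSec_chart {U : Y.Opens} (hU : IsAffineOpen U) :
    hU.fromSpec ≫ zeroSec M =
      Spec.map ((totAug M).hom.app (op U)) ≫ (Groth.SymAlg.symQC M).ι U hU := by
  haveI := Groth.Ega2P2.isIso_unit_π Y
  rw [zeroSec]
  refine (congrArg (· ≫ (inv (RelSpec.QCAlg.unit Y).π ≫ RelSpec.QCAlg.specMap (totAug M)))
    (Groth.Ega2P2.unit_ι_π Y U hU).symm).trans ((Category.assoc _ _ _).trans ?_)
  exact (congrArg (_ ≫ ·) (IsIso.hom_inv_id_assoc _ _)).trans (RelSpec.QCAlg.ι_specMap U hU (totAug M))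

theorem preimage_zeroSec (U : Y.Opens) : zeroSec M ⁻¹ᵁ (GitLin.proj M ⁻¹ᵁ U) = U := by
  rw [← Scheme.Hom.comp_preimage, zeroSec_π]
  rfl

theorem appLE_zeroSec {U : Y.Opens} (hU : IsAffineOpen U) :
    (zeroSec M).appLE (GitLin.proj M ⁻¹ᵁ U) U (preimage_zeroSec M U).ge =
      (Groth.SymAlg.symQC M).gammaMap.app (op U) ≫ (totAug M).hom.app (op U) := by
  rw [RelSpec.QCAlg.gammaMap_app (U := U) (hU := hU)]
  refine Spec.map_injective ((cancel_mono (hU.preimage (Groth.SymAlg.symQC M).π).fromSpec).1 ?_)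
  rw [IsAffineOpen.SpecMap_appLE_fromSpec (zeroSec M) (hU.preimage (Groth.SymAlg.symQC M).π) hU,
    zeroSec_chart M hU, Groth.Grauert.ι_eq_fromSpec (Groth.SymAlg.symQC M) U hU]
  exact ((congrArg (· ≫ _) (Spec.map_comp _ _)).trans (Category.assoc _ _ _)).symm

theorem appLE_zeroSec_coordOf {U : Y.Opens} (hU : IsAffineOpen U) (e : Γ(M, U)) :
    ((zeroSec M).appLE (GitLin.proj M ⁻¹ᵁ U) U (preimage_zeroSec M U).ge).hom (GitLin.coordOf M U e) = 0 := by
  rw [appLE_zeroSec M hU]
  change ((totAug M).hom.app (op U)).hom (((Groth.SymAlg.symQC M).gammaMap.app (op U)).hom _) = _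
  rw [GitLin.gammaMap_coordOf]
  refine (Groth.SymAlg.liftPre_app (RelSpec.QCAlg.unit Y) 0 hU _).trans ?_
  rw [Groth.SymAlg.secEquiv_jSym, Groth.SymAlg.liftSec_ι]
  rfl

theorem appLE_zeroSec_proj {U : Y.Opens} (hU : IsAffineOpen U) (r : Γ(Y, U)) :
    ((zeroSec M).appLE (GitLin.proj M ⁻¹ᵁ U) U (preimage_zeroSec M U).ge).hom
      ((GitLin.proj M).app U r) = r := by
  rw [appLE_zeroSec M hU]
  change ((totAug M).hom.app (op U)).hom (((Groth.SymAlg.symQC M).gammaMap.app (op U)).hom _) = _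
  rw [GitLin.gammaMap_str M hU]
  refine (Groth.SymAlg.liftPre_app (RelSpec.QCAlg.unit Y) 0 hU _).trans ?_
  rw [Groth.SymAlg.secEquiv_str, Groth.SymAlg.liftSec_algebraMap]
  rfl

/-- The ideal of the zero section over a trivializing affine open. -/
theorem ker_zeroSec_ideal {U : Y.Opens} (hU : IsAffineOpen U) {e : Γ(M, U)} (he : Gen M U e) :
    (zeroSec M).ker.ideal ⟨GitLin.proj M ⁻¹ᵁ U, hU.preimage (GitLin.proj M)⟩ =
      Ideal.span {GitLin.coordOf M U e} := by
  haveI := isClosedImmersion_zeroSec M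
  rw [Scheme.Hom.ker_apply]
  have hker : RingHom.ker ((zeroSec M).app (GitLin.proj M ⁻¹ᵁ U)).hom =
      RingHom.ker ((zeroSec M).appLE (GitLin.proj M ⁻¹ᵁ U) U (preimage_zeroSec M U).ge).hom := by
    ext a
    rw [RingHom.mem_ker, RingHom.mem_ker, Scheme.Hom.appLE, CommRingCat.hom_comp, RingHom.comp_apply]
    haveI : IsIso (Y.presheaf.map (homOfLE (preimage_zeroSec M U).ge).op) :=
      inferInstanceAs (IsIso (Y.presheaf.map (eqToHom (preimage_zeroSec M U).symm).op))
    exact (map_eq_zero_iff _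
      (ConcreteCategory.bijective_of_isIso (Y.presheaf.map (homOfLE (preimage_zeroSec M U).ge).op)).1).symm
  refine hker.trans (le_antisymm (fun a ha => ?_) ?_)
  · obtain ⟨p, rfl⟩ := (GitLin.bijective_eval_coordOf M hU he).2 a
    rw [RingHom.mem_ker, Polynomial.coe_eval₂RingHom, Polynomial.hom_eval₂, appLE_zeroSec_coordOf M hU,
      Polynomial.eval₂_at_zero, RingHom.comp_apply, appLE_zeroSec_proj M hU] at ha
    obtain ⟨q, rfl⟩ := Polynomial.X_dvd_iff.mpr ha
    refine Ideal.mem_span_singleton.mpr ⟨Polynomial.eval₂RingHom ((GitLin.proj M).app U).hom (GitLin.coordOf M U e) q, ?_⟩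
    rw [map_mul]
    exact congrArg (· * _) (Polynomial.eval₂_X _ _)
  · rw [Ideal.span_singleton_le_iff_mem]
    exact appLE_zeroSec_coordOf M hU e

theorem locallyOfFiniteType_proj (hM : PicF.IsInvertible M) : LocallyOfFiniteType (GitLin.proj M) := by
  choose U e hU hxU he using fun x : Y => Groth.PicAux.exists_affine_gen_mem hM x
  refine IsZariskiLocalAtTarget.of_iSup_eq_top (P := @LocallyOfFiniteType) U
    (eq_top_iff.2 fun x _ => Opens.mem_iSup.2 ⟨x, hxU x⟩) fun x => ?_
  have : IsAffine (U x : Scheme.{u}) := hU x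
  have : IsAffine ((GitLin.proj M ⁻¹ᵁ U x : (tot M).Opens) : Scheme.{u}) := (hU x).preimage _
  rw [← Scheme.Hom.resLE_eq_morphismRestrict, HasRingHomProperty.iff_of_isAffine (P := @LocallyOfFiniteType),
    Scheme.Hom.appTop, Scheme.Hom.resLE_app_top]
  refine ((RingHom.FiniteType.of_surjective _
      (ConcreteCategory.bijective_of_isIso (GitLin.proj M ⁻¹ᵁ U x).topIso.inv).2).comp ?_).comp
    (RingHom.FiniteType.of_surjective _ (ConcreteCategory.bijective_of_isIso (U x).topIso.hom).2)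
  rw [← Scheme.Hom.app_eq_appLE]
  change RingHom.FiniteType ((GitLin.proj M).app (U x)).hom
  have h : ((GitLin.proj M).app (U x)).hom =
      (Polynomial.eval₂RingHom ((GitLin.proj M).app (U x)).hom (GitLin.coordOf M (U x) (e x))).comp
        Polynomial.C := RingHom.ext fun r => (Polynomial.eval₂_C _ _).symm
  rw [h]
  refine (RingHom.FiniteType.of_surjective _ (GitLin.bijective_eval_coordOf M (hU x) (he x)).2).comp ?_
  rw [← Polynomial.algebraMap_eq, RingHom.finiteType_algebraMap]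
  infer_instance

end Groth.CycInter.Biv

namespace Groth.CycInter.Biv

open Groth.RefRank Groth.Cycles Groth.PicAux

variable {Y : Scheme.{u}} {L : Y.Modules}

/-- An invertible module is the restriction to the zero section of a line bundle of the module with the
tautological section. -/
theorem exists_zeroSection_model (hL : PicF.IsInvertible L) :
    ∃ (V : Scheme.{u}) (π : V ⟶ Y) (z : Y ⟶ V) (N : V.Modules) (σ : N.presheaf.obj (Opposite.op ⊤)),
      LocallyOfFiniteType π ∧ IsClosedImmersion z ∧ z ≫ π = 𝟙 Y ∧ PicF.IsInvertible N ∧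
        Cyc.IsZeroSchemeOf z N σ ∧ Nonempty ((Scheme.Modules.pullback z).obj N ≅ L) := by
  choose U s hU hxU hs using fun x : Y => Groth.PicAux.exists_affine_gen_mem hL x
  have hcov : iSup U = ⊤ := eq_top_iff.2 fun x _ => Opens.mem_iSup.2 ⟨x, hxU x⟩
  choose c hc using fun i j => (hs i).exists_coeff (inf_le_left : U i ⊓ U j ≤ U i)
    (res L inf_le_right (s j))
  have hunit : ∀ i j, IsUnit (c i j) := fun i j => by
    refine Gen.isUnit_of_smul ((hs i).res inf_le_left) ?_
    rw [← hc]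
    exact (hs j).res _
  obtain ⟨M, t, ht, hM, hMrel⟩ := exists_module_of_cocycle U c hcov hunit fun i j k => by
    refine (hs i).smul_inj (inf_le_left.trans inf_le_left) ?_
    have h1 := congrArg (res L (inf_le_inf_right (U k) inf_le_left :
      U i ⊓ U j ⊓ U k ≤ U i ⊓ U k)) (hc i k)
    have h2 := congrArg (res L (inf_le_left : U i ⊓ U j ⊓ U k ≤ U i ⊓ U j)) (hc i j)
    have h3 := congrArg (res L (inf_le_inf_right (U k) inf_le_right :
      U i ⊓ U j ⊓ U k ≤ U j ⊓ U k)) (hc j k)
    simp only [res_smul, res_res] at h1 h2 h3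
    rw [← h1, h3, h2, ← mul_smul, mul_comm]
  haveI := isQCoh_of_isInvertible hM
  haveI := isClosedImmersion_zeroSec M
  let p := GitLin.proj M
  let N := (Scheme.Modules.pullback p).obj L
  let loc : ∀ i, Γ(N, p ⁻¹ᵁ U i) := fun i => GitLin.coordOf M (U i) (t i) • pullSec p L (s i)
  obtain ⟨σ, hσ, -⟩ := res_glue (M := N) (U := ⊤) (fun i => p ⁻¹ᵁ U i) (fun _ => le_top)
    (fun v _ => Opens.mem_iSup.2 ⟨p v, hxU (p v)⟩) loc fun i j => by
      show res N (p.preimage_mono (inf_le_left : U i ⊓ U j ≤ U i)) (loc i) =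
        res N (p.preimage_mono (inf_le_right : U i ⊓ U j ≤ U j)) (loc j)
      simp only [loc]
      rw [res_smul, res_smul, res_pullSec p L (inf_le_left : U i ⊓ U j ≤ U i),
        res_pullSec p L (inf_le_right : U i ⊓ U j ≤ U j)]
      have hi : resX (tot M) (p.preimage_mono (inf_le_left : U i ⊓ U j ≤ U i)) (GitLin.coordOf M (U i) (t i)) =
          p.app (U i ⊓ U j) (c i j) * GitLin.coordOf M (U i ⊓ U j) (res M (inf_le_right : U i ⊓ U j ≤ U j) (t j)) :=
        (GitLin.res_coordOf M inf_le_left (t i)).trans (by rw [hMrel, GitLin.coordOf_smul])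
      have hj : resX (tot M) (p.preimage_mono (inf_le_right : U i ⊓ U j ≤ U j)) (GitLin.coordOf M (U j) (t j)) =
          GitLin.coordOf M (U i ⊓ U j) (res M (inf_le_right : U i ⊓ U j ≤ U j) (t j)) := GitLin.res_coordOf M inf_le_right (t j)
      rw [hi, hj, hc i j, pullSec_smul, smul_smul, mul_comm]
  have hloc : ∀ (i : Y) (v : tot M) (hv : p v ∈ U i),
      (N.presheaf.germ ⊤ v trivial) σ = ((tot M).presheaf.germ (p ⁻¹ᵁ U i) v hv).hom (GitLin.coordOf M (U i) (t i)) •
        Groth.QCohMod.pullGerm p L v ((L.presheaf.germ (U i) (p v) hv) (s i)) := fun i v hv => by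
    rw [Groth.QCohMod.pullGerm_germ p L v (U := U i) hv (s i)]
    exact ((Groth.QCohMod.germ_res N (le_top : p ⁻¹ᵁ U i ≤ ⊤) v hv σ).symm.trans
      (congrArg (Groth.QCohMod.germ N v (U := p ⁻¹ᵁ U i) hv) (hσ i))).trans (Groth.QCohMod.germ_smul N v _ _ _)
  have hbasis : ∀ (i : Y) (v : tot M) (hv : p v ∈ U i),
      IsStalkBasis N v (Groth.QCohMod.pullGerm p L v ((L.presheaf.germ (U i) (p v) hv) (s i))) := fun i v hv =>
    isStalkBasis_pullGerm p hL (isStalkBasis_germ_of_gen (hs i) hv)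
  have hideal : ∀ (i : Y) (v : tot M) (hv : p v ∈ U i), IntMult.stalkIdeal (zeroSec M).ker v =
      Ideal.span {((tot M).presheaf.germ (p ⁻¹ᵁ U i) v hv).hom (GitLin.coordOf M (U i) (t i))} := fun i v hv => by
    rw [Groth.ParaFormal.stalkIdeal_eq _ ⟨p ⁻¹ᵁ U i, (hU i).preimage p⟩ hv,
      ker_zeroSec_ideal M (hU i) (ht i), Ideal.map_span, Set.image_singleton]
  refine ⟨tot M, p, zeroSec M, N, σ, locallyOfFiniteType_proj M hM, inferInstance, zeroSec_π M,
    Groth.PicAux.isInvertible_pullback p hL, ⟨Set.ext fun v => ?_, fun d => ?_⟩,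
    ⟨pullIso (zeroSec_π M) L ≪≫ (Scheme.Modules.pullbackId Y).app L⟩⟩
  · have hv := hxU (p v)
    rw [Set.mem_setOf_eq, hloc _ v hv, mk_smul_eq_zero_iff (hbasis _ v hv)]
    have hr : Set.range (zeroSec M) = ((zeroSec M).ker.support : Set (tot M)) := by
      rw [Scheme.Hom.support_ker]
      exact (zeroSec M).isClosedEmbedding.isClosed_range.closure_eq.symm
    rw [hr, SetLike.mem_coe, Scheme.IdealSheafData.mem_support_iff_of_mem
      (U := ⟨p ⁻¹ᵁ U (p v), (hU (p v)).preimage p⟩) hv, ker_zeroSec_ideal M (hU _) (ht _), Scheme.zeroLocus_span,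
      Scheme.mem_zeroLocus_iff]
    refine ⟨fun h hu => h _ rfl ((Scheme.mem_basicOpen _ _ v hv).mpr hu), fun h g hg hb => h ?_⟩
    rw [Set.mem_singleton_iff.mp hg] at hb
    exact (Scheme.mem_basicOpen _ _ v hv).mp hb
  · have hv := hxU (p (zeroSec M d))
    exact ⟨_, _, (hbasis _ _ hv).span_eq_top, hloc _ _ hv,
      (stalkIdeal_ker (zeroSec M) d).symm.trans (hideal _ _ hv)⟩

end Groth.CycInter.Biv
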