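import Groth.Agent.CycInter.Gysin
import Groth.Agent.Cycles.PushCyc

/-!
Commutation of Gysin maps and first Chern classes, with control of the supports.
-/

universe u

set_option autoImplicit false

open CategoryTheory AlgebraicGeometry IsLocalRing
open Groth.RefRank Groth.QCohMod Groth.Cycles

namespace Groth.CycInter

variable {X : Scheme.{u}} {δ : X → ℤ} {L N : X.Modules}

/-- The two orders of capping a family of points with two first Chern classes. -/
theorem c1_comm_family (hX : Cyc.IsSetup X δ) (hL : PicF.IsInvertible L) (hN : PicF.IsInvertible N) {k : ℤ}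
    {Z : Set X} {ι : Type u} (η : ι → X) (n : ι → ℤ)
    (hfin : ∀ V : X.Opens, IsAffineOpen V → {i | n i ≠ 0 ∧ η i ∈ V}.Finite)
    (hη : ∀ i, n i ≠ 0 → δ (η i) = k + 2)
    (a : (i : ι) → Cyc.secFibre N (η i)) (ha : ∀ i, a i ≠ 0)
    (a' : (i : ι) → Cyc.secFibre L (η i)) (ha' : ∀ i, a' i ≠ 0)
    {b : (x : X) → Cyc.secFibre L x} (hb : ∀ x, b x ≠ 0) {b' : (x : X) → Cyc.secFibre N x} (hb' : ∀ x, b' x ≠ 0)
    (hZ : ∀ i x, n i ≠ 0 → x ∉ Z → commFun hX hN hL (η i) (a i) (a' i) b b' x = 1) :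
    RatZeroOn δ k Z fun z =>
      Cyc.c1CapFun δ L (fun x => ∑ᶠ i, n i * Cyc.secDivFun δ N (η i) (a i) x) b z -
        Cyc.c1CapFun δ N (fun x => ∑ᶠ i, n i * Cyc.secDivFun δ L (η i) (a' i) x) b' z := by
  classical
  let Φ : ι → (x : X) → X.residueField x := fun i x => commFun hX hN hL (η i) (a i) (a' i) b b' x
  have hΦ : ∀ i x, Φ i x ≠ 0 := fun i x => commFun_ne_zero hX hN hL (ha _) (ha' _) hb hb' x
  have hΦd : ∀ i x, Φ i x ≠ 1 → IsDivPt δ (η i) x := fun i x h => by_contra fun hn => h (dif_neg hn)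
  have hprop : ∀ p : ι × X, Φ p.1 p.2 ^ n p.1 ≠ 1 → n p.1 ≠ 0 ∧ Φ p.1 p.2 ≠ 1 := fun p hp =>
    ⟨fun h => hp (by rw [h, zpow_zero]), fun h => hp (by rw [h, one_zpow])⟩
  refine ⟨ι × X, fun p => p.2, fun p => Φ p.1 p.2 ^ n p.1, fun p => zpow_ne_zero _ (hΦ _ _),
    fun p hp => ?_, fun V hV => ?_, fun z => ?_⟩
  · obtain ⟨h0, h1⟩ := hprop p hp
    refine ⟨?_, by_contra fun h => h1 (hZ _ _ h0 h)⟩
    show δ p.2 = k + 1
    have := (hΦd _ _ h1).2
    have := hη _ h0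
    omega
  · refine ((hfin V hV).biUnion fun i _ =>
      (finite_commFun hX hN hL (u := b) (v := b') (ha i) (ha' i) hV).image (Prod.mk i)).subset ?_
    rintro ⟨i, x⟩ ⟨hp, hxV⟩
    obtain ⟨h0, h1⟩ := hprop _ hp
    exact Set.mem_biUnion (x := i) ⟨h0, (hΦd _ _ h1).1.mem_open V.2 hxV⟩ ⟨x, ⟨hxV, h1⟩, rfl⟩
  · obtain ⟨_, ⟨V, hV, rfl⟩, hzV, -⟩ :=
      X.isBasis_affineOpens.exists_subset_of_mem_open (Set.mem_univ z) isOpen_univ
    set T := (hfin V hV).toFinset
    have hmemT : ∀ i x, x ⤳ z → η i ⤳ x → n i ≠ 0 → i ∈ T := fun i x hxz hix h0 =>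
      (Set.Finite.mem_toFinset _).mpr ⟨h0, (hix.trans hxz).mem_open V.2 hzV⟩
    have hlin : ∀ (P Q : X.Modules) (_ : PicF.IsInvertible Q) (w : (x : X) → Cyc.secFibre P x)
        (q : (i : ι) → Cyc.secFibre Q (η i)) (_ : ∀ i, q i ≠ 0),
        Cyc.c1CapFun δ P (fun x => ∑ᶠ i, n i * Cyc.secDivFun δ Q (η i) (q i) x) w z =
          ∑ i ∈ T, n i * Cyc.c1CapFun δ P (Cyc.secDivFun δ Q (η i) (q i)) w z := by
      intro P Q hQ w q hq
      choose D hD using fun i => exists_cycle_secDivFun hX hQ (η i) (hq i)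
      refine c1CapFun_sum _ _ w _ z (fun x _ => rfl) T (fun i x hxz hne => ?_)
        (T.finite_toSet.biUnion fun i _ =>
          (D i).locallyFiniteSupport.finite_inter_support_of_isCompact hV.isCompact).toFinset
        fun i hi x hxz hne => (Set.Finite.mem_toFinset _).mpr
          (Set.mem_biUnion hi ⟨hxz.mem_open V.2 hzV, by show D i x ≠ 0; rwa [hD i]⟩)
      refine hmemT i x hxz ?_ (left_ne_zero_of_mul hne)
      by_contra h
      exact right_ne_zero_of_mul hne (dif_neg fun h' => h h'.1)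
    have hsupp : ∀ p : ι × X, Cyc.divFun δ p.2 (Φ p.1 p.2 ^ n p.1) z ≠ 0 →
        p.1 ∈ T ∧ p.2 ∈ V ∧ Φ p.1 p.2 ≠ 1 := fun p hne => by
      have hxz : p.2 ⤳ z := by_contra fun h => hne (dif_neg fun h' => h h'.1)
      obtain ⟨h0, h1⟩ := hprop p fun h => hne (by rw [h, divFun_one hX])
      exact ⟨hmemT _ _ hxz (hΦd _ _ h1).1 h0, hxz.mem_open V.2 hzV, h1⟩
    have hf : (Function.support fun p : ι × X => Cyc.divFun δ p.2 (Φ p.1 p.2 ^ n p.1) z).Finite :=
      (T.finite_toSet.biUnion fun i _ =>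
        (finite_commFun hX hN hL (u := b) (v := b') (ha i) (ha' i) hV).image (Prod.mk i)).subset
          fun p hp => Set.mem_biUnion (x := p.1) (hsupp _ hp).1 ⟨p.2, (hsupp _ hp).2, rfl⟩
    rw [finsum_curry _ hf, finsum_eq_sum_of_support_subset _ (s := T) fun i hi => by
      obtain ⟨x, hx⟩ : ∃ x, Cyc.divFun δ x (Φ i x ^ n i) z ≠ 0 := by
        by_contra! hn
        exact hi (finsum_eq_zero_of_forall_eq_zero hn)
      exact (hsupp (i, x) hx).1]
    dsimp only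
    rw [hlin L N hN b a ha, hlin N L hL b' a' ha', ← Finset.sum_sub_distrib]
    refine Finset.sum_congr rfl fun i _ => ?_
    rw [← mul_sub, c1_comm hX hN hL (u := b) (v := b') (ha i) (ha' i) hb hb' z, mul_finsum]
    exact finsum_congr fun x => (divFun_zpow hX (hΦ i x) z _).symm

theorem secDivFun_oneFib (hX : Cyc.IsSetup X δ) (ξ x : X) :
    Cyc.secDivFun δ (Coh.structureModule X) ξ (oneFib X ξ) x = 0 := by
  rw [secDivFun_structure hX (oneFib_ne_zero ξ), oneFib, coef_fmk (isStalkBasis_oneSec ξ), divFun_one hX]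

variable {s : L.presheaf.obj (Opposite.op ⊤)} {D : Scheme.{u}} {i : D ⟶ X}

theorem range_eq_zeroLocus (hD : Cyc.IsZeroSchemeOf i L s) : Set.range i = zeroLocus L s := hD.1

/-- The Gysin map is defined on cycles modulo rational equivalence. -/
theorem gysin_ratEquivZero [IsClosedImmersion i] (hX : Cyc.IsSetup X δ) (hL : PicF.IsInvertible L)
    (hD : Cyc.IsZeroSchemeOf i L s) {k : ℤ} {α : AlgebraicCycle X ℤ} (h0 : Cyc.RatEquivZero δ (k + 1) α)
    {t : (ξ : X) → Cyc.secFibre L ξ} (ht : ∀ ξ, t ξ ≠ 0) {γ : AlgebraicCycle D ℤ}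
    (hγ : ∀ d, γ d = Cyc.c1CapFun δ L ⇑α (Cyc.gysinChoice L s t) (i d)) :
    Cyc.RatEquivZero (fun d => δ (i d)) k γ := by
  classical
  obtain ⟨ι, η, f, hη, hf, hlf, hsum⟩ := h0
  choose a ha hac using fun j => exists_coef_eq (isStalkBasis_oneSec (η j)) (hf j)
  have hG := gysinChoice_ne_zero (L := L) (s := s) ht
  have h := c1_comm_family hX hL (isInvertible_structureModule X) (k := k) (Z := zeroLocus L s) η (fun _ => 1)
    (fun V hV => (finite_of_isCompact η hlf hV.isCompact).subset fun j hj =>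
      ⟨η j, specializes_rfl.mem_closure, hj.2⟩)
    (fun j _ => by rw [hη j]; ring) a ha (fun j => Cyc.gysinChoice L s t (η j)) (fun j => hG _) hG oneFib_ne_zero
    fun j x _ hx => commFun_eq_one_right hX hL (isInvertible_structureModule X) ht (ha j) _ hx
  refine h.restrict i hX (range_eq_zeroLocus hD).ge fun d => ?_
  rw [hγ]
  have e1 : (fun x => ∑ᶠ j, (1 : ℤ) * Cyc.secDivFun δ (Coh.structureModule X) (η j) (a j) x) = ⇑α :=
    funext fun x => by
      rw [hsum x]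
      exact finsum_congr fun j => by rw [one_mul, secDivFun_structure hX (ha j), hac j]
  have e2 : ∀ F : X → ℤ, Cyc.c1CapFun δ (Coh.structureModule X) F (oneFib X) (i d) = 0 := fun F =>
    finsum_eq_zero_of_forall_eq_zero fun x => mul_eq_zero_of_right _ (secDivFun_oneFib hX x (i d))
  dsimp only
  rw [e1, e2, sub_zero]

theorem range_zeroLocus_finite (α : AlgebraicCycle X ℤ) (V : X.Opens) (hV : IsAffineOpen V) :
    {ξ | α ξ ≠ 0 ∧ ξ ∈ V}.Finite :=
  (finite_cycle α V hV).subset fun _ h => ⟨h.2, h.1⟩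

/-- The Gysin map followed by the pushforward is the first Chern class. -/
theorem gysin_push (hX : Cyc.IsSetup X δ) (hL : PicF.IsInvertible L) {k : ℤ} {α : AlgebraicCycle X ℤ}
    (hα : α ∈ Cyc.Zk X δ (k + 1)) {w : (ξ : X) → Cyc.secFibre L ξ} (hw : ∀ ξ, w ξ ≠ 0)
    {t : (ξ : X) → Cyc.secFibre L ξ} (ht : ∀ ξ, t ξ ≠ 0) {γ₁ γ₂ : AlgebraicCycle X ℤ}
    (h₁ : ⇑γ₁ = Cyc.c1CapFun δ L ⇑α (Cyc.gysinChoice L s w)) (h₂ : ⇑γ₂ = Cyc.c1CapFun δ L ⇑α t) :
    Cyc.RatEquiv δ k γ₁ γ₂ := by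
  refine ratEquivZero_of_ratZeroOn hX (Z := Set.univ) ((c1CapFun_sections hX hL (k := k) ⇑α
    (finite_cycle α) (fun ξ h => by_contra fun h' => h (hα ξ h')) (gysinChoice_ne_zero (s := s) hw) ht
    fun ξ _ h => absurd (Set.mem_univ ξ) h).congr fun z => ?_)
  simp only [Function.locallyFinsuppWithin.coe_sub, Pi.sub_apply, h₁, h₂]

variable [IsClosedImmersion i]

/-- The Gysin map commutes with first Chern classes, on functions. -/
theorem gysin_c1_fun (hX : Cyc.IsSetup X δ) (hL : PicF.IsInvertible L) (hN : PicF.IsInvertible N)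
    (hD : Cyc.IsZeroSchemeOf i L s) {k : ℤ} (α : AlgebraicCycle X ℤ) (hα : α ∈ Cyc.Zk X δ k)
    {w : (ξ : X) → Cyc.secFibre L ξ} (hw : ∀ ξ, w ξ ≠ 0) {v : (ξ : X) → Cyc.secFibre N ξ} (hv : ∀ ξ, v ξ ≠ 0)
    {t : (d : D) → Cyc.secFibre ((Scheme.Modules.pullback i).obj N) d} (ht : ∀ d, t d ≠ 0)
    (F : D → ℤ) (hF : ∀ d, F d = Cyc.c1CapFun δ L ⇑α (Cyc.gysinChoice L s w) (i d))
    {ζ₁ ζ₂ : AlgebraicCycle D ℤ}
    (h₁ : ∀ d, ζ₁ d = Cyc.c1CapFun δ L (Cyc.c1CapFun δ N ⇑α v) (Cyc.gysinChoice L s w) (i d))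
    (h₂ : ⇑ζ₂ = Cyc.c1CapFun (fun d => δ (i d)) ((Scheme.Modules.pullback i).obj N) F t) :
    Cyc.RatEquiv (fun d => δ (i d)) (k - 2) ζ₁ ζ₂ := by
  have hG := gysinChoice_ne_zero (L := L) (s := s) hw
  set Z := zeroLocus L s with hZdef
  set A := Cyc.c1CapFun δ L ⇑α (Cyc.gysinChoice L s w) with hA
  have hAsupp : ∀ x, x ∉ Set.range i → A x = 0 := fun x hx =>
    c1CapFun_gysin_of_notMem hX hL _ hw (by rwa [← range_eq_zeroLocus hD])
  have hαk : ∀ ξ, α ξ ≠ 0 → δ ξ = k := fun ξ h => by_contra fun h' => h (hα ξ h')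
  have e1 : RatZeroOn δ (k - 2) Z fun z =>
      Cyc.c1CapFun δ L (Cyc.c1CapFun δ N ⇑α v) (Cyc.gysinChoice L s w) z - Cyc.c1CapFun δ N A v z :=
    c1_comm_family hX hL hN (fun ξ => ξ) ⇑α (range_zeroLocus_finite α) (fun ξ h => by rw [hαk ξ h]; ring)
      v hv (Cyc.gysinChoice L s w) hG hG hv
      fun ξ x _ hx => commFun_eq_one_right hX hL hN hw (hv ξ) _ hx
  have hM := Groth.PicAux.isInvertible_pullback i hN
  have hD' := isSetup_sub i hX
  have hfinA := finite_c1CapFun hX hL ⇑α (finite_cycle α) hG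
  have hAk : ∀ x, A x ≠ 0 → δ x = (k - 2) + 1 := fun x hx => by
    rw [delta_of_c1CapFun_ne_zero (δ := δ) (k := k - 1) (fun ξ h => by rw [hαk ξ h]; ring) _ hx]; ring
  have hFA : F = fun d => A (i d) := funext hF
  subst hFA
  have e2 := c1CapFun_sections hD' hM (k := k - 2) (Z := Set.univ) (fun d => A (i d))
    (finite_preimage_support i A hfinA) (fun d h => hAk _ h)
    (fun e => pullFib_ne_zero i hN e (hv (i e))) ht fun e _ h => absurd (Set.mem_univ e) h
  have e1' := ((e1.comap i hX (range_eq_zeroLocus hD).ge).mono (Set.subset_univ _))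
  refine ratEquivZero_of_ratZeroOn hD' ((ratZeroOn_add hD' e1' e2).congr fun d => ?_)
  simp only [Function.locallyFinsuppWithin.coe_sub, Pi.sub_apply, h₁, h₂]
  rw [← c1CapFun_closedImm i hX hN A hAsupp v hv d]
  ring

theorem map_closedImm_apply (α : AlgebraicCycle D ℤ) (d : D) :
    AlgebraicCycle.map i (fun d => δ (i d)) δ α (i d) = α d := by
  classical
  rw [map_apply_eq_sum i (fun d => δ (i d)) δ α (i d) {d}
      fun w hw _ => Finset.mem_singleton.mpr (i.isEmbedding.injective hw),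
    Finset.sum_singleton, if_pos rfl,
    show (fun d => δ (i d)) = δ ∘ ⇑i from rfl, mapCoeff_preimmersion, Nat.cast_one, mul_one]

theorem map_closedImm_apply_of_notMem (α : AlgebraicCycle D ℤ) {x : X} (hx : x ∉ Set.range i) :
    AlgebraicCycle.map i (fun d => δ (i d)) δ α x = 0 := by
  rw [map_apply_eq_sum i (fun d => δ (i d)) δ α x ∅ fun w hw _ => (hx ⟨w, hw⟩).elim, Finset.sum_empty]

/-- The Gysin map after the pushforward is the first Chern class. -/
theorem gysin_map_self (hX : Cyc.IsSetup X δ) (hL : PicF.IsInvertible L) {k : ℤ} {α : AlgebraicCycle D ℤ}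
    (hα : α ∈ Cyc.Zk D (fun d => δ (i d)) k) {w : (ξ : X) → Cyc.secFibre L ξ} (hw : ∀ ξ, w ξ ≠ 0)
    {t : (d : D) → Cyc.secFibre ((Scheme.Modules.pullback i).obj L) d} (ht : ∀ d, t d ≠ 0)
    {ζ₁ ζ₂ : AlgebraicCycle D ℤ}
    (h₁ : ∀ d, ζ₁ d =
      Cyc.c1CapFun δ L ⇑(AlgebraicCycle.map i (fun d => δ (i d)) δ α) (Cyc.gysinChoice L s w) (i d))
    (h₂ : ⇑ζ₂ = Cyc.c1CapFun (fun d => δ (i d)) ((Scheme.Modules.pullback i).obj L) ⇑α t) :
    Cyc.RatEquiv (fun d => δ (i d)) (k - 1) ζ₁ ζ₂ := by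
  have hG := gysinChoice_ne_zero (L := L) (s := s) hw
  have hM := Groth.PicAux.isInvertible_pullback i hL
  have hD' := isSetup_sub i hX
  have hA : (fun d => AlgebraicCycle.map i (fun d => δ (i d)) δ α (i d)) = ⇑α :=
    funext (map_closedImm_apply α)
  refine ratEquivZero_of_ratZeroOn hD' ((c1CapFun_sections hD' hM (k := k - 1) (Z := Set.univ) ⇑α
    (finite_cycle α) (fun d h => by rw [show δ (i d) = k from by_contra fun h' => h (hα d h')]; ring)
    (fun e => pullFib_ne_zero i hL e (hG (i e))) ht fun e _ h => absurd (Set.mem_univ e) h).congr fun d => ?_)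
  simp only [Function.locallyFinsuppWithin.coe_sub, Pi.sub_apply, h₁, h₂]
  rw [← c1CapFun_closedImm i hX hL _ (fun x hx => map_closedImm_apply_of_notMem α hx) _ hG d, hA]

end Groth.CycInter
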