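import Groth.Agent.CycInter.BivBasic
import Groth.Agent.S6466
import Groth.Agent.S1921

/-!
The first Chern class as an operational class.
-/

universe u

set_option autoImplicit false

open CategoryTheory CategoryTheory.Limits AlgebraicGeometry
open Groth.RefRank Groth.Cycles

namespace Groth.CycInter.Biv

variable {X : Scheme.{u}} {δX : X → ℤ} (hX : Cyc.IsSetup X δX) {L : X.Modules} (hL : PicF.IsInvertible L)

include hL in
theorem invertible_osq (s : Bivar.OSq X δX) : PicF.IsInvertible ((Scheme.Modules.pullback s.g).obj L) :=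
  Groth.PicAux.isInvertible_pullback s.g hL

/-- Chosen rational sections on a test scheme. -/
noncomputable def osqSecs (s : Bivar.OSq X δX) :
    (ξ : s.Y) → Cyc.secFibre ((Scheme.Modules.pullback s.g).obj L) ξ :=
  (exists_secs (invertible_osq hL s)).choose

theorem osqSecs_ne (s : Bivar.OSq X δX) (ξ : s.Y) : osqSecs hL s ξ ≠ 0 :=
  (exists_secs (invertible_osq hL s)).choose_spec ξ

/-- The cycle of the first Chern class with the chosen sections. -/
noncomputable def c1cyc (s : Bivar.OSq X δX) (α : AlgebraicCycle s.Y ℤ) : AlgebraicCycle s.Y ℤ :=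
  (exists_cycle_c1CapFun (isSetup_osq hX s) (invertible_osq hL s) α (osqSecs_ne hL s)).choose

theorem c1cyc_spec (s : Bivar.OSq X δX) (α : AlgebraicCycle s.Y ℤ) :
    ⇑(c1cyc hX hL s α) =
      Cyc.c1CapFun s.δ ((Scheme.Modules.pullback s.g).obj L) ⇑α (osqSecs hL s) :=
  (exists_cycle_c1CapFun (isSetup_osq hX s) (invertible_osq hL s) α (osqSecs_ne hL s)).choose_spec

theorem c1cyc_mem (s : Bivar.OSq X δX) {k : ℤ} {α : AlgebraicCycle s.Y ℤ} (hα : α ∈ Cyc.Zk s.Y s.δ k) :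
    c1cyc hX hL s α ∈ Cyc.Zk s.Y s.δ (k - 1) :=
  c1Cap_mem _ hα _ (c1cyc_spec hX hL s α)

theorem c1cyc_add (s : Bivar.OSq X δX) (α β : AlgebraicCycle s.Y ℤ) :
    c1cyc hX hL s (α + β) = c1cyc hX hL s α + c1cyc hX hL s β :=
  DFunLike.coe_injective (by
    rw [Function.locallyFinsuppWithin.coe_add, c1cyc_spec, c1cyc_spec, c1cyc_spec,
      Function.locallyFinsuppWithin.coe_add, Bivar.c1CapFun_add])

/-- The first Chern class on cycles. -/
noncomputable def c1Hom (s : Bivar.OSq X δX) (k : ℤ) : ↥(ChowOps.zk s.Y s.δ k) →+ ChowOps.CH s.Y s.δ (k - 1) :=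
  AddMonoidHom.mk' (fun α => ChowOps.cl (c1cyc hX hL s α.1) (c1cyc_mem hX hL s α.2)) fun α β => by
    rw [← Bivar.cl_add]
    exact Bivar.cl_congr (c1cyc_add hX hL s α.1 β.1) _ _

/-- The first Chern class on Chow groups. -/
noncomputable def c1Op (s : Bivar.OSq X δX) (k : ℤ) : ChowOps.CH s.Y s.δ k →+ ChowOps.CH s.Y s.δ (k - 1) :=
  liftCH (c1Hom hX hL s k) fun α hα h0 => by
    show ChowOps.cl (c1cyc hX hL s α) _ = 0
    rw [← Bivar.cl_zero]
    refine cl_eq _ _ ?_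
    show Cyc.RatEquivZero s.δ (k - 1) (c1cyc hX hL s α - 0)
    rw [sub_zero]
    exact Groth.Agent.S1921.result s.Y s.δ (isSetup_osq hX s) _ (invertible_osq hL s) (k - 1) α
      (by rwa [sub_add_cancel]) (by rwa [sub_add_cancel]) (osqSecs hL s) (osqSecs_ne hL s) _ (c1cyc_spec hX hL s α)

theorem c1Op_cl (s : Bivar.OSq X δX) (k : ℤ) {M : s.Y.Modules} (hM : PicF.IsInvertible M)
    (e : M ≅ (Scheme.Modules.pullback s.g).obj L) (α : AlgebraicCycle s.Y ℤ) (hα : α ∈ Cyc.Zk s.Y s.δ k)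
    {u : (ξ : s.Y) → Cyc.secFibre M ξ} (hu : ∀ ξ, u ξ ≠ 0) (γ : AlgebraicCycle s.Y ℤ)
    (hγ : ⇑γ = Cyc.c1CapFun s.δ M ⇑α u) (hγk : γ ∈ Cyc.Zk s.Y s.δ (k - 1)) :
    c1Op hX hL s k (ChowOps.cl α hα) = ChowOps.cl γ hγk :=
  (cl_eq hγk _ (c1_iso (isSetup_osq hX s) hM (invertible_osq hL s) e hα hu (osqSecs_ne hL s) hγ
    (c1cyc_spec hX hL s α))).symm

/-- The first Chern class as an operational class. -/
noncomputable def c1Class : Bivar.OpCl 1 X δX where
  op := c1Op hX hL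
  push s t h _ w k := by
    intro α hα
    have hS := isSetup_osq hX s
    have hT := isSetup_osq hX t
    have hδ : Cyc.DeltaCompat h t.δ s.δ :=
      Dvr.deltaCompat_of_comp h (g := s.g) (by rw [w]; exact t.compat) s.compat
    have hM := invertible_osq hL s
    have hM' := Groth.PicAux.isInvertible_pullback h hM
    obtain ⟨u, hu⟩ := exists_secs hM'
    obtain ⟨γ, hγ⟩ := exists_cycle_c1CapFun hT hM' α hu
    have hγk := c1Cap_mem _ hα u hγ
    refine ⟨γ, hγk, c1Op_cl hX hL t k hM' (pullIso w L) α hα hu γ hγ hγk, ?_⟩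
    obtain ⟨γ', hγ'⟩ := exists_cycle_c1CapFun hS hM (AlgebraicCycle.map h t.δ s.δ α) (osqSecs_ne hL s)
    have hm := Bivar.cycMap_mem_Zk h t.δ s.δ k hα
    rw [c1Op_cl hX hL s k hM (Iso.refl _) _ hm (osqSecs_ne hL s) γ' hγ' (c1Cap_mem _ hm _ hγ')]
    exact (cl_eq _ _ (Groth.Cycles.push_c1_ratEquiv t.δ s.δ hT hS h hδ hM (k - 1) α (by rwa [sub_add_cancel])
      hu (osqSecs_ne hL s) γ hγ γ' hγ')).symm
  pull s t h _ r hr w k := by
    intro α hα
    have hS := isSetup_osq hX s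
    have hT := isSetup_osq hX t
    have := s.lft
    have := t.lft
    have : LocallyOfFiniteType (h ≫ s.g) := w ▸ t.lft
    have : LocallyOfFiniteType h := locallyOfFiniteType_of_comp h s.g
    have hδ : Cyc.DeltaCompat h t.δ s.δ :=
      Dvr.deltaCompat_of_comp h (g := s.g) (by rw [w]; exact t.compat) s.compat
    have := hT.1
    have hc := fun x hx => Groth.Cycles.delta_eq_add_of_isFibreGeneric h hr hδ (x := x) hx
    have hM := invertible_osq hL s
    have hM' := Groth.PicAux.isInvertible_pullback h hM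
    refine ⟨c1cyc hX hL s α, c1cyc_mem hX hL s hα, rfl, fun α₁ hα₁e hα₁ => ?_⟩
    obtain ⟨β₁, hβ₁⟩ := exists_pullCycle t.δ s.δ hT hS h (r : ℤ) hc (c1cyc hX hL s α)
    have hβ₁k : β₁ ∈ Cyc.Zk t.Y t.δ (k + r - 1) := by
      have := Bivar.pullFun_mem_Zk h t.δ s.δ r (k - 1) (c1cyc_mem hX hL s hα) β₁ hβ₁
      rwa [sub_add_eq_add_sub] at this
    refine ⟨β₁, hβ₁k, hβ₁, ?_⟩
    obtain ⟨u, hu⟩ := exists_secs hM'
    obtain ⟨γ, hγ⟩ := exists_cycle_c1CapFun hT hM' α₁ hu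
    rw [c1Op_cl hX hL t (k + r) hM' (pullIso w L) α₁ hα₁ hu γ hγ (c1Cap_mem _ hα₁ u hγ)]
    refine (cl_eq _ _ ?_).symm
    exact Groth.Cycles.pull_c1_ratEquiv t.δ s.δ hT hS h (r : ℤ) hc hM k α hα (osqSecs_ne hL s) hu β₁ γ
      (by rw [hβ₁, c1cyc_spec]) (by rw [hγ, hα₁e])
  gysin s t i _ w L' hL' σ hσ k := by
    intro α hα
    have hS := isSetup_osq hX s
    have hδ : Cyc.DeltaCompat i t.δ s.δ :=
      Dvr.deltaCompat_of_comp i (g := s.g) (by rw [w]; exact t.compat) s.compat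
    have e := delta_closedImmersion hδ
    have hM := invertible_osq hL s
    refine ⟨c1cyc hX hL s α, c1cyc_mem hX hL s hα, rfl, fun wf hwf γ hγe hγ => ?_⟩
    obtain ⟨c, hc⟩ := exists_cycle_c1CapFun hS hL' (c1cyc hX hL s α)
      (s := Cyc.gysinChoice L' σ wf) (gysinChoice_ne_zero hwf)
    obtain ⟨ζ, hζ⟩ := exists_restrict_cycle i c
    have hζe : ∀ d, ζ d = Cyc.c1CapFun s.δ L' ⇑(c1cyc hX hL s α) (Cyc.gysinChoice L' σ wf) (i d) := fun d => by
      rw [← hc]; exact hζ d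
    have hζk : ζ ∈ Cyc.Zk t.Y t.δ (k - 1 - 1) := fun d hd => by
      rw [hζe d, ← hc]
      exact c1Cap_mem _ (c1cyc_mem hX hL s hα) _ hc (i d) (by rwa [e] at hd)
    refine ⟨ζ, hζk, hζe, ?_⟩
    have hM' := Groth.PicAux.isInvertible_pullback i hM
    obtain ⟨u, hu⟩ := exists_secs hM'
    obtain ⟨η, hη⟩ := exists_cycle_c1CapFun (isSetup_osq hX t) hM' γ hu
    rw [c1Op_cl hX hL t (k - 1) hM' (pullIso w L) γ hγ hu η hη (c1Cap_mem _ hγ u hη)]
    refine (cl_eq _ _ ?_).symm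
    rw [e, show k - 1 - 1 = k - 2 by ring]
    exact Groth.Agent.S6466.result s.Y t.Y s.δ hS L' _ hL' hM σ i hσ k α hα wf hwf (osqSecs hL s)
      (osqSecs_ne hL s) u hu (c1cyc hX hL s α) (c1cyc_spec hX hL s α) _ rfl ζ η hζe
      (by rw [hη, e, show ⇑γ = _ from funext hγe])

include hX hL in
theorem exists_isC1Class : ∃ c : Bivar.OpCl 1 X δX, Bivar.IsC1Class L c :=
  ⟨c1Class hX hL, hL, fun s k α hα v hv γ hγ hγk =>
    c1Op_cl hX hL s k (invertible_osq hL s) (Iso.refl _) α hα hv γ hγ hγk⟩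

end Groth.CycInter.Biv
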