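import Groth.Agent.CycInter.DvrPush
import Groth.Agent.Cycles.PullFib

/-!
Specialization commutes with flat pullback.
-/

universe u

set_option autoImplicit false

open CategoryTheory CategoryTheory.Limits AlgebraicGeometry IsLocalRing
open Groth.RefRank Groth.Cycles Groth.Variety2.Dim

namespace Groth.CycInter.Dvr

variable {X Y W V : Scheme.{u}}

theorem map_maximalIdeal_of_surjective {A B : Type u} [CommRing A] [CommRing B] [IsLocalRing A] [IsLocalRing B]
    (φ : A →+* B) [IsLocalHom φ] (h : Function.Surjective φ) :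
    (maximalIdeal A).map φ = maximalIdeal B := by
  have e : (maximalIdeal B).comap φ = maximalIdeal A := by
    ext a
    simp [IsLocalRing.mem_maximalIdeal, mem_nonunits_iff]
  rw [← e, Ideal.map_comap_of_surjective φ h]

theorem length_quot_of_surjective {A B : Type u} [CommRing A] [CommRing B] (φ : A →+* B)
    (h : Function.Surjective φ) (J : Ideal A) (hJ : RingHom.ker φ ≤ J) :
    Module.length B (B ⧸ J.map φ) = Module.length A (A ⧸ J) := by
  letI := φ.toAlgebra
  rw [← Module.length_eq_of_surjective (R := B) (S := A) (M := B ⧸ J.map φ) h]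
  have hs : Function.Surjective (Algebra.linearMap A (B ⧸ J.map φ)) :=
    Ideal.Quotient.mk_surjective.comp h
  refine ((LinearMap.quotKerEquivOfSurjective _ hs).symm.trans (Submodule.quotEquivOfEq _ _ ?_)).length_eq
  ext v
  show Ideal.Quotient.mk (J.map φ) (φ v) = 0 ↔ v ∈ J
  rw [Ideal.Quotient.eq_zero_iff_mem, ← Ideal.mem_comap, Ideal.comap_map_of_surjective φ h,
    ← RingHom.ker_eq_comap_bot, sup_eq_left.mpr hJ]

theorem length_fibre_sq (g : W ⟶ V) (f : X ⟶ Y) (i : W ⟶ X) [IsPreimmersion i] (j : V ⟶ Y) [IsPreimmersion j]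
    (h : g ≫ j = i ≫ f) (w : W)
    (hker : RingHom.ker (i.stalkMap w).hom ≤
      (maximalIdeal (Y.presheaf.stalk (f (i w)))).map (f.stalkMap (i w)).hom) :
    Module.length (W.presheaf.stalk w)
        (W.presheaf.stalk w ⧸ (maximalIdeal (V.presheaf.stalk (g w))).map (g.stalkMap w).hom) =
      Module.length (X.presheaf.stalk (i w))
        (X.presheaf.stalk (i w) ⧸ (maximalIdeal (Y.presheaf.stalk (f (i w)))).map (f.stalkMap (i w)).hom) := by
  have key : ∀ q : W ⟶ Y, q = i ≫ f → (maximalIdeal (Y.presheaf.stalk (q w))).map (q.stalkMap w).hom =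
      ((maximalIdeal (Y.presheaf.stalk (f (i w)))).map (f.stalkMap (i w)).hom).map (i.stalkMap w).hom := by
    rintro q rfl
    rw [Scheme.Hom.stalkMap_comp, Ideal.map_map]
    rfl
  have hV : (maximalIdeal (V.presheaf.stalk (g w))).map (g.stalkMap w).hom =
      ((maximalIdeal (Y.presheaf.stalk (f (i w)))).map (f.stalkMap (i w)).hom).map (i.stalkMap w).hom := by
    rw [← key (g ≫ j) h, Scheme.Hom.stalkMap_comp,
      ← map_maximalIdeal_of_surjective (j.stalkMap (g w)).hom (j.stalkMap_surjective (g w)), Ideal.map_map]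
    rfl
  rw [(Submodule.quotEquivOfEq _ _ hV).length_eq]
  exact length_quot_of_surjective _ (i.stalkMap_surjective w) _ hker

variable {R : Type u} [CommRing R] [IsDomain R] [IsDiscreteValuationRing R]
  (b : Y ⟶ Spec (CommRingCat.of R)) (f : X ⟶ Y)

theorem pullMult_fibre [LocallyOfFiniteType b] [LocallyOfFiniteType f] {δX : X → ℤ} {δY : Y → ℤ}
    (hX : Cyc.DeltaCompat (f ≫ b) δX (δ₀ R)) (hY : Cyc.DeltaCompat b δY (δ₀ R))
    (t : Spec (CommRingCat.of R)) {δXt : ↥((f ≫ b).fiber t) → ℤ} {δYt : ↥(b.fiber t) → ℤ}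
    (hXt : Cyc.DeltaCompat ((f ≫ b).fiberToSpecResidueField t) δXt (fun _ => 0))
    (hYt : Cyc.DeltaCompat (b.fiberToSpecResidueField t) δYt (fun _ => 0))
    (g : (f ≫ b).fiber t ⟶ b.fiber t) (hg : g ≫ b.fiberι t = (f ≫ b).fiberι t ≫ f) (c : ℤ)
    (ζ : (f ≫ b).fiber t) :
    pullMult g δXt δYt c ζ = pullMult f δX δY c ((f ≫ b).fiberι t ζ) := by
  have h : f ((f ≫ b).fiberι t ζ) = b.fiberι t (g ζ) := by
    rw [← Scheme.Hom.comp_apply, ← hg, Scheme.Hom.comp_apply]
  have e : δX ((f ≫ b).fiberι t ζ) = δY (f ((f ≫ b).fiberι t ζ)) + c ↔ δXt ζ = δYt (g ζ) + c := by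
    rw [h, delta_fiber (f ≫ b) hX _ hXt, delta_fiber b hY _ hYt, add_assoc, add_right_inj]
  have hl := length_fibre_sq g f ((f ≫ b).fiberι t) (b.fiberι t) hg ζ (by
    rw [(Groth.Agent.S9501.result (f ≫ b) t ζ).2, Scheme.Hom.stalkMap_comp]
    exact le_of_eq_of_le (Ideal.map_map (b.stalkMap (f ((f ≫ b).fiberι t ζ))).hom
        (f.stalkMap ((f ≫ b).fiberι t ζ)).hom).symm
      (Ideal.map_mono (Ideal.map_le_iff_le_comap.mpr fun a ha =>
        (IsLocalRing.mem_maximalIdeal _).mpr fun hu => (IsLocalRing.mem_maximalIdeal a).mp ha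
          (isUnit_of_map_unit _ a hu))))
  simp only [pullMult, Cyc.pullFun, hl, e]

/-- Specialization commutes with flat pullback. -/
theorem spFun_pullFun [LocallyOfFiniteType b] [LocallyOfFiniteType f] [Flat f] (e : ℕ)
    (he : Cyc.HasRelDim f e) {δXη : ↥((f ≫ b).fiber (eta R)) → ℤ}
    {δXs : ↥((f ≫ b).fiber (closedPoint R)) → ℤ} {δYη : ↥(b.fiber (eta R)) → ℤ}
    {δYs : ↥(b.fiber (closedPoint R)) → ℤ}
    (hXη : Cyc.DeltaCompat ((f ≫ b).fiberToSpecResidueField (eta R)) δXη (fun _ => 0))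
    (hXs : Cyc.DeltaCompat ((f ≫ b).fiberToSpecResidueField (closedPoint R)) δXs (fun _ => 0))
    (hYη : Cyc.DeltaCompat (b.fiberToSpecResidueField (eta R)) δYη (fun _ => 0))
    (hYs : Cyc.DeltaCompat (b.fiberToSpecResidueField (closedPoint R)) δYs (fun _ => 0))
    (fη : (f ≫ b).fiber (eta R) ⟶ b.fiber (eta R))
    (hfη : fη ≫ b.fiberι (eta R) = (f ≫ b).fiberι (eta R) ≫ f)
    (fs : (f ≫ b).fiber (closedPoint R) ⟶ b.fiber (closedPoint R))
    (hfs : fs ≫ b.fiberι (closedPoint R) = (f ≫ b).fiberι (closedPoint R) ≫ f) (r : ℤ)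
    (α : AlgebraicCycle (b.fiber (eta R)) ℤ) (hα : ∀ ζ, δYη ζ ≠ r → α ζ = 0) :
    Cyc.spFun (f ≫ b) (eta R) (closedPoint R) δXη δXs (r + e) (Cyc.pullFun fη δXη δYη e ⇑α) =
      Cyc.pullFun fs δXs δYs e (Cyc.spFun b (eta R) (closedPoint R) δYη δYs r ⇑α) := by
  classical
  obtain ⟨δX, hδX, hX⟩ := exists_model (f ≫ b)
  obtain ⟨δY, hδY, hY⟩ := exists_model b
  have hf := deltaCompat_of_comp f hδX hδY
  have := hX.1
  have := hY.1
  have hc : ∀ x, Groth.CycleLimits.IsFibreGeneric f x → δX x = δY (f x) + (e : ℤ) := fun x hx =>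
    delta_eq_add_of_isFibreGeneric f he hf hx
  set ιη := (f ≫ b).fiberι (eta R) with hιη
  set ιs := (f ≫ b).fiberι (closedPoint R) with hιs
  set jη := b.fiberι (eta R) with hjη
  set js := b.fiberι (closedPoint R) with hjs
  have hsq : ∀ ζ, f (ιη ζ) = jη (fη ζ) := fun ζ => by rw [← Scheme.Hom.comp_apply, ← hfη, Scheme.Hom.comp_apply]
  have hsqs : ∀ x, f (ιs x) = js (fs x) := fun x => by rw [← Scheme.Hom.comp_apply, ← hfs, Scheme.Hom.comp_apply]
  funext x
  rw [pullFun_eq_mult]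
  by_cases hx : δXs x = r + e
  swap
  · rw [Cyc.spFun, if_neg hx]
    by_cases hy : δYs (fs x) = r
    · rw [show pullMult fs δXs δYs e x = 0 from by_contra fun h => hx (by rw [delta_of_pullMult_ne h, hy]),
        mul_zero]
    · rw [Cyc.spFun, if_neg hy, zero_mul]
  set G : Y → ℤ := Function.extend jη (⇑α) 0 with hG
  have hG0 : ∀ η', G η' ≠ 0 → b η' = eta R ∧ δY η' = r + 1 := fun η' hη' => by
    by_cases hr : ∃ ζ, jη ζ = η'
    · obtain ⟨ζ, rfl⟩ := hr
      rw [hG, jη.isEmbedding.injective.extend_apply] at hη'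
      refine ⟨Groth.FibreDim.apply_fiberι b _ ζ, ?_⟩
      rw [hjη, delta_fiber b hδY _ hYη, δ₀_eta, by_contra fun h => hη' (hα ζ h), add_comm]
    · exact absurd (Function.extend_apply' _ _ _ hr) hη'
  rw [spFun_eq (f ≫ b) hX hδX hXη hXs (r + e) _ (fun ξ => G (f ξ) * pullMult f δX δY e ξ)
    (fun ζ hζ => by
      rw [pullFun_eq_mult, pullMult_fibre b f hδX hδY (eta R) hXη hYη fη hfη, hsq, hG,
        jη.isEmbedding.injective.extend_apply])
    (fun ξ hξ => ⟨(Scheme.Hom.comp_apply f b ξ).trans (hG0 _ (left_ne_zero_of_mul hξ)).1, by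
      rw [delta_of_pullMult_ne (right_ne_zero_of_mul hξ), (hG0 _ (left_ne_zero_of_mul hξ)).2]; ring⟩)
    (piX (f ≫ b)) (fun _ _ => rfl) x hx, pullMult_fibre b f hδX hδY (closedPoint R) hXs hYs fs hfs]
  -- finiteness
  obtain ⟨_, ⟨U, hU, rfl⟩, hyU, -⟩ :=
    Y.isBasis_affineOpens.exists_subset_of_mem_open (Set.mem_univ (f (ιs x))) isOpen_univ
  obtain ⟨_, ⟨O, hO, rfl⟩, hxO, hOU⟩ :=
    X.isBasis_affineOpens.exists_subset_of_mem_open hyU (f ⁻¹ᵁ U).isOpen
  haveI : IsAffineHom ((Spec (CommRingCat.of R)).fromSpecResidueField (eta R)) := inferInstance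
  haveI : QuasiCompact jη := MorphismProperty.pullback_fst _ _ inferInstance
  have hfinY : {η' : Y | η' ∈ U ∧ G η' ≠ 0}.Finite := by
    refine ((α.locallyFiniteSupport.finite_inter_support_of_isCompact
      (jη.isCompact_preimage hU.isCompact)).image jη).subset fun η' ⟨hη'U, hη'⟩ => ?_
    by_cases hr : ∃ ζ, jη ζ = η'
    · obtain ⟨ζ, rfl⟩ := hr
      rw [hG, jη.isEmbedding.injective.extend_apply] at hη'
      exact ⟨ζ, ⟨hη'U, hη'⟩, rfl⟩
    · exact absurd (Function.extend_apply' _ _ _ hr) hη'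
  have hfinX : (Function.support fun ξ => G (f ξ) * pullMult f δX δY e ξ *
      Cyc.divFun δX ξ (piX (f ≫ b) ξ) (ιs x)).Finite := by
    refine (hfinY.biUnion fun η' _ => finite_pullMult_fibre δX δY hX hY f e hc η' hO).subset fun ξ hξ => ?_
    have hsp : ξ ⤳ ιs x := by_contra fun hn => right_ne_zero_of_mul hξ (divFun_of_not_specializes _ hn)
    have hξO : ξ ∈ O := hsp.mem_open O.isOpen hxO
    exact Set.mem_biUnion (x := f ξ) ⟨hOU hξO, left_ne_zero_of_mul (left_ne_zero_of_mul hξ)⟩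
      ⟨rfl, right_ne_zero_of_mul (left_ne_zero_of_mul hξ), hξO⟩
  -- the common value
  trans ∑ᶠ η', G η' * (Cyc.divFun δY η' (piX b η') (f (ιs x)) * pullMult f δX δY e (ιs x))
  · rw [finsum_fiberwise (fun ξ => f ξ) _ hfinX]
    refine finsum_congr fun η' => ?_
    by_cases hη' : G η' = 0
    · rw [hη', zero_mul]
      exact finsum_eq_zero_of_forall_eq_zero fun ξ => by rw [ξ.2, hη', zero_mul, zero_mul]
    rw [← pullFun_eq_mult f δX δY e (Cyc.divFun δY η' (piX b η')),
      pullFun_divFun_fibre δX δY hX hY f e hc η' _ (piX_ne_zero b (hG0 η' hη').1), mul_finsum]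
    refine finsum_congr fun ξ => ?_
    obtain ⟨ξ, rfl⟩ := ξ
    rw [mul_assoc, piX_comp]
    simp
  by_cases hy : δYs (fs x) = r
  · rw [spFun_eq b hY hδY hYη hYs r _ G (fun ζ _ => by rw [hG, jη.isEmbedding.injective.extend_apply])
      hG0 (piX b) (fun _ _ => rfl) (fs x) hy, finsum_mul, hsqs]
    exact finsum_congr fun η' => (mul_assoc _ _ _).symm
  · have h0 : pullMult f δX δY e (ιs x) = 0 := by
      rw [← pullMult_fibre b f hδX hδY (closedPoint R) hXs hYs fs hfs]
      exact by_contra fun h => hy (by have := delta_of_pullMult_ne h; omega)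
    rw [h0, mul_zero]
    exact finsum_eq_zero_of_forall_eq_zero fun η' => by simp

end Groth.CycInter.Dvr
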