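import Groth.Agent.CycInter.BivZero
import Groth.Agent.CycInter.DvrPull

/-!
Gysin maps for cartesian squares and isomorphic modules.
-/

universe u

set_option autoImplicit false

open CategoryTheory CategoryTheory.Limits AlgebraicGeometry IsLocalRing
open Groth.RefRank Groth.Cycles Groth.QCohMod

namespace Groth.CycInter.Biv

variable {X X' D P : Scheme.{u}} {δ : X → ℤ} {δ' : X' → ℤ}

theorem exists_gysin_cycle (hX : Cyc.IsSetup X δ) {L : X.Modules} (hL : PicF.IsInvertible L) (i : D ⟶ X)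
    [IsClosedImmersion i] {s : L.presheaf.obj (Opposite.op ⊤)} {w : (ξ : X) → Cyc.secFibre L ξ}
    (hw : ∀ ξ, w ξ ≠ 0) (α : AlgebraicCycle X ℤ) :
    ∃ γ : AlgebraicCycle D ℤ, (∀ d, γ d = Cyc.c1CapFun δ L ⇑α (Cyc.gysinChoice L s w) (i d)) ∧
      ∀ k, α ∈ Cyc.Zk X δ k → γ ∈ Cyc.Zk D (fun d => δ (i d)) (k - 1) := by
  obtain ⟨c, hc⟩ := exists_cycle_c1CapFun hX hL α (s := Cyc.gysinChoice L s w)
    (Groth.CycInter.gysinChoice_ne_zero hw)
  obtain ⟨γ, hγ⟩ := exists_restrict_cycle i c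
  refine ⟨γ, fun d => by rw [hγ, hc], fun k hα d hd => ?_⟩
  rw [hγ]
  exact c1Cap_mem _ hα _ hc (i d) hd

/-- Sections with the same zero scheme give the same Gysin classes. -/
theorem gysin_compare {f : X' ⟶ X} {i : D ⟶ X} [IsClosedImmersion i] {j : P ⟶ X'} {q : P ⟶ D}
    (hX' : Cyc.IsSetup X' δ') {L : X.Modules} (hL : PicF.IsInvertible L) {s : L.presheaf.obj (Opposite.op ⊤)}
    (hD : Cyc.IsZeroSchemeOf i L s) (sq : IsPullback j q f i)
    {s₁ s₂ : ((Scheme.Modules.pullback f).obj L).presheaf.obj (Opposite.op ⊤)}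
    (h₁ : Cyc.IsZeroSchemeOf j ((Scheme.Modules.pullback f).obj L) s₁)
    (h₂ : Cyc.IsZeroSchemeOf j ((Scheme.Modules.pullback f).obj L) s₂) {k : ℤ} (α : AlgebraicCycle X' ℤ)
    (hα : α ∈ Cyc.Zk X' δ' k) {w₁ w₂ : (ξ : X') → Cyc.secFibre ((Scheme.Modules.pullback f).obj L) ξ}
    (hw₁ : ∀ ξ, w₁ ξ ≠ 0) (hw₂ : ∀ ξ, w₂ ξ ≠ 0) {γ₁ γ₂ : AlgebraicCycle P ℤ}
    (e₁ : ∀ z, γ₁ z = Cyc.c1CapFun δ' _ ⇑α (Cyc.gysinChoice _ s₁ w₁) (j z))
    (e₂ : ∀ z, γ₂ z = Cyc.c1CapFun δ' _ ⇑α (Cyc.gysinChoice _ s₂ w₂) (j z)) :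
    Cyc.RatEquiv (fun z => δ' (j z)) (k - 1) γ₁ γ₂ := by
  have := isClosedImmersion_of_isPullback sq
  obtain ⟨w, hw⟩ := exists_secs hL
  have hP := isSetup_sub j hX'
  have hF : ∀ ξ, α ξ ≠ 0 → δ' ξ = k - 1 + 1 := fun ξ h => by
    rw [sub_add_cancel]; exact by_contra fun h' => h (hα ξ h')
  refine ratEquivZero_of_ratZeroOn hP ((ratZeroOn_sub hP
    (gysin_pull_sections hX' hL hD sq h₁ ⇑α (finite_cycle α) hF hw hw₁)
    (gysin_pull_sections hX' hL hD sq h₂ ⇑α (finite_cycle α) hF hw hw₂)).congr fun z => ?_)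
  simp only [Function.locallyFinsuppWithin.coe_sub, Pi.sub_apply, e₁, e₂]
  ring

/-- The Gysin coefficients for isomorphic modules. -/
theorem gysin_iso (hX : Cyc.IsSetup X δ) {M N : X.Modules} (hM : PicF.IsInvertible M) (hN : PicF.IsInvertible N)
    (e : M ≅ N) (s : M.presheaf.obj (Opposite.op ⊤)) {u : (ξ : X) → Cyc.secFibre M ξ} (hu : ∀ ξ, u ξ ≠ 0) :
    ∃ v : (ξ : X) → Cyc.secFibre N ξ, (∀ ξ, v ξ ≠ 0) ∧ ∀ (α : X → ℤ),
      Cyc.c1CapFun δ N α (Cyc.gysinChoice N (e.hom.app ⊤ s) v) =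
        Cyc.c1CapFun δ M α (Cyc.gysinChoice M s u) := by
  classical
  have hne := Groth.CycInter.gysinChoice_ne_zero (L := M) (s := s) hu
  choose v hv hc using fun ξ => exists_coef_eq (isStalkBasis_iso e (bas_spec hM ξ))
    (coef_ne_zero (bas_spec hM ξ) (hne ξ))
  have hfix : ∀ ξ, Cyc.gysinChoice N (e.hom.app ⊤ s) v ξ = v ξ := by
    intro ξ
    rw [Cyc.gysinChoice]
    split_ifs with h
    swap
    · rfl
    refine eq_of_coef_eq (isStalkBasis_iso e (bas_spec hM ξ)) ?_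
    rw [hc]
    obtain ⟨g, hg⟩ := (bas_spec hM ξ).2 ((M.presheaf.germ ⊤ ξ trivial) s)
    dsimp only at hg
    have hN' : (N.presheaf.germ ⊤ ξ trivial) (e.hom.app ⊤ s) =
        g • RefHull.stalkMapₗ e.hom ξ (bas hM ξ) := by
      rw [← map_smul, hg]
      exact (RefHull.stalkMapₗ_germ e.hom ξ (U := (⊤ : X.Opens)) trivial s).symm
    have hgu : IsUnit g := by
      rw [hN'] at h
      exact not_not.mp fun hh => h ((mk_smul_eq_zero_iff (isStalkBasis_iso e (bas_spec hM ξ)) g).mpr hh)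
    have hM' : (Submodule.Quotient.mk ((M.presheaf.germ ⊤ ξ trivial) s) : Cyc.secFibre M ξ) ≠ 0 := by
      rw [← hg]
      exact fun hh => (mk_smul_eq_zero_iff (bas_spec hM ξ) g).mp hh hgu
    rw [Cyc.gysinChoice, if_pos hM', hN', ← hg, Submodule.Quotient.mk_smul, Submodule.Quotient.mk_smul]
    exact (coef_smul (isStalkBasis_iso e (bas_spec hM ξ)) g).trans (coef_smul (bas_spec hM ξ) g).symm
  refine ⟨v, hv, fun α => funext fun z => finsum_congr fun ξ => ?_⟩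
  rw [hfix, secDivFun_iso hX hM hN e (hne ξ) (hv ξ) (hc ξ) z]

/-- The Gysin map commutes with flat pullback, for any cartesian square. -/
theorem gysin_pull_sq {f : X' ⟶ X} {i : D ⟶ X} [IsClosedImmersion i] {j : P ⟶ X'} {q : P ⟶ D}
    (hX : Cyc.IsSetup X δ) (hX' : Cyc.IsSetup X' δ') [Flat f] (c : ℤ)
    (hc : ∀ x, Groth.CycleLimits.IsFibreGeneric f x → δ' x = δ (f x) + c) {L : X.Modules}
    (hL : PicF.IsInvertible L) {s : L.presheaf.obj (Opposite.op ⊤)} (hD : Cyc.IsZeroSchemeOf i L s)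
    (sq : IsPullback j q f i)
    {s' : ((Scheme.Modules.pullback f).obj L).presheaf.obj (Opposite.op ⊤)}
    (hD' : Cyc.IsZeroSchemeOf j ((Scheme.Modules.pullback f).obj L) s') (k : ℤ)
    (α : AlgebraicCycle X ℤ) (hα : α ∈ Cyc.Zk X δ (k + 1)) {w : (ξ : X) → Cyc.secFibre L ξ}
    (hw : ∀ ξ, w ξ ≠ 0) {w' : (ξ : X') → Cyc.secFibre ((Scheme.Modules.pullback f).obj L) ξ}
    (hw' : ∀ ξ, w' ξ ≠ 0) {ζ₁ ζ₂ : AlgebraicCycle P ℤ}
    (h₁ : ∀ z, ζ₁ z = Cyc.c1CapFun δ' ((Scheme.Modules.pullback f).obj L) (Cyc.pullFun f δ' δ c ⇑α)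
      (Cyc.gysinChoice ((Scheme.Modules.pullback f).obj L) s' w') (j z))
    (h₂ : ⇑ζ₂ = Cyc.pullFun q (fun z => δ' (j z)) (fun d => δ (i d)) c
      (fun d => Cyc.c1CapFun δ L ⇑α (Cyc.gysinChoice L s w) (i d))) :
    Cyc.RatEquiv (fun z => δ' (j z)) (k + c) ζ₁ ζ₂ := by
  have := isClosedImmersion_of_isPullback sq
  have hP := isSetup_sub j hX'
  have hG := Groth.CycInter.gysinChoice_ne_zero (L := L) (s := s) hw
  obtain ⟨A, hA⟩ := Groth.Cycles.exists_pullCycle δ' δ hX' hX f c hc α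
  have hAk : ∀ ξ, A ξ ≠ 0 → δ' ξ = k + c + 1 := fun ξ h => by
    rw [hA, Groth.Cycles.pullFun_eq_mult] at h
    rw [Groth.Cycles.delta_of_pullMult_ne (right_ne_zero_of_mul h),
      show δ (f ξ) = k + 1 from by_contra fun h' => left_ne_zero_of_mul h (hα _ h')]
    ring
  refine ratEquivZero_of_ratZeroOn hP ((gysin_pull_sections hX' hL hD sq hD' ⇑A
    (finite_cycle A) hAk hw hw').congr fun z => ?_)
  simp only [Function.locallyFinsuppWithin.coe_sub, Pi.sub_apply, h₁, h₂, hA]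
  congr 1
  have e := Groth.Cycles.pullFun_c1CapFun δ' δ hX' hX f c hc hL α hG (j z)
  simp only [pullFib_eq] at e
  have hsq : f (j z) = i (q z) := by
    rw [← Scheme.Hom.comp_apply, sq.w, Scheme.Hom.comp_apply]
  rw [← e, Groth.Cycles.pullFun_eq_mult, Groth.Cycles.pullFun_eq_mult]
  refine congrArg₂ (· * ·) (congrArg (fun y => Cyc.c1CapFun δ L ⇑α (Cyc.gysinChoice L s w) y) hsq.symm) ?_
  simp only [Groth.Cycles.pullMult, Cyc.pullFun, one_mul]
  have hlen := Dvr.length_fibre_sq q f j i sq.w.symm z (by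
    rw [← stalkIdeal_ker j z, ker_of_isPullback sq, Groth.ParaFormal.stalkIdeal_comap]
    obtain ⟨t, g, h1, h2, h3⟩ := exists_eqn_of_mem i hD (y := f (j z)) ⟨q z, hsq.symm⟩
    rw [h3, Ideal.map_span, Set.image_singleton, Ideal.span_singleton_le_iff_mem]
    refine Ideal.mem_map_of_mem _ ((IsLocalRing.mem_maximalIdeal g).mpr fun hu => ?_)
    have hz : f (j z) ∈ zeroLocus L s := by rw [← range_eq_zeroLocus hD]; exact ⟨q z, hsq.symm⟩
    obtain ⟨b, hb, hbt⟩ := exists_unit_of_basis (bas_spec hL (f (j z))) h1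
    refine (mk_smul_eq_zero_iff (bas_spec hL (f (j z))) (g * b)).mp ?_ (hu.mul hb)
    rw [mul_smul, ← hbt, ← h2]
    exact not_not.mp fun hh => hh hz)
  rw [hlen]
  have hd : δ (i (q z)) = δ (f (j z)) := congrArg δ hsq.symm
  rw [hd]

end Groth.CycInter.Biv
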