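import Groth.Agent.CycInter.BivEnvelope
import Groth.Agent.S9358

/-!
Pushforward on Chow groups and stability of relative dimension under base change.
-/

universe u

set_option autoImplicit false

open CategoryTheory CategoryTheory.Limits AlgebraicGeometry
open Groth.RefRank Groth.Cycles

namespace Groth.CycInter.Biv

variable {X Y : Scheme.{u}} {δ : X → ℤ} {δY : Y → ℤ}

/-- Proper pushforward on Chow groups. -/
noncomputable def pushCH (hX : Cyc.IsSetup X δ) (hY : Cyc.IsSetup Y δY) (p : Y ⟶ X) [IsProper p]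
    (hδ : Cyc.DeltaCompat p δY δ) (k : ℤ) : ChowOps.CH Y δY k →+ ChowOps.CH X δ k :=
  liftCH (AddMonoidHom.mk'
    (fun a => ChowOps.cl (AlgebraicCycle.map p δY δ a.1) (Bivar.cycMap_mem_Zk p δY δ k a.2))
    fun a b => by
      rw [← Bivar.cl_add]
      exact Bivar.cl_congr (Bivar.cycMap_add p δY δ a.1 b.1) _ _) fun a ha h0 => by
    show ChowOps.cl _ _ = 0
    rw [← Bivar.cl_zero]
    refine cl_eq _ _ ?_
    show Cyc.RatEquivZero δ k (AlgebraicCycle.map p δY δ a - 0)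
    rw [sub_zero]
    exact Groth.Cycles.ratEquivZero_map δY δ hY hX p hδ k a h0

theorem pushCH_cl (hX : Cyc.IsSetup X δ) (hY : Cyc.IsSetup Y δY) (p : Y ⟶ X) [IsProper p]
    (hδ : Cyc.DeltaCompat p δY δ) {k : ℤ} (α : AlgebraicCycle Y ℤ) (hα : α ∈ Cyc.Zk Y δY k) :
    pushCH hX hY p hδ k (ChowOps.cl α hα) =
      ChowOps.cl (AlgebraicCycle.map p δY δ α) (Bivar.cycMap_mem_Zk p δY δ k hα) := rfl

theorem hasRelDim_baseChange {X' Y' : Scheme.{u}} {f : X ⟶ Y} [LocallyOfFiniteType f] {g : Y' ⟶ Y}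
    {g' : X' ⟶ X} {f' : X' ⟶ Y'} (sq : IsPullback g' f' f g) {r : ℕ} (hr : Cyc.HasRelDim f r) :
    Cyc.HasRelDim f' r :=
  (Groth.Agent.S9358.result f g g' f' sq r).2.2 hr

end Groth.CycInter.Biv
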