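import Groth.Agent.CycInter.BivBundle
import Groth.Agent.CycInter.BivGysinLemmas
import Groth.Agent.CycInter.BivPushCH
import Groth.Agent.CycInter.BivC1
import Groth.Agent.S1929

/-!
Bivariant classes commute with first Chern classes.
-/

universe u

set_option autoImplicit false

open CategoryTheory CategoryTheory.Limits AlgebraicGeometry
open Groth.RefRank Groth.Cycles

namespace Groth.CycInter.Biv

variable {X D : Scheme.{u}} {δ : X → ℤ} {δD : D → ℤ} {k : ℤ}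

/-- Rationally equivalent cycles have the same Gysin classes. -/
theorem gysin_cl_congr (hX : Cyc.IsSetup X δ) {L : X.Modules} (hL : PicF.IsInvertible L) {i : D ⟶ X}
    [IsClosedImmersion i] {s : L.presheaf.obj (Opposite.op ⊤)} (hD : Cyc.IsZeroSchemeOf i L s)
    (e : δD = fun d => δ (i d)) {w : (ξ : X) → Cyc.secFibre L ξ} (hw : ∀ ξ, w ξ ≠ 0)
    {α β : AlgebraicCycle X ℤ} (hα : α ∈ Cyc.Zk X δ k) (hβ : β ∈ Cyc.Zk X δ k)
    (h : ChowOps.cl α hα = ChowOps.cl β hβ) {γ γ' : AlgebraicCycle D ℤ}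
    (hγ : ∀ d, γ d = Cyc.c1CapFun δ L ⇑α (Cyc.gysinChoice L s w) (i d))
    (hγ' : ∀ d, γ' d = Cyc.c1CapFun δ L ⇑β (Cyc.gysinChoice L s w) (i d))
    (hγk : γ ∈ Cyc.Zk D δD (k - 1)) (hγ'k : γ' ∈ Cyc.Zk D δD (k - 1)) :
    ChowOps.cl γ hγk = ChowOps.cl γ' hγ'k := by
  subst e
  choose c hc hck using fun a => exists_gysin_cycle hX hL i (s := s) hw a
  let F : ↥(ChowOps.zk X δ k) →+ ChowOps.CH D (fun d => δ (i d)) (k - 1) :=
    AddMonoidHom.mk' (fun a => ChowOps.cl (c a.1) (hck a.1 k a.2)) fun a b => by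
      rw [← Bivar.cl_add]
      refine Bivar.cl_congr (DFunLike.coe_injective (funext fun d => ?_)) _ _
      rw [AddSubgroup.coe_add, Function.locallyFinsuppWithin.coe_add, Pi.add_apply, hc, hc, hc,
        Function.locallyFinsuppWithin.coe_add, Bivar.c1CapFun_add, Pi.add_apply]
  have hF : ∀ (a : AlgebraicCycle X ℤ) (ha : a ∈ Cyc.Zk X δ k), Cyc.RatEquivZero δ k a → F ⟨a, ha⟩ = 0 := by
    intro a ha h0
    show ChowOps.cl _ _ = 0
    rw [← Bivar.cl_zero]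
    refine cl_eq _ _ ?_
    show Cyc.RatEquivZero (fun d => δ (i d)) (k - 1) (c a - 0)
    rw [sub_zero]
    exact Groth.Agent.S1929.result X D δ hX L hL s i hD (k - 1) a (by rwa [sub_add_cancel])
      (by rwa [sub_add_cancel]) w hw _ (hc a)
  have e := congrArg (liftCH F hF) h
  have h1 : c α = γ := DFunLike.coe_injective (funext fun d => by rw [hc, hγ])
  have h2 : c β = γ' := DFunLike.coe_injective (funext fun d => by rw [hc, hγ'])
  exact (Bivar.cl_congr h1.symm _ (hck α k hα)).trans (e.trans (Bivar.cl_congr h2 (hck β k hβ) _))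

/-- The self-intersection of a zero scheme. -/
theorem gysin_map_self (hX : Cyc.IsSetup X δ) {L : X.Modules} (hL : PicF.IsInvertible L) {i : D ⟶ X}
    [IsClosedImmersion i] {s : L.presheaf.obj (Opposite.op ⊤)} (hD : Cyc.IsZeroSchemeOf i L s)
    (e : δD = fun d => δ (i d)) {w : (ξ : X) → Cyc.secFibre L ξ} (hw : ∀ ξ, w ξ ≠ 0)
    (α : AlgebraicCycle D ℤ) :
    ∃ v : (d : D) → Cyc.secFibre ((Scheme.Modules.pullback i).obj L) d, (∀ d, v d ≠ 0) ∧
      ∀ d, Cyc.c1CapFun δ L ⇑(AlgebraicCycle.map i δD δ α) (Cyc.gysinChoice L s w) (i d) =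
        Cyc.c1CapFun δD ((Scheme.Modules.pullback i).obj L) ⇑α v d := by
  subst e
  have hG := Groth.CycInter.gysinChoice_ne_zero (L := L) (s := s) hw
  refine ⟨fun d => pullFib i hL d (Cyc.gysinChoice L s w (i d)), fun d => pullFib_ne_zero i hL d (hG _),
    fun d => ?_⟩
  have h := c1CapFun_closedImm i hX hL ⇑(AlgebraicCycle.map i (fun d => δ (i d)) δ α)
    (fun x hx => map_closedImm_apply_of_notMem α hx) _ hG d
  refine h.symm.trans ?_
  congr 1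
  exact funext fun d' => map_closedImm_apply (i := i) (δ := δ) α d'

theorem isC1Class_cl_iso {δX : X → ℤ} (hX : Cyc.IsSetup X δX) {L : X.Modules} {c : Bivar.OpCl 1 X δX}
    (hc : Bivar.IsC1Class L c) (s : Bivar.OSq X δX) {M : s.Y.Modules} (hM : PicF.IsInvertible M)
    (e : M ≅ (Scheme.Modules.pullback s.g).obj L) (α : AlgebraicCycle s.Y ℤ) (hα : α ∈ Cyc.Zk s.Y s.δ k)
    {u : (ξ : s.Y) → Cyc.secFibre M ξ} (hu : ∀ ξ, u ξ ≠ 0) (γ : AlgebraicCycle s.Y ℤ)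
    (hγ : ⇑γ = Cyc.c1CapFun s.δ M ⇑α u) (hγk : γ ∈ Cyc.Zk s.Y s.δ (k - 1)) :
    c.op s k (ChowOps.cl α hα) = ChowOps.cl γ hγk := by
  have hS := isSetup_osq hX s
  have hN := Groth.PicAux.isInvertible_pullback s.g hc.1
  obtain ⟨v, hv⟩ := exists_secs hN
  obtain ⟨η, hη⟩ := exists_cycle_c1CapFun hS hN α hv
  rw [hc.2 s k α hα v hv η hη (c1Cap_mem _ hα v hη)]
  exact (cl_eq hγk _ (c1_iso hS hM hN e hα hu hv hγ hη)).symm

/-- The class of the first Chern class as the self-intersection of a zero scheme. -/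
theorem isC1Class_cl_gysin {Y V : Scheme.{u}} {δX : X → ℤ} (hX : Cyc.IsSetup X δX) {L : X.Modules}
    {c : Bivar.OpCl 1 X δX} (hc : Bivar.IsC1Class L c) (g : Y ⟶ X) (hg : LocallyOfFiniteType g) {δY : Y → ℤ}
    (hgδ : Cyc.DeltaCompat g δY δX) {δV : V → ℤ} (hV : Cyc.IsSetup V δV) {N : V.Modules}
    (hN : PicF.IsInvertible N) {z : Y ⟶ V} [IsClosedImmersion z] {σ : N.presheaf.obj (Opposite.op ⊤)}
    (hσ : Cyc.IsZeroSchemeOf z N σ) (ez : δY = fun y => δV (z y))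
    (e : (Scheme.Modules.pullback z).obj N ≅ (Scheme.Modules.pullback g).obj L)
    {w : (ξ : V) → Cyc.secFibre N ξ} (hw : ∀ ξ, w ξ ≠ 0) (α : AlgebraicCycle Y ℤ)
    (hα : α ∈ Cyc.Zk Y δY k) (γ : AlgebraicCycle Y ℤ)
    (hγ : ∀ y, γ y = Cyc.c1CapFun δV N ⇑(AlgebraicCycle.map z δY δV α) (Cyc.gysinChoice N σ w) (z y))
    (hγk : γ ∈ Cyc.Zk Y δY (k - 1)) :
    c.op ⟨Y, g, hg, δY, hgδ⟩ k (ChowOps.cl α hα) = ChowOps.cl γ hγk := by
  obtain ⟨v, hv, hv'⟩ := gysin_map_self hV hN hσ ez hw α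
  exact isC1Class_cl_iso hX hc ⟨Y, g, hg, δY, hgδ⟩ (Groth.PicAux.isInvertible_pullback z hN) e α hα hv γ
    (funext fun y => (hγ y).trans (hv' y)) hγk

theorem opCl_c1_comm {δX : X → ℤ} (hX : Cyc.IsSetup X δX) {L : X.Modules} {c : Bivar.OpCl 1 X δX}
    (hc : Bivar.IsC1Class L c) (q : ℤ) (d : Bivar.OpCl q X δX) (s : Bivar.OSq X δX) (k : ℤ)
    (x : ChowOps.CH s.Y s.δ k) :
    c.op s (k - q) (d.op s k x) =
      Bivar.chCast s.Y s.δ (sub_right_comm k 1 q) (d.op s (k - 1) (c.op s k x)) := by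
  obtain ⟨α, hα, rfl⟩ := Bivar.exists_rep x
  have hS := isSetup_osq hX s
  obtain ⟨V, π, z, N, σ, hπ, hz, hzπ, hN, hσ, ⟨e⟩⟩ :=
    exists_zeroSection_model (Groth.PicAux.isInvertible_pullback s.g hc.1)
  haveI := s.lft
  obtain ⟨δV, hδV⟩ := exists_delta π s.δ
  let sV : Bivar.OSq X δX := ⟨V, π ≫ s.g, inferInstance, δV, Bivar.deltaCompat_comp _ _ _ _ _ hδV s.compat⟩
  have w₁ : z ≫ sV.g = s.g := by rw [← Category.assoc, hzπ, Category.id_comp]
  have hV := isSetup_osq hX sV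
  have ez : s.δ = fun y => δV (z y) :=
    delta_closedImmersion (Dvr.deltaCompat_of_comp z (g := sV.g) (by rw [w₁]; exact s.compat) sV.compat)
  obtain ⟨w, hw⟩ := exists_secs hN
  obtain ⟨β, hβ, e₁, e₁'⟩ := d.push sV s z w₁ k α hα
  have hm := Bivar.cycMap_mem_Zk z s.δ δV k hα
  have hm' := Bivar.cycMap_mem_Zk z s.δ δV (k - q) hβ
  obtain ⟨β₂, hβ₂, e₂, e₂'⟩ := d.gysin sV s z w₁ N hN σ hσ k _ hm
  obtain ⟨γ, hγ, hγk⟩ := exists_gysin_cycle hV hN z (s := σ) hw (AlgebraicCycle.map z s.δ δV α)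
  obtain ⟨η, hη, hηk⟩ := exists_gysin_cycle hV hN z (s := σ) hw (AlgebraicCycle.map z s.δ δV β)
  have hγ' : γ ∈ Cyc.Zk s.Y s.δ (k - 1) := by rw [ez]; exact hγk k hm
  have hη' : η ∈ Cyc.Zk s.Y s.δ (k - q - 1) := by rw [ez]; exact hηk _ hm'
  obtain ⟨ζ, hζ, hζe, e₃⟩ := e₂' w hw γ hγ hγ'
  rw [e₁, isC1Class_cl_gysin hX hc s.g s.lft s.compat hV hN hσ ez e hw β hβ η hη hη',
    show c.op s k (ChowOps.cl α hα) = ChowOps.cl γ hγ' from
      isC1Class_cl_gysin hX hc s.g s.lft s.compat hV hN hσ ez e hw α hα γ hγ hγ', e₃, Bivar.chCast_cl]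
  exact gysin_cl_congr hV hN hσ ez hw hm' hβ₂ (e₁'.symm.trans e₂) hη hζe _ _

theorem cl_c1_comm {X' : Scheme.{u}} {δX : X → ℤ} {δX' : X' → ℤ} (hX : Cyc.IsSetup X δX)
    (hX' : Cyc.IsSetup X' δX') {f : X' ⟶ X} {L : X.Modules} {cX : Bivar.OpCl 1 X δX}
    (hcX : Bivar.IsC1Class L cX) {cX' : Bivar.OpCl 1 X' δX'}
    (hcX' : Bivar.IsC1Class ((Scheme.Modules.pullback f).obj L) cX') (p : ℤ) (c : Bivar.Cl p f δX' δX)
    (s : Bivar.Sq f δX' δX) (k : ℤ) (x : ChowOps.CH s.Y' s.δY' k) :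
    c.op s (k - 1) (cX.op ⟨s.Y', s.g, s.lft, s.δY', s.compatY⟩ k x) =
      Bivar.chCast s.X' s.δX' (sub_right_comm k p 1)
        (cX'.op ⟨s.X', s.g', MorphismProperty.of_isPullback s.isPullback s.lft, s.δX', s.compatX⟩ (k - p)
          (c.op s k x)) := by
  obtain ⟨α, hα, rfl⟩ := Bivar.exists_rep x
  haveI := s.lft
  have hgX : LocallyOfFiniteType s.g' := MorphismProperty.of_isPullback s.isPullback s.lft
  obtain ⟨V, π, z, N, σ, hπ, hz, hzπ, hN, hσ, ⟨e⟩⟩ :=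
    exists_zeroSection_model (Groth.PicAux.isInvertible_pullback s.g hcX.1)
  obtain ⟨δV, hδV⟩ := exists_delta π s.δY'
  haveI : LocallyOfFiniteType (pullback.snd π s.f') := MorphismProperty.pullback_snd _ _ hπ
  obtain ⟨δW, hδW⟩ := exists_delta (pullback.snd π s.f') s.δX'
  let sV : Bivar.Sq f δX' δX := s.paste ⟨V, pullback π s.f', π, pullback.fst π s.f', pullback.snd π s.f',
    IsPullback.of_hasPullback π s.f', hπ, δV, δW, hδV, hδW⟩
  let z' : s.X' ⟶ pullback π s.f' := pullback.lift (s.f' ≫ z) (𝟙 _) (by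
    rw [Category.assoc, hzπ, Category.comp_id, Category.id_comp])
  have w₁ : z ≫ sV.g = s.g := by
    show z ≫ π ≫ s.g = s.g
    rw [← Category.assoc, hzπ, Category.id_comp]
  have w₂ : z' ≫ sV.f' = s.f' ≫ z := pullback.lift_fst _ _ _
  have w₃ : z' ≫ sV.g' = s.g' := by
    show z' ≫ pullback.snd π s.f' ≫ s.g' = s.g'
    rw [← Category.assoc, pullback.lift_snd, Category.id_comp]
  have sqz : IsPullback s.f' z' z sV.f' := by
    refine IsPullback.of_bot ?_ w₂.symm sV.isPullback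
    rw [w₁, w₃]
    exact s.isPullback
  haveI : IsClosedImmersion z' := MorphismProperty.of_isPullback sqz hz
  haveI := sV.lft
  have hV : Cyc.IsSetup sV.Y' δV := P1C.isSetup_of_lft hX sV.g sV.compatY
  haveI : LocallyOfFiniteType sV.g' := MorphismProperty.of_isPullback sV.isPullback sV.lft
  have hW : Cyc.IsSetup sV.X' δW := P1C.isSetup_of_lft hX' sV.g' sV.compatX
  have ez : s.δY' = fun y => δV (z y) :=
    delta_closedImmersion (Dvr.deltaCompat_of_comp z (g := sV.g) (by rw [w₁]; exact s.compatY) sV.compatY)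
  have ez' : s.δX' = fun y => δW (z' y) :=
    delta_closedImmersion (Dvr.deltaCompat_of_comp z' (g := sV.g') (by rw [w₃]; exact s.compatX) sV.compatX)
  have hN' := Groth.PicAux.isInvertible_pullback sV.f' hN
  have hτ := isZeroSchemeOf_pullTop hN hσ sqz.flip
  let e' : (Scheme.Modules.pullback z').obj ((Scheme.Modules.pullback sV.f').obj N) ≅
      (Scheme.Modules.pullback s.g').obj ((Scheme.Modules.pullback f).obj L) :=
    pullIso w₂ N ≪≫ (pullIso (g := z) rfl N).symm ≪≫ (Scheme.Modules.pullback s.f').mapIso e ≪≫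
      pullIso s.isPullback.w L ≪≫ (pullIso (g := f) rfl L).symm
  obtain ⟨w, hw⟩ := exists_secs hN
  obtain ⟨u, hu⟩ := exists_secs hN'
  obtain ⟨β, hβ, e₁, e₁'⟩ := c.push sV s z z' w₁ w₂ w₃ k α hα
  have hm := Bivar.cycMap_mem_Zk z s.δY' δV k hα
  have hm' := Bivar.cycMap_mem_Zk z' s.δX' δW (k - p) hβ
  obtain ⟨β₂, hβ₂, e₂, e₂'⟩ := c.gysin sV s z z' w₁ w₂ w₃ N hN σ hσ _ hτ k _ hm
  obtain ⟨γ, hγ, hγk⟩ := exists_gysin_cycle hV hN z (s := σ) hw (AlgebraicCycle.map z s.δY' δV α)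
  obtain ⟨η, hη, hηk⟩ := exists_gysin_cycle hW hN' z' (s := pullTop sV.f' N σ) hu
    (AlgebraicCycle.map z' s.δX' δW β)
  have hγ' : γ ∈ Cyc.Zk s.Y' s.δY' (k - 1) := by rw [ez]; exact hγk k hm
  have hη' : η ∈ Cyc.Zk s.X' s.δX' (k - p - 1) := by rw [ez']; exact hηk _ hm'
  obtain ⟨ζ, hζ, hζe, e₃⟩ := e₂' w hw γ hγ hγ' u hu
  have hζ' : ζ ∈ Cyc.Zk s.X' s.δX' (k - p - 1) := by rwa [sub_right_comm k p 1]
  rw [e₁, isC1Class_cl_gysin hX' hcX' s.g' hgX s.compatX hW hN' hτ ez' e' hu β hβ η hη hη',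
    isC1Class_cl_gysin hX hcX s.g s.lft s.compatY hV hN hσ ez e hw α hα γ hγ hγ', e₃,
    gysin_cl_congr hW hN' hτ ez' hu hm' hβ₂ (e₁'.symm.trans e₂) hη hζe hη' hζ', Bivar.chCast_cl]

end Groth.CycInter.Biv
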