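import Groth.Agent.CycInter.BivEnvelope
import Groth.Agent.CycInter.BivPushCH
import Groth.Agent.Cycles.Excision
import Groth.Agent.Cycles.PullComp
import Groth.Agent.Cycles.FlatFam
import Groth.Agent.Cycles.PullFib
import Groth.Agent.CycInter.RatOn
import Groth.Agent.FibreDim.RelDim
import Groth.Agent.FibreDim.Smooth

/-!
Vanishing of classes of cycles along covers by disjoint open subschemes.
-/

universe u

set_option autoImplicit false

open CategoryTheory CategoryTheory.Limits AlgebraicGeometry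
open Groth.RefRank Groth.Cycles

namespace Groth.CycInter.Biv

variable {T U : Scheme.{u}}

theorem hasRelDim_zero_openImm (j : U ⟶ T) [IsOpenImmersion j] : Cyc.HasRelDim j 0 :=
  (Groth.FibreDim.hasRelDim_iff j 0).2 fun x => by
    rw [Groth.FibreDim.fibreDimAt_eq_zero_of_locallyQuasiFinite j x]; rfl

theorem length_fibre_openImm (j : U ⟶ T) [IsOpenImmersion j] (x : U) :
    (Module.length (U.presheaf.stalk x) (U.presheaf.stalk x ⧸
      Ideal.map (j.stalkMap x).hom (IsLocalRing.maximalIdeal (T.presheaf.stalk (j x))))).toNat = 1 := by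
  rw [show Ideal.map (j.stalkMap x).hom (IsLocalRing.maximalIdeal (T.presheaf.stalk (j x))) =
    IsLocalRing.maximalIdeal (U.presheaf.stalk x) from
      IsLocalRing.map_maximalIdeal_of_surjective (j.stalkMap x).hom (j.stalkMap_surjective x)]
  haveI : IsSimpleModule (U.presheaf.stalk x) (U.presheaf.stalk x ⧸ IsLocalRing.maximalIdeal (U.presheaf.stalk x)) :=
    isSimpleModule_iff_isCoatom.mpr (IsLocalRing.maximalIdeal.isMaximal _).out
  rw [Module.length_eq_one]
  rfl

theorem pullFun_openImm (j : U ⟶ T) [IsOpenImmersion j] (δ : T → ℤ) (α : T → ℤ) (x : U) :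
    Cyc.pullFun j (fun u => δ (j u)) δ 0 α x = α (j x) := by
  rw [Cyc.pullFun, if_pos (add_zero _).symm, length_fibre_openImm]
  simp

theorem isSetup_openImm {δ : T → ℤ} (hT : Cyc.IsSetup T δ) (j : U ⟶ T) [IsOpenImmersion j] :
    Cyc.IsSetup U fun u => δ (j u) :=
  P1C.isSetup_of_lft hT j (Groth.Cycles.deltaCompat_preimmersion j δ)

theorem exists_cycle_comp_openImm {δ : T → ℤ} (hT : Cyc.IsSetup T δ) (j : U ⟶ T) [IsOpenImmersion j]
    (α : AlgebraicCycle T ℤ) : ∃ γ : AlgebraicCycle U ℤ, ∀ u, γ u = α (j u) := by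
  obtain ⟨γ, hγ⟩ := exists_pullCycle (fun u => δ (j u)) δ (isSetup_openImm hT j) hT j 0
    (fun x _ => (add_zero (δ (j x))).symm) α
  exact ⟨γ, fun u => (congrFun hγ u).trans (pullFun_openImm j δ _ u)⟩

theorem ratZeroOn_univ_of_ratEquivZero {δ : T → ℤ} {k : ℤ} {α : AlgebraicCycle T ℤ}
    (h : Cyc.RatEquivZero δ k α) : RatZeroOn δ k Set.univ ⇑α := by
  obtain ⟨ι, ξ, f, hξ, hf, hlf, hc⟩ := h
  exact ⟨ι, ξ, f, hf, fun i _ => ⟨hξ i, trivial⟩, fun V hV =>
    (Groth.Cycles.finite_of_isCompact ξ hlf hV.isCompact).subset fun i hi => ⟨ξ i, subset_closure rfl, hi.2⟩, hc⟩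

/-- Cycles of equal classes are rationally equivalent. -/
theorem ratEquiv_of_cl_eq {δ : T → ℤ} {k : ℤ} (hT : Cyc.IsSetup T δ) {α β : AlgebraicCycle T ℤ}
    {hα : α ∈ Cyc.Zk T δ k} {hβ : β ∈ Cyc.Zk T δ k} (h : ChowOps.cl α hα = ChowOps.cl β hβ) :
    Cyc.RatEquiv δ k α β := by
  let a : ↥(ChowOps.zk T δ k) := ⟨α, hα⟩
  let b : ↥(ChowOps.zk T δ k) := ⟨β, hβ⟩
  have hm : a - b ∈ ChowOps.ratTriv T δ k := by
    refine (QuotientAddGroup.eq_zero_iff _).mp ?_
    show ChowOps.clHom T δ k (a - b) = 0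
    rw [map_sub, sub_eq_zero]
    exact h
  refine ratEquivZero_of_ratZeroOn hT (Z := Set.univ) ?_
  have : ∀ x, x ∈ ChowOps.ratTriv T δ k → RatZeroOn δ k Set.univ ⇑(x : AlgebraicCycle T ℤ) := by
    intro x hx
    let S : AddSubgroup ↥(ChowOps.zk T δ k) :=
      { carrier := {y | RatZeroOn δ k Set.univ ⇑(y : AlgebraicCycle T ℤ)}
        zero_mem' := ⟨PEmpty, fun i => i.elim, fun i => i.elim, fun i => i.elim, fun i => i.elim,
          fun V hV => Set.toFinite _, fun z => (finsum_of_isEmpty _).symm⟩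
        add_mem' := fun hy hz => (ratZeroOn_add hT hy hz).congr fun z => rfl
        neg_mem' := fun hy => (ratZeroOn_neg hT hy).congr fun z => rfl }
    exact (AddSubgroup.closure_le S).mpr (fun y hy => ratZeroOn_univ_of_ratEquivZero hy) hx
  exact this _ hm

theorem setupX_of_sq {X Y : Scheme.{u}} {f : X ⟶ Y} {δX : X → ℤ} {δY : Y → ℤ} (hX : Cyc.IsSetup X δX)
    (s : Bivar.Sq f δX δY) : Cyc.IsSetup s.X' s.δX' :=
  haveI : LocallyOfFiniteType s.g' := MorphismProperty.of_isPullback s.isPullback s.lft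
  P1C.isSetup_of_lft hX s.g' s.compatX

/-- A cycle is rationally trivial when its restrictions to the members of a disjoint open cover are. -/
theorem ratEquivZero_of_cover {δ : T → ℤ} {k : ℤ} {J : Type u} {U : J → Scheme.{u}} (j : ∀ i, U i ⟶ T)
    [∀ i, IsOpenImmersion (j i)] (hdisj : ∀ i i', i ≠ i' → Disjoint (Set.range (j i)) (Set.range (j i')))
    (hcov : ∀ x : T, ∃ i, x ∈ Set.range (j i)) (α : AlgebraicCycle T ℤ) (β : ∀ i, AlgebraicCycle (U i) ℤ)
    (hβ : ∀ i u, β i u = α (j i u)) (h : ∀ i, Cyc.RatEquivZero (fun u => δ (j i u)) k (β i)) :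
    Cyc.RatEquivZero δ k α := by
  choose ι ξ f hξ hf hlf hc using h
  have hbij : ∀ i a, Function.Bijective ((j i).residueFieldMap (ξ i a)).hom := fun i a =>
    ⟨((j i).residueFieldMap (ξ i a)).hom.injective,
      Groth.Variety2.Dim.residueFieldMap_surjective (j i) (ξ i a)⟩
  choose g hg using fun i a => (hbij i a).2 (f i a)
  have hsame : ∀ (i : J) (u : U i) (i' : J) (u' : U i'), j i' u' ⤳ j i u → i' = i := by
    intro i u i' u' hs
    by_contra hne
    exact Set.disjoint_iff_forall_ne.mp (hdisj i' i hne) ⟨u', rfl⟩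
      (hs.mem_open (j i).isOpenEmbedding.isOpen_range ⟨u, rfl⟩) rfl
  refine ⟨Σ i, ι i, fun a => j a.1 (ξ a.1 a.2), fun a => g a.1 a.2, fun a => hξ a.1 a.2,
    fun a h0 => hf a.1 a.2 (by simp only at h0; rw [← hg a.1 a.2, h0, map_zero]), fun x => ?_, fun x => ?_⟩
  · obtain ⟨i, u, rfl⟩ := hcov x
    obtain ⟨V, hV, huV, hfin⟩ := hlf i u
    refine ⟨j i '' V, (j i).isOpenEmbedding.isOpenMap V hV, ⟨u, huV, rfl⟩,
      (hfin.image (Sigma.mk i)).subset ?_⟩
    rintro ⟨i', a⟩ ⟨_, hz, v, hv, rfl⟩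
    obtain rfl := hsame i v i' (ξ i' a) (specializes_iff_mem_closure.mpr hz)
    exact ⟨a, ⟨v, specializes_iff_mem_closure.mp
      ((j i').isOpenEmbedding.isInducing.specializes_iff.mp (specializes_iff_mem_closure.mpr hz)), hv⟩, rfl⟩
  · obtain ⟨i, u, rfl⟩ := hcov x
    rw [← hβ, hc i u]
    refine (?_ : _ = ∑ᶠ a : ι i, Cyc.divFun δ (j i (ξ i a)) (g i a) (j i u)).trans ?_
    · exact finsum_congr fun a => by rw [divFun_openImmersion (j i) δ (g i a), hg]
    · rw [← finsum_mem_range (f := fun a : Σ i, ι i => Cyc.divFun δ (j a.1 (ξ a.1 a.2)) (g a.1 a.2) (j i u))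
        (sigma_mk_injective (i := i))]
      classical
      refine finsum_congr fun a => ?_
      rw [finsum_eq_if]
      split_ifs with ha
      · rfl
      · by_contra h0
        refine ha ?_
        obtain ⟨i', b⟩ := a
        obtain rfl := hsame i u i' (ξ i' b) (specializes_iff_mem_closure.mpr
          (by_contra fun hn => h0 (divFun_eq_zero_of_notMem _ hn).symm))
        exact ⟨b, rfl⟩

/-- A class vanishing on the members of a disjoint open cover vanishes. -/
theorem op_eq_zero_of_cover {X Y : Scheme.{u}} {f : X ⟶ Y} {δX : X → ℤ} {δY : Y → ℤ} (hX : Cyc.IsSetup X δX)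
    (hY : Cyc.IsSetup Y δY)
    {p : ℤ} (c : Bivar.Cl p f δX δY) (s : Bivar.Sq f δX δY) {k : ℤ} {J : Type u} {U : J → Scheme.{u}}
    (j : ∀ i, U i ⟶ s.Y') [∀ i, IsOpenImmersion (j i)]
    (hdisj : ∀ i i', i ≠ i' → Disjoint (Set.range (j i)) (Set.range (j i')))
    (hcov : ∀ x : s.Y', ∃ i, x ∈ Set.range (j i)) (α : AlgebraicCycle s.Y' ℤ) (hα : α ∈ Cyc.Zk s.Y' s.δY' k)
    (h : ∀ (i : J) (t : Bivar.Sq s.f' s.δX' s.δY') (e : t.Y' = U i), eqToHom e.symm ≫ t.g = j i →
      ∀ (a : AlgebraicCycle t.Y' ℤ) (ha : a ∈ Cyc.Zk t.Y' t.δY' k), (∀ u, a u = α (t.g u)) →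
        c.op (s.paste t) k (ChowOps.cl a ha) = 0) :
    c.op s k (ChowOps.cl α hα) = 0 := by
  obtain ⟨β, hβ, eβ⟩ := Bivar.exists_rep (c.op s k (ChowOps.cl α hα))
  rw [← eβ, ← Bivar.cl_zero]
  refine cl_eq _ _ ?_
  show Cyc.RatEquivZero s.δX' (k - p) (β - 0)
  rw [sub_zero]
  haveI : ∀ i, IsOpenImmersion (pullback.snd (j i) s.f') := fun i => inferInstance
  have hdisj' : ∀ i i', i ≠ i' →
      Disjoint (Set.range (pullback.snd (j i) s.f')) (Set.range (pullback.snd (j i') s.f')) := fun i i' hne => by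
    rw [Scheme.Pullback.range_snd, Scheme.Pullback.range_snd]
    exact (hdisj i i' hne).preimage _
  choose γ hγ using fun i => exists_cycle_comp_openImm (setupX_of_sq hX s) (pullback.snd (j i) s.f') β
  refine ratEquivZero_of_cover (fun i => pullback.snd (j i) s.f') hdisj'
    (fun x => (hcov (s.f' x)).imp fun i hi => by rw [Scheme.Pullback.range_snd]; exact hi) β γ hγ fun i => ?_
  let t : Bivar.Sq s.f' s.δX' s.δY' := ⟨U i, pullback (j i) s.f', j i, pullback.fst (j i) s.f',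
    pullback.snd (j i) s.f', IsPullback.of_hasPullback _ _, inferInstance, fun u => s.δY' (j i u),
    fun u => s.δX' (pullback.snd (j i) s.f' u), Groth.Cycles.deltaCompat_preimmersion _ _,
    Groth.Cycles.deltaCompat_preimmersion _ _⟩
  obtain ⟨β', hβ', e₁, e₂⟩ := c.pull s (s.paste t) (j i) (pullback.snd (j i) s.f') 0 (hasRelDim_zero_openImm _)
    (hasRelDim_zero_openImm _) rfl pullback.condition.symm rfl k α hα
  haveI := s.lft
  obtain ⟨a, ha⟩ := exists_cycle_comp_openImm (P1C.isSetup_of_lft hY s.g s.compatY) (j i) α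
  have hak : a ∈ Cyc.Zk (U i) (fun u => s.δY' (j i u)) k := fun u hu => (ha u).trans (hα _ hu)
  obtain ⟨β₁, hβ₁, hβ₁e, e₃⟩ := e₂ a (funext fun u => (ha u).trans (pullFun_openImm (j i) s.δY' _ u).symm)
    (by rwa [Nat.cast_zero, add_zero])
  have h0 := h i t rfl (Category.id_comp _) a hak ha
  have e₄ : ∀ (l : ℤ) (el : k = l) (hl : a ∈ Cyc.Zk (U i) (fun u => s.δY' (j i u)) l),
      c.op (s.paste t) l (ChowOps.cl a hl) = 0 := by
    rintro l rfl hl
    exact h0
  rw [e₄ _ (by simp)] at e₃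
  have hS := setupX_of_sq hX s
  have hU := isSetup_openImm hS (pullback.snd (j i) s.f')
  have hz : Cyc.RatEquivZero (fun u => s.δX' (pullback.snd (j i) s.f' u)) (k - p) β₁ := by
    rw [← Bivar.cl_zero] at e₃
    have := ratEquiv_of_cl_eq hU e₃.symm
    unfold Cyc.RatEquiv at this
    rwa [sub_zero, Nat.cast_zero, add_zero] at this
  have hd : Cyc.RatEquivZero s.δX' (k - p) (β - β') := ratEquiv_of_cl_eq hS (eβ.trans e₁)
  obtain ⟨D, hD⟩ := exists_cycle_comp_openImm hS (pullback.snd (j i) s.f') (β - β')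
  have hDz : Cyc.RatEquivZero (fun u => s.δX' (pullback.snd (j i) s.f' u)) (k - p + 0) D :=
    Groth.Cycles.ratEquivZero_pullFun _ _ hU hS (pullback.snd (j i) s.f') 0 (fun x _ => (add_zero _).symm) _ _ hd D
      (funext fun u => (hD u).trans (pullFun_openImm _ s.δX' _ u).symm)
  rw [add_zero] at hDz
  refine ratEquivZero_of_ratZeroOn hU ((ratZeroOn_add hU (ratZeroOn_univ_of_ratEquivZero hDz)
    (ratZeroOn_univ_of_ratEquivZero hz)).congr fun u => ?_)
  rw [hγ, hD, congrFun hβ₁e u, Nat.cast_zero, pullFun_openImm, Function.locallyFinsuppWithin.coe_sub,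
    Pi.sub_apply]
  ring

end Groth.CycInter.Biv
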