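import Groth.Agent.CycInter.BivBasic
import Groth.Agent.S6482
import Groth.Agent.S6484
import Groth.Prelude.Def_W4stkchowintpicEnv

/-!
A bivariant class is determined by its restriction to an envelope.
-/

universe u

set_option autoImplicit false

open CategoryTheory CategoryTheory.Limits AlgebraicGeometry
open Groth.RefRank Groth.Cycles Groth.Variety2.Dim

namespace Groth.CycInter.Biv

variable {X Y : Scheme.{u}}

/-- The induced dimension function along a morphism locally of finite type. -/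
theorem exists_delta (f : Y ⟶ X) [LocallyOfFiniteType f] (δ : X → ℤ) :
    ∃ δY : Y → ℤ, Cyc.DeltaCompat f δY δ := by
  choose n hn using fun y => Groth.FibreDim.exists_relTrdeg_eq_height f y
  exact ⟨fun y => δ (f y) + n y, fun y => ⟨n y, (hn y).1, rfl⟩⟩

theorem pushforward_cl_congr {δ : X → ℤ} {δY : Y → ℤ} (hX : Cyc.IsSetup X δ) (hY : Cyc.IsSetup Y δY)
    (p : Y ⟶ X) [IsProper p] (hδ : Cyc.DeltaCompat p δY δ) {k : ℤ} {α β : AlgebraicCycle Y ℤ}
    (hα : α ∈ Cyc.Zk Y δY k) (hβ : β ∈ Cyc.Zk Y δY k) (h : ChowOps.cl α hα = ChowOps.cl β hβ) :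
    ChowOps.cl (AlgebraicCycle.map p δY δ α) (Bivar.cycMap_mem_Zk p δY δ k hα) =
      ChowOps.cl (AlgebraicCycle.map p δY δ β) (Bivar.cycMap_mem_Zk p δY δ k hβ) := by
  let F : ↥(ChowOps.zk Y δY k) →+ ChowOps.CH X δ k :=
    AddMonoidHom.mk' (fun a => ChowOps.cl (AlgebraicCycle.map p δY δ a.1) (Bivar.cycMap_mem_Zk p δY δ k a.2))
      fun a b => by
        rw [← Bivar.cl_add]
        exact Bivar.cl_congr (Bivar.cycMap_add p δY δ a.1 b.1) _ _
  have hF : ∀ (a : AlgebraicCycle Y ℤ) (ha : a ∈ Cyc.Zk Y δY k), Cyc.RatEquivZero δY k a → F ⟨a, ha⟩ = 0 := by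
    intro a ha h0
    show ChowOps.cl _ _ = 0
    rw [← Bivar.cl_zero]
    refine cl_eq _ _ ?_
    show Cyc.RatEquivZero δ k (AlgebraicCycle.map p δY δ a - 0)
    rw [sub_zero]
    exact Groth.Cycles.ratEquivZero_map δY δ hY hX p hδ k a h0
  exact congrArg (liftCH F hF) h

/-- Restriction to an envelope is injective on bivariant classes. -/
theorem cl_eq_of_res_eq {δX : X → ℤ} {δY : Y → ℤ} (hX : Cyc.IsSetup X δX) (hY : Cyc.IsSetup Y δY)
    (f : X ⟶ Y) (p : ℤ) (s₀ : Bivar.Sq f δX δY) [IsProper s₀.g]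
    (hcd : Cyc.IsCompletelyDecomposed s₀.g) (c₁ c₂ : Bivar.Cl p f δX δY) (heq : c₁.res s₀ = c₂.res s₀) :
    c₁ = c₂ := by
  refine Bivar.Cl.ext (funext fun s => funext fun k => AddMonoidHom.ext fun x => ?_)
  obtain ⟨α, hα, rfl⟩ := Bivar.exists_rep x
  have := s.lft
  have hsY := P1C.isSetup_of_lft hY s.g s.compatY
  -- the base change of the envelope
  let Y'' := pullback s₀.g s.g
  let h : Y'' ⟶ s.Y' := pullback.snd s₀.g s.g
  let g₁ : Y'' ⟶ s₀.Y' := pullback.fst s₀.g s.g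
  haveI : IsProper h := MorphismProperty.pullback_snd _ _ inferInstance
  haveI : LocallyOfFiniteType g₁ := MorphismProperty.pullback_fst _ _ inferInstance
  obtain ⟨δY'', hδY''⟩ := exists_delta g₁ s₀.δY'
  let X'' := pullback g₁ s₀.f'
  have sq₁ : IsPullback (pullback.fst g₁ s₀.f') (pullback.snd g₁ s₀.f') g₁ s₀.f' := IsPullback.of_hasPullback _ _
  haveI : LocallyOfFiniteType (pullback.snd g₁ s₀.f') := MorphismProperty.pullback_snd _ _ inferInstance
  obtain ⟨δX'', hδX''⟩ := exists_delta (pullback.snd g₁ s₀.f') s₀.δX'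
  let v : Bivar.Sq s₀.f' s₀.δX' s₀.δY' :=
    ⟨Y'', X'', g₁, pullback.fst g₁ s₀.f', pullback.snd g₁ s₀.f', sq₁, inferInstance, δY'', δX'', hδY'', hδX''⟩
  let t : Bivar.Sq f δX δY := s₀.paste v
  have w₁ : h ≫ s.g = t.g := pullback.condition.symm
  have wX : (t.f' ≫ h) ≫ s.g = t.g' ≫ f := by
    rw [Category.assoc, w₁]
    exact t.isPullback.w
  let h' : X'' ⟶ s.X' := s.isPullback.lift (t.f' ≫ h) t.g' wX
  have w₂ : h' ≫ s.f' = t.f' ≫ h := s.isPullback.lift_fst _ _ _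
  have w₃ : h' ≫ s.g' = t.g' := s.isPullback.lift_snd _ _ _
  have sqh : IsPullback t.f' h' h s.f' := by
    refine IsPullback.of_bot ?_ w₂.symm s.isPullback
    rw [w₃, w₁]
    exact t.isPullback
  haveI : IsProper h' := MorphismProperty.of_isPullback sqh ‹IsProper h›
  have hδh : Cyc.DeltaCompat h δY'' s.δY' :=
    Dvr.deltaCompat_of_comp h (g := s.g) (by rw [w₁]; exact t.compatY) s.compatY
  have hδh' : Cyc.DeltaCompat h' δX'' s.δX' :=
    Dvr.deltaCompat_of_comp h' (g := s.g') (by rw [w₃]; exact t.compatX) s.compatX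
  haveI : LocallyOfFiniteType s.g' := MorphismProperty.of_isPullback s.isPullback s.lft
  have hsX := P1C.isSetup_of_lft hX s.g' s.compatX
  have hXX : Cyc.IsSetup X'' δX'' := P1C.isSetup_of_lft hsX h' hδh'
  have hYY : Cyc.IsSetup Y'' δY'' := P1C.isSetup_of_lft hsY h hδh
  obtain ⟨α', hα', rfl⟩ := Groth.Agent.S6482.result s.Y' Y'' s.δY' δY'' hsY hYY h
    (Groth.Agent.S6484.result Y s.Y' s₀.Y' s₀.g s.g hcd) hδh k α hα
  obtain ⟨β₁, hβ₁, e₁, e₁'⟩ := c₁.push s t h h' w₁ w₂ w₃ k α' hα'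
  obtain ⟨β₂, hβ₂, e₂, e₂'⟩ := c₂.push s t h h' w₁ w₂ w₃ k α' hα'
  have hop : c₁.op t k = c₂.op t k :=
    congrFun (congrFun (congrArg Bivar.Cl.op heq) v) k
  rw [e₁', e₂']
  exact pushforward_cl_congr hsX hXX h' hδh' hβ₁ hβ₂ (by rw [← e₁, ← e₂, hop])

end Groth.CycInter.Biv
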