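import Groth.Agent.CycInter.GysinComm
import Groth.Agent.ParaFormal.StalkIdeal
import Groth.Agent.Ega4Algebra2.RegularImmersion

/-!
Iterated Gysin maps of two zero schemes.
-/

universe u

set_option autoImplicit false

open CategoryTheory AlgebraicGeometry IsLocalRing Limits
open Groth.RefRank Groth.QCohMod Groth.Cycles

namespace Groth.CycInter

variable {X D D' P : Scheme.{u}} {δ : X → ℤ} {L M : X.Modules}

theorem stalkIdeal_ker (i : D ⟶ X) [IsClosedImmersion i] (d : D) :
    IntMult.stalkIdeal i.ker (i d) = RingHom.ker (i.stalkMap d).hom := by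
  obtain ⟨U, hU, -⟩ := Divisors.exists_affine_le (i d) ⊤ trivial
  rw [Groth.ParaFormal.stalkIdeal_eq _ U hU, Groth.Ega4b.ker_stalkMap_eq_map i U.2 d hU]

theorem exists_eqn_of_mem {s : M.presheaf.obj (Opposite.op ⊤)} (i' : D' ⟶ X) [IsClosedImmersion i']
    (hD' : Cyc.IsZeroSchemeOf i' M s) {y : X} (hy : y ∈ Set.range i') :
    ∃ (t : M.presheaf.stalk y) (f : X.presheaf.stalk y),
      Submodule.span (X.presheaf.stalk y) {t} = ⊤ ∧ (M.presheaf.germ ⊤ y trivial) s = f • t ∧
        IntMult.stalkIdeal i'.ker y = Ideal.span {f} := by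
  obtain ⟨d, rfl⟩ := hy
  obtain ⟨t, f, h1, h2, h3⟩ := hD'.2 d
  exact ⟨t, f, h1, h2, (stalkIdeal_ker i' d).trans h3⟩

variable {i : D ⟶ X} {i' : D' ⟶ X} {j : P ⟶ D} {q : P ⟶ D'}

theorem isClosedImmersion_of_isPullback [IsClosedImmersion i'] (sq : IsPullback j q i i') :
    IsClosedImmersion j :=
  MorphismProperty.of_isPullback sq.flip ‹_›

theorem range_of_isPullback (sq : IsPullback j q i i') : Set.range j = i ⁻¹' Set.range i' := by
  have e : j = sq.isoPullback.hom ≫ pullback.fst i i' := sq.isoPullback_hom_fst.symm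
  rw [e, ← Scheme.Pullback.range_fst, Scheme.Hom.comp_base, TopCat.coe_comp,
    Set.range_comp, (show Function.Surjective sq.isoPullback.hom from sq.isoPullback.hom.homeomorph.surjective).range_eq, Set.image_univ]

theorem ker_of_isPullback [IsClosedImmersion i'] (sq : IsPullback j q i i') : j.ker = i'.ker.comap i := by
  have e : j = sq.isoPullback.hom ≫ pullback.fst i i' := sq.isoPullback_hom_fst.symm
  rw [e, Scheme.Hom.ker_comp_of_isIso, Scheme.IdealSheafData.ker_fst_of_isClosedImmersion]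

/-- In a local ring two generators of a principal ideal agree up to a unit on a domain quotient. -/
theorem exists_unit_map_eq {R K : Type*} [CommRing R] [IsLocalRing R] [Field K] (φ : R →+* K) {f g : R}
    (h : Ideal.span ({f} : Set R) = Ideal.span {g}) (hg : φ g ≠ 0) :
    ∃ a, IsUnit a ∧ φ f = φ a * φ g := by
  obtain ⟨a, ha⟩ := Ideal.mem_span_singleton'.mp (h ▸ Ideal.mem_span_singleton_self f)
  obtain ⟨b, hb⟩ := Ideal.mem_span_singleton'.mp (h.symm ▸ Ideal.mem_span_singleton_self g)
  refine ⟨a, ?_, by rw [← map_mul, ha]⟩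
  rw [← ha, ← mul_assoc] at hb
  have h1 : φ (b * a) = 1 := mul_left_eq_self₀.mp (by rw [← map_mul, hb]) |>.resolve_right hg
  rcases IsLocalRing.isUnit_or_isUnit_one_sub_self (b * a) with hu | hu
  · exact isUnit_of_mul_isUnit_right hu
  · have h2 := hu.map φ
    rw [map_sub, map_one, h1, sub_self] at h2
    exact absurd h2 not_isUnit_zero

theorem residueFieldMap_specMap (i : D ⟶ X) {e d : D} (h : e ⤳ d) (a : X.presheaf.stalk (i d)) :
    (i.residueFieldMap e).hom (Cyc.specMap (i d) (i e) (h.map i.continuous) a) =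
      Cyc.specMap d e h (i.stalkMap d a) := by
  show (X.presheaf.stalkSpecializes (h.map i.continuous) ≫ X.residue (i e) ≫ i.residueFieldMap e) a =
    (i.stalkMap d ≫ D.presheaf.stalkSpecializes h ≫ D.residue e) a
  rw [Scheme.residue_residueFieldMap, Scheme.Hom.stalkSpecializes_stalkMap_assoc]

variable [IsClosedImmersion i']


/-- Off the preimage, a section with the same zero scheme as the inverse image of `s` has the same
divisors as the inverse image. -/
theorem secDivFun_of_zeroScheme_eq_of_hom {δD : D → ℤ} (hD : Cyc.IsSetup D δD) (hM : PicF.IsInvertible M)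
    {s : M.presheaf.obj (Opposite.op ⊤)} (hD' : Cyc.IsZeroSchemeOf i' M s) (sq : IsPullback j q i i')
    {σ : ((Scheme.Modules.pullback i).obj M).presheaf.obj (Opposite.op ⊤)}
    (hσ : Cyc.IsZeroSchemeOf j ((Scheme.Modules.pullback i).obj M) σ) {e : D} (he : e ∉ Set.range j) (x : D) :
    Cyc.secDivFun δD ((Scheme.Modules.pullback i).obj M) e
        (sbar ((Scheme.Modules.pullback i).obj M) σ e) x =
      Cyc.secDivFun δD ((Scheme.Modules.pullback i).obj M) e
        (pullFib i hM e (sbar M s (i e))) x := by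
  have hj := isClosedImmersion_of_isPullback sq
  by_cases h : e ⤳ x
  swap
  · rw [secDivFun_of_not_specializes _ h, secDivFun_of_not_specializes _ h]
  have hM' := Groth.PicAux.isInvertible_pullback i hM
  have hrange := range_of_isPullback sq
  have hσr := range_eq_zeroLocus hσ
  have hsr := range_eq_zeroLocus hD'
  have heZ : i e ∉ zeroLocus M s := fun h' => he (by rw [hrange, Set.mem_preimage, hsr]; exact h')
  have heσ : e ∉ zeroLocus _ σ := fun h' => he (hσr ▸ h')
  set t := pullGerm i M x (bas hM (i x)) with htdef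
  have ht : IsStalkBasis _ x t := isStalkBasis_pullGerm i hM (bas_spec hM (i x))
  have hte := isStalkBasis_mspec hM' (h.trans (specializes_refl x)) ht
  obtain ⟨f, hf⟩ := ht.2 ((((Scheme.Modules.pullback i).obj M).presheaf.germ ⊤ x trivial) σ)
  obtain ⟨g, hg⟩ := (bas_spec hM (i x)).2 ((M.presheaf.germ ⊤ (i x) trivial) s)
  dsimp only at hf hg
  have h1 : ratCoef (h.trans (specializes_refl x)) t (sbar _ σ e) = Cyc.specMap x e h f := by
    rw [ratCoef, sbar, ← mspec_germ_top (h.trans (specializes_refl x)), ← hf, mspec_smul]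
    exact coef_smul hte _
  have h2 : ratCoef (h.trans (specializes_refl x)) t (pullFib i hM e (sbar M s (i e))) =
      Cyc.specMap x e h (i.stalkMap x g) := by
    rw [← residueFieldMap_specMap i h g, ratCoef, htdef, mspec_pullGerm,
      coef_pullFib i hM e (isStalkBasis_mspec hM _ (bas_spec hM (i x))), sbar,
      ← mspec_germ_top ((h.trans (specializes_refl x)).map i.continuous), ← hg, mspec_smul]
    congr 1
    exact coef_smul (isStalkBasis_mspec hM _ (bas_spec hM (i x))) _
  have hne1 : sbar _ σ e ≠ 0 := heσ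
  have hne2 : pullFib i hM e (sbar M s (i e)) ≠ 0 := pullFib_ne_zero i hM e heZ
  have hgne : Cyc.specMap x e h (i.stalkMap x g) ≠ 0 := by
    rw [← h2]; exact ratCoef_ne_zero hM' _ ht hne2
  have hspan : Ideal.span {f} = Ideal.span {i.stalkMap x g} := by
    by_cases hx : x ∈ Set.range j
    · obtain ⟨z, rfl⟩ := hx
      obtain ⟨t0, f0, hs0, he0, hk0⟩ := hσ.2 z
      obtain ⟨a, ha, hat⟩ := exists_unit_of_basis ht hs0
      obtain ⟨t1, f1, hs1, he1, hk1⟩ := exists_eqn_of_mem i' hD' (y := i (j z))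
        (by have := Set.mem_range_self (f := j) z; rwa [hrange] at this)
      obtain ⟨b, hb, hbt⟩ := exists_unit_of_basis (bas_spec hM (i (j z))) hs1
      have ef : f = f0 * a := ht.1 <| by
        show f • t = (f0 * a) • t
        rw [hf, he0, hat, mul_smul]
      have eg : g = f1 * b := (bas_spec hM (i (j z))).1 <| by
        show g • bas hM (i (j z)) = (f1 * b) • bas hM (i (j z))
        rw [hg, he1, hbt, mul_smul]
      rw [ef, eg, map_mul, Ideal.span_singleton_mul_right_unit ha,
        Ideal.span_singleton_mul_right_unit (hb.map (i.stalkMap (j z)).hom), ← hk0, ← stalkIdeal_ker j z,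
        ker_of_isPullback sq, Groth.ParaFormal.stalkIdeal_comap, hk1, Ideal.map_span, Set.image_singleton]
    · have hu1 : IsUnit f := by
        have hb := isStalkBasis_germ_of_notMem hM' (s := σ) fun h' => hx (hσr.symm ▸ h')
        obtain ⟨a, ha, hat⟩ := exists_unit_of_basis ht hb.span_eq_top
        rwa [show f = a from ht.1 (show f • t = a • t by rw [hf, ← hat])]
      have hu2 : IsUnit g := by
        have hb := isStalkBasis_germ_of_notMem hM (s := s) (x := i x) fun h' =>
          hx (by rw [hrange, Set.mem_preimage, hsr]; exact h')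
        obtain ⟨a, ha, hat⟩ := exists_unit_of_basis (bas_spec hM (i x)) hb.span_eq_top
        rwa [show g = a from (bas_spec hM (i x)).1 (show g • bas hM (i x) = a • bas hM (i x) by rw [hg, ← hat])]
      rw [Ideal.span_singleton_eq_top.mpr hu1, Ideal.span_singleton_eq_top.mpr (hu2.map (i.stalkMap x).hom)]
  obtain ⟨a, ha, hfa⟩ := exists_unit_map_eq (Cyc.specMap x e h) hspan hgne
  rw [secDivFun_eq hD hM' h (specializes_refl x) ht hne1, secDivFun_eq hD hM' h (specializes_refl x) ht hne2,
    h1, h2, hfa, divFun_mul hD (specMap_ne_zero h ha) hgne]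
  by_cases hd : IsDivPt δD e x
  · rw [show Cyc.divFun δD e (Cyc.specMap x e h a) x = 0 from
      (dif_pos hd).trans (ordAt_specMap_of_isUnit hD hd ha), zero_add]
  · rw [show Cyc.divFun δD e (Cyc.specMap x e h a) x = 0 from dif_neg hd, zero_add]

variable [IsClosedImmersion i]


/-- Off the intersection, a section with the same zero scheme as the restriction of `s` has the same
divisors as the restriction. -/
theorem secDivFun_of_zeroScheme_eq (hX : Cyc.IsSetup X δ) (hM : PicF.IsInvertible M)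
    {s : M.presheaf.obj (Opposite.op ⊤)} (hD' : Cyc.IsZeroSchemeOf i' M s) (sq : IsPullback j q i i')
    {σ : ((Scheme.Modules.pullback i).obj M).presheaf.obj (Opposite.op ⊤)}
    (hσ : Cyc.IsZeroSchemeOf j ((Scheme.Modules.pullback i).obj M) σ) {e : D} (he : e ∉ Set.range j) (x : D) :
    Cyc.secDivFun (fun d => δ (i d)) ((Scheme.Modules.pullback i).obj M) e
        (sbar ((Scheme.Modules.pullback i).obj M) σ e) x =
      Cyc.secDivFun (fun d => δ (i d)) ((Scheme.Modules.pullback i).obj M) e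
        (pullFib i hM e (sbar M s (i e))) x :=
  secDivFun_of_zeroScheme_eq_of_hom (isSetup_sub i hX) hM hD' sq hσ he x

/-- The second Gysin map computed on the first zero scheme or on the ambient scheme. -/
theorem gysin_half (hX : Cyc.IsSetup X δ) (hM : PicF.IsInvertible M) {s : M.presheaf.obj (Opposite.op ⊤)}
    (hD' : Cyc.IsZeroSchemeOf i' M s) (sq : IsPullback j q i i')
    {σ : ((Scheme.Modules.pullback i).obj M).presheaf.obj (Opposite.op ⊤)}
    (hσ : Cyc.IsZeroSchemeOf j ((Scheme.Modules.pullback i).obj M) σ) {k : ℤ} (A : X → ℤ)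
    (hsupp : ∀ x, x ∉ Set.range i → A x = 0)
    (hfin : ∀ V : X.Opens, IsAffineOpen V → ((V : Set X) ∩ Function.support A).Finite)
    (hA : ∀ x, A x ≠ 0 → δ x = k + 1) {w : (x : X) → Cyc.secFibre M x} (hw : ∀ x, w x ≠ 0)
    {w₁ : (d : D) → Cyc.secFibre ((Scheme.Modules.pullback i).obj M) d} (hw₁ : ∀ d, w₁ d ≠ 0) :
    RatZeroOn (fun z => δ (i (j z))) k Set.univ fun z =>
      Cyc.c1CapFun (fun d => δ (i d)) ((Scheme.Modules.pullback i).obj M) (fun d => A (i d))
          (Cyc.gysinChoice _ σ w₁) (j z) -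
        Cyc.c1CapFun δ M A (Cyc.gysinChoice M s w) (i (j z)) := by
  have hj := isClosedImmersion_of_isPullback sq
  have hD := isSetup_sub i hX
  have hM' := Groth.PicAux.isInvertible_pullback i hM
  have hG := gysinChoice_ne_zero (L := M) (s := s) hw
  have h := c1CapFun_sections hD hM' (k := k) (Z := Set.range j) (fun d => A (i d))
    (finite_preimage_support i A hfin) (fun d h => hA _ h)
    (gysinChoice_ne_zero (s := σ) hw₁) (fun e => pullFib_ne_zero i hM e (hG (i e))) fun e _ he x => by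
      rw [gysinChoice_of_notMem w₁ fun h' => he ((range_eq_zeroLocus hσ).symm ▸ h'),
        gysinChoice_of_notMem w fun h' => he (by
          rw [range_of_isPullback sq, Set.mem_preimage, range_eq_zeroLocus hD']; exact h'),
        secDivFun_of_zeroScheme_eq hX hM hD' sq hσ he x]
  refine ((h.comap j hD subset_rfl).mono (Set.subset_univ _)).congr fun z => ?_
  rw [c1CapFun_closedImm i hX hM A hsupp _ hG]

end Groth.CycInter

namespace Groth.CycInter

variable {X D D' P : Scheme.{u}} {δ : X → ℤ} {L L' : X.Modules}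

/-- The Gysin maps of two zero schemes commute. -/
theorem gysin_gysin (hX : Cyc.IsSetup X δ) (hL : PicF.IsInvertible L) (hL' : PicF.IsInvertible L')
    {s : L.presheaf.obj (Opposite.op ⊤)} {s' : L'.presheaf.obj (Opposite.op ⊤)}
    (i : D ⟶ X) (i' : D' ⟶ X) [IsClosedImmersion i] [IsClosedImmersion i']
    (hD : Cyc.IsZeroSchemeOf i L s) (hD' : Cyc.IsZeroSchemeOf i' L' s') {j : P ⟶ D} {q : P ⟶ D'}
    (sq : IsPullback j q i i')
    {σ' : ((Scheme.Modules.pullback i).obj L').presheaf.obj (Opposite.op ⊤)}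
    (hσ' : Cyc.IsZeroSchemeOf j ((Scheme.Modules.pullback i).obj L') σ')
    {σ : ((Scheme.Modules.pullback i').obj L).presheaf.obj (Opposite.op ⊤)}
    (hσ : Cyc.IsZeroSchemeOf q ((Scheme.Modules.pullback i').obj L) σ)
    {k : ℤ} (α : AlgebraicCycle X ℤ) (hα : α ∈ Cyc.Zk X δ k)
    {w : (ξ : X) → Cyc.secFibre L ξ} (hw : ∀ ξ, w ξ ≠ 0) {w' : (ξ : X) → Cyc.secFibre L' ξ} (hw' : ∀ ξ, w' ξ ≠ 0)
    {w₁ : (d : D) → Cyc.secFibre ((Scheme.Modules.pullback i).obj L') d} (hw₁ : ∀ d, w₁ d ≠ 0)
    {w₂ : (d : D') → Cyc.secFibre ((Scheme.Modules.pullback i').obj L) d} (hw₂ : ∀ d, w₂ d ≠ 0)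
    {ζ₁ ζ₂ : AlgebraicCycle P ℤ}
    (h₁ : ∀ z, ζ₁ z = Cyc.c1CapFun (fun d => δ (i d)) ((Scheme.Modules.pullback i).obj L')
      (fun d => Cyc.c1CapFun δ L ⇑α (Cyc.gysinChoice L s w) (i d))
      (Cyc.gysinChoice ((Scheme.Modules.pullback i).obj L') σ' w₁) (j z))
    (h₂ : ∀ z, ζ₂ z = Cyc.c1CapFun (fun d => δ (i' d)) ((Scheme.Modules.pullback i').obj L)
      (fun d => Cyc.c1CapFun δ L' ⇑α (Cyc.gysinChoice L' s' w') (i' d))
      (Cyc.gysinChoice ((Scheme.Modules.pullback i').obj L) σ w₂) (q z)) :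
    Cyc.RatEquiv (fun z => δ (i (j z))) (k - 2) ζ₁ ζ₂ := by
  have hj := isClosedImmersion_of_isPullback sq
  have hq := isClosedImmersion_of_isPullback sq.flip
  have hP : Cyc.IsSetup P fun z => δ (i (j z)) := isSetup_sub j (isSetup_sub i hX)
  have hG := gysinChoice_ne_zero (L := L) (s := s) hw
  have hG' := gysinChoice_ne_zero (L := L') (s := s') hw'
  have hαk : ∀ ξ, α ξ ≠ 0 → δ ξ = k := fun ξ h => by_contra fun h' => h (hα ξ h')
  have hdim : ∀ (N : X.Modules) (v : (ξ : X) → Cyc.secFibre N ξ) (x : X),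
      Cyc.c1CapFun δ N ⇑α v x ≠ 0 → δ x = (k - 2) + 1 := fun N v x hx => by
    rw [delta_of_c1CapFun_ne_zero (δ := δ) (k := k - 1) (fun ξ h => by rw [hαk ξ h]; ring) v hx]; ring
  have hpt : ∀ z, i' (q z) = i (j z) := fun z => by
    rw [← Scheme.Hom.comp_apply, ← Scheme.Hom.comp_apply, sq.w]
  have e1 := gysin_half hX hL' hD' sq hσ' (k := k - 2) _
    (fun x hx => c1CapFun_gysin_of_notMem hX hL ⇑α hw (by rwa [← range_eq_zeroLocus hD]))
    (finite_c1CapFun hX hL ⇑α (finite_cycle α) hG) (hdim _ _) hw' hw₁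
  have e2 := gysin_half hX hL hD sq.flip hσ (k := k - 2) _
    (fun x hx => c1CapFun_gysin_of_notMem hX hL' ⇑α hw' (by rwa [← range_eq_zeroLocus hD']))
    (finite_c1CapFun hX hL' ⇑α (finite_cycle α) hG') (hdim _ _) hw hw₂
  rw [show (fun z => δ (i' (q z))) = fun z => δ (i (j z)) from funext fun z => by rw [hpt]] at e2
  have e3 : RatZeroOn δ (k - 2) (zeroLocus L s ∩ zeroLocus L' s') fun z =>
      Cyc.c1CapFun δ L' (Cyc.c1CapFun δ L ⇑α (Cyc.gysinChoice L s w)) (Cyc.gysinChoice L' s' w') z -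
        Cyc.c1CapFun δ L (Cyc.c1CapFun δ L' ⇑α (Cyc.gysinChoice L' s' w')) (Cyc.gysinChoice L s w) z :=
    c1_comm_family hX hL' hL (fun ξ => ξ) ⇑α (range_zeroLocus_finite α) (fun ξ h => by rw [hαk ξ h]; ring)
      (Cyc.gysinChoice L s w) hG (Cyc.gysinChoice L' s' w') hG' hG' hG fun ξ x _ hx => by
        by_cases h : x ∈ zeroLocus L s
        · exact commFun_eq_one_right hX hL' hL hw' (hG ξ) _ fun h' => hx ⟨h, h'⟩
        · exact commFun_eq_one_left hX hL hL' hw (hG' ξ) _ h
  have e4 := (e3.comap i hX (Set.inter_subset_left.trans (range_eq_zeroLocus hD).ge)).comap j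
    (isSetup_sub i hX) (by
      intro d hd
      rw [range_of_isPullback sq, Set.mem_preimage, range_eq_zeroLocus hD']
      exact hd.2)
  refine ratEquivZero_of_ratZeroOn hP
    ((ratZeroOn_add hP (ratZeroOn_sub hP e1 e2) (e4.mono (Set.subset_univ _))).congr fun z => ?_)
  simp only [Function.locallyFinsuppWithin.coe_sub, Pi.sub_apply, h₁, h₂, hpt]
  ring

end Groth.CycInter
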