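import Groth.Agent.CycInter.BivGysinLemmas
import Groth.Agent.CycInter.GysinTwice
import Groth.Agent.S1929

/-!
The Gysin class of a zero scheme as a bivariant class.
-/

universe u

set_option autoImplicit false

open CategoryTheory CategoryTheory.Limits AlgebraicGeometry
open Groth.RefRank Groth.Cycles Groth.QCohMod

namespace Groth.CycInter.Biv

variable {X D : Scheme.{u}} {δX : X → ℤ} {δD : D → ℤ} {i : D ⟶ X}

theorem setup_sqY {f : D ⟶ X} (hX : Cyc.IsSetup X δX) (s : Bivar.Sq f δD δX) : Cyc.IsSetup s.Y' s.δY' :=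
  haveI := s.lft
  P1C.isSetup_of_lft hX s.g s.compatY

theorem compat_sq {f : D ⟶ X} (hδ : Cyc.DeltaCompat f δD δX) (s : Bivar.Sq f δD δX) :
    Cyc.DeltaCompat s.f' s.δX' s.δY' :=
  Dvr.deltaCompat_of_comp s.f' (g := s.g)
    (by rw [s.isPullback.w]; exact Bivar.deltaCompat_comp _ _ _ _ _ s.compatX hδ) s.compatY

/-- The square between two base changes over a morphism of test schemes. -/
theorem isPullback_of_hom {f : D ⟶ X} (s t : Bivar.Sq f δD δX) {h : t.Y' ⟶ s.Y'} {h' : t.X' ⟶ s.X'}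
    (w₁ : h ≫ s.g = t.g) (w₂ : h' ≫ s.f' = t.f' ≫ h) (w₃ : h' ≫ s.g' = t.g') :
    IsPullback t.f' h' h s.f' := by
  refine IsPullback.of_bot ?_ w₂.symm s.isPullback
  rw [w₁, w₃]
  exact t.isPullback

variable [IsClosedImmersion i] (hX : Cyc.IsSetup X δX) (hδ : Cyc.DeltaCompat i δD δX) {L : X.Modules}
  (hL : PicF.IsInvertible L) {σ : L.presheaf.obj (Opposite.op ⊤)} (hσ : Cyc.IsZeroSchemeOf i L σ)

theorem closedImm_sq (s : Bivar.Sq i δD δX) : IsClosedImmersion s.f' :=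
  isClosedImmersion_of_isPullback s.isPullback

include hδ in
theorem delta_sq (s : Bivar.Sq i δD δX) : s.δX' = fun d => s.δY' (s.f' d) :=
  haveI := closedImm_sq s
  delta_closedImmersion (compat_sq hδ s)

include hL in
theorem invertible_sq (s : Bivar.Sq i δD δX) : PicF.IsInvertible ((Scheme.Modules.pullback s.g).obj L) :=
  Groth.PicAux.isInvertible_pullback s.g hL

include hL hσ in
theorem zero_sq (s : Bivar.Sq i δD δX) :
    Cyc.IsZeroSchemeOf s.f' ((Scheme.Modules.pullback s.g).obj L) (pullTop s.g L σ) :=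
  isZeroSchemeOf_pullTop hL hσ s.isPullback

/-- Chosen fallback sections. -/
noncomputable def gysW (s : Bivar.Sq i δD δX) :
    (ξ : s.Y') → Cyc.secFibre ((Scheme.Modules.pullback s.g).obj L) ξ :=
  (exists_secs (invertible_sq hL s)).choose

theorem gysW_ne (s : Bivar.Sq i δD δX) (ξ : s.Y') : gysW hL s ξ ≠ 0 :=
  (exists_secs (invertible_sq hL s)).choose_spec ξ

variable (σ) in
/-- The chosen Gysin cycle. -/
noncomputable def gysCyc (s : Bivar.Sq i δD δX) (α : AlgebraicCycle s.Y' ℤ) : AlgebraicCycle s.X' ℤ :=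
  haveI := closedImm_sq s
  (exists_gysin_cycle (setup_sqY hX s) (invertible_sq hL s) s.f' (s := pullTop s.g L σ) (gysW_ne hL s) α).choose

theorem gysCyc_spec (s : Bivar.Sq i δD δX) (α : AlgebraicCycle s.Y' ℤ) (d : s.X') :
    gysCyc hX hL σ s α d = Cyc.c1CapFun s.δY' ((Scheme.Modules.pullback s.g).obj L) ⇑α
      (Cyc.gysinChoice ((Scheme.Modules.pullback s.g).obj L) (pullTop s.g L σ) (gysW hL s)) (s.f' d) :=
  haveI := closedImm_sq s
  (exists_gysin_cycle (setup_sqY hX s) (invertible_sq hL s) s.f' (s := pullTop s.g L σ) (gysW_ne hL s) α).choose_spec.1 d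

include hδ in
theorem gysCyc_mem (s : Bivar.Sq i δD δX) {k : ℤ} {α : AlgebraicCycle s.Y' ℤ} (hα : α ∈ Cyc.Zk s.Y' s.δY' k) :
    gysCyc hX hL σ s α ∈ Cyc.Zk s.X' s.δX' (k - 1) := by
  haveI := closedImm_sq s
  rw [delta_sq hδ s]
  exact (exists_gysin_cycle (setup_sqY hX s) (invertible_sq hL s) s.f' (s := pullTop s.g L σ)
    (gysW_ne hL s) α).choose_spec.2 k hα

theorem gysCyc_add (s : Bivar.Sq i δD δX) (α β : AlgebraicCycle s.Y' ℤ) :
    gysCyc hX hL σ s (α + β) = gysCyc hX hL σ s α + gysCyc hX hL σ s β := by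
  ext d
  rw [Function.locallyFinsuppWithin.coe_add, Pi.add_apply, gysCyc_spec, gysCyc_spec, gysCyc_spec,
    Function.locallyFinsuppWithin.coe_add, Bivar.c1CapFun_add, Pi.add_apply]

/-- The Gysin map on cycles. -/
noncomputable def gysHom (s : Bivar.Sq i δD δX) (k : ℤ) :
    ↥(ChowOps.zk s.Y' s.δY' k) →+ ChowOps.CH s.X' s.δX' (k - 1) :=
  AddMonoidHom.mk' (fun α => ChowOps.cl (gysCyc hX hL σ s α.1) (gysCyc_mem hX hδ hL s α.2)) fun α β => by
    rw [← Bivar.cl_add]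
    exact Bivar.cl_congr (gysCyc_add hX hL s α.1 β.1) _ _

/-- The Gysin map on Chow groups. -/
noncomputable def gysOp (s : Bivar.Sq i δD δX) (k : ℤ) :
    ChowOps.CH s.Y' s.δY' k →+ ChowOps.CH s.X' s.δX' (k - 1) :=
  liftCH (gysHom hX hδ hL (σ := σ) s k) fun α hα h0 => by
    haveI := closedImm_sq s
    show ChowOps.cl (gysCyc hX hL σ s α) _ = 0
    rw [← Bivar.cl_zero]
    refine cl_eq _ _ ?_
    show Cyc.RatEquivZero s.δX' (k - 1) (gysCyc hX hL σ s α - 0)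
    rw [sub_zero, delta_sq hδ s]
    exact Groth.Agent.S1929.result s.Y' s.X' s.δY' (setup_sqY hX s) _ (invertible_sq hL s) _ s.f'
      (zero_sq hL hσ s) (k - 1) α (by rwa [sub_add_cancel]) (by rwa [sub_add_cancel]) _ (gysW_ne hL s) _
      (gysCyc_spec hX hL s α)

theorem gysOp_cl (s : Bivar.Sq i δD δX) (k : ℤ)
    {τ : ((Scheme.Modules.pullback s.g).obj L).presheaf.obj (Opposite.op ⊤)}
    (hτ : Cyc.IsZeroSchemeOf s.f' ((Scheme.Modules.pullback s.g).obj L) τ) (α : AlgebraicCycle s.Y' ℤ)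
    (hα : α ∈ Cyc.Zk s.Y' s.δY' k) {w : (ξ : s.Y') → Cyc.secFibre ((Scheme.Modules.pullback s.g).obj L) ξ}
    (hw : ∀ ξ, w ξ ≠ 0) (γ : AlgebraicCycle s.X' ℤ)
    (hγ : ∀ d, γ d = Cyc.c1CapFun s.δY' ((Scheme.Modules.pullback s.g).obj L) ⇑α
      (Cyc.gysinChoice ((Scheme.Modules.pullback s.g).obj L) τ w) (s.f' d))
    (hγk : γ ∈ Cyc.Zk s.X' s.δX' (k - 1)) :
    gysOp hX hδ hL hσ s k (ChowOps.cl α hα) = ChowOps.cl γ hγk := by
  refine cl_eq (gysCyc_mem hX hδ hL s hα) hγk ?_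
  rw [delta_sq hδ s]
  exact gysin_compare (setup_sqY hX s) hL hσ s.isPullback (zero_sq hL hσ s) hτ α hα (gysW_ne hL s) hw
    (gysCyc_spec hX hL s α) hγ

theorem gysOp_cl_iso (s : Bivar.Sq i δD δX) (k : ℤ) {M : s.Y'.Modules} (hM : PicF.IsInvertible M)
    (e : M ≅ (Scheme.Modules.pullback s.g).obj L) {τ : M.presheaf.obj (Opposite.op ⊤)}
    (hτ : Cyc.IsZeroSchemeOf s.f' M τ) (α : AlgebraicCycle s.Y' ℤ)
    (hα : α ∈ Cyc.Zk s.Y' s.δY' k) {w : (ξ : s.Y') → Cyc.secFibre M ξ}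
    (hw : ∀ ξ, w ξ ≠ 0) (γ : AlgebraicCycle s.X' ℤ)
    (hγ : ∀ d, γ d = Cyc.c1CapFun s.δY' M ⇑α (Cyc.gysinChoice M τ w) (s.f' d))
    (hγk : γ ∈ Cyc.Zk s.X' s.δX' (k - 1)) :
    gysOp hX hδ hL hσ s k (ChowOps.cl α hα) = ChowOps.cl γ hγk := by
  obtain ⟨v, hv, hv'⟩ := gysin_iso (setup_sqY hX s) hM (invertible_sq hL s) e τ hw
  exact gysOp_cl hX hδ hL hσ s k (isZeroSchemeOf_iso e hM hτ) α hα hv γ (fun d => by rw [hγ, hv']) hγk

theorem gysOp_push (s t : Bivar.Sq i δD δX) (h : t.Y' ⟶ s.Y') [IsProper h] (h' : t.X' ⟶ s.X') [IsProper h']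
    (w₁ : h ≫ s.g = t.g) (w₂ : h' ≫ s.f' = t.f' ≫ h) (w₃ : h' ≫ s.g' = t.g') (k : ℤ) :
    Bivar.PushOK t.δY' t.δX' s.δY' s.δX' h h' (gysOp hX hδ hL hσ t k) (gysOp hX hδ hL hσ s k) := by
  intro α hα
  haveI := closedImm_sq s
  haveI := closedImm_sq t
  have sqh := isPullback_of_hom s t w₁ w₂ w₃
  have hS := setup_sqY hX s
  have hT := setup_sqY hX t
  have hδh : Cyc.DeltaCompat h t.δY' s.δY' :=
    Dvr.deltaCompat_of_comp h (g := s.g) (by rw [w₁]; exact t.compatY) s.compatY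
  have hM := invertible_sq hL s
  have hz := zero_sq hL hσ s
  have hM' := Groth.PicAux.isInvertible_pullback h hM
  have hz' := isZeroSchemeOf_pullTop hM hz sqh
  obtain ⟨u, hu⟩ := exists_secs hM'
  obtain ⟨γ', hγ', hγ'k⟩ := exists_gysin_cycle hT hM' t.f'
    (s := pullTop h ((Scheme.Modules.pullback s.g).obj L) (pullTop s.g L σ)) hu α
  have hγ't : γ' ∈ Cyc.Zk t.X' t.δX' (k - 1) := by
    rw [delta_sq hδ t]; exact hγ'k k hα
  refine ⟨γ', hγ't, gysOp_cl_iso hX hδ hL hσ t k hM' (pullIso w₁ L) hz' α hα hu γ' hγ' hγ't, ?_⟩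
  have hm := Bivar.cycMap_mem_Zk h t.δY' s.δY' k hα
  rw [gysOp_cl hX hδ hL hσ s k hz _ hm (gysW_ne hL s) _ (gysCyc_spec hX hL s _) (gysCyc_mem hX hδ hL s hm)]
  refine cl_eq _ _ ?_
  have e := gysin_map hS hT hδh hM hz sqh hz' (k - 1) α (by rwa [sub_add_cancel]) (gysW_ne hL s) hu
    (gysCyc_spec hX hL s _) hγ'
  rwa [← delta_sq hδ s, ← delta_sq hδ t] at e

theorem gysOp_pull (s t : Bivar.Sq i δD δX) (h : t.Y' ⟶ s.Y') [Flat h] (h' : t.X' ⟶ s.X') [Flat h'] (r : ℕ)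
    (hr : Cyc.HasRelDim h r) (hr' : Cyc.HasRelDim h' r)
    (w₁ : h ≫ s.g = t.g) (w₂ : h' ≫ s.f' = t.f' ≫ h) (w₃ : h' ≫ s.g' = t.g') (k : ℤ) :
    Bivar.PullOK s.δY' s.δX' t.δY' t.δX' h h' (r : ℤ) (gysOp hX hδ hL hσ s k)
      (gysOp hX hδ hL hσ t (k + r)) := by
  intro α hα
  haveI := closedImm_sq s
  haveI := closedImm_sq t
  have sqh := isPullback_of_hom s t w₁ w₂ w₃
  have hS := setup_sqY hX s
  have hT := setup_sqY hX t
  haveI := s.lft
  haveI := t.lft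
  haveI : LocallyOfFiniteType (h ≫ s.g) := w₁ ▸ t.lft
  haveI : LocallyOfFiniteType h := locallyOfFiniteType_of_comp h s.g
  haveI : LocallyOfFiniteType h' := MorphismProperty.of_isPullback sqh ‹LocallyOfFiniteType h›
  have hδh : Cyc.DeltaCompat h t.δY' s.δY' :=
    Dvr.deltaCompat_of_comp h (g := s.g) (by rw [w₁]; exact t.compatY) s.compatY
  have hδh' : Cyc.DeltaCompat h' t.δX' s.δX' :=
    Dvr.deltaCompat_of_comp h' (g := s.g') (by rw [w₃]; exact t.compatX) s.compatX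
  have hsX : Cyc.IsSetup s.X' s.δX' := by rw [delta_sq hδ s]; exact isSetup_sub s.f' hS
  have htX : Cyc.IsSetup t.X' t.δX' := by rw [delta_sq hδ t]; exact isSetup_sub t.f' hT
  haveI := hT.1
  haveI := htX.1
  have hc := fun x hx => Groth.Cycles.delta_eq_add_of_isFibreGeneric h hr hδh (x := x) hx
  have hc' := fun x hx => Groth.Cycles.delta_eq_add_of_isFibreGeneric h' hr' hδh' (x := x) hx
  have hM := invertible_sq hL s
  have hz := zero_sq hL hσ s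
  have hM' := Groth.PicAux.isInvertible_pullback h hM
  have hz' := isZeroSchemeOf_pullTop hM hz sqh
  refine ⟨gysCyc hX hL σ s α, gysCyc_mem hX hδ hL s hα, rfl, fun α₁ hα₁e hα₁ => ?_⟩
  obtain ⟨β₁, hβ₁⟩ := exists_pullCycle t.δX' s.δX' htX hsX h' (r : ℤ) hc' (gysCyc hX hL σ s α)
  have hβ₁k : β₁ ∈ Cyc.Zk t.X' t.δX' (k + r - 1) := by
    have := Bivar.pullFun_mem_Zk h' t.δX' s.δX' r (k - 1) (gysCyc_mem hX hδ hL s hα) β₁ hβ₁
    rwa [sub_add_eq_add_sub] at this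
  refine ⟨β₁, hβ₁k, hβ₁, ?_⟩
  obtain ⟨u, hu⟩ := exists_secs hM'
  obtain ⟨γ, hγ, hγk⟩ := exists_gysin_cycle hT hM' t.f'
    (s := pullTop h ((Scheme.Modules.pullback s.g).obj L) (pullTop s.g L σ)) hu α₁
  have hγt : γ ∈ Cyc.Zk t.X' t.δX' (k + r - 1) := by
    rw [delta_sq hδ t]; exact hγk _ hα₁
  rw [gysOp_cl_iso hX hδ hL hσ t (k + r) hM' (pullIso w₁ L) hz' α₁ hα₁ hu γ hγ hγt]
  refine cl_eq _ _ ?_
  have e := gysin_pull_sq hS hT (r : ℤ) hc hM hz sqh hz' (k - 1) α (by rwa [sub_add_cancel]) (gysW_ne hL s) hu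
    (ζ₁ := γ) (ζ₂ := β₁) (fun z => by rw [hγ, hα₁e]) (by
      rw [hβ₁, ← delta_sq hδ s, ← delta_sq hδ t]
      congr 1
      exact funext fun d => gysCyc_spec hX hL s α d)
  rwa [← delta_sq hδ t, sub_add_eq_add_sub] at e

theorem gysOp_gysin (s t : Bivar.Sq i δD δX) (i' : t.Y' ⟶ s.Y') [IsClosedImmersion i'] (j : t.X' ⟶ s.X')
    [IsClosedImmersion j] (w₁ : i' ≫ s.g = t.g) (w₂ : j ≫ s.f' = t.f' ≫ i') (w₃ : j ≫ s.g' = t.g')
    (L' : s.Y'.Modules) (hL' : PicF.IsInvertible L') (σ' : L'.presheaf.obj (Opposite.op ⊤))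
    (hσ' : Cyc.IsZeroSchemeOf i' L' σ')
    (τ : ((Scheme.Modules.pullback s.f').obj L').presheaf.obj (Opposite.op ⊤))
    (hτ : Cyc.IsZeroSchemeOf j ((Scheme.Modules.pullback s.f').obj L') τ) (k : ℤ) :
    Bivar.GysinOK s.δY' t.δY' s.δX' t.δX' i' L' σ' j ((Scheme.Modules.pullback s.f').obj L') τ
      (gysOp hX hδ hL hσ s k) (gysOp hX hδ hL hσ t (k - 1)) := by
  intro α hα
  haveI := closedImm_sq s
  haveI := closedImm_sq t
  have sqh := isPullback_of_hom s t w₁ w₂ w₃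
  have hS := setup_sqY hX s
  have hT := setup_sqY hX t
  have hδi : Cyc.DeltaCompat i' t.δY' s.δY' :=
    Dvr.deltaCompat_of_comp i' (g := s.g) (by rw [w₁]; exact t.compatY) s.compatY
  have hsX : Cyc.IsSetup s.X' s.δX' := by rw [delta_sq hδ s]; exact isSetup_sub s.f' hS
  have hδj : Cyc.DeltaCompat j t.δX' s.δX' :=
    Dvr.deltaCompat_of_comp j (g := s.g') (by rw [w₃]; exact t.compatX) s.compatX
  have eY := delta_closedImmersion hδi
  have eX := delta_closedImmersion hδj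
  have hM := invertible_sq hL s
  have hz := zero_sq hL hσ s
  have hM' := Groth.PicAux.isInvertible_pullback i' hM
  have hz' := isZeroSchemeOf_pullTop hM hz sqh
  have hN := Groth.PicAux.isInvertible_pullback s.f' hL'
  refine ⟨gysCyc hX hL σ s α, gysCyc_mem hX hδ hL s hα, rfl, fun w hw γ hγ hγk w' hw' => ?_⟩
  obtain ⟨ζ, hζ, hζk⟩ := exists_gysin_cycle hsX hN j (s := τ) hw' (gysCyc hX hL σ s α)
  have hζt : ζ ∈ Cyc.Zk t.X' t.δX' (k - 1 - 1) := by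
    rw [eX]; exact hζk _ (gysCyc_mem hX hδ hL s hα)
  refine ⟨ζ, hζt, hζ, ?_⟩
  obtain ⟨u, hu⟩ := exists_secs hM'
  obtain ⟨η, hη, hηk⟩ := exists_gysin_cycle hT hM' t.f'
    (s := pullTop i' ((Scheme.Modules.pullback s.g).obj L) (pullTop s.g L σ)) hu γ
  have hηt : η ∈ Cyc.Zk t.X' t.δX' (k - 1 - 1) := by
    rw [delta_sq hδ t]; exact hηk _ hγk
  rw [gysOp_cl_iso hX hδ hL hσ t (k - 1) hM' (pullIso w₁ L) hz' γ hγk hu η hη hηt]
  refine (cl_eq _ _ ?_).symm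
  have e := gysin_gysin hS hM hL' s.f' i' hz hσ' sqh.flip hτ hz' α hα (gysW_ne hL s) hw hw' hu
    (ζ₁ := ζ) (ζ₂ := η)
    (fun z => by rw [hζ, ← delta_sq hδ s, funext (gysCyc_spec hX hL s α)])
    (fun z => by rw [hη, ← eY, funext hγ])
  rw [show k - 1 - 1 = k - 2 by ring, eX, delta_sq hδ s]
  exact e

include hX hδ hL hσ in
theorem exists_isGysinClass : ∃ c : Bivar.Cl 1 i δD δX, Bivar.IsGysinClass i L σ c :=
  ⟨{ op := gysOp hX hδ hL hσ
     push := fun s t h _ h' _ w₁ w₂ w₃ k => gysOp_push hX hδ hL hσ s t h h' w₁ w₂ w₃ k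
     pull := fun s t h _ h' _ r hr hr' w₁ w₂ w₃ k => gysOp_pull hX hδ hL hσ s t h h' r hr hr' w₁ w₂ w₃ k
     gysin := fun s t i' _ j _ w₁ w₂ w₃ L' hL' σ' hσ' τ hτ k =>
       gysOp_gysin hX hδ hL hσ s t i' j w₁ w₂ w₃ L' hL' σ' hσ' τ hτ k },
    hL, hσ, hδ, fun s τ hτ k α hα w hw γ hγ hγk => gysOp_cl hX hδ hL hσ s k hτ α hα hw γ hγ hγk⟩

end Groth.CycInter.Biv
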