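import Groth.Agent.CycInter.BivPushCH
import Groth.Agent.CycInter.BivGysin
import Groth.Agent.Cycles.PullPush
import Groth.Agent.S1856

/-!
Flat pullback as a bivariant class.
-/

universe u

set_option autoImplicit false

open CategoryTheory CategoryTheory.Limits AlgebraicGeometry
open Groth.RefRank Groth.Cycles

namespace Groth.CycInter.Biv

variable {X Y : Scheme.{u}}

theorem pullFun_isoComp {P Q : Scheme.{u}} (ε : P ≅ Q) (π : Q ⟶ Y) {q : P ⟶ Y} (e : ε.hom ≫ π = q)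
    (δP : P → ℤ) (δY : Y → ℤ) (c : ℤ) (α : Y → ℤ) (z : P) :
    Cyc.pullFun q δP δY c α z = Cyc.pullFun π (fun w => δP (ε.inv w)) δY c α (ε.hom z) := by
  subst e
  have hz : ε.inv (ε.hom z) = z := by rw [← Scheme.Hom.comp_apply, ε.hom_inv_id]; rfl
  have hl := Dvr.length_fibre_sq (ε.hom ≫ π) π ε.hom (𝟙 Y) (Category.comp_id _) z (by
    rw [(RingHom.injective_iff_ker_eq_bot _).mp
      (ConcreteCategory.bijective_of_isIso (ε.hom.stalkMap z)).1]
    exact bot_le)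
  simp only [Cyc.pullFun, Scheme.Hom.comp_apply, hz]
  congr 3
  exact congrArg ENat.toNat hl

/-- Flat pullback commutes with proper pushforward, for any cartesian square. -/
theorem pullFun_map_sq {X' Y' P : Scheme.{u}} {f : Y' ⟶ X} {p : X' ⟶ X} {q : P ⟶ Y'} {f' : P ⟶ X'}
    (sq : IsPullback q f' f p) [LocallyOfFiniteType f] [QuasiCompact f] [QuasiCompact f'] [Flat p]
    [IsLocallyNoetherian X'] [IsLocallyNoetherian P] (δ : X → ℤ) (δ' : X' → ℤ) (δY : Y' → ℤ) (δP : P → ℤ)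
    (hf : Cyc.DeltaCompat f δY δ) (hf' : Cyc.DeltaCompat f' δP δ') (c : ℤ)
    (hc : ∀ x, Groth.CycleLimits.IsFibreGeneric p x → δ' x = δ (p x) + c)
    (hq : ∀ z, Groth.CycleLimits.IsFibreGeneric q z → δP z = δY (q z) + c)
    (α : AlgebraicCycle Y' ℤ) (β : AlgebraicCycle P ℤ) (hβ : ⇑β = Cyc.pullFun q δP δY c ⇑α) :
    Cyc.pullFun p δ' δ c ⇑(AlgebraicCycle.map f δY δ α) = ⇑(AlgebraicCycle.map f' δP δ' β) := by
  let ε := sq.isoPullback
  have h₁ : ε.hom ≫ pullback.fst f p = q := sq.isoPullback_hom_fst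
  have h₂ : ε.hom ≫ pullback.snd f p = f' := sq.isoPullback_hom_snd
  have hinv : ∀ w, ε.hom (ε.inv w) = w := fun w => by rw [← Scheme.Hom.comp_apply, ε.inv_hom_id]; rfl
  have hinv' : ∀ w, ε.inv (ε.hom w) = w := fun w => by rw [← Scheme.Hom.comp_apply, ε.hom_inv_id]; rfl
  haveI : IsLocallyNoetherian (pullback f p) := LocallyOfFiniteType.isLocallyNoetherian (pullback.snd f p)
  let δQ : ↥(pullback f p) → ℤ := fun w => δP (ε.inv w)
  have hδε : Cyc.DeltaCompat ε.hom δP δQ := by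
    have := Groth.Cycles.deltaCompat_preimmersion ε.hom δQ
    rwa [show δQ ∘ ⇑ε.hom = δP from funext fun w => congrArg δP (hinv' w)] at this
  have hδs : Cyc.DeltaCompat (pullback.snd f p) δQ δ' := by
    have h := Bivar.deltaCompat_comp ε.inv f' δQ δP δ'
      (Groth.Cycles.deltaCompat_preimmersion ε.inv δP) hf'
    rwa [← h₂, ε.inv_hom_id_assoc] at h
  have hbe : ⇑(AlgebraicCycle.map ε.hom δP δQ β) = Cyc.pullFun (pullback.fst f p) δQ δY c ⇑α := by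
    funext w
    obtain ⟨z, rfl⟩ : ∃ z, ε.hom z = w := ⟨_, hinv w⟩
    rw [← pullFun_isoComp ε _ h₁ δP δY c ⇑α z, ← hβ]
    have hd : δP = fun d => δQ (ε.hom d) := funext fun d => (congrArg δP (hinv' d)).symm
    conv_lhs => rw [hd]
    exact map_closedImm_apply (i := ε.hom) (δ := δQ) β z
  rw [Groth.Cycles.pullFun_map_baseChange f p δ δ' δY δQ hf c hc (fun w hw => ?_) α _ hbe,
    Groth.Cycles.map_map_eq ε.hom _ hδε hδs]
  · congr 2
  obtain ⟨z, rfl⟩ : ∃ z, ε.hom z = w := ⟨_, hinv w⟩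
  have hz := hq z (by
    intro z' hz' hs
    rw [← h₁, Scheme.Hom.comp_apply, Scheme.Hom.comp_apply] at hz'
    exact ε.hom.isEmbedding.injective (hw _ hz' (hs.map ε.hom.continuous)))
  rw [← h₁, Scheme.Hom.comp_apply] at hz
  exact (congrArg δP (hinv' z)).trans hz

variable {f : X ⟶ Y} [Flat f] [LocallyOfFiniteType f] {r : ℕ} {δX : X → ℤ} {δY : Y → ℤ}
  (hr : Cyc.HasRelDim f r) (hY : Cyc.IsSetup Y δY) (hδ : Cyc.DeltaCompat f δX δY)

theorem flat_sq (s : Bivar.Sq f δX δY) : Flat s.f' :=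
  MorphismProperty.of_isPullback s.isPullback.flip ‹Flat f›

theorem lft_sqf (s : Bivar.Sq f δX δY) : LocallyOfFiniteType s.f' :=
  MorphismProperty.of_isPullback s.isPullback.flip ‹LocallyOfFiniteType f›

include hr hδ in
theorem fibreGeneric_sq (s : Bivar.Sq f δX δY) (x : s.X')
    (hx : Groth.CycleLimits.IsFibreGeneric s.f' x) : s.δX' x = s.δY' (s.f' x) + r :=
  haveI := lft_sqf s
  Groth.Cycles.delta_eq_add_of_isFibreGeneric s.f' (hasRelDim_baseChange s.isPullback.flip hr)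
    (compat_sq hδ s) hx

include hY hδ in
theorem setup_sqX' (s : Bivar.Sq f δX δY) : Cyc.IsSetup s.X' s.δX' :=
  haveI := lft_sqf s
  P1C.isSetup_of_lft (setup_sqY hY s) s.f' (compat_sq hδ s)

/-- The pullback cycle. -/
noncomputable def flatCyc (s : Bivar.Sq f δX δY) (α : AlgebraicCycle s.Y' ℤ) : AlgebraicCycle s.X' ℤ :=
  (exists_pullCycle s.δX' s.δY' (setup_sqX' hY hδ s) (setup_sqY hY s) s.f' (r : ℤ)
    (fibreGeneric_sq hr hδ s) α).choose

theorem flatCyc_spec (s : Bivar.Sq f δX δY) (α : AlgebraicCycle s.Y' ℤ) :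
    ⇑(flatCyc hr hY hδ s α) = Cyc.pullFun s.f' s.δX' s.δY' (r : ℤ) ⇑α :=
  (exists_pullCycle s.δX' s.δY' (setup_sqX' hY hδ s) (setup_sqY hY s) s.f' (r : ℤ)
    (fibreGeneric_sq hr hδ s) α).choose_spec

theorem flatCyc_mem (s : Bivar.Sq f δX δY) {k : ℤ} {α : AlgebraicCycle s.Y' ℤ}
    (hα : α ∈ Cyc.Zk s.Y' s.δY' k) : flatCyc hr hY hδ s α ∈ Cyc.Zk s.X' s.δX' (k - -(r : ℤ)) := by
  rw [sub_neg_eq_add]
  exact Bivar.pullFun_mem_Zk s.f' s.δX' s.δY' r k hα _ (flatCyc_spec hr hY hδ s α)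

theorem flatCyc_add (s : Bivar.Sq f δX δY) (α β : AlgebraicCycle s.Y' ℤ) :
    flatCyc hr hY hδ s (α + β) = flatCyc hr hY hδ s α + flatCyc hr hY hδ s β :=
  DFunLike.coe_injective (by
    rw [Function.locallyFinsuppWithin.coe_add, flatCyc_spec, flatCyc_spec, flatCyc_spec,
      Function.locallyFinsuppWithin.coe_add, Bivar.pullFun_add])

/-- Flat pullback on Chow groups. -/
noncomputable def flatOp (s : Bivar.Sq f δX δY) (k : ℤ) :
    ChowOps.CH s.Y' s.δY' k →+ ChowOps.CH s.X' s.δX' (k - -(r : ℤ)) :=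
  liftCH (AddMonoidHom.mk' (fun α => ChowOps.cl (flatCyc hr hY hδ s α.1) (flatCyc_mem hr hY hδ s α.2))
    fun α β => by
      rw [← Bivar.cl_add]
      exact Bivar.cl_congr (flatCyc_add hr hY hδ s α.1 β.1) _ _) fun α hα h0 => by
    haveI := flat_sq s
    haveI := lft_sqf s
    show ChowOps.cl (flatCyc hr hY hδ s α) _ = 0
    rw [← Bivar.cl_zero]
    refine cl_eq _ _ ?_
    rw [sub_neg_eq_add]
    refine Groth.Agent.S1856.result _ _ _ _ (setup_sqX' hY hδ s) (setup_sqY hY s) s.f' r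
      (hasRelDim_baseChange s.isPullback.flip hr) (compat_sq hδ s) k α 0 hα (ChowOps.zk _ _ k).zero_mem ?_
      _ 0 (flatCyc_spec hr hY hδ s α) ?_
    · show Cyc.RatEquivZero s.δY' k (α - 0)
      rwa [sub_zero]
    · simp only [Function.locallyFinsuppWithin.coe_zero, Bivar.pullFun_zero]

theorem flatOp_cl (s : Bivar.Sq f δX δY) (k : ℤ) (α : AlgebraicCycle s.Y' ℤ) (hα : α ∈ Cyc.Zk s.Y' s.δY' k)
    (β : AlgebraicCycle s.X' ℤ) (e : ⇑β = Cyc.pullFun s.f' s.δX' s.δY' (r : ℤ) ⇑α)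
    (hβ : β ∈ Cyc.Zk s.X' s.δX' (k - -(r : ℤ))) :
    flatOp hr hY hδ s k (ChowOps.cl α hα) = ChowOps.cl β hβ :=
  Bivar.cl_congr (DFunLike.coe_injective ((flatCyc_spec hr hY hδ s α).trans e.symm))
    (flatCyc_mem hr hY hδ s hα) hβ

theorem flatOp_push (s t : Bivar.Sq f δX δY) (h : t.Y' ⟶ s.Y') [IsProper h] (h' : t.X' ⟶ s.X') [IsProper h']
    (w₁ : h ≫ s.g = t.g) (w₂ : h' ≫ s.f' = t.f' ≫ h) (w₃ : h' ≫ s.g' = t.g') (k : ℤ) :
    Bivar.PushOK t.δY' t.δX' s.δY' s.δX' h h' (flatOp hr hY hδ t k) (flatOp hr hY hδ s k) := by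
  intro α hα
  haveI := flat_sq s
  haveI := lft_sqf s
  have sqh := isPullback_of_hom s t w₁ w₂ w₃
  haveI := (setup_sqX' hY hδ s).1
  haveI := (setup_sqX' hY hδ t).1
  refine ⟨_, flatCyc_mem hr hY hδ t hα, rfl, flatOp_cl hr hY hδ s k _ _ _ ?_ _⟩
  exact (pullFun_map_sq sqh s.δY' s.δX' t.δY' t.δX'
    (Dvr.deltaCompat_of_comp h (g := s.g) (by rw [w₁]; exact t.compatY) s.compatY)
    (Dvr.deltaCompat_of_comp h' (g := s.g') (by rw [w₃]; exact t.compatX) s.compatX) r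
    (fibreGeneric_sq hr hδ s) (fibreGeneric_sq hr hδ t) α _ (flatCyc_spec hr hY hδ t α)).symm

theorem flatOp_pull (s t : Bivar.Sq f δX δY) (h : t.Y' ⟶ s.Y') [Flat h] (h' : t.X' ⟶ s.X') [Flat h'] (m : ℕ)
    (hm : Cyc.HasRelDim h m) (hm' : Cyc.HasRelDim h' m)
    (w₁ : h ≫ s.g = t.g) (w₂ : h' ≫ s.f' = t.f' ≫ h) (w₃ : h' ≫ s.g' = t.g') (k : ℤ) :
    Bivar.PullOK s.δY' s.δX' t.δY' t.δX' h h' (m : ℤ) (flatOp hr hY hδ s k)
      (flatOp hr hY hδ t (k + m)) := by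
  intro α hα
  haveI := flat_sq s
  haveI := flat_sq t
  haveI := lft_sqf t
  haveI := s.lft
  haveI : LocallyOfFiniteType (h ≫ s.g) := w₁ ▸ t.lft
  haveI : LocallyOfFiniteType h := locallyOfFiniteType_of_comp h s.g
  haveI : LocallyOfFiniteType h' :=
    MorphismProperty.of_isPullback (isPullback_of_hom s t w₁ w₂ w₃) ‹LocallyOfFiniteType h›
  haveI := (setup_sqX' hY hδ s).1
  haveI := (setup_sqX' hY hδ t).1
  haveI := (setup_sqY hY t).1
  have hδh := Dvr.deltaCompat_of_comp h (g := s.g) (δX := t.δY') (δY := s.δY') (by rw [w₁]; exact t.compatY)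
    s.compatY
  have hδh' := Dvr.deltaCompat_of_comp h' (g := s.g') (δX := t.δX') (δY := s.δX')
    (by rw [w₃]; exact t.compatX) s.compatX
  refine ⟨_, flatCyc_mem hr hY hδ s hα, rfl, fun α₁ hα₁e hα₁ => ⟨_, flatCyc_mem hr hY hδ t hα₁, ?_, rfl⟩⟩
  have e₁ := pullFun_comp_eq t.f' h t.δX' t.δY' s.δY' r m (fibreGeneric_sq hr hδ t)
    (fun x hx => Groth.Cycles.delta_eq_add_of_isFibreGeneric h hm hδh hx) ⇑α
  have e₂ := pullFun_comp_eq h' s.f' t.δX' s.δX' s.δY' m r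
    (fun x hx => Groth.Cycles.delta_eq_add_of_isFibreGeneric h' hm' hδh' hx) (fibreGeneric_sq hr hδ s) ⇑α
  rw [flatCyc_spec, flatCyc_spec, hα₁e, ← e₁, ← e₂, w₂, add_comm (r : ℤ)]

theorem flatOp_gysin (s t : Bivar.Sq f δX δY) (i : t.Y' ⟶ s.Y') [IsClosedImmersion i] (j : t.X' ⟶ s.X')
    [IsClosedImmersion j] (w₁ : i ≫ s.g = t.g) (w₂ : j ≫ s.f' = t.f' ≫ i) (w₃ : j ≫ s.g' = t.g')
    (L : s.Y'.Modules) (hL : PicF.IsInvertible L) (σ : L.presheaf.obj (Opposite.op ⊤))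
    (hσ : Cyc.IsZeroSchemeOf i L σ)
    (τ : ((Scheme.Modules.pullback s.f').obj L).presheaf.obj (Opposite.op ⊤))
    (hτ : Cyc.IsZeroSchemeOf j ((Scheme.Modules.pullback s.f').obj L) τ) (k : ℤ) :
    Bivar.GysinOK s.δY' t.δY' s.δX' t.δX' i L σ j ((Scheme.Modules.pullback s.f').obj L) τ
      (flatOp hr hY hδ s k) (flatOp hr hY hδ t (k - 1)) := by
  intro α hα
  haveI := flat_sq s
  haveI := lft_sqf s
  have sqh := (isPullback_of_hom s t w₁ w₂ w₃).flip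
  have hS := setup_sqY hY s
  have hS' := setup_sqX' hY hδ s
  have eY := delta_closedImmersion
    (Dvr.deltaCompat_of_comp i (g := s.g) (δX := t.δY') (δY := s.δY') (by rw [w₁]; exact t.compatY) s.compatY)
  have eX := delta_closedImmersion
    (Dvr.deltaCompat_of_comp j (g := s.g') (δX := t.δX') (δY := s.δX') (by rw [w₃]; exact t.compatX) s.compatX)
  have hN := Groth.PicAux.isInvertible_pullback s.f' hL
  refine ⟨_, flatCyc_mem hr hY hδ s hα, rfl, fun w hw γ hγ hγk w' hw' => ?_⟩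
  obtain ⟨ζ, hζ, hζk⟩ := exists_gysin_cycle hS' hN j (s := τ) hw' (flatCyc hr hY hδ s α)
  have hζt : ζ ∈ Cyc.Zk t.X' t.δX' (k - 1 - -(r : ℤ)) := by
    rw [eX, sub_right_comm]
    exact hζk _ (flatCyc_mem hr hY hδ s hα)
  refine ⟨ζ, hζt, hζ, ?_⟩
  refine (cl_eq hζt (flatCyc_mem hr hY hδ t hγk) ?_).symm
  have key := gysin_pull_sq hS hS' (r : ℤ) (fibreGeneric_sq hr hδ s) hL hσ sqh hτ (k - 1) α
    (by rwa [sub_add_cancel]) hw hw' (ζ₁ := ζ) (ζ₂ := flatCyc hr hY hδ t γ)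
    (fun z => by rw [hζ, flatCyc_spec])
    (by rw [flatCyc_spec, ← eX, ← eY, show ⇑γ = _ from funext hγ])
  rw [sub_neg_eq_add, eX]
  exact key

include hr hY hδ in
theorem exists_isFlatPullClass : ∃ c : Bivar.Cl (-(r : ℤ)) f δX δY, Bivar.IsFlatPullClass f r c :=
  ⟨{ op := flatOp hr hY hδ
     push := fun s t h _ h' _ w₁ w₂ w₃ k => flatOp_push hr hY hδ s t h h' w₁ w₂ w₃ k
     pull := fun s t h _ h' _ m hm hm' w₁ w₂ w₃ k => flatOp_pull hr hY hδ s t h h' m hm hm' w₁ w₂ w₃ k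
     gysin := fun s t i _ j _ w₁ w₂ w₃ L hL σ hσ τ hτ k =>
       flatOp_gysin hr hY hδ s t i j w₁ w₂ w₃ L hL σ hσ τ hτ k },
    ‹Flat f›, ‹LocallyOfFiniteType f›, hr, hδ, fun s k α hα α₁ e hα₁ => flatOp_cl hr hY hδ s k α hα α₁ e hα₁⟩

end Groth.CycInter.Biv
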