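import Groth.Agent.CycInter.BivClopen
import Groth.Agent.CycInter.Envelope
import Groth.Agent.HTopHyper.SigmaProper
import Groth.Agent.Cycles.DimFunLft

/-!
A bivariant class is zero when it kills the fundamental classes of the integral test schemes.
-/

universe u

set_option autoImplicit false

open CategoryTheory CategoryTheory.Limits AlgebraicGeometry
open Groth.RefRank Groth.Cycles Groth.Variety2.Dim

namespace Groth.CycInter.Biv

/-- A proper morphism from the disjoint union of a locally finite family. -/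
theorem isProper_sigmaDesc_locFin {T : Scheme.{u}} {J : Type u} {W : J → Scheme.{u}} (i : ∀ a, W a ⟶ T)
    [∀ a, IsProper (i a)]
    (hlf : ∀ V : T.Opens, IsAffineOpen V → {a : J | ∃ w, i a w ∈ V}.Finite) : IsProper (Sigma.desc i) := by
  refine IsZariskiLocalAtTarget.of_iSup_eq_top (P := @IsProper) (fun V : T.affineOpens => V.1)
    (iSup_affineOpens_eq_top T) fun V => ?_
  haveI : IsAffine (V.1 : Scheme.{u}) := V.2
  let K := {a : J | ∃ w, i a w ∈ V.1}
  haveI : Finite K := (hlf V.1 V.2).to_subtype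
  let P := Sigma.desc i
  have hle : ∀ a : K, i a.1 ⁻¹ᵁ V.1 ≤ Sigma.ι W a.1 ⁻¹ᵁ (P ⁻¹ᵁ V.1) := fun a => by
    rw [← Scheme.Hom.comp_preimage, show Sigma.ι W a.1 ≫ P = i a.1 from Sigma.ι_desc _ _]
  let φ : ∀ a : K, (i a.1 ⁻¹ᵁ V.1 : Scheme.{u}) ⟶ (P ⁻¹ᵁ V.1 : Scheme.{u}) := fun a =>
    (Sigma.ι W a.1).resLE _ _ (hle a)
  have hpt : ∀ (a : K) z, (P ⁻¹ᵁ V.1).ι (φ a z) = Sigma.ι W a.1 ((i a.1 ⁻¹ᵁ V.1).ι z) := fun a z => by
    rw [← Scheme.Hom.comp_apply, Scheme.Hom.resLE_comp_ι, Scheme.Hom.comp_apply]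
  haveI : ∀ a : K, IsOpenImmersion (φ a) := fun a => by
    haveI : IsOpenImmersion (φ a ≫ (P ⁻¹ᵁ V.1).ι) := by
      simp only [φ, Scheme.Hom.resLE_comp_ι]; infer_instance
    exact IsOpenImmersion.of_comp (φ a) (P ⁻¹ᵁ V.1).ι
  have hφ : IsOpenImmersion (Sigma.desc φ) := by
    refine isOpenImmersion_sigmaDesc _ _ fun a b hab => Set.disjoint_iff_forall_ne.mpr ?_
    rintro _ ⟨x, rfl⟩ _ ⟨y, rfl⟩ he
    have h := congrArg (P ⁻¹ᵁ V.1).ι he
    rw [hpt, hpt] at h
    exact (disjoint_opensRange_sigmaι W a.1 b.1 fun h => hab (Subtype.ext h)).le_bot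
      ⟨⟨_, rfl⟩, ⟨_, h.symm⟩⟩
  have hsurj : Function.Surjective (Sigma.desc φ) := fun z => by
    obtain ⟨⟨a, w⟩, hw⟩ := (sigmaMk W).surjective ((P ⁻¹ᵁ V.1).ι z)
    rw [sigmaMk_mk] at hw
    have hz : P ((P ⁻¹ᵁ V.1).ι z) ∈ V.1 := z.2
    have hwV : i a w ∈ V.1 := by
      rwa [← hw, ← Scheme.Hom.comp_apply, show Sigma.ι W a ≫ P = i a from Sigma.ι_desc _ _] at hz
    refine ⟨Sigma.ι (fun a : K => (i a.1 ⁻¹ᵁ V.1 : Scheme.{u})) ⟨a, w, hwV⟩ ⟨w, hwV⟩, ?_⟩
    refine (P ⁻¹ᵁ V.1).ι.isEmbedding.injective ?_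
    rw [← Scheme.Hom.comp_apply (Sigma.ι _ _), Sigma.ι_desc, hpt]
    exact hw
  haveI : Epi (Sigma.desc φ).base := (TopCat.epi_iff_surjective _).mpr hsurj
  haveI : IsIso (Sigma.desc φ) := IsOpenImmersion.isIso (Sigma.desc φ)
  refine (MorphismProperty.cancel_left_of_respectsIso @IsProper (Sigma.desc φ) _).mp ?_
  have e : Sigma.desc φ ≫ (Sigma.desc i ∣_ V.1) = Sigma.desc fun a : K => i a.1 ∣_ V.1 := by
    refine Sigma.hom_ext _ _ fun a => ?_
    rw [← Category.assoc, Sigma.ι_desc, Sigma.ι_desc, ← cancel_mono V.1.ι, Category.assoc, morphismRestrict_ι,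
      morphismRestrict_ι, ← Category.assoc, Scheme.Hom.resLE_comp_ι, Category.assoc, Sigma.ι_desc]
  rw [e]
  exact Groth.HTopHyper.isProper_sigmaDesc _ fun a => inferInstance

/-- The cycle of one point. -/
theorem exists_single_cycle {T : Scheme.{u}} [IsLocallyNoetherian T] (x : T) :
    ∃ e : AlgebraicCycle T ℤ, e x = 1 ∧ ∀ y, y ≠ x → e y = 0 := by
  classical
  refine ⟨⟨fun y => if y = x then 1 else 0, Set.subset_univ _, fun y _ => ⟨Set.univ, Filter.univ_mem,
    (Set.finite_singleton x).subset fun z hz => by_contra fun h => hz.2 (if_neg h)⟩⟩, if_pos rfl,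
    fun y hy => if_neg hy⟩

variable {X Y : Scheme.{u}} {f : X ⟶ Y} {δX : X → ℤ} {δY : Y → ℤ} {p : ℤ}

theorem residueFieldMap_surjective_of_isIso {A B : Scheme.{u}} (g : A ⟶ B) (x : A) [IsIso (g.stalkMap x)] :
    Function.Surjective (g.residueFieldMap x).hom := fun r => by
  obtain ⟨r, rfl⟩ := A.residue_surjective x r
  obtain ⟨b, rfl⟩ := (ConcreteCategory.bijective_of_isIso (g.stalkMap x)).2 r
  refine ⟨B.residue (g x) b, ?_⟩
  show (B.residue (g x) ≫ g.residueFieldMap x) b = (g.stalkMap x ≫ A.residue x) b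
  rw [Scheme.residue_residueFieldMap]

theorem pushforward_cl_zero {A B : Scheme.{u}} {δA : A → ℤ} {δB : B → ℤ} (hB : Cyc.IsSetup B δB)
    (hA : Cyc.IsSetup A δA) (g : A ⟶ B) [IsProper g] (hδ : Cyc.DeltaCompat g δA δB) {k : ℤ}
    {β : AlgebraicCycle A ℤ} (hβ : β ∈ Cyc.Zk A δA k) (h : ChowOps.cl β hβ = 0) :
    ChowOps.cl (AlgebraicCycle.map g δA δB β) (Bivar.cycMap_mem_Zk g δA δB k hβ) = 0 := by
  rw [← pushCH_cl hB hA g hδ β hβ, h, map_zero]

/-- A class killing fundamental classes of integral test schemes is zero. -/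
theorem op_eq_zero_of_fundamental (hX : Cyc.IsSetup X δX) (hY : Cyc.IsSetup Y δY) (c : Bivar.Cl p f δX δY)
    (h : ∀ (s : Bivar.Sq f δX δY) [IsIntegral s.Y'] (k : ℤ) (e : AlgebraicCycle s.Y' ℤ)
      (he : e ∈ Cyc.Zk s.Y' s.δY' k), e (genericPoint s.Y') = 1 → (∀ y, y ≠ genericPoint s.Y' → e y = 0) →
      c.op s k (ChowOps.cl e he) = 0) : c = 0 := by
  classical
  refine Bivar.Cl.ext (funext fun s => funext fun k => AddMonoidHom.ext fun x => ?_)
  obtain ⟨α, hα, rfl⟩ := Bivar.exists_rep x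
  rw [Bivar.Cl.zero_op, AddMonoidHom.zero_apply]
  haveI := s.lft
  have hS := P1C.isSetup_of_lft hY s.g s.compatY
  haveI := hS.1
  let J := {ξ : s.Y' // α ξ ≠ 0}
  choose W i hi hred hirr hrange hgen using fun a : J => Groth.Cycles.closure_scheme a.1
  haveI := hi
  haveI hint : ∀ a, IsIntegral (W a) := fun a =>
    haveI := hred a; haveI := hirr a; isIntegral_of_irreducibleSpace_of_isReduced _
  let π := Sigma.desc i
  haveI : IsProper π := isProper_sigmaDesc_locFin i fun V hV => by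
    refine ((finite_cycle α V hV).preimage Subtype.val_injective.injOn).subset fun a ha => ⟨?_, a.2⟩
    obtain ⟨w, hw⟩ := ha
    rw [← hgen a]
    exact ((genericPoint_specializes w).map (i a).continuous).mem_open V.isOpen hw
  obtain ⟨δP, hδP⟩ := exists_delta π s.δY'
  have hP := P1C.isSetup_of_lft hS π hδP
  haveI := hP.1
  have hδι : ∀ a, Cyc.DeltaCompat (i a) (fun w => δP (Sigma.ι W a w)) s.δY' := fun a => by
    have := Bivar.deltaCompat_comp (Sigma.ι W a) π _ δP s.δY'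
      (Groth.Cycles.deltaCompat_preimmersion (Sigma.ι W a) δP) hδP
    rwa [show Sigma.ι W a ≫ π = i a from Sigma.ι_desc _ _] at this
  have hπ : ∀ a w, π (Sigma.ι W a w) = i a w := fun a w => by
    rw [← Scheme.Hom.comp_apply, show Sigma.ι W a ≫ π = i a from Sigma.ι_desc _ _]
  have hgen' : ∀ a, δP (Sigma.ι W a (genericPoint (W a))) = s.δY' a.1 := fun a =>
    (congrFun (delta_closedImmersion (hδι a)) (genericPoint (W a))).trans (congrArg s.δY' (hgen a))
  let v : (Σ a, W a) → ℤ := fun aw => if aw.2 = genericPoint (W aw.1) then α aw.1.1 else 0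
  let A : (∐ W : Scheme.{u}) → ℤ := fun z => v ((sigmaMk W).symm z)
  have hA : ∀ a w, A (Sigma.ι W a w) = if w = genericPoint (W a) then α a.1 else 0 := fun a w => by
    show v ((sigmaMk W).symm (Sigma.ι W a w)) = _
    rw [show Sigma.ι W a w = sigmaMk W ⟨a, w⟩ from (sigmaMk_mk W a w).symm, Homeomorph.symm_apply_apply]
  have hsup : ∀ z, A z ≠ 0 → ∃ a, z = Sigma.ι W a (genericPoint (W a)) := fun z hz => by
    obtain ⟨⟨a, w⟩, rfl⟩ := (sigmaMk W).surjective z
    rw [sigmaMk_mk] at hz ⊢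
    rw [hA] at hz
    exact ⟨a, congrArg _ (by_contra fun hw => hz (if_neg hw))⟩
  let αP : AlgebraicCycle (∐ W : Scheme.{u}) ℤ := ⟨A, Set.subset_univ _, fun z _ => by
    obtain ⟨⟨a, w⟩, rfl⟩ := (sigmaMk W).surjective z
    rw [sigmaMk_mk]
    refine ⟨Set.range (Sigma.ι W a), (Sigma.ι W a).isOpenEmbedding.isOpen_range.mem_nhds ⟨w, rfl⟩,
      (Set.finite_singleton (Sigma.ι W a (genericPoint (W a)))).subset ?_⟩
    rintro z' ⟨⟨w', rfl⟩, hz'⟩
    rw [Function.mem_support, hA] at hz'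
    exact congrArg _ (by_contra fun hw => hz' (if_neg hw))⟩
  have hαP : αP ∈ Cyc.Zk (∐ W : Scheme.{u}) δP k := fun z hz => by
    by_contra h0
    obtain ⟨a, rfl⟩ := hsup z h0
    exact hz ((hgen' a).trans (by_contra fun hd => a.2 (hα _ hd)))
  have hmap : AlgebraicCycle.map π δP s.δY' αP = α := by
    ext y
    by_cases hy : α y = 0
    · rw [map_apply_eq_sum π δP s.δY' αP y ∅ fun z hz h0 => ?_, Finset.sum_empty, hy]
      obtain ⟨a, rfl⟩ := hsup z h0
      rw [hπ, hgen a] at hz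
      exact absurd (hz ▸ hy) a.2
    · let a : J := ⟨y, hy⟩
      have hd : π.residueDegree (Sigma.ι W a (genericPoint (W a))) = 1 := by
        have h1 := congrArg (fun q : W a ⟶ s.Y' => q.residueDegree (genericPoint (W a)))
          (show Sigma.ι W a ≫ π = i a from Sigma.ι_desc _ _)
        simp only [residueDegree_comp] at h1
        rw [Env.residueDegree_eq_one _ _ (residueFieldMap_surjective (Sigma.ι W a) _),
          Env.residueDegree_eq_one _ _ (residueFieldMap_surjective (i a) _), mul_one] at h1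
        exact h1
      rw [map_apply_eq_sum π δP s.δY' αP y {Sigma.ι W a (genericPoint (W a))} fun z hz h0 => ?_,
        Finset.sum_singleton, if_pos ((hπ a _).trans (hgen a)), AlgebraicCycle.mapCoeff,
        if_pos ((hgen' a).trans (congrArg s.δY' ((hπ a _).trans (hgen a)).symm)), hd, Nat.cast_one, mul_one]
      · exact (hA a _).trans (if_pos rfl)
      · obtain ⟨b, rfl⟩ := hsup z h0
        rw [hπ, hgen b] at hz
        obtain rfl : b = a := Subtype.ext hz
        exact Finset.mem_singleton_self _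
  haveI : IsProper (pullback.snd π s.f') := MorphismProperty.pullback_snd _ _ ‹IsProper π›
  haveI : LocallyOfFiniteType (pullback.snd π s.f') := inferInstance
  obtain ⟨δQ, hδQ⟩ := exists_delta (pullback.snd π s.f') s.δX'
  let v : Bivar.Sq s.f' s.δX' s.δY' := ⟨∐ W, pullback π s.f', π, pullback.fst π s.f', pullback.snd π s.f',
    IsPullback.of_hasPullback _ _, inferInstance, δP, δQ, hδP, hδQ⟩
  obtain ⟨β, hβ, e₁, e₂⟩ := c.push s (s.paste v) π (pullback.snd π s.f') rfl pullback.condition.symm rfl k αP hαP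
  rw [show c.op s k (ChowOps.cl α hα) = _ from (congrArg (c.op s k) (Bivar.cl_congr hmap.symm hα _)).trans e₂]
  refine pushforward_cl_zero (setupX_of_sq hX s) (setupX_of_sq hX (s.paste v)) _ hδQ hβ (e₁.symm.trans ?_)
  refine op_eq_zero_of_cover hX hY c (s.paste v) (fun a => Sigma.ι W a)
    (fun a b hab => Set.disjoint_iff_forall_ne.mpr fun x hx y hy he =>
      (disjoint_opensRange_sigmaι W a b hab).le_bot ⟨hx, he ▸ hy⟩)
    (fun z => by
      obtain ⟨⟨a, w⟩, rfl⟩ := (sigmaMk W).surjective z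
      exact ⟨a, w, (sigmaMk_mk W a w).symm⟩) αP hαP ?_
  intro a t e hg b hb hbv
  obtain ⟨T, T', g, g', g'', sq, hl, dY, dX, cY, cX⟩ := t
  obtain rfl : T = W a := e
  obtain rfl : g = Sigma.ι W a := by simpa using hg
  haveI : IsLocallyNoetherian (W a) := LocallyOfFiniteType.isLocallyNoetherian (i a)
  obtain ⟨e₀, he₁, he₀⟩ := exists_single_cycle (genericPoint (W a))
  have he₀k : e₀ ∈ Cyc.Zk (W a) dY k := fun w hw => by
    refine he₀ w fun hwg => hw ?_
    have hdw : dY = fun w => δP (Sigma.ι W a w) := funext fun w =>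
      Env.delta_eq (Sigma.ι W a) cY w (residueFieldMap_surjective (Sigma.ι W a) w)
    rw [hdw, hwg]
    show δP (Sigma.ι W a (genericPoint (W a))) = k
    rw [hgen']
    exact by_contra fun hd => a.2 (hα _ hd)
  have hb' : (⟨b, hb⟩ : ↥(ChowOps.zk (W a) dY k)) = α a.1 • ⟨e₀, he₀k⟩ := by
    refine Subtype.ext (DFunLike.coe_injective (funext fun w => ?_))
    rw [AddSubgroup.coe_zsmul, Function.locallyFinsuppWithin.coe_zsmul, Pi.smul_apply, hbv, smul_eq_mul]
    show A (Sigma.ι W a w) = _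
    rw [hA]
    split_ifs with hw
    · rw [hw, he₁, mul_one]
    · rw [he₀ w hw, mul_zero]
  show c.op ((s.paste v).paste ⟨W a, T', Sigma.ι W a, g', g'', sq, hl, dY, dX, cY, cX⟩) k
    (ChowOps.clHom (W a) dY k (⟨b, hb⟩ : ↥(ChowOps.zk (W a) dY k))) = 0
  rw [hb', map_zsmul, map_zsmul]
  exact (congrArg (α a.1 • ·)
    (h (((s.paste v).paste ⟨W a, T', Sigma.ι W a, g', g'', sq, hl, dY, dX, cY, cX⟩)) k e₀ he₀k he₁ he₀)).trans
      (smul_zero _)

theorem eq_zero_of_birational (hX : Cyc.IsSetup X δX) (hY : Cyc.IsSetup Y δY) (c : Bivar.Cl p f δX δY)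
    (h3 : ∀ (s : Bivar.Sq f δX δY) [IsIntegral s.Y'], ∃ (t : Bivar.Sq s.f' s.δX' s.δY') (_ : IrreducibleSpace t.Y')
      (_ : IsProper t.g), t.g (genericPoint t.Y') = genericPoint s.Y' ∧ IsIso (t.g.stalkMap (genericPoint t.Y')) ∧
        ∀ (k : ℤ) (α : AlgebraicCycle t.Y' ℤ) (hα : α ∈ Cyc.Zk t.Y' t.δY' k), α (genericPoint t.Y') = 1 →
          (∀ y : t.Y', y ≠ genericPoint t.Y' → α y = 0) → c.op (s.paste t) k (ChowOps.cl α hα) = 0) :
    c = 0 := by
  refine op_eq_zero_of_fundamental hX hY c fun s _ k e he he₁ he₀ => ?_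
  obtain ⟨t, _, _, hgen, hiso, h⟩ := h3 s
  haveI := s.lft
  have hS := P1C.isSetup_of_lft hY s.g s.compatY
  have hT := P1C.isSetup_of_lft hS t.g t.compatY
  haveI := hT.1
  obtain ⟨e', he'₁, he'₀⟩ := exists_single_cycle (genericPoint t.Y')
  have hsurj := residueFieldMap_surjective_of_isIso t.g (genericPoint t.Y')
  have hd := Env.delta_eq t.g t.compatY (genericPoint t.Y') hsurj
  rw [hgen] at hd
  have he'k : e' ∈ Cyc.Zk t.Y' t.δY' k := fun y hy => he'₀ y fun hyg => hy (by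
    rw [hyg, hd]
    by_contra hne
    rw [he _ hne] at he₁
    exact one_ne_zero he₁.symm)
  have hmap : AlgebraicCycle.map t.g t.δY' s.δY' e' = e := by
    ext y
    by_cases hy : y = genericPoint s.Y'
    · rw [hy, he₁, map_apply_eq_sum t.g t.δY' s.δY' e' _ {genericPoint t.Y'} fun z _ h0 =>
          Finset.mem_singleton.mpr (by_contra fun hz => h0 (he'₀ z hz)),
        Finset.sum_singleton, if_pos hgen, AlgebraicCycle.mapCoeff, if_pos (hd.trans (congrArg s.δY' hgen.symm)),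
        Env.residueDegree_eq_one t.g _ hsurj, he'₁, Nat.cast_one, mul_one]
    · rw [he₀ y hy, map_apply_eq_sum t.g t.δY' s.δY' e' y ∅ fun z hz h0 => ?_, Finset.sum_empty]
      obtain rfl : z = genericPoint t.Y' := by_contra fun hz' => h0 (he'₀ z hz')
      exact absurd (hz.symm.trans hgen) hy
  haveI : IsProper t.g' := MorphismProperty.of_isPullback t.isPullback ‹IsProper t.g›
  obtain ⟨β, hβ, e₁, e₂⟩ := c.push s (s.paste t) t.g t.g' rfl t.isPullback.w.symm rfl k e' he'k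
  rw [show c.op s k (ChowOps.cl e he) = _ from (congrArg (c.op s k) (Bivar.cl_congr hmap.symm he _)).trans e₂]
  exact pushforward_cl_zero (setupX_of_sq hX s) (setupX_of_sq hX (s.paste t)) _ t.compatX hβ
    (e₁.symm.trans (h k e' he'k he'₁ he'₀))

end Groth.CycInter.Biv
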