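import Groth.Agent.CycInter.BivPushCH
import Groth.Agent.CycInter.BivGysinLemmas
import Groth.Agent.Cycles.PullPush

/-!
Proper pushforward of bivariant classes.
-/

universe u

set_option autoImplicit false

open CategoryTheory CategoryTheory.Limits AlgebraicGeometry
open Groth.RefRank Groth.Cycles

namespace Groth.CycInter.Biv

variable {X Y Z : Scheme.{u}}

/-- A fibre product of a test square for `g` with `f`. -/
structure PPData (f : X ⟶ Y) (g : Y ⟶ Z) (δX : X → ℤ) {δY : Y → ℤ} {δZ : Z → ℤ}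
    (s : Bivar.Sq g δY δZ) : Type (u + 1) where
  P : Scheme.{u}
  p : P ⟶ s.X'
  q : P ⟶ X
  sq : IsPullback p q s.g' f
  δ : P → ℤ
  compat : Cyc.DeltaCompat q δ δX

variable {f : X ⟶ Y} {g : Y ⟶ Z} {δX : X → ℤ} {δY : Y → ℤ} {δZ : Z → ℤ}

/-- The square for the composite. -/
abbrev PPData.toSq {s : Bivar.Sq g δY δZ} (D : PPData f g δX s) : Bivar.Sq (f ≫ g) δX δZ :=
  ⟨s.Y', D.P, s.g, D.p ≫ s.f', D.q, D.sq.paste_horiz s.isPullback, s.lft, s.δY', D.δ, s.compatY, D.compat⟩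

theorem lft_sqX (s : Bivar.Sq g δY δZ) : LocallyOfFiniteType s.g' :=
  MorphismProperty.of_isPullback s.isPullback s.lft

theorem setup_sqX (hY : Cyc.IsSetup Y δY) (s : Bivar.Sq g δY δZ) : Cyc.IsSetup s.X' s.δX' :=
  haveI := lft_sqX s
  P1C.isSetup_of_lft hY s.g' s.compatX

theorem PPData.isProper [IsProper f] {s : Bivar.Sq g δY δZ} (D : PPData f g δX s) : IsProper D.p :=
  MorphismProperty.of_isPullback D.sq.flip ‹IsProper f›

theorem PPData.setup (hX : Cyc.IsSetup X δX) {s : Bivar.Sq g δY δZ} (D : PPData f g δX s) :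
    Cyc.IsSetup D.P D.δ :=
  haveI := lft_sqX s
  haveI : LocallyOfFiniteType D.q := MorphismProperty.of_isPullback D.sq ‹LocallyOfFiniteType s.g'›
  P1C.isSetup_of_lft hX D.q D.compat

theorem PPData.deltaCompat (hδf : Cyc.DeltaCompat f δX δY) {s : Bivar.Sq g δY δZ} (D : PPData f g δX s) :
    Cyc.DeltaCompat D.p D.δ s.δX' :=
  Dvr.deltaCompat_of_comp D.p (g := s.g')
    (by rw [D.sq.w]; exact Bivar.deltaCompat_comp _ _ _ _ _ D.compat hδf) s.compatX

variable (f δX) in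
/-- The chosen fibre product. -/
noncomputable def ppData (s : Bivar.Sq g δY δZ) : PPData f g δX s :=
  haveI := lft_sqX s
  haveI : LocallyOfFiniteType (pullback.snd s.g' f) := MorphismProperty.pullback_snd _ _ inferInstance
  ⟨pullback s.g' f, pullback.fst s.g' f, pullback.snd s.g' f, IsPullback.of_hasPullback _ _,
    (exists_delta (pullback.snd s.g' f) δX).choose, (exists_delta (pullback.snd s.g' f) δX).choose_spec⟩

/-- The dimension function on the fibre product induced along a morphism of test squares. -/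
noncomputable def pullDelta {s : Bivar.Sq g δY δZ} {T : Scheme.{u}} (D : PPData f g δX s) (h' : T ⟶ s.X')
    [LocallyOfFiniteType h'] : ↥(pullback D.p h') → ℤ :=
  haveI : LocallyOfFiniteType (pullback.fst D.p h') := MorphismProperty.pullback_fst _ _ inferInstance
  (exists_delta (pullback.fst D.p h') D.δ).choose

theorem compat_pullDelta {s : Bivar.Sq g δY δZ} {T : Scheme.{u}} (D : PPData f g δX s) (h' : T ⟶ s.X')
    [LocallyOfFiniteType h'] : Cyc.DeltaCompat (pullback.fst D.p h') (pullDelta D h') D.δ :=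
  haveI : LocallyOfFiniteType (pullback.fst D.p h') := MorphismProperty.pullback_fst _ _ inferInstance
  (exists_delta (pullback.fst D.p h') D.δ).choose_spec

/-- The fibre product induced along a morphism of test squares. -/
noncomputable abbrev PPData.pull {s t : Bivar.Sq g δY δZ} (D : PPData f g δX s) (h' : t.X' ⟶ s.X')
    [LocallyOfFiniteType h'] (w₃ : h' ≫ s.g' = t.g') : PPData f g δX t :=
  ⟨pullback D.p h', pullback.snd D.p h', pullback.fst D.p h' ≫ D.q,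
    w₃ ▸ (IsPullback.of_hasPullback D.p h').flip.paste_vert D.sq, pullDelta D h',
    Bivar.deltaCompat_comp _ _ _ _ _ (compat_pullDelta D h') D.compat⟩

variable [IsProper f] (hX : Cyc.IsSetup X δX) (hY : Cyc.IsSetup Y δY) (hδf : Cyc.DeltaCompat f δX δY)
  {p : ℤ} (c : Bivar.Cl p (f ≫ g) δX δZ)

/-- Proper pushforward of a class. -/
noncomputable def ppOp (s : Bivar.Sq g δY δZ) (k : ℤ) :
    ChowOps.CH s.Y' s.δY' k →+ ChowOps.CH s.X' s.δX' (k - p) :=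
  haveI := (ppData f δX s).isProper
  (pushCH (setup_sqX hY s) ((ppData f δX s).setup hX) (ppData f δX s).p ((ppData f δX s).deltaCompat hδf)
    (k - p)).comp (c.op (ppData f δX s).toSq k)

theorem ppOp_cl (s : Bivar.Sq g δY δZ) (D : PPData f g δX s) [IsProper D.p] (k : ℤ)
    (α : AlgebraicCycle s.Y' ℤ) (hα : α ∈ Cyc.Zk s.Y' s.δY' k) (β : AlgebraicCycle D.P ℤ)
    (hβ : β ∈ Cyc.Zk D.P D.δ (k - p)) (e : c.op D.toSq k (ChowOps.cl α hα) = ChowOps.cl β hβ) :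
    ppOp hX hY hδf c s k (ChowOps.cl α hα) =
      ChowOps.cl (AlgebraicCycle.map D.p D.δ s.δX' β) (Bivar.cycMap_mem_Zk D.p D.δ s.δX' (k - p) hβ) := by
  set D₀ := ppData f δX s
  haveI := D₀.isProper
  let ε : D.P ≅ D₀.P := D.sq.isoIsPullback _ _ D₀.sq
  have h₁ : ε.hom ≫ D₀.p = D.p := D.sq.isoIsPullback_hom_fst _ _ D₀.sq
  have h₂ : ε.hom ≫ D₀.q = D.q := D.sq.isoIsPullback_hom_snd _ _ D₀.sq
  obtain ⟨β', hβ', e₁, e₂⟩ := c.push D₀.toSq D.toSq (𝟙 s.Y') ε.hom (Category.id_comp _)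
    (by rw [Category.comp_id, ← Category.assoc, h₁]) h₂ k α hα
  have hm : AlgebraicCycle.map (𝟙 s.Y') s.δY' s.δY' α = α := AlgebraicCycle.map_id _ _
  have hδε : Cyc.DeltaCompat ε.hom D.δ D₀.δ :=
    Dvr.deltaCompat_of_comp ε.hom (g := D₀.q) (by rw [h₂]; exact D.compat) D₀.compat
  refine (congrArg (pushCH (setup_sqX hY s) (D₀.setup hX) D₀.p (D₀.deltaCompat hδf) (k - p))
    ((congrArg (c.op D₀.toSq k) (Bivar.cl_congr hm _ hα).symm).trans e₂)).trans ?_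
  rw [pushCH_cl]
  have key := pushforward_cl_congr (setup_sqX hY s) (D.setup hX) D.p (D.deltaCompat hδf) hβ' hβ (e₁.symm.trans e)
  refine (Bivar.cl_congr ?_ _ _).trans key
  rw [Groth.Cycles.map_map_eq ε.hom D₀.p hδε (D₀.deltaCompat hδf)]
  congr 1

theorem ppOp_push (s t : Bivar.Sq g δY δZ) (h : t.Y' ⟶ s.Y') [IsProper h] (h' : t.X' ⟶ s.X') [IsProper h']
    (w₁ : h ≫ s.g = t.g) (w₂ : h' ≫ s.f' = t.f' ≫ h) (w₃ : h' ≫ s.g' = t.g') (k : ℤ) :
    Bivar.PushOK t.δY' t.δX' s.δY' s.δX' h h' (ppOp hX hY hδf c t k) (ppOp hX hY hδf c s k) := by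
  intro α hα
  let D₀ := ppData f δX s
  let D := D₀.pull h' w₃
  haveI := D₀.isProper
  haveI : IsProper (pullback.fst D₀.p h') := MorphismProperty.pullback_fst _ _ ‹IsProper h'›
  haveI : IsProper D.p := MorphismProperty.pullback_snd _ _ ‹IsProper D₀.p›
  have hδh' : Cyc.DeltaCompat h' t.δX' s.δX' :=
    Dvr.deltaCompat_of_comp h' (g := s.g') (by rw [w₃]; exact t.compatX) s.compatX
  obtain ⟨β, hβ, e₁, e₂⟩ := c.push D₀.toSq D.toSq h (pullback.fst D₀.p h') w₁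
    (by rw [← Category.assoc, pullback.condition, Category.assoc, w₂, Category.assoc]) rfl k α hα
  refine ⟨AlgebraicCycle.map D.p D.δ t.δX' β, Bivar.cycMap_mem_Zk D.p D.δ t.δX' _ hβ,
    ppOp_cl hX hY hδf c t D k α hα β hβ e₁, ?_⟩
  rw [ppOp_cl hX hY hδf c s D₀ k _ _ _ _ e₂]
  refine Bivar.cl_congr ?_ _ _
  rw [Groth.Cycles.map_map_eq _ D₀.p (compat_pullDelta D₀ h') (D₀.deltaCompat hδf),
    Groth.Cycles.map_map_eq D.p h' (D.deltaCompat hδf) hδh']
  congr 1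
  exact pullback.condition

theorem ppOp_pull (s t : Bivar.Sq g δY δZ) (h : t.Y' ⟶ s.Y') [Flat h] (h' : t.X' ⟶ s.X') [Flat h'] (r : ℕ)
    (hr : Cyc.HasRelDim h r) (hr' : Cyc.HasRelDim h' r)
    (w₁ : h ≫ s.g = t.g) (w₂ : h' ≫ s.f' = t.f' ≫ h) (w₃ : h' ≫ s.g' = t.g') (k : ℤ) :
    Bivar.PullOK s.δY' s.δX' t.δY' t.δX' h h' (r : ℤ) (ppOp hX hY hδf c s k)
      (ppOp hX hY hδf c t (k + r)) := by
  intro α hα
  haveI := lft_sqX s
  haveI := lft_sqX t
  haveI : LocallyOfFiniteType (h' ≫ s.g') := w₃ ▸ ‹LocallyOfFiniteType t.g'›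
  haveI : LocallyOfFiniteType h' := locallyOfFiniteType_of_comp h' s.g'
  let D₀ := ppData f δX s
  let D := D₀.pull h' w₃
  haveI := D₀.isProper
  haveI : IsProper D.p := MorphismProperty.pullback_snd _ _ ‹IsProper D₀.p›
  haveI : Flat (pullback.fst D₀.p h') := MorphismProperty.pullback_fst _ _ ‹Flat h'›
  haveI : LocallyOfFiniteType (pullback.fst D₀.p h') :=
    MorphismProperty.pullback_fst _ _ ‹LocallyOfFiniteType h'›
  have hrr : Cyc.HasRelDim (pullback.fst D₀.p h') r :=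
    hasRelDim_baseChange (IsPullback.of_hasPullback D₀.p h').flip hr'
  obtain ⟨β, hβ, e₁, e₂⟩ := c.pull D₀.toSq D.toSq h (pullback.fst D₀.p h') r hr hrr w₁
    (by rw [← Category.assoc, pullback.condition, Category.assoc, w₂, Category.assoc]) rfl k α hα
  refine ⟨AlgebraicCycle.map D₀.p D₀.δ s.δX' β, Bivar.cycMap_mem_Zk D₀.p D₀.δ s.δX' _ hβ,
    ppOp_cl hX hY hδf c s D₀ k α hα β hβ e₁, fun α₁ hα₁e hα₁ => ?_⟩
  obtain ⟨β₁, hβ₁, hβ₁e, e₃⟩ := e₂ α₁ hα₁e hα₁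
  refine ⟨AlgebraicCycle.map D.p D.δ t.δX' β₁, Bivar.cycMap_mem_Zk D.p D.δ t.δX' _ hβ₁, ?_,
    ppOp_cl hX hY hδf c t D (k + r) α₁ hα₁ β₁ hβ₁ e₃⟩
  have hδh' : Cyc.DeltaCompat h' t.δX' s.δX' :=
    Dvr.deltaCompat_of_comp h' (g := s.g') (by rw [w₃]; exact t.compatX) s.compatX
  haveI : IsLocallyNoetherian t.X' := (setup_sqX hY t).1
  haveI : IsLocallyNoetherian (pullback D₀.p h') := (D.setup hX).1
  exact (Groth.Cycles.pullFun_map_baseChange D₀.p h' s.δX' t.δX' D₀.δ D.δ (D₀.deltaCompat hδf) r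
    (fun x hx => Groth.Cycles.delta_eq_add_of_isFibreGeneric h' hr' hδh' hx)
    (fun z hz => Groth.Cycles.delta_eq_add_of_isFibreGeneric _ hrr (compat_pullDelta D₀ h') hz) β β₁ hβ₁e).symm

theorem ppOp_gysin (s t : Bivar.Sq g δY δZ) (i : t.Y' ⟶ s.Y') [IsClosedImmersion i] (j : t.X' ⟶ s.X')
    [IsClosedImmersion j] (w₁ : i ≫ s.g = t.g) (w₂ : j ≫ s.f' = t.f' ≫ i) (w₃ : j ≫ s.g' = t.g')
    (L : s.Y'.Modules) (hL : PicF.IsInvertible L) (σ : L.presheaf.obj (Opposite.op ⊤))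
    (hσ : Cyc.IsZeroSchemeOf i L σ)
    (τ : ((Scheme.Modules.pullback s.f').obj L).presheaf.obj (Opposite.op ⊤))
    (hτ : Cyc.IsZeroSchemeOf j ((Scheme.Modules.pullback s.f').obj L) τ) (k : ℤ) :
    Bivar.GysinOK s.δY' t.δY' s.δX' t.δX' i L σ j ((Scheme.Modules.pullback s.f').obj L) τ
      (ppOp hX hY hδf c s k) (ppOp hX hY hδf c t (k - 1)) := by
  intro α hα
  let D₀ := ppData f δX s
  let D := D₀.pull j w₃
  haveI := D₀.isProper
  haveI : IsProper D.p := MorphismProperty.pullback_snd _ _ ‹IsProper D₀.p›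
  haveI : IsClosedImmersion (pullback.fst D₀.p j) :=
    MorphismProperty.pullback_fst _ _ ‹IsClosedImmersion j›
  have sq := IsPullback.of_hasPullback D₀.p j
  have hN := Groth.PicAux.isInvertible_pullback s.f' hL
  have hN₁ := Groth.PicAux.isInvertible_pullback D₀.p hN
  have hN₂ := Groth.PicAux.isInvertible_pullback (D₀.p ≫ s.f') hL
  let e := pullIso (h := D₀.p) (g := s.f') rfl L
  have hz₁ := isZeroSchemeOf_pullTop hN hτ sq
  have hz₂ := isZeroSchemeOf_iso e hN₁ hz₁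
  obtain ⟨β, hβ, e₁, e₂⟩ := c.gysin D₀.toSq D.toSq i (pullback.fst D₀.p j) w₁
    (by rw [← Category.assoc, pullback.condition, Category.assoc, w₂, Category.assoc]) rfl L hL σ hσ _ hz₂
    k α hα
  refine ⟨AlgebraicCycle.map D₀.p D₀.δ s.δX' β, Bivar.cycMap_mem_Zk D₀.p D₀.δ s.δX' _ hβ,
    ppOp_cl hX hY hδf c s D₀ k α hα β hβ e₁, fun w hw γ hγ hγk w' hw' => ?_⟩
  have hS := setup_sqX hY s
  have hP := D₀.setup hX
  obtain ⟨u, hu⟩ := exists_secs hN₁
  obtain ⟨v, hv, hv'⟩ := gysin_iso hP hN₁ hN₂ e (pullTop D₀.p _ τ) hu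
  obtain ⟨ζ, hζ, hζe, e₃⟩ := e₂ w hw γ hγ hγk v hv
  have hδj : Cyc.DeltaCompat j t.δX' s.δX' :=
    Dvr.deltaCompat_of_comp j (g := s.g') (by rw [w₃]; exact t.compatX) s.compatX
  have eX := delta_closedImmersion hδj
  have eP : D.δ = fun z => D₀.δ (pullback.fst D₀.p j z) := delta_closedImmersion (compat_pullDelta D₀ j)
  obtain ⟨ζ', hζ', hζ'k⟩ := exists_gysin_cycle hS hN j (s := τ) hw' (AlgebraicCycle.map D₀.p D₀.δ s.δX' β)
  have hζ't : ζ' ∈ Cyc.Zk t.X' t.δX' (k - 1 - p) := by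
    rw [eX, sub_right_comm]
    exact hζ'k _ (Bivar.cycMap_mem_Zk D₀.p D₀.δ s.δX' _ hβ)
  refine ⟨ζ', hζ't, hζ', ?_⟩
  rw [ppOp_cl hX hY hδf c t D (k - 1) γ hγk ζ hζ e₃]
  refine (cl_eq _ _ ?_).symm
  have key := gysin_map hS hP (D₀.deltaCompat hδf) hN hτ sq hz₁ (k - p - 1) β (by rwa [sub_add_cancel]) hw' hu
    hζ' (γ' := ζ) (fun z => by rw [hζe]; exact congrFun (hv' ⇑β) _)
  rw [sub_right_comm k 1 p, eX]
  show Cyc.RatEquiv _ _ ζ' (AlgebraicCycle.map D.p D.δ (fun d => s.δX' (j d)) ζ)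
  rw [eP]
  exact key

include hX hY hδf in
theorem exists_isProperPushClass :
    ∃ c' : Bivar.Cl p g δY δZ, Bivar.IsProperPushClass f g c c' :=
  ⟨{ op := ppOp hX hY hδf c
     push := fun s t h _ h' _ w₁ w₂ w₃ k => ppOp_push hX hY hδf c s t h h' w₁ w₂ w₃ k
     pull := fun s t h _ h' _ r hr hr' w₁ w₂ w₃ k => ppOp_pull hX hY hδf c s t h h' r hr hr' w₁ w₂ w₃ k
     gysin := fun s t i _ j _ w₁ w₂ w₃ L hL σ hσ τ hτ k =>
       ppOp_gysin hX hY hδf c s t i j w₁ w₂ w₃ L hL σ hσ τ hτ k },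
    ‹IsProper f›, hδf, fun s X' f' _ gX hp δX' hX' k α hα β hβ e =>
      ppOp_cl hX hY hδf c s ⟨X', f', gX, hp, δX', hX'⟩ k α hα β hβ e⟩

end Groth.CycInter.Biv
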