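import Groth.Agent.Cycles.C1Comm
import Groth.Agent.RefRank.Divisor

/-!
First properties of the cap product with a first Chern class.
-/

universe u

set_option autoImplicit false

open CategoryTheory AlgebraicGeometry IsLocalRing
open Groth.RefRank Groth.QCohMod
open scoped TensorProduct

namespace Groth.CycInter

variable {X : Scheme.{u}} {δ : X → ℤ}

/-- The support of the sum defining a cap product is finite at each point. -/
theorem finite_capTerm (α : AlgebraicCycle X ℤ) (z : X) (F : X → ℤ) (hF : ∀ ξ, ¬ ξ ⤳ z → F ξ = 0) :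
    (Function.support fun ξ => α ξ * F ξ).Finite := by
  obtain ⟨_, ⟨V, hV, rfl⟩, hzV, -⟩ :=
    X.isBasis_affineOpens.exists_subset_of_mem_open (Set.mem_univ z) isOpen_univ
  refine (α.locallyFiniteSupport.finite_inter_support_of_isCompact hV.isCompact).subset fun ξ hξ => ?_
  by_cases h : ξ ⤳ z
  · exact ⟨h.mem_open V.2 hzV, left_ne_zero_of_mul hξ⟩
  · exact absurd (show α ξ * F ξ = 0 by rw [hF ξ h, mul_zero]) hξ

theorem secDivFun_of_not_specializes {L : X.Modules} {ξ z : X} (s : Cyc.secFibre L ξ) (h : ¬ ξ ⤳ z) :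
    Cyc.secDivFun δ L ξ s z = 0 := dif_neg fun h' => h h'.1

theorem divFun_of_not_specializes {ξ z : X} (g : X.residueField ξ) (h : ¬ ξ ⤳ z) :
    Cyc.divFun δ ξ g z = 0 := dif_neg fun h' => h h'.1

theorem finite_c1CapTerm {L : X.Modules} (α : AlgebraicCycle X ℤ) (v : (ξ : X) → Cyc.secFibre L ξ) (z : X) :
    (Function.support fun ξ => α ξ * Cyc.secDivFun δ L ξ (v ξ) z).Finite :=
  finite_capTerm α z _ fun _ h => secDivFun_of_not_specializes _ h

/-- A cycle weighted sum of principal divisors is rationally equivalent to zero. -/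
theorem ratEquivZero_of_points (hX : Cyc.IsSetup X δ) {k : ℤ} {α : AlgebraicCycle X ℤ}
    (hα : α ∈ Cyc.Zk X δ (k + 1)) {γ : AlgebraicCycle X ℤ} (g : (ξ : X) → X.residueField ξ)
    (hg : ∀ ξ, g ξ ≠ 0) (hγ : ∀ z, γ z = ∑ᶠ ξ, α ξ * Cyc.divFun δ ξ (g ξ) z) :
    Cyc.RatEquivZero δ k γ := by
  refine Groth.Cycles.ratEquivZero_of_family hX X (fun ξ => ξ) (fun ξ => g ξ ^ α ξ)
    (fun ξ => zpow_ne_zero _ (hg ξ)) (fun ξ h => ?_) (fun V hV => ?_) fun z => ?_
  · exact by_contra fun h' => h (by rw [hα ξ h', zpow_zero])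
  · exact (α.locallyFiniteSupport.finite_inter_support_of_isCompact hV.isCompact).subset
      fun ξ hξ => ⟨hξ.2, fun h => hξ.1 (by rw [show α ξ = 0 from h, zpow_zero])⟩
  · rw [hγ]
    exact finsum_congr fun ξ => (Groth.Cycles.divFun_zpow hX (hg ξ) z _).symm

/-- The first Chern class of the structure sheaf is zero. -/
theorem c1_structure (hX : Cyc.IsSetup X δ) {k : ℤ} {α : AlgebraicCycle X ℤ}
    (hα : α ∈ Cyc.Zk X δ (k + 1)) {s : (ξ : X) → Cyc.secFibre (Coh.structureModule X) ξ}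
    (hs : ∀ ξ, s ξ ≠ 0) {γ : AlgebraicCycle X ℤ}
    (hγ : ⇑γ = Cyc.c1CapFun δ (Coh.structureModule X) ⇑α s) : Cyc.RatEquivZero δ k γ := by
  refine ratEquivZero_of_points hX hα
    (fun ξ => Groth.Cycles.coef _ ξ _ (s ξ))
    (fun ξ => Groth.Cycles.coef_ne_zero (Groth.Cycles.isStalkBasis_oneSec ξ) (hs ξ)) fun z => ?_
  rw [hγ]
  exact finsum_congr fun ξ => by rw [Groth.Cycles.secDivFun_structure hX (hs ξ)]

variable {L N : X.Modules}

/-- The product of elements of the fibres, in the fibre of the tensor product. -/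
noncomputable def tensorBas (hL : PicF.IsInvertible L) (hN : PicF.IsInvertible N) (ξ : X) :
    (CohB1.tensorMod L N).presheaf.stalk ξ :=
  stalkTensorEquiv L N ξ (Groth.Cycles.bas hL ξ ⊗ₜ Groth.Cycles.bas hN ξ)

theorem tensorBas_spec (hL : PicF.IsInvertible L) (hN : PicF.IsInvertible N) (ξ : X) :
    IsStalkBasis (CohB1.tensorMod L N) ξ (tensorBas hL hN ξ) :=
  isStalkBasis_tensor (Groth.Cycles.bas_spec hL ξ) (Groth.Cycles.bas_spec hN ξ)

/-- The rational function comparing `a ⊗ b` with a section of the tensor product. -/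
noncomputable def tensorRatio (hL : PicF.IsInvertible L) (hN : PicF.IsInvertible N) (ξ : X)
    (a : Cyc.secFibre L ξ) (b : Cyc.secFibre N ξ) (c : Cyc.secFibre (CohB1.tensorMod L N) ξ) :
    X.residueField ξ :=
  Groth.Cycles.coef L ξ (Groth.Cycles.bas hL ξ) a * Groth.Cycles.coef N ξ (Groth.Cycles.bas hN ξ) b /
    Groth.Cycles.coef (CohB1.tensorMod L N) ξ (tensorBas hL hN ξ) c

theorem tensorRatio_ne_zero (hL : PicF.IsInvertible L) (hN : PicF.IsInvertible N) {ξ : X}
    {a : Cyc.secFibre L ξ} (ha : a ≠ 0) {b : Cyc.secFibre N ξ} (hb : b ≠ 0)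
    {c : Cyc.secFibre (CohB1.tensorMod L N) ξ} (hc : c ≠ 0) : tensorRatio hL hN ξ a b c ≠ 0 :=
  div_ne_zero (mul_ne_zero (Groth.Cycles.coef_ne_zero (Groth.Cycles.bas_spec hL ξ) ha)
    (Groth.Cycles.coef_ne_zero (Groth.Cycles.bas_spec hN ξ) hb))
    (Groth.Cycles.coef_ne_zero (tensorBas_spec hL hN ξ) hc)

theorem secDivFun_tensor (hX : Cyc.IsSetup X δ) (hL : PicF.IsInvertible L) (hN : PicF.IsInvertible N)
    (hT : PicF.IsInvertible (CohB1.tensorMod L N)) {ξ : X} {a : Cyc.secFibre L ξ} (ha : a ≠ 0)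
    {b : Cyc.secFibre N ξ} (hb : b ≠ 0) {c : Cyc.secFibre (CohB1.tensorMod L N) ξ} (hc : c ≠ 0) (z : X) :
    Cyc.secDivFun δ L ξ a z + Cyc.secDivFun δ N ξ b z - Cyc.secDivFun δ (CohB1.tensorMod L N) ξ c z =
      Cyc.divFun δ ξ (tensorRatio hL hN ξ a b c) z := by
  by_cases h : ξ ⤳ z
  swap
  · rw [secDivFun_of_not_specializes _ h, secDivFun_of_not_specializes _ h, secDivFun_of_not_specializes _ h,
      divFun_of_not_specializes _ h, add_zero, sub_zero]
  set l := Groth.Cycles.bas hL z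
  set m := Groth.Cycles.bas hN z
  have hl := Groth.Cycles.bas_spec hL z
  have hm := Groth.Cycles.bas_spec hN z
  have hlm := isStalkBasis_tensor hl hm
  rw [Groth.Cycles.secDivFun_eq hX hL h (specializes_refl z) hl ha,
    Groth.Cycles.secDivFun_eq hX hN h (specializes_refl z) hm hb,
    Groth.Cycles.secDivFun_eq hX hT h (specializes_refl z) hlm hc]
  set h' := h.trans (specializes_refl z)
  have hA := Groth.Cycles.ratCoef_ne_zero hL h' hl ha
  have hB := Groth.Cycles.ratCoef_ne_zero hN h' hm hb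
  have hC := Groth.Cycles.ratCoef_ne_zero hT h' hlm hc
  have hg := tensorRatio_ne_zero hL hN ha hb hc
  have key : Groth.Cycles.ratCoef h' l a * Groth.Cycles.ratCoef h' m b =
      tensorRatio hL hN ξ a b c * Groth.Cycles.ratCoef h' (stalkTensorEquiv L N z (l ⊗ₜ m)) c := by
    obtain ⟨μ, hμ, hμl⟩ := Groth.Cycles.exists_unit_of_basis (Groth.Cycles.bas_spec hL ξ)
      (Groth.Cycles.isStalkBasis_mspec hL h' hl).span_eq_top
    obtain ⟨ν, hν, hνm⟩ := Groth.Cycles.exists_unit_of_basis (Groth.Cycles.bas_spec hN ξ)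
      (Groth.Cycles.isStalkBasis_mspec hN h' hm).span_eq_top
    have hT' : mspec _ h' (stalkTensorEquiv L N z (l ⊗ₜ m)) = (μ * ν) • tensorBas hL hN ξ := by
      rw [mspec_stalkTensorEquiv, hμl, hνm, TensorProduct.tmul_smul, ← TensorProduct.smul_tmul', map_smul,
        map_smul, smul_smul, mul_comm ν μ]
      rfl
    rw [tensorRatio, Groth.Cycles.coef_smul_left (Groth.Cycles.bas_spec hL ξ) hμ a,
      Groth.Cycles.coef_smul_left (Groth.Cycles.bas_spec hN ξ) hν b,
      Groth.Cycles.coef_smul_left (tensorBas_spec hL hN ξ) (hμ.mul hν) c, map_mul, ← hμl, ← hνm, ← hT']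
    have h1 : X.residue ξ μ ≠ 0 := (hμ.map (X.residue ξ).hom).ne_zero
    have h2 : X.residue ξ ν ≠ 0 := (hν.map (X.residue ξ).hom).ne_zero
    have h3 : Groth.Cycles.coef (CohB1.tensorMod L N) ξ
      (mspec _ h' (stalkTensorEquiv L N z (l ⊗ₜ m))) c ≠ 0 := hC
    simp only [Groth.Cycles.ratCoef]
    field_simp
    rfl
  have h5 := Groth.Cycles.divFun_mul (δ := δ) hX hA hB z
  rw [key, Groth.Cycles.divFun_mul hX hg hC] at h5
  linarith

/-- The first Chern class is additive in tensor products. -/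
theorem c1_tensor (hX : Cyc.IsSetup X δ) (hL : PicF.IsInvertible L) (hN : PicF.IsInvertible N)
    (hT : PicF.IsInvertible (CohB1.tensorMod L N)) {k : ℤ} {α : AlgebraicCycle X ℤ}
    (hα : α ∈ Cyc.Zk X δ (k + 1)) {sL : (ξ : X) → Cyc.secFibre L ξ} (hsL : ∀ ξ, sL ξ ≠ 0)
    {sN : (ξ : X) → Cyc.secFibre N ξ} (hsN : ∀ ξ, sN ξ ≠ 0)
    {sT : (ξ : X) → Cyc.secFibre (CohB1.tensorMod L N) ξ} (hsT : ∀ ξ, sT ξ ≠ 0)
    {γL γN γT : AlgebraicCycle X ℤ} (hγL : ⇑γL = Cyc.c1CapFun δ L ⇑α sL)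
    (hγN : ⇑γN = Cyc.c1CapFun δ N ⇑α sN) (hγT : ⇑γT = Cyc.c1CapFun δ (CohB1.tensorMod L N) ⇑α sT) :
    Cyc.RatEquiv δ k (γL + γN) γT := by
  refine ratEquivZero_of_points hX hα (fun ξ => tensorRatio hL hN ξ (sL ξ) (sN ξ) (sT ξ))
    (fun ξ => tensorRatio_ne_zero hL hN (hsL ξ) (hsN ξ) (hsT ξ)) fun z => ?_
  simp only [Function.locallyFinsuppWithin.coe_sub, Function.locallyFinsuppWithin.coe_add, Pi.sub_apply,
    Pi.add_apply, hγL, hγN, hγT, Cyc.c1CapFun]
  rw [← finsum_add_distrib (finite_c1CapTerm α sL z) (finite_c1CapTerm α sN z), ← finsum_sub_distrib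
    ((finite_c1CapTerm α sL z).union (finite_c1CapTerm α sN z) |>.subset (Function.support_add _ _))
    (finite_c1CapTerm α sT z)]
  exact finsum_congr fun ξ => by
    rw [← secDivFun_tensor hX hL hN hT (hsL ξ) (hsN ξ) (hsT ξ) z]; ring

end Groth.CycInter
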