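import Groth.Agent.CycInter.GysinComm
import Groth.Agent.RefRank.Ord

/-!
The divisor of a global section on an integral scheme is the cycle of its zero scheme.
-/

universe u

set_option autoImplicit false

open CategoryTheory AlgebraicGeometry IsLocalRing
open Groth.RefRank Groth.QCohMod Groth.Cycles

namespace Groth.CycInter

variable {X : Scheme.{u}} {δ : X → ℤ} {L : X.Modules}

theorem secDivFun_sbar [IsIntegral X] (hX : Cyc.IsSetup X δ) (hL : PicF.IsInvertible L) {n : ℤ}
    (hn : δ (genericPoint X) = n) (s : L.presheaf.obj (Opposite.op ⊤))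
    (hs : (L.presheaf.germ ⊤ (genericPoint X) trivial) s ≠ 0) :
    Cyc.secDivFun δ L (genericPoint X) (sbar L s (genericPoint X)) = Cyc.zeroSectionFun δ (n - 1) L s := by
  classical
  have := hX.1
  funext x
  by_cases hd : δ x = n - 1
  swap
  · rw [Cyc.secDivFun, dif_neg (fun h => hd (by have := h.2; omega)), Cyc.zeroSectionFun, if_neg hd]
  have hgen : genericPoint X ⤳ x := genSpec x
  have hdim : ringKrullDim (X.presheaf.stalk x) ≤ 1 :=
    (ringKrullDim_stalk_eq_one_of_delta hX.2.2 (show δ x + 1 = δ (genericPoint X) by omega)).le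
  have hex : ∃ t : L.presheaf.stalk x, Submodule.span (X.presheaf.stalk x) {t} = ⊤ :=
    ⟨_, (bas_spec hL x).span_eq_top⟩
  obtain ⟨μ, hμ, hμt⟩ := exists_unit_of_basis (bas_spec hL x) (Classical.choose_spec hex)
  have ht : IsStalkBasis L x (Classical.choose hex) := by
    rw [hμt]; exact isStalkBasis_smul (bas_spec hL x) hμ
  have hf : ∃ f : X.presheaf.stalk x, (L.presheaf.germ ⊤ x trivial) s = f • Classical.choose hex :=
    ((ht.2 _).imp fun f hf => hf.symm)
  rw [Cyc.zeroSectionFun, if_pos hd, dif_pos hex, dif_pos hf]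
  have hm : (L.presheaf.germ ⊤ (genericPoint X) trivial) s =
      rspec hgen (Classical.choose hf) • mspec L hgen (Classical.choose hex) := by
    have h1 := congrArg (mspec L hgen) (Classical.choose_spec hf)
    rw [mspec_germ_top, mspec_smul] at h1
    exact h1
  have hf0 : Classical.choose hf ≠ 0 := fun h => hs (by rw [hm, h, map_zero, zero_smul])
  have hb := isStalkBasis_mspec hL hgen ht
  have hcoef : ratCoef hgen (Classical.choose hex) (sbar L s (genericPoint X)) =
      X.residue _ (rspec hgen (Classical.choose hf)) := by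
    rw [ratCoef, sbar, hm]
    exact coef_smul hb _
  have hne : sbar L s (genericPoint X) ≠ 0 := fun h => hf0 <| by
    have h1 : X.residue (genericPoint X) (rspec hgen (Classical.choose hf)) = 0 := by
      rw [← hcoef, h, ratCoef, show (0 : Cyc.secFibre L (genericPoint X)) =
        (0 : X.presheaf.stalk (genericPoint X)) • fmk (mspec L hgen (Classical.choose hex)) from
        (zero_smul _ _).symm, coef_smul hb, map_zero]
    exact rspec_gen_injective x ((residue_gen_bijective.1 (h1.trans (map_zero _).symm)).trans (map_zero _).symm)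
  rw [secDivFun_eq hX hL hgen (specializes_refl x) ht hne, Cyc.divFun,
    dif_pos ⟨hgen.trans (specializes_refl x), (show δ x + 1 = δ (genericPoint X) by omega)⟩, hcoef,
    ordAt_residue hdim]
  have := krullDimLE_of_dim_le hdim
  show ((CycAlg.ordFrac (X.presheaf.stalk x) X.functionField
    (algebraMap (X.presheaf.stalk x) X.functionField (Classical.choose hf)))) = _
  rw [ordFrac_algebraMap' hf0]
  rfl

end Groth.CycInter

namespace Groth.CycInter

variable {X D : Scheme.{u}} {δ : X → ℤ} {L N : X.Modules}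

theorem fmk_ne_zero {M : X.Modules} {x : X} {t : M.presheaf.stalk x} (ht : IsStalkBasis M x t) :
    fmk t ≠ 0 := fun h => by
  have h1 := coef_fmk ht
  rw [show fmk t = (0 : X.presheaf.stalk x) • fmk t from h.trans (zero_smul _ (fmk t)).symm, coef_smul ht,
    map_zero] at h1
  exact zero_ne_one h1

theorem generic_notMem_zeroLocus [IsIntegral X] {s : L.presheaf.obj (Opposite.op ⊤)}
    (hs : (L.presheaf.germ ⊤ (genericPoint X) trivial) s ≠ 0) : genericPoint X ∉ zeroLocus L s :=
  fun h => hs (eq_zero_of_mk_eq_zero h)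

theorem c1CapFun_single [DecidableEq X] (ξ : X) (M : X.Modules) (a : (x : X) → Cyc.secFibre M x) (z : X) :
    Cyc.c1CapFun δ M ⇑(Function.locallyFinsuppWithin.single ξ (1 : ℤ)) a z =
      Cyc.secDivFun δ M ξ (a ξ) z := by
  rw [Cyc.c1CapFun, finsum_eq_single _ ξ fun x hx => by
    rw [Function.locallyFinsuppWithin.single_apply, if_neg hx, zero_mul],
    Function.locallyFinsuppWithin.single_apply, if_pos rfl, one_mul]

theorem subschemeFun_id_eq_zeroSectionFun (i : D ⟶ X) [IsClosedImmersion i] (hL : PicF.IsInvertible L)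
    {s : L.presheaf.obj (Opposite.op ⊤)} (hD : Cyc.IsZeroSchemeOf i L s) (k : ℤ) (d : D) :
    Cyc.subschemeFun (fun d => δ (i d)) k (𝟙 D) d = Cyc.zeroSectionFun δ k L s (i d) := by
  classical
  by_cases hk : δ (i d) = k
  swap
  · rw [Cyc.subschemeFun, if_neg hk, Cyc.zeroSectionFun, if_neg hk]
  rw [Cyc.subschemeFun, if_pos hk]
  obtain ⟨t', f', hspan, hsf, hker⟩ := hD.2 d
  have hex : ∃ t : L.presheaf.stalk (i d), Submodule.span (X.presheaf.stalk (i d)) {t} = ⊤ := ⟨t', hspan⟩
  obtain ⟨μ, hμ, hμt⟩ := exists_unit_of_basis (bas_spec hL (i d)) hspan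
  have ht' : IsStalkBasis L (i d) t' := by rw [hμt]; exact isStalkBasis_smul (bas_spec hL (i d)) hμ
  obtain ⟨w, hw, hwt⟩ := exists_unit_of_basis ht' (Classical.choose_spec hex)
  have hf : ∃ f : X.presheaf.stalk (i d),
      (L.presheaf.germ ⊤ (i d) trivial) s = f • Classical.choose hex := by
    obtain ⟨v, hv⟩ := hw.exists_left_inv
    exact ⟨f' * v, by rw [hwt, smul_smul, mul_assoc, hv, mul_one, hsf]⟩
  rw [Cyc.zeroSectionFun, if_pos hk, dif_pos hex, dif_pos hf]
  have hspanf : Ideal.span {Classical.choose hf} = RingHom.ker (i.stalkMap d).hom := by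
    have e : f' = Classical.choose hf * w := ht'.1 <| by
      show f' • t' = (Classical.choose hf * w) • t'
      rw [mul_smul, ← hwt, ← hsf]
      exact Classical.choose_spec hf
    rw [hker, e, Ideal.span_singleton_mul_right_unit hw]
  rw [show {z : D | (𝟙 D) z = d} = {d} from Set.ext fun z => Iff.rfl, finsum_mem_singleton, hspanf]
  congr 2
  let _ := (i.stalkMap d).hom.toAlgebra
  rw [← Module.length_eq_of_surjective (R := D.presheaf.stalk d) (S := X.presheaf.stalk (i d))
    (M := D.presheaf.stalk d) (i.stalkMap_surjective d)]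
  exact (Ideal.quotientKerAlgEquivOfSurjective
    (f := Algebra.ofId (X.presheaf.stalk (i d)) (D.presheaf.stalk d)) (i.stalkMap_surjective d)).toLinearEquiv.length_eq.symm

theorem gysin_divSec (hX : Cyc.IsSetup X δ) [IsIntegral X] {n : ℤ} (hn : δ (genericPoint X) = n)
    (hL : PicF.IsInvertible L) (hN : PicF.IsInvertible N) (i : D ⟶ X) [IsClosedImmersion i]
    {s : L.presheaf.obj (Opposite.op ⊤)} (hD : Cyc.IsZeroSchemeOf i L s)
    (hs : (L.presheaf.germ ⊤ (genericPoint X) trivial) s ≠ 0) {t : Cyc.secFibre N (genericPoint X)}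
    (ht : t ≠ 0) {w : (ξ : X) → Cyc.secFibre L ξ} (hw : ∀ ξ, w ξ ≠ 0)
    {u : (d : D) → Cyc.secFibre ((Scheme.Modules.pullback i).obj N) d} (hu : ∀ d, u d ≠ 0)
    {γ₁ γ₂ : AlgebraicCycle D ℤ}
    (h₁ : ∀ d, γ₁ d = Cyc.c1CapFun δ L (Cyc.secDivFun δ N (genericPoint X) t) (Cyc.gysinChoice L s w) (i d))
    (h₂ : ⇑γ₂ = Cyc.c1CapFun (fun d => δ (i d)) ((Scheme.Modules.pullback i).obj N)
      (Cyc.subschemeFun (fun d => δ (i d)) (n - 1) (𝟙 D)) u) :
    Cyc.RatEquiv (fun d => δ (i d)) (n - 2) γ₁ γ₂ := by
  classical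
  refine gysin_c1_fun hX hL hN hD (Function.locallyFinsuppWithin.single (genericPoint X) (1 : ℤ)) ?_ hw
    (v := Function.update (fun x => fmk (bas hN x)) (genericPoint X) t) ?_ hu _ (fun d => ?_) (fun d => ?_) h₂
  · intro x hx
    rw [Function.locallyFinsuppWithin.single_apply, if_neg fun h : x = genericPoint X => hx (by rw [h]; exact hn)]
  · intro x
    by_cases h : x = genericPoint X
    · subst h; rw [Function.update_self]; exact ht
    · rw [Function.update_of_ne h]; exact fmk_ne_zero (bas_spec hN x)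
  · rw [c1CapFun_single, gysinChoice_of_notMem w (generic_notMem_zeroLocus hs), secDivFun_sbar hX hL hn s hs,
      subschemeFun_id_eq_zeroSectionFun i hL hD]
  · rw [h₁]
    congr 1
    funext z
    rw [c1CapFun_single, Function.update_self]

end Groth.CycInter
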