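import Groth.Agent.CycInter.SheafOrd
import Groth.Agent.CycInter.P1Fibre
import Groth.Agent.FibreDim.LowerSemicont
import Groth.Agent.Ega4Algebra1.RegularCatenary
import Groth.Agent.Ega4Algebra2.GRing
import Groth.Agent.Misc6.Equidim
import Groth.Agent.S9501

/-!
Schemes over a discrete valuation ring: dimension function, uniformizer, specialization as a divisor.
-/

universe u

set_option autoImplicit false

open CategoryTheory CategoryTheory.Limits AlgebraicGeometry IsLocalRing
open Groth.RefRank Groth.Cycles Groth.Variety2.Dim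
open scoped Pointwise

namespace Groth.CycInter.Dvr

variable (R : Type u) [CommRing R] [IsDomain R] [IsDiscreteValuationRing R]

/-- the algebra structure of the stalks of the base -/
noncomputable instance stalkAlg' (p : Spec (CommRingCat.of R)) :
    Algebra R ((Spec (CommRingCat.of R)).presheaf.stalk p) :=
  StructureSheaf.stalkAlgebra R p

instance stalkLoc (p : Spec (CommRingCat.of R)) :
    IsLocalization.AtPrime ((Spec (CommRingCat.of R)).presheaf.stalk p) p.asIdeal := by
  delta IsLocalization.AtPrime stalkAlg'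
  exact StructureSheaf.IsLocalization.to_stalk R p

/-- the generic point -/
noncomputable abbrev eta : ↥(Spec (CommRingCat.of R)) := genericPoint ↥(Spec (CommRingCat.of R))

theorem eta_asIdeal : (eta R).asIdeal = ⊥ := by
  rw [eta, genericPoint_eq_bot_of_affine (CommRingCat.of R)]
  rfl

theorem point_cases (p : Spec (CommRingCat.of R)) : p = eta R ∨ p = closedPoint R := by
  by_cases h : p.asIdeal = ⊥
  · exact Or.inl (PrimeSpectrum.ext (h.trans (eta_asIdeal R).symm))
  · exact Or.inr (PrimeSpectrum.ext (IsLocalRing.eq_maximalIdeal (IsPrime.to_maximal_ideal h)))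

theorem eta_ne_closed : eta R ≠ closedPoint R := fun h =>
  IsDiscreteValuationRing.not_a_field R ((congrArg PrimeSpectrum.asIdeal h.symm).trans (eta_asIdeal R))

open Classical in
/-- the dimension function of the base -/
noncomputable def δ₀ (p : Spec (CommRingCat.of R)) : ℤ := if p = eta R then 1 else 0

theorem δ₀_eta : δ₀ R (eta R) = 1 := if_pos rfl

theorem δ₀_closed : δ₀ R (closedPoint R) = 0 := if_neg (eta_ne_closed R).symm

theorem isSetup_δ₀ : Cyc.IsSetup (Spec (CommRingCat.of R)) (δ₀ R) := by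
  refine ⟨inferInstance, fun p => ?_, fun x y hxy hne => ?_⟩
  · have : IsRegularRing R := Groth.Ega4b.isRegularRing_of_isRegularLocalRing R
    have h : IsRegularLocalRing ((Spec (CommRingCat.of R)).presheaf.stalk p) :=
      IsRegularLocalRing.of_ringEquiv (IsLocalization.algEquiv p.asIdeal.primeCompl
        (Localization.AtPrime p.asIdeal) ((Spec (CommRingCat.of R)).presheaf.stalk p)).toRingEquiv
    have := Groth.Ega4b.isRegularRing_of_isRegularLocalRing ((Spec (CommRingCat.of R)).presheaf.stalk p)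
    exact Groth.Ega4Algebra1.isUniversallyCatenary_of_regular_surjective (RingHom.id _) Function.surjective_id
  · rcases point_cases R x with rfl | rfl <;> rcases point_cases R y with rfl | rfl
    · exact absurd rfl hne
    · rw [δ₀_eta, δ₀_closed]; exact ⟨one_pos, fun _ => (zero_add 1).symm⟩
    · exact absurd (hxy.antisymm (genericPoint_specializes _)).eq hne
    · exact absurd rfl hne

/-- a uniformizer -/
noncomputable def pi0 : R := Classical.choose (IsDiscreteValuationRing.exists_irreducible R)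

theorem maximalIdeal_eq_span : maximalIdeal R = Ideal.span {pi0 R} :=
  (Classical.choose_spec (IsDiscreteValuationRing.exists_irreducible R)).maximalIdeal_eq

theorem pi0_ne_zero : pi0 R ≠ 0 :=
  (Classical.choose_spec (IsDiscreteValuationRing.exists_irreducible R)).ne_zero

theorem pi0_mem_iff (p : Spec (CommRingCat.of R)) : pi0 R ∈ p.asIdeal ↔ p ≠ eta R := by
  constructor
  · rintro h rfl
    rw [eta_asIdeal] at h
    exact pi0_ne_zero R ((Submodule.mem_bot R).mp h)
  · intro h
    obtain rfl : p = closedPoint R := (point_cases R p).resolve_left h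
    show pi0 R ∈ maximalIdeal R
    rw [maximalIdeal_eq_span]
    exact Ideal.mem_span_singleton_self _

variable {R} {X : Scheme.{u}} (a : X ⟶ Spec (CommRingCat.of R))

/-- the germ of the uniformizer -/
noncomputable def piGerm (x : X) : X.presheaf.stalk x :=
  (a.stalkMap x).hom (algebraMap R ((Spec (CommRingCat.of R)).presheaf.stalk (a x)) (pi0 R))

/-- the uniformizer in the residue field -/
noncomputable def piX (x : X) : X.residueField x := X.residue x (piGerm a x)

theorem piGerm_spec {x ξ : X} (h : ξ ⤳ x) : rspec h (piGerm a x) = piGerm a ξ := by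
  unfold piGerm
  show (X.presheaf.stalkSpecializes h).hom _ = _
  rw [← CommRingCat.comp_apply, ← Scheme.Hom.stalkSpecializes_stalkMap, CommRingCat.comp_apply]
  refine congrArg _ ?_
  exact RingHom.congr_fun (congrArg CommRingCat.Hom.hom (StructureSheaf.toStalk_stalkSpecializes (h.map a.continuous))) (pi0 R)

theorem specMap_piGerm {x ξ : X} (h : ξ ⤳ x) : Cyc.specMap x ξ h (piGerm a x) = piX a ξ :=
  congrArg (X.residue ξ) (piGerm_spec a h)

theorem isUnit_piGerm_iff (x : X) : IsUnit (piGerm a x) ↔ a x = eta R := by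
  rw [piGerm, isUnit_map_iff,
    IsLocalization.AtPrime.isUnit_to_map_iff ((Spec (CommRingCat.of R)).presheaf.stalk (a x)) (a x).asIdeal]
  show pi0 R ∉ (a x).asIdeal ↔ _
  rw [pi0_mem_iff, not_not]

theorem map_maximalIdeal_closed {x : X} (hx : a x = closedPoint R) :
    Ideal.map (a.stalkMap x).hom (maximalIdeal ((Spec (CommRingCat.of R)).presheaf.stalk (a x))) =
      Ideal.span {piGerm a x} := by
  rw [← IsLocalization.AtPrime.map_eq_maximalIdeal (a x).asIdeal ((Spec (CommRingCat.of R)).presheaf.stalk (a x)),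
    show (a x).asIdeal = Ideal.span {pi0 R} from (congrArg PrimeSpectrum.asIdeal hx).trans (maximalIdeal_eq_span R),
    Ideal.map_span, Set.image_singleton, Ideal.map_span, Set.image_singleton]
  rfl

theorem map_maximalIdeal_eta {x : X} (hx : a x = eta R) :
    Ideal.map (a.stalkMap x).hom (maximalIdeal ((Spec (CommRingCat.of R)).presheaf.stalk (a x))) = ⊥ := by
  rw [← IsLocalization.AtPrime.map_eq_maximalIdeal (a x).asIdeal ((Spec (CommRingCat.of R)).presheaf.stalk (a x)),
    show (a x).asIdeal = ⊥ from (congrArg PrimeSpectrum.asIdeal hx).trans (eta_asIdeal R),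
    Ideal.map_bot, Ideal.map_bot]

theorem piX_ne_zero {x : X} (hx : a x = eta R) : piX a x ≠ 0 :=
  (((isUnit_piGerm_iff a x).mpr hx).map (X.residue x).hom).ne_zero

theorem exists_model [LocallyOfFiniteType a] :
    ∃ δX : X → ℤ, Cyc.DeltaCompat a δX (δ₀ R) ∧ Cyc.IsSetup X δX := by
  choose n hn using fun x => Groth.FibreDim.exists_relTrdeg_eq_height a x
  have hd : Cyc.DeltaCompat a (fun x => δ₀ R (a x) + n x) (δ₀ R) := fun x => ⟨n x, (hn x).1, rfl⟩
  exact ⟨_, hd, P1C.isSetup_of_lft (isSetup_δ₀ R) a hd⟩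

variable {δX : X → ℤ} (hδ : Cyc.DeltaCompat a δX (δ₀ R))

include hδ in
theorem delta_fiber [LocallyOfFiniteType a] (t : Spec (CommRingCat.of R)) {δf : ↥(a.fiber t) → ℤ}
    (hf : Cyc.DeltaCompat (a.fiberToSpecResidueField t) δf (fun _ => 0)) (ζ : a.fiber t) :
    δX (a.fiberι t ζ) = δ₀ R t + δf ζ := by
  obtain ⟨n, hn, hn'⟩ := hδ (a.fiberι t ζ)
  obtain ⟨m, hm, hm'⟩ := hf ζ
  have h1 : relTrdeg (a.fiberι t ≫ a) ζ = relTrdeg a (a.fiberι t ζ) :=
    Groth.Misc6.Equidim.relTrdeg_comp_preimmersion a (a.fiberι t) ζ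
  have h2 : relTrdeg (a.fiberι t ≫ a) ζ = relTrdeg (a.fiberToSpecResidueField t) ζ := by
    have e : a.fiberι t ≫ a = a.fiberToSpecResidueField t ≫ (Spec (CommRingCat.of R)).fromSpecResidueField t :=
      pullback.condition
    rw [e, relTrdeg_preimmersion_comp]
  have hnm : (n : Cardinal.{u}) = m := hn.symm.trans (h1.symm.trans (h2.trans hm))
  rw [hn', hm', Nat.cast_inj.1 hnm, Groth.FibreDim.apply_fiberι a t ζ]
  simp

theorem mem_range_fiberι {t : Spec (CommRingCat.of R)} {x : X} (hx : a x = t) :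
    x ∈ Set.range (a.fiberι t) := by rw [a.range_fiberι]; exact hx

/-- Specialization is the divisor of the uniformizer. -/
theorem spFun_eq (hX : Cyc.IsSetup X δX) [LocallyOfFiniteType a] {δη : ↥(a.fiber (eta R)) → ℤ}
    {δs : ↥(a.fiber (closedPoint R)) → ℤ} (hδX : Cyc.DeltaCompat a δX (δ₀ R))
    (hη : Cyc.DeltaCompat (a.fiberToSpecResidueField (eta R)) δη (fun _ => 0))
    (hs : Cyc.DeltaCompat (a.fiberToSpecResidueField (closedPoint R)) δs (fun _ => 0)) (r : ℤ)
    (α : ↥(a.fiber (eta R)) → ℤ) (G : X → ℤ) (hG : ∀ ζ, δη ζ = r → G (a.fiberι (eta R) ζ) = α ζ)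
    (hG0 : ∀ ξ, G ξ ≠ 0 → a ξ = eta R ∧ δX ξ = r + 1) (g : (ξ : X) → X.residueField ξ)
    (hg : ∀ ξ, a ξ = eta R → g ξ = piX a ξ) (x : a.fiber (closedPoint R)) (hx : δs x = r) :
    Cyc.spFun a (eta R) (closedPoint R) δη δs r α x =
      ∑ᶠ ξ, G ξ * Cyc.divFun δX ξ (g ξ) (a.fiberι (closedPoint R) x) := by
  classical
  have := hX.1
  set y := a.fiberι (closedPoint R) x with hy
  have hya : a y = closedPoint R := Groth.FibreDim.apply_fiberι a _ x
  have hδy : δX y = r := by rw [hy, delta_fiber a hδX _ hs, δ₀_closed, hx, zero_add]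
  rw [Cyc.spFun, if_pos hx]
  let S : Set X := {ξ | a ξ = eta R ∧ δX ξ = r + 1 ∧ ξ ⤳ y}
  have hsupp : Function.support (fun ξ => G ξ * Cyc.divFun δX ξ (g ξ) y) ⊆ S := fun ξ hξ => by
    obtain ⟨h1, h2⟩ := hG0 ξ (left_ne_zero_of_mul hξ)
    exact ⟨h1, h2, by_contra fun hn => right_ne_zero_of_mul hξ (divFun_of_not_specializes _ hn)⟩
  have hcond : ∑ᶠ ξ, G ξ * Cyc.divFun δX ξ (g ξ) y = ∑ᶠ ξ ∈ S, G ξ * Cyc.divFun δX ξ (g ξ) y :=
    finsum_congr fun ξ => by
      rw [finsum_eq_if]
      split_ifs with h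
      · rfl
      · exact by_contra fun hne => h (hsupp hne)
  rw [hcond,
    ← finsum_subtype_eq_finsum_cond (fun ξ => ξ ∈ S)]
  refine finsum_eq_of_bijective (fun ζ => ⟨a.fiberι (eta R) ζ.1,
    Groth.FibreDim.apply_fiberι a _ ζ.1, by rw [delta_fiber a hδX _ hη, δ₀_eta, ζ.2.1]; ring, ζ.2.2⟩)
    ⟨fun u v h => Subtype.ext ((a.fiberι (eta R)).isEmbedding.injective (congrArg (fun t : S => t.1) h)), ?_⟩ ?_
  · rintro ⟨ξ, h1, h2, h3⟩
    obtain ⟨ζ, rfl⟩ := mem_range_fiberι a h1
    rw [delta_fiber a hδX _ hη, δ₀_eta] at h2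
    exact ⟨⟨ζ, by omega, h3⟩, rfl⟩
  rintro ⟨ζ, hζ, hsp⟩
  set ξ := a.fiberι (eta R) ζ with hξ
  have hξa : a ξ = eta R := Groth.FibreDim.apply_fiberι a _ ζ
  have hdp : IsDivPt δX ξ y := ⟨hsp, by rw [hδy, hξ, delta_fiber a hδX _ hη, δ₀_eta, hζ]; ring⟩
  show _ = G ξ * Cyc.divFun δX ξ (g ξ) y
  rw [hG ζ hζ, hg ξ hξa, Cyc.divFun, dif_pos (show ξ ⤳ y ∧ δX y + 1 = δX ξ from hdp)]
  congr 1
  have := isDomain_locQuot hdp.1
  have := krullDimLE_one_of_isDivPt hX hdp
  have := isFractionRing_locQuot hdp.1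
  set I := RingHom.ker (Cyc.specMap y ξ hdp.1) with hI
  have hne : Ideal.Quotient.mk I (piGerm a y) ≠ 0 := by
    rw [Ne, Ideal.Quotient.eq_zero_iff_mem, RingHom.mem_ker, specMap_piGerm]
    exact piX_ne_zero a hξa
  have hord : Cyc.ordAt y ξ hdp.1 (piX a ξ) =
      ((Ring.ord (X.presheaf.stalk y ⧸ I) (Ideal.Quotient.mk I (piGerm a y))).toNat : ℤ) := by
    rw [Cyc.ordAt, ← specMap_piGerm a hdp.1, ← ordFrac_algebraMap' (K := X.residueField ξ) hne]
    rfl
  rw [hord, Ring.ord]
  congr 2
  have hJ : (maximalIdeal ((Spec (CommRingCat.of R)).presheaf.stalk (a y))).map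
      ((Ideal.Quotient.mk I).comp (a.stalkMap y).hom) = Ideal.span {Ideal.Quotient.mk I (piGerm a y)} := by
    rw [← Ideal.map_map, map_maximalIdeal_closed a hya, Ideal.map_span, Set.image_singleton]
  rw [Module.length_eq_of_surjective (R := X.presheaf.stalk y ⧸ I) (S := X.presheaf.stalk y)
    Ideal.Quotient.mk_surjective]
  exact (Submodule.quotEquivOfEq _ _ hJ).length_eq

end Groth.CycInter.Dvr
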