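import Groth.Agent.CycInter.DvrModel

/-!
Specialization of the cycle of a flat coherent module is the cycle of the special fibre.
-/

universe u

set_option autoImplicit false

open CategoryTheory CategoryTheory.Limits AlgebraicGeometry IsLocalRing
open Groth.RefRank Groth.Cycles Groth.Variety2.Dim Groth.QCohMod
open scoped Pointwise TensorProduct

namespace Groth.CycInter.Dvr

variable {X D : Scheme.{u}}

theorem length_pullback_preimm (i : D ⟶ X) [IsPreimmersion i] (F : X.Modules) (d : D)
    (f : X.presheaf.stalk (i d)) (hker : RingHom.ker (i.stalkMap d).hom = Ideal.span {f}) :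
    Module.length (D.presheaf.stalk d) (((Scheme.Modules.pullback i).obj F).presheaf.stalk d) =
      Module.length (X.presheaf.stalk (i d))
        (F.presheaf.stalk (i d) ⧸ f • (⊤ : Submodule (X.presheaf.stalk (i d)) (F.presheaf.stalk (i d)))) := by
  let _ := stalkAlg i d
  have hsurj : Function.Surjective (algebraMap (X.presheaf.stalk (i d)) (D.presheaf.stalk d)) :=
    i.stalkMap_surjective d
  rw [← (pullStalkEquiv i F d).length_eq,
    ← Module.length_eq_of_surjective (R := D.presheaf.stalk d) (S := X.presheaf.stalk (i d)) hsurj]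
  let a := Ideal.quotientKerAlgEquivOfSurjective
    (f := Algebra.ofId (X.presheaf.stalk (i d)) (D.presheaf.stalk d)) hsurj
  rw [((TensorProduct.congr a.toLinearEquiv.symm (LinearEquiv.refl _ (F.presheaf.stalk (i d)))).trans
    (TensorProduct.quotTensorEquivQuotSMul (F.presheaf.stalk (i d)) _)).length_eq]
  refine (Submodule.quotEquivOfEq _ _ ?_).length_eq
  rw [← Submodule.ideal_span_singleton_smul f, ← hker]
  rfl

variable {R : Type u} [CommRing R] [IsDomain R] [IsDiscreteValuationRing R]
  (a : X ⟶ Spec (CommRingCat.of R))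

theorem ker_stalkMap_fiberι_closed (x : a.fiber (closedPoint R)) :
    RingHom.ker ((a.fiberι (closedPoint R)).stalkMap x).hom =
      Ideal.span {piGerm a (a.fiberι (closedPoint R) x)} :=
  (Groth.Agent.S9501.result a (closedPoint R) x).2.trans
    (map_maximalIdeal_closed a (Groth.FibreDim.apply_fiberι a _ x))

theorem length_fibre_eta (F : X.Modules) (ζ : a.fiber (eta R)) :
    Module.length ((a.fiber (eta R)).presheaf.stalk ζ)
        (((Scheme.Modules.pullback (a.fiberι (eta R))).obj F).presheaf.stalk ζ) =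
      Module.length (X.presheaf.stalk (a.fiberι (eta R) ζ)) (F.presheaf.stalk (a.fiberι (eta R) ζ)) := by
  have hker : RingHom.ker ((a.fiberι (eta R)).stalkMap ζ).hom = Ideal.span {0} :=
    ((Groth.Agent.S9501.result a (eta R) ζ).2.trans
      (map_maximalIdeal_eta a (Groth.FibreDim.apply_fiberι a _ ζ))).trans (Ideal.span_singleton_eq_bot.mpr rfl).symm
  rw [length_pullback_preimm (a.fiberι (eta R)) F ζ 0 hker]
  exact (Submodule.quotEquivOfEqBot _ (by rw [← Submodule.ideal_span_singleton_smul, Ideal.span_singleton_eq_bot.mpr rfl, Submodule.bot_smul])).length_eq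

theorem injective_smul_piGerm (F : X.Modules) (hflat : FlatMod.IsFlatOver a F) (x : X) :
    Function.Injective (fun m : F.presheaf.stalk x => piGerm a x • m) := by
  letI := FlatMod.moduleStalkOver a F x
  haveI : Module.Flat ((Spec (CommRingCat.of R)).presheaf.stalk (a x)) (F.presheaf.stalk x) := hflat x
  have hinj : Function.Injective (algebraMap R ((Spec (CommRingCat.of R)).presheaf.stalk (a x))) :=
    IsLocalization.injective (M := (a x).asIdeal.primeCompl) ((Spec (CommRingCat.of R)).presheaf.stalk (a x))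
      (a x).asIdeal.primeCompl_le_nonZeroDivisors
  haveI : IsDomain ((Spec (CommRingCat.of R)).presheaf.stalk (a x)) :=
    IsLocalization.isDomain_of_le_nonZeroDivisors (R := R) (M := (a x).asIdeal.primeCompl) ((Spec (CommRingCat.of R)).presheaf.stalk (a x)) (a x).asIdeal.primeCompl_le_nonZeroDivisors
  have h := Module.Flat.isSMulRegular_of_nonZeroDivisors (R := (Spec (CommRingCat.of R)).presheaf.stalk (a x))
    (M := F.presheaf.stalk x) (mem_nonZeroDivisors_of_ne_zero ((map_ne_zero_iff _ hinj).mpr (pi0_ne_zero R)))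
  exact h

/-- Specialization of the cycle of a flat coherent module. -/
theorem spFun_sheafFun [LocallyOfFiniteType a] {δη : ↥(a.fiber (eta R)) → ℤ}
    {δs : ↥(a.fiber (closedPoint R)) → ℤ}
    (hη : Cyc.DeltaCompat (a.fiberToSpecResidueField (eta R)) δη (fun _ => 0))
    (hs : Cyc.DeltaCompat (a.fiberToSpecResidueField (closedPoint R)) δs (fun _ => 0)) (r : ℤ)
    (F : X.Modules) (hF : Coh.IsCoh F) (hflat : FlatMod.IsFlatOver a F)
    (hdim : ∀ ζ : a.fiber (eta R),
      Nontrivial (((Scheme.Modules.pullback (a.fiberι (eta R))).obj F).presheaf.stalk ζ) → δη ζ ≤ r) :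
    (∀ x : a.fiber (closedPoint R),
      Nontrivial (((Scheme.Modules.pullback (a.fiberι (closedPoint R))).obj F).presheaf.stalk x) → δs x ≤ r) ∧
    Cyc.spFun a (eta R) (closedPoint R) δη δs r
        (Cyc.sheafFun δη r ((Scheme.Modules.pullback (a.fiberι (eta R))).obj F)) =
      Cyc.sheafFun δs r ((Scheme.Modules.pullback (a.fiberι (closedPoint R))).obj F) := by
  classical
  obtain ⟨δX, hδX, hX⟩ := exists_model a
  have := hX.1
  have := hF.1
  have hdimη : ∀ y, a y = eta R → Nontrivial (F.presheaf.stalk y) → δX y ≤ r + 1 := by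
    intro y hy hnt
    obtain ⟨ζ, rfl⟩ := mem_range_fiberι a hy
    rw [delta_fiber a hδX _ hη, δ₀_eta]
    have : Nontrivial (((Scheme.Modules.pullback (a.fiberι (eta R))).obj F).presheaf.stalk ζ) := by
      by_contra hn
      have := not_nontrivial_iff_subsingleton.mp hn
      have hl := length_fibre_eta a F ζ
      rw [Module.length_eq_zero (R := (a.fiber (eta R)).presheaf.stalk ζ)] at hl
      exact not_subsingleton_iff_nontrivial.mpr hnt (Module.length_eq_zero_iff.mp hl.symm)
    have := hdim ζ this
    omega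
  have hdimX : ∀ y, Nontrivial (F.presheaf.stalk y) → δX y ≤ r + 1 ∧ (a y = closedPoint R → δX y ≤ r) := by
    intro y hnt
    rcases point_cases R (a y) with hy | hy
    · exact ⟨hdimη y hy hnt, fun h => absurd (hy.symm.trans h) (eta_ne_closed R)⟩
    obtain ⟨m, hm⟩ := exists_ne (0 : F.presheaf.stalk y)
    obtain ⟨P, hP, hle⟩ := exists_le_isAssociatedPrime_of_isNoetherianRing (X.presheaf.stalk y) m hm
    obtain ⟨hPp, v, hv⟩ := isAssociatedPrime_iff.mp hP
    let p : PrimeSpectrum (X.presheaf.stalk y) := ⟨P, hPp⟩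
    have hsupp : p ∈ Module.support (X.presheaf.stalk y) (F.presheaf.stalk y) :=
      Module.mem_support_iff'.mpr ⟨v, fun r hr hrv => hr (by
        rw [show p.asIdeal = P from rfl, hv, Submodule.mem_colon_singleton, Submodule.mem_bot]; exact hrv)⟩
    have hsp : X.fromSpecStalk y p ⤳ y := (Scheme.range_fromSpecStalk (X := X) (x := y)).le ⟨p, rfl⟩
    have hgp : genPrime hsp = p := genPrime_fromSpecStalk p _
    have hnt' : Nontrivial (F.presheaf.stalk (X.fromSpecStalk y p)) :=
      (mem_support_genPrime_iff F hsp).mp (by rw [hgp]; exact hsupp)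
    have hpi : piGerm a y ∉ P := by
      intro hmem
      rw [hv, Submodule.mem_colon_singleton, Submodule.mem_bot] at hmem
      have hv0 : v = 0 := injective_smul_piGerm a F hflat y (hmem.trans (smul_zero _).symm)
      exact hPp.ne_top (by rw [hv, hv0]; simp)
    have hξ : a (X.fromSpecStalk y p) = eta R := by
      rw [← isUnit_piGerm_iff, ← piGerm_spec a hsp, isUnit_rspec_iff_genPrime, hgp]
      exact hpi
    have h1 := hdimη _ hξ hnt'
    have hne : X.fromSpecStalk y p ≠ y := fun e => eta_ne_closed R ((e ▸ hξ).symm.trans hy)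
    have h2 := (hX.2.2 _ y hsp hne).1
    exact ⟨by omega, fun _ => by omega⟩
  refine ⟨fun x hx => ?_, funext fun x => ?_⟩
  · have hl := length_pullback_preimm (a.fiberι (closedPoint R)) F x _ (ker_stalkMap_fiberι_closed a x)
    have hnt : Nontrivial (F.presheaf.stalk (a.fiberι (closedPoint R) x)) := by
      by_contra hn
      have := not_nontrivial_iff_subsingleton.mp hn
      rw [Module.length_eq_zero (R := X.presheaf.stalk (a.fiberι (closedPoint R) x))] at hl
      exact not_subsingleton_iff_nontrivial.mpr hx (Module.length_eq_zero_iff.mp hl)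
    have h := (hdimX _ hnt).2 (Groth.FibreDim.apply_fiberι a _ x)
    rw [delta_fiber a hδX _ hs, δ₀_closed] at h
    omega
  by_cases hx : δs x = r
  swap
  · rw [Cyc.spFun, if_neg hx, Cyc.sheafFun, if_neg hx]
  rw [Cyc.sheafFun, if_pos hx,
    length_pullback_preimm (a.fiberι (closedPoint R)) F x _ (ker_stalkMap_fiberι_closed a x)]
  have hy : δX (a.fiberι (closedPoint R) x) = r := by rw [delta_fiber a hδX _ hs, δ₀_closed, hx, zero_add]
  have hout : ∀ ξ, δX ξ = r + 1 → Nontrivial (F.presheaf.stalk ξ) → a ξ = eta R := fun ξ hξ hnt =>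
    (point_cases R (a ξ)).resolve_right fun h => by have := (hdimX ξ hnt).2 h; omega
  rw [spFun_eq a hX hδX hη hs r _ (Cyc.sheafFun δX (r + 1) F) ?_ ?_ (piX a) (fun _ _ => rfl) x hx]
  · exact (P1C.length_quot_eq_finsum hX r hF (fun y h => (hdimX y h).1) hy _
      (injective_smul_piGerm a F hflat _)
      (fun ξ h hξ hnt => by rw [piGerm_spec]; exact (isUnit_piGerm_iff a ξ).mpr (hout ξ hξ hnt))
      (piX a) (fun ξ h _ _ => (specMap_piGerm a h).symm)).symm
  · intro ζ hζ
    rw [Cyc.sheafFun, if_pos (by rw [delta_fiber a hδX _ hη, δ₀_eta, hζ, add_comm]), Cyc.sheafFun, if_pos hζ,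
      length_fibre_eta]
  · intro ξ hξ
    have h1 : δX ξ = r + 1 := by_contra fun h' => hξ (if_neg h')
    refine ⟨hout ξ h1 ?_, h1⟩
    by_contra hn
    have := not_nontrivial_iff_subsingleton.mp hn
    exact hξ (by rw [Cyc.sheafFun, if_pos h1, Module.length_eq_zero]; rfl)

end Groth.CycInter.Dvr
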