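import Groth.Agent.CycInter.P1Sheaf
import Groth.Agent.Cycles.SheafCyc
import Groth.Agent.CohTwo.PushStalkModule
import Groth.Agent.QCohMod.Coherent

/-!
The fibres at zero and infinity of a closed subscheme of the projective line are rationally equivalent.
-/

universe u

set_option autoImplicit false

open CategoryTheory CategoryTheory.Limits AlgebraicGeometry IsLocalRing
open Groth.RefRank Groth.Cycles
open scoped Pointwise

namespace Groth.CycInter.P1C

variable {X : Scheme.{u}} {δ : X → ℤ}

theorem exists_pushStalk_equiv {Y Z : Scheme.{u}} (i : Z ⟶ Y) [IsClosedImmersion i] (z : Z) :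
    ∃ e : ((Scheme.Modules.pushforward i).obj (Coh.structureModule Z)).presheaf.stalk (i z) ≃+ Z.presheaf.stalk z,
      ∀ (a : Y.presheaf.stalk (i z)) (v : ((Scheme.Modules.pushforward i).obj (Coh.structureModule Z)).presheaf.stalk (i z)),
        e (a • v) = i.stalkMap z a * e v := by
  let L := LinearEquiv.ofBijective _ (Groth.CohTwo.bijective_toSpanSingleton_one (X := Z) z)
  let φ : ((Coh.push i).obj (Coh.structureModule Z)).presheaf.stalk (i z) → Z.presheaf.stalk z :=
    fun t => L.symm (Groth.CohTwo.pushStalk i (Coh.structureModule Z) z t)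
  have hφ : Function.Bijective φ := L.symm.bijective.comp
    (Groth.CohTwo.bijective_pushStalk i (Coh.structureModule Z) z)
  refine ⟨{ Equiv.ofBijective φ hφ with
    map_add' := fun a b => (congrArg L.symm
      ((Groth.CohTwo.pushStalk i (Coh.structureModule Z) z).map_add a b)).trans (map_add L.symm _ _) }, fun a v => ?_⟩
  show L.symm (Groth.CohTwo.pushStalk i (Coh.structureModule Z) z (a • v)) = _
  rw [Groth.CohTwo.pushStalk_smul, map_smul]
  rfl

theorem ratEquiv_subscheme_fibres (hX : Cyc.IsSetup X δ) {δP : ↥(CohB1.ProjSpaceOver 1 X) → ℤ}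
    (hP : Cyc.DeltaCompat (CohB1.ProjSpaceOver.toBase 1 X) δP δ) (k : ℤ) {Z : Scheme.{u}}
    (ι : Z ⟶ CohB1.ProjSpaceOver 1 X) [IsClosedImmersion ι] (hZ : ∀ z : Z, δP (ι z) ≤ k + 1)
    (hZ0 : ∀ (z : Z) (j : Fin (1 + 1)), ι z ∉ C X j → δP (ι z) ≤ k)
    (hemb : ∀ z : Z, IsAssociatedPrime (maximalIdeal (Z.presheaf.stalk z)) (Z.presheaf.stalk z) →
      ∀ j, ι z ∉ C X j → δP (ι z) < k)
    (α β : AlgebraicCycle X ℤ) (hα : ⇑α = Cyc.subschemeFun δ k (pullback.snd ι (P1.sect X 0)))
    (hβ : ⇑β = Cyc.subschemeFun δ k (pullback.snd ι (P1.sect X (oth 0)))) : Cyc.RatEquiv δ k α β := by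
  classical
  have := hX.1
  haveI : IsProper (CohB1.ProjSpaceOver.toBase 1 X) := Groth.Variety2.isProper_projSpaceOver_toBase _ _
  have hPs : Cyc.IsSetup (CohB1.ProjSpaceOver 1 X) δP := isSetup_of_lft hX _ hP
  have := hPs.1
  haveI := LocallyOfFiniteType.isLocallyNoetherian ι
  set F := (Scheme.Modules.pushforward ι).obj (Coh.structureModule Z) with hFdef
  have hF : Coh.IsCoh F := isCoh_push_of_isFinite ι Groth.QCohMod.isCoh_unit
  have hsub : ∀ p, p ∉ Set.range ι → Subsingleton (F.presheaf.stalk p) := fun p hp =>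
    not_not.mp fun hne => hp (Groth.CohTwo.support_push_subset ι _ hne)
  have hsheaf : ∀ (j : Fin (1 + 1)) (x : X), δ x = k →
      Cyc.sheafFun δ k ((Scheme.Modules.pullback (P1.sect X j)).obj F) x =
        Cyc.subschemeFun δ k (pullback.snd ι (P1.sect X j)) x := by
    intro j x hx
    rw [sheafFun_sect hP j x hx]
    by_cases hr : P1.sect X j x ∈ Set.range ι
    swap
    · have := hsub _ hr
      rw [Module.length_eq_zero]
      refine (by_contra fun hne => hr ?_ : Cyc.subschemeFun δ k (pullback.snd ι (P1.sect X j)) x = 0).symm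
      obtain ⟨-, w, hw⟩ := Groth.Calg6.ClosedImmStalk.exists_of_subschemeFun_ne_zero _ _ _ _ hne
      refine ⟨pullback.fst ι (P1.sect X j) w, ?_⟩
      rw [← Scheme.Hom.comp_apply, pullback.condition, Scheme.Hom.comp_apply, hw]
    obtain ⟨z, hz⟩ := hr
    obtain ⟨w, hw1, hw2⟩ := Scheme.Pullback.exists_preimage_pullback z x hz
    subst hw2
    rw [Groth.Calg6.ClosedImmStalk.subschemeFun_eq δ k (pullback.snd ι (P1.sect X j)) w, if_pos hx]
    have hzC : ι z ∈ C X j := hz ▸ sect_mem_C j _
    have hR : Module.length ((pullback ι (P1.sect X j)).presheaf.stalk w) ((pullback ι (P1.sect X j)).presheaf.stalk w) =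
        Module.length (Z.presheaf.stalk z) (Z.presheaf.stalk z ⧸ Ideal.span {pullT ι j z hzC}) := by
      subst hw1
      rw [Groth.Calg6.ClosedImmStalk.length_stalk (pullback.fst ι (P1.sect X j)) w,
        Scheme.IdealSheafData.ker_fst_of_isClosedImmersion, Groth.ParaFormal.stalkIdeal_comap,
        (stalkIdeal_sect X j _).1 hzC, Ideal.map_span, Set.image_singleton]
      rfl
    have key : ∀ (p : CohB1.ProjSpaceOver 1 X) (_ : ι z = p) (hp : p ∈ C X j),
        Module.length ((CohB1.ProjSpaceOver 1 X).presheaf.stalk p)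
          (F.presheaf.stalk p ⧸ ((CohB1.ProjSpaceOver 1 X).presheaf.germ (C X j) p hp (t X j)) •
            (⊤ : Submodule ((CohB1.ProjSpaceOver 1 X).presheaf.stalk p) (F.presheaf.stalk p))) =
        Module.length (Z.presheaf.stalk z) (Z.presheaf.stalk z ⧸ Ideal.span {pullT ι j z hzC}) := by
      rintro p rfl hp
      obtain ⟨e, he⟩ := exists_pushStalk_equiv ι z
      set c := (CohB1.ProjSpaceOver 1 X).presheaf.germ (C X j) (ι z) hp (t X j) with hc
      letI : Algebra ((CohB1.ProjSpaceOver 1 X).presheaf.stalk (ι z)) (Z.presheaf.stalk z) := (ι.stalkMap z).hom.toAlgebra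
      have hsurj : Function.Surjective (algebraMap ((CohB1.ProjSpaceOver 1 X).presheaf.stalk (ι z)) (Z.presheaf.stalk z)) :=
        ι.stalkMap_surjective z
      rw [← Module.length_eq_of_surjective (R := Z.presheaf.stalk z) (S := (CohB1.ProjSpaceOver 1 X).presheaf.stalk (ι z))
        (M := Z.presheaf.stalk z ⧸ Ideal.span {pullT ι j z hzC}) hsurj]
      let el : F.presheaf.stalk (ι z) →ₗ[(CohB1.ProjSpaceOver 1 X).presheaf.stalk (ι z)] Z.presheaf.stalk z :=
        { toFun := e, map_add' := fun a b => map_add e a b, map_smul' := fun a v => (he a v).trans (Algebra.smul_def a _).symm }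
      let π := (Ideal.Quotient.mkₐ ((CohB1.ProjSpaceOver 1 X).presheaf.stalk (ι z)) (Ideal.span {pullT ι j z hzC})).toLinearMap.comp el
      have hπ : Function.Surjective π := Ideal.Quotient.mk_surjective.comp e.surjective
      refine ((Submodule.quotEquivOfEq _ _ ?_).trans (π.quotKerEquivOfSurjective hπ)).length_eq
      ext v
      constructor
      · intro hv
        obtain ⟨u, -, rfl⟩ := (Submodule.mem_smul_pointwise_iff_exists _ _ _).mp hv
        show Ideal.Quotient.mk _ (e (c • u)) = 0
        rw [he, Ideal.Quotient.eq_zero_iff_mem]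
        exact Ideal.mul_mem_right _ _ (Ideal.subset_span rfl)
      · intro hv
        have hv' : e v ∈ Ideal.span {pullT ι j z hzC} := Ideal.Quotient.eq_zero_iff_mem.mp hv
        obtain ⟨b, hb⟩ := Ideal.mem_span_singleton'.mp hv'
        obtain ⟨u, hu⟩ := e.surjective b
        refine (Submodule.mem_smul_pointwise_iff_exists _ _ _).mpr ⟨u, trivial, e.injective ?_⟩
        rw [he, hu, ← hb, mul_comm]
        rfl
    rw [hR, key _ hz (sect_mem_C j _)]
  refine ratEquiv_sheaf_fibres hX hP hF (fun p hp => ?_) (fun j x hx => ?_) (fun p hp j hj => ?_) α β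
    (funext fun x => ?_) (funext fun x => ?_)
  · obtain ⟨z, rfl⟩ : p ∈ Set.range ι := by_contra fun hn => not_subsingleton_iff_nontrivial.mpr hp (hsub p hn)
    exact hZ z
  · have hr : P1.sect X j x ∈ Set.range ι := by
      by_contra hn
      have := hsub _ hn
      have hl := length_pullback_closedImm (P1.sect X j) F x _
        ((Groth.Calg6.ClosedImmStalk.ker_stalkMap_eq (P1.sect X j) x).trans
          ((stalkIdeal_sect X j _).1 (sect_mem_C j x)))
      rw [Module.length_eq_zero (R := (CohB1.ProjSpaceOver 1 X).presheaf.stalk (P1.sect X j x))] at hl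
      exact not_subsingleton_iff_nontrivial.mpr hx (Module.length_eq_zero_iff.mp hl)
    obtain ⟨z, hz⟩ := hr
    rw [← delta_sect hP j x, ← hz]
    refine hZ0 z (oth j) ?_
    have h0 : P1.sect X j x ∈ Set.range (P1.sect X j) := ⟨x, rfl⟩
    rw [range_sect, ← hz] at h0
    exact h0
  · obtain ⟨z, rfl⟩ : p ∈ Set.range ι := by_contra fun hn => by
      have := hsub p hn
      exact not_isAssociatedPrime_of_subsingleton hp
    refine hemb z ?_ j hj
    obtain ⟨e, he⟩ := exists_pushStalk_equiv ι z
    obtain ⟨-, v, hv⟩ := isAssociatedPrime_iff.mp hp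
    refine isAssociatedPrime_iff.mpr ⟨(maximalIdeal.isMaximal _).isPrime, e v, ?_⟩
    ext r
    obtain ⟨a, rfl⟩ := ι.stalkMap_surjective z r
    rw [Submodule.mem_colon_singleton, Submodule.mem_bot, smul_eq_mul, ← he, e.map_eq_zero_iff,
      IsLocalRing.mem_maximalIdeal, mem_nonunits_iff, isUnit_map_iff, ← mem_nonunits_iff,
      ← IsLocalRing.mem_maximalIdeal, hv, Submodule.mem_colon_singleton, Submodule.mem_bot]
  all_goals
    by_cases hx : δ x = k
    · rw [hsheaf _ x hx]
      first | rw [hα] | rw [hβ]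
    · first | rw [hα] | rw [hβ]
      rw [Cyc.subschemeFun, if_neg hx, Cyc.sheafFun, if_neg hx]

end Groth.CycInter.P1C
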