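import Groth.Agent.CycInter.DvrSheaf
import Groth.Agent.CycInter.P1Subscheme
import Groth.Agent.FBaseGeom.AssTensor
import Groth.Agent.Flatmor4.FlatModAffine

/-!
Specialization of the cycle of a flat closed subscheme.
-/

universe u

set_option autoImplicit false

open CategoryTheory CategoryTheory.Limits AlgebraicGeometry IsLocalRing
open Groth.RefRank Groth.Cycles
open scoped Pointwise

namespace Groth.CycInter.Dvr

variable {X W S : Scheme.{u}}

theorem injective_stalkMap_iso {A B : Scheme.{u}} (e : A ≅ B) (w : A) :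
    Function.Injective (e.hom.stalkMap w) :=
  ((ConcreteCategory.isIso_iff_bijective _).mp inferInstance).1

theorem ker_stalkMap_fst_fiber (a : X ⟶ S) (t : S) (ι : W ⟶ X) (w : ↥(pullback ι (a.fiberι t))) :
    RingHom.ker ((pullback.fst ι (a.fiberι t)).stalkMap w).hom =
      ((maximalIdeal (S.presheaf.stalk (a (ι (pullback.fst ι (a.fiberι t) w))))).map
        (a.stalkMap (ι (pullback.fst ι (a.fiberι t) w))).hom).map
        (ι.stalkMap (pullback.fst ι (a.fiberι t) w)).hom := by
  let e : pullback ι (a.fiberι t) ≅ (ι ≫ a).fiber t := pullbackRightPullbackFstIso a (S.fromSpecResidueField t) ι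
  have he : e.hom ≫ (ι ≫ a).fiberι t = pullback.fst ι (a.fiberι t) :=
    pullbackRightPullbackFstIso_hom_fst a (S.fromSpecResidueField t) ι
  have h := (Groth.Agent.S9501.result (ι ≫ a) t (e.hom w)).2
  have key : ∀ (q : pullback ι (a.fiberι t) ⟶ W) (_ : e.hom ≫ (ι ≫ a).fiberι t = q),
      RingHom.ker (q.stalkMap w).hom =
        ((maximalIdeal (S.presheaf.stalk (a (ι (q w))))).map (a.stalkMap (ι (q w))).hom).map
          (ι.stalkMap (q w)).hom := by
    rintro q rfl
    have hk : RingHom.ker ((e.hom ≫ (ι ≫ a).fiberι t).stalkMap w).hom =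
        RingHom.ker (((ι ≫ a).fiberι t).stalkMap (e.hom w)).hom := by
      rw [Scheme.Hom.stalkMap_comp]
      exact RingHom.ker_comp_of_injective _ (injective_stalkMap_iso e w)
    rw [hk, h, Scheme.Hom.stalkMap_comp, Ideal.map_map]
    rfl
  exact key _ he

theorem sheafFun_pullback_push (a : X ⟶ S) (t : S) (ι : W ⟶ X) [IsClosedImmersion ι]
    (δf : ↥(a.fiber t) → ℤ) (r : ℤ) (x : a.fiber t) (f : X.presheaf.stalk (a.fiberι t x))
    (hf : (maximalIdeal (S.presheaf.stalk (a (a.fiberι t x)))).map (a.stalkMap (a.fiberι t x)).hom = Ideal.span {f}) :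
    Cyc.sheafFun δf r ((Scheme.Modules.pullback (a.fiberι t)).obj
        ((Scheme.Modules.pushforward ι).obj (Coh.structureModule W))) x =
      Cyc.subschemeFun δf r (pullback.snd ι (a.fiberι t)) x := by
  classical
  set F := (Scheme.Modules.pushforward ι).obj (Coh.structureModule W) with hF
  by_cases hx : δf x = r
  swap
  · rw [Cyc.sheafFun, if_neg hx, Cyc.subschemeFun, if_neg hx]
  rw [Cyc.sheafFun, if_pos hx, length_pullback_preimm (a.fiberι t) F x f
    ((Groth.Agent.S9501.result a t x).2.trans hf)]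
  by_cases hr : a.fiberι t x ∈ Set.range ι
  swap
  · have : Subsingleton (F.presheaf.stalk (a.fiberι t x)) :=
      not_not.mp fun hne => hr (Groth.CohTwo.support_push_subset ι _ hne)
    rw [Module.length_eq_zero]
    refine (by_contra fun hne => hr ?_ : Cyc.subschemeFun δf r (pullback.snd ι (a.fiberι t)) x = 0).symm
    obtain ⟨-, w, hw⟩ := Groth.Calg6.ClosedImmStalk.exists_of_subschemeFun_ne_zero _ _ _ _ hne
    exact ⟨pullback.fst ι (a.fiberι t) w,
      by rw [← Scheme.Hom.comp_apply, pullback.condition, Scheme.Hom.comp_apply, hw]⟩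
  obtain ⟨z, hz⟩ := hr
  obtain ⟨w, hw1, hw2⟩ := Scheme.Pullback.exists_preimage_pullback z x hz
  subst hw2
  rw [Groth.Calg6.ClosedImmStalk.subschemeFun_eq δf r (pullback.snd ι (a.fiberι t)) w, if_pos hx]
  have key : ∀ (p : X) (_ : ι z = p) (f : X.presheaf.stalk p)
      (_ : (maximalIdeal (S.presheaf.stalk (a p))).map (a.stalkMap p).hom = Ideal.span {f}),
      Module.length (X.presheaf.stalk p) (F.presheaf.stalk p ⧸ f • (⊤ : Submodule (X.presheaf.stalk p) (F.presheaf.stalk p))) =
        Module.length (W.presheaf.stalk z) (W.presheaf.stalk z ⧸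
          ((maximalIdeal (S.presheaf.stalk (a (ι z)))).map (a.stalkMap (ι z)).hom).map (ι.stalkMap z).hom) := by
    rintro p rfl f hf
    rw [hf, Ideal.map_span, Set.image_singleton]
    obtain ⟨e, he⟩ := P1C.exists_pushStalk_equiv ι z
    letI : Algebra (X.presheaf.stalk (ι z)) (W.presheaf.stalk z) := (ι.stalkMap z).hom.toAlgebra
    rw [← Module.length_eq_of_surjective (R := W.presheaf.stalk z) (S := X.presheaf.stalk (ι z))
      (M := W.presheaf.stalk z ⧸ Ideal.span {(ι.stalkMap z).hom f})
      (show Function.Surjective (algebraMap (X.presheaf.stalk (ι z)) (W.presheaf.stalk z)) from ι.stalkMap_surjective z)]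
    let el : F.presheaf.stalk (ι z) →ₗ[X.presheaf.stalk (ι z)] W.presheaf.stalk z :=
      { toFun := e, map_add' := fun u v => map_add e u v,
        map_smul' := fun u v => (he u v).trans (Algebra.smul_def u _).symm }
    let π := (Ideal.Quotient.mkₐ (X.presheaf.stalk (ι z)) (Ideal.span {(ι.stalkMap z).hom f})).toLinearMap.comp el
    have hπ : Function.Surjective π := Ideal.Quotient.mk_surjective.comp e.surjective
    refine ((Submodule.quotEquivOfEq _ _ ?_).trans (π.quotKerEquivOfSurjective hπ)).length_eq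
    ext v
    constructor
    · intro hv
      obtain ⟨u, -, rfl⟩ := (Submodule.mem_smul_pointwise_iff_exists _ _ _).mp hv
      show Ideal.Quotient.mk _ (e (f • u)) = 0
      rw [he, Ideal.Quotient.eq_zero_iff_mem]
      exact Ideal.mul_mem_right _ _ (Ideal.subset_span rfl)
    · intro hv
      have hv' : e v ∈ Ideal.span {(ι.stalkMap z).hom f} := Ideal.Quotient.eq_zero_iff_mem.mp hv
      obtain ⟨b, hb⟩ := Ideal.mem_span_singleton'.mp hv'
      obtain ⟨u, hu⟩ := e.surjective b
      refine (Submodule.mem_smul_pointwise_iff_exists _ _ _).mpr ⟨u, trivial, e.injective ?_⟩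
      rw [he, hu, ← hb, mul_comm]
  have hR : Module.length ((pullback ι (a.fiberι t)).presheaf.stalk w) ((pullback ι (a.fiberι t)).presheaf.stalk w) =
      Module.length (W.presheaf.stalk z) (W.presheaf.stalk z ⧸
        ((maximalIdeal (S.presheaf.stalk (a (ι z)))).map (a.stalkMap (ι z)).hom).map (ι.stalkMap z).hom) := by
    subst hw1
    letI := ((pullback.fst ι (a.fiberι t)).stalkMap w).hom.toAlgebra
    rw [← ker_stalkMap_fst_fiber a t ι w,
      ← Module.length_eq_of_surjective (R := (pullback ι (a.fiberι t)).presheaf.stalk w)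
        (S := W.presheaf.stalk (pullback.fst ι (a.fiberι t) w)) (M := (pullback ι (a.fiberι t)).presheaf.stalk w)
        ((pullback.fst ι (a.fiberι t)).stalkMap_surjective w)]
    exact (((Algebra.linearMap (W.presheaf.stalk (pullback.fst ι (a.fiberι t) w))
      ((pullback ι (a.fiberι t)).presheaf.stalk w)).quotKerEquivOfSurjective
        ((pullback.fst ι (a.fiberι t)).stalkMap_surjective w)).length_eq).symm
  rw [hR, key _ hz f hf]

variable {R : Type u} [CommRing R] [IsDomain R] [IsDiscreteValuationRing R]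

theorem nontrivial_pullback_push_mem (a : X ⟶ S) (t : S) (ι : W ⟶ X) [IsClosedImmersion ι] (x : a.fiber t)
    (h : Nontrivial (((Scheme.Modules.pullback (a.fiberι t)).obj
        ((Scheme.Modules.pushforward ι).obj (Coh.structureModule W))).presheaf.stalk x)) :
    a.fiberι t x ∈ Set.range ι := by
  by_contra hn
  have : Subsingleton (((Scheme.Modules.pushforward ι).obj (Coh.structureModule W)).presheaf.stalk (a.fiberι t x)) :=
    not_not.mp fun hne => hn (Groth.CohTwo.support_push_subset ι _ hne)
  let _ := Groth.QCohMod.stalkAlg (a.fiberι t) x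
  have := (Groth.QCohMod.pullStalkEquiv (a.fiberι t) ((Scheme.Modules.pushforward ι).obj (Coh.structureModule W)) x).symm.toEquiv.subsingleton
  exact not_subsingleton_iff_nontrivial.mpr h this

theorem spFun_subscheme (a : X ⟶ Spec (CommRingCat.of R)) [LocallyOfFiniteType a] {δη : ↥(a.fiber (eta R)) → ℤ}
    {δs : ↥(a.fiber (closedPoint R)) → ℤ}
    (hη : Cyc.DeltaCompat (a.fiberToSpecResidueField (eta R)) δη (fun _ => 0))
    (hs : Cyc.DeltaCompat (a.fiberToSpecResidueField (closedPoint R)) δs (fun _ => 0)) (r : ℤ)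
    (ι : W ⟶ X) [IsClosedImmersion ι] [Flat (ι ≫ a)]
    (hdim : ∀ ζ : a.fiber (eta R), a.fiberι (eta R) ζ ∈ Set.range ι → δη ζ ≤ r) :
    (∀ x : a.fiber (closedPoint R), a.fiberι (closedPoint R) x ∈ Set.range ι → δs x ≤ r) ∧
      Cyc.spFun a (eta R) (closedPoint R) δη δs r (Cyc.subschemeFun δη r (pullback.snd ι (a.fiberι (eta R)))) =
        Cyc.subschemeFun δs r (pullback.snd ι (a.fiberι (closedPoint R))) := by
  haveI := LocallyOfFiniteType.isLocallyNoetherian a
  haveI := LocallyOfFiniteType.isLocallyNoetherian ι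
  set F := (Scheme.Modules.pushforward ι).obj (Coh.structureModule W) with hFdef
  have hF : Coh.IsCoh F := isCoh_push_of_isFinite ι Groth.QCohMod.isCoh_unit
  have hflat : FlatMod.IsFlatOver a F := by
    haveI : (Coh.structureModule W).IsQuasicoherent := Groth.QCohMod.isCoh_unit.1
    exact (Groth.Flatmor4.isFlatOver_push_iff (Coh.structureModule W) ι a).mp
      (Groth.FBaseGeom.isFlatOver_structureModule (ι ≫ a))
  obtain ⟨h1, h2⟩ := spFun_sheafFun a hη hs r F hF hflat
    (fun ζ hζ => hdim ζ (nontrivial_pullback_push_mem a _ ι ζ hζ))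
  have e1 : Cyc.sheafFun δη r ((Scheme.Modules.pullback (a.fiberι (eta R))).obj F) =
      Cyc.subschemeFun δη r (pullback.snd ι (a.fiberι (eta R))) := funext fun ζ =>
    sheafFun_pullback_push a _ ι δη r ζ 0
      ((map_maximalIdeal_eta a (Groth.FibreDim.apply_fiberι a _ ζ)).trans (Ideal.span_singleton_eq_bot.mpr rfl).symm)
  have e2 : Cyc.sheafFun δs r ((Scheme.Modules.pullback (a.fiberι (closedPoint R))).obj F) =
      Cyc.subschemeFun δs r (pullback.snd ι (a.fiberι (closedPoint R))) := funext fun x =>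
    sheafFun_pullback_push a _ ι δs r x _ (map_maximalIdeal_closed a (Groth.FibreDim.apply_fiberι a _ x))
  refine ⟨fun x hx => h1 x ?_, by rw [← e1, h2, e2]⟩
  by_contra hn
  have hsub := not_nontrivial_iff_subsingleton.mp hn
  obtain ⟨z, hz⟩ := hx
  have hl := length_pullback_preimm (a.fiberι (closedPoint R)) F x _ (ker_stalkMap_fiberι_closed a x)
  rw [Module.length_eq_zero (R := (a.fiber (closedPoint R)).presheaf.stalk x)] at hl
  have hq := Submodule.Quotient.subsingleton_iff.mp (Module.length_eq_zero_iff.mp hl.symm)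
  have hnt : Nontrivial (F.presheaf.stalk (a.fiberι (closedPoint R) x)) := by
    rw [← hz]
    obtain ⟨e, -⟩ := P1C.exists_pushStalk_equiv ι z
    exact e.toEquiv.nontrivial
  have := finite_stalkModule hF (a.fiberι (closedPoint R) x)
  have hm : piGerm a (a.fiberι (closedPoint R) x) ∈ maximalIdeal (X.presheaf.stalk (a.fiberι (closedPoint R) x)) := by
    refine (IsLocalRing.mem_maximalIdeal _).mpr fun hu => eta_ne_closed R ?_
    exact ((isUnit_piGerm_iff a _).mp hu).symm.trans (Groth.FibreDim.apply_fiberι a _ x)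
  have h0 : (⊤ : Submodule (X.presheaf.stalk (a.fiberι (closedPoint R) x))
      (F.presheaf.stalk (a.fiberι (closedPoint R) x))) = ⊥ :=
    Submodule.eq_bot_of_le_smul_of_le_jacobson_bot _ _ (Module.Finite.fg_top)
      (by
        conv_lhs => rw [← hq]
        rw [← Submodule.ideal_span_singleton_smul]
        exact Submodule.smul_mono_left (Ideal.span_le.mpr (by simpa using hm)))
      (IsLocalRing.maximalIdeal_le_jacobson _)
  exact not_subsingleton_iff_nontrivial.mpr hnt
    ((Submodule.subsingleton_iff _).mp (subsingleton_of_bot_eq_top h0.symm))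

end Groth.CycInter.Dvr
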