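import Groth.Agent.DAlg.TotDevissage
import Groth.Agent.DerivedCoh.RelAmp.Tensor
import Groth.Agent.FrobLCI.KEuler.Chi
import Mathlib.CategoryTheory.Abelian.Projective.Extend
import Mathlib.Algebra.Homology.Embedding.ExtendHomology
import Mathlib.Algebra.Homology.HomotopyCategory.ShiftSequence

/-!
Euler characteristics of derived tensor products of complexes.
-/

universe u

set_option autoImplicit false

open CategoryTheory CategoryTheory.Limits HomologicalComplex MonoidalCategory
open Groth.DerivedCoh Groth.DAlg.KFlatMod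

namespace Groth.CycInter.Euler

local notation "up" => ComplexShape.up ℤ

variable {A : Type u} [CommRing A]

/-- the length of a cohomology module -/
noncomputable def hl (K : DRing.Cx A) (n : ℤ) : ℕ∞ := Module.length A (K.homology n)

/-- the Euler characteristic of a complex -/
noncomputable def eul (K : DRing.Cx A) : ℤ := ∑ᶠ n : ℤ, (n.negOnePow : ℤ) * ((hl K n).toNat : ℤ)

/-- finitely many cohomology modules, all of finite length -/
def Good (K : DRing.Cx A) : Prop := (∀ n, hl K n ≠ ⊤) ∧ {n | hl K n ≠ 0}.Finite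

theorem finite_eul {K : DRing.Cx A} (h : Good K) :
    (Function.support fun n : ℤ => (n.negOnePow : ℤ) * ((hl K n).toNat : ℤ)).Finite :=
  h.2.subset fun n hn e => hn (by simp [e])

theorem congr_hl {K K' : DRing.Cx A} (e : ∀ n, hl K n = hl K' n) (h : Good K) :
    Good K' ∧ eul K' = eul K := by
  refine ⟨⟨fun n => e n ▸ h.1 n, h.2.subset fun n hn => by simpa [e n] using hn⟩, ?_⟩
  simp only [eul, e]

theorem hl_quasiIso {K K' : DRing.Cx A} (φ : K ⟶ K') [QuasiIso φ] (n : ℤ) : hl K n = hl K' n :=
  (isoOfQuasiIsoAt φ n).toLinearEquiv.length_eq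

theorem hl_iso {K K' : DRing.Cx A} (e : K ≅ K') (n : ℤ) : hl K n = hl K' n :=
  ((homologyFunctor _ up n).mapIso e).toLinearEquiv.length_eq

theorem hl_shift (K : DRing.Cx A) (a n : ℤ) : hl (K⟦a⟧) n = hl K (n + a) :=
  ((((homologyFunctor (ModuleCat.{u} A) up 0).shiftIso a n (n + a) (add_comm a n))).app K).toLinearEquiv.length_eq

theorem good_shift {K : DRing.Cx A} (h : Good K) (a : ℤ) :
    Good (K⟦a⟧) ∧ eul (K⟦a⟧) = (a.negOnePow : ℤ) * eul K := by
  refine ⟨⟨fun n => hl_shift K a n ▸ h.1 _,
    (h.2.preimage (f := fun n => n + a) (add_left_injective a).injOn).subset fun n hn => by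
      simpa [hl_shift] using hn⟩, ?_⟩
  simp only [eul, hl_shift]
  rw [mul_finsum, ← finsum_comp_equiv (Equiv.addRight (-a))]
  refine finsum_congr fun n => ?_
  rw [Equiv.coe_addRight, neg_add_cancel_right, Int.negOnePow_add, Int.negOnePow_neg, Units.val_mul]
  ring

theorem hl_eq_zero_of_acyclic {K : DRing.Cx A} (h : K.Acyclic) (n : ℤ) : hl K n = 0 :=
  have := ModuleCat.subsingleton_of_isZero ((h n).isZero_homology)
  Module.length_eq_zero

theorem good_zero {K : DRing.Cx A} (h : ∀ n, hl K n = 0) : Good K ∧ eul K = 0 :=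
  ⟨⟨fun n => by simp [h n], by simp [h]⟩, finsum_eq_zero_of_forall_eq_zero fun n => by simp [h n]⟩

theorem good_shortExact {S : ShortComplex (DRing.Cx A)} (hS : S.ShortExact) (h₁ : Good S.X₁) (h₃ : Good S.X₃) :
    Good S.X₂ ∧ eul S.X₂ = eul S.X₁ + eul S.X₃ := by
  let f : ∀ i, S.X₁.homology i →ₗ[A] S.X₂.homology i := fun i => (homologyMap S.f i).hom
  let g : ∀ i, S.X₂.homology i →ₗ[A] S.X₃.homology i := fun i => (homologyMap S.g i).hom
  let d : ∀ i, S.X₃.homology i →ₗ[A] S.X₁.homology (i + 1) := fun i => (hS.δ i (i + 1) rfl).hom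
  have hY : ∀ i, Function.Exact (f i) (g i) := fun i =>
    (ShortComplex.ShortExact.moduleCat_exact_iff_function_exact _).1 (hS.homology_exact₂ i)
  have hZ : ∀ i, Function.Exact (g i) (d i) := fun i =>
    (ShortComplex.ShortExact.moduleCat_exact_iff_function_exact _).1 (hS.homology_exact₃ i (i + 1) rfl)
  have hX : ∀ i, Function.Exact (d i) (f (i + 1)) := fun i =>
    (ShortComplex.ShortExact.moduleCat_exact_iff_function_exact _).1 (hS.homology_exact₁ i (i + 1) rfl)
  have hsub : ∀ {P : Type u} [AddCommGroup P] [Module A P] (_ : Module.length A P ≠ ⊤)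
      (U : Submodule A P), Module.length A U ≠ ⊤ := fun hP U =>
    ne_top_of_le_ne_top hP (Module.length_le_of_injective U.subtype Subtype.val_injective)
  have hle : ∀ i, hl S.X₂ i ≤ hl S.X₁ i + hl S.X₃ i := fun i => Groth.KEuler.length_le_of_exact₃ (hY i)
  have fY : ∀ i, hl S.X₂ i ≠ ⊤ := fun i =>
    ne_top_of_le_ne_top (by simp [h₁.1 i, h₃.1 i]) (hle i)
  have hfin : {n | hl S.X₂ n ≠ 0}.Finite := (h₁.2.union h₃.2).subset fun n hn => by
    by_contra hne
    simp only [Set.mem_union, Set.mem_setOf_eq, not_or, not_not] at hne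
    have := hle n
    rw [hne.1, hne.2, zero_add] at this
    exact hn (le_antisymm this bot_le)
  refine ⟨⟨fY, hfin⟩, ?_⟩
  let c : ℤ → ℤ := fun i => ((Module.length A (LinearMap.range (d i))).toNat : ℤ)
  have hc : (Function.support c).Finite := h₃.2.subset fun i hi e => hi (by
    have := le_antisymm ((Groth.KEuler.length_range_le (d i)).trans e.le) bot_le
    simp [c, this])
  have hterm : ∀ i, ((hl S.X₂ i).toNat : ℤ) + c i + c (i - 1) = ((hl S.X₁ i).toNat : ℤ) + (hl S.X₃ i).toNat := by
    intro i
    obtain ⟨j, rfl⟩ : ∃ j, i = j + 1 := ⟨i - 1, by omega⟩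
    simp only [add_sub_cancel_right, hl, c]
    rw [Groth.KEuler.length_exact₃ (hY (j + 1)), Groth.KEuler.length_exact₃ (hX j),
      Groth.KEuler.length_exact₃ (hZ (j + 1)),
      ENat.toNat_add (hsub (fY _) _) (hsub (h₃.1 _) _), ENat.toNat_add (hsub (h₁.1 _) _) (hsub (fY _) _),
      ENat.toNat_add (hsub (h₃.1 _) _) (hsub (h₁.1 _) _)]
    push_cast
    ring
  let G : ℤ → ℤ := fun i => (i.negOnePow : ℤ) * c i
  have hG : (Function.support G).Finite := hc.subset fun i hi => right_ne_zero_of_mul hi
  have hG' : (Function.support fun i => G (i - 1)).Finite :=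
    hG.preimage (f := fun i : ℤ => i - 1) (sub_left_injective).injOn
  have e2 : ∀ i, (i.negOnePow : ℤ) * ((hl S.X₂ i).toNat : ℤ) + (G i - G (i - 1)) =
      (i.negOnePow : ℤ) * ((hl S.X₁ i).toNat : ℤ) + (i.negOnePow : ℤ) * ((hl S.X₃ i).toNat : ℤ) := fun i => by
    have hs : ((i - 1).negOnePow : ℤ) = - (i.negOnePow : ℤ) := by
      rw [Int.negOnePow_sub, Int.negOnePow_one]; simp
    simp only [G]
    rw [hs, ← mul_add _ ((hl S.X₁ i).toNat : ℤ), ← hterm i]
    ring
  have hs : ∑ᶠ i, (G i - G (i - 1)) = 0 := by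
    rw [finsum_sub_distrib hG hG', sub_eq_zero]
    exact (finsum_comp_equiv (Equiv.subRight (1 : ℤ)) (f := G)).symm
  have := finsum_congr e2
  rw [finsum_add_distrib (finite_eul ⟨fY, hfin⟩)
    ((hG.union hG').subset fun i hi => by
      by_contra hne
      simp only [Set.mem_union, Function.mem_support, not_or, not_not] at hne
      exact hi (by simp [hne.1, hne.2])),
    finsum_add_distrib (finite_eul h₁) (finite_eul h₃), hs, add_zero] at this
  exact this

variable (L : DRing.Cx A)

/-- tensoring one module with a complex -/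
noncomputable abbrev slice (N : ModuleCat.{u} A) : DRing.Cx A :=
  ((((T A).obj N).mapHomologicalComplex up)).obj L

theorem hl_single (N : ModuleCat.{u} A) (j n : ℤ) :
    hl (KFlat.tot (T A) ((single _ up j).obj N) L) n = hl ((slice L N)⟦-j⟧) n :=
  (hl_iso (Groth.DAlg.TensorSingleLeft.objIso (T A) j L N) n).symm.trans
    (hl_iso ((((((T A).obj N).mapHomologicalComplex up)).commShiftIso (-j)).app L) n)

theorem shortExact_tot (hflat : DRing.TermwiseFlat L) {S : ShortComplex (DRing.Cx A)} (hS : S.ShortExact) :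
    (S.map (KFlat.totL (T A) L)).ShortExact :=
  KFlat.shortExact_totL (T A) L S fun p q =>
    haveI := hflat q
    flat_of_moduleFlat (L.X q) _ (hS.map_of_exact (eval _ up p))

theorem hl_tot_quasiIso (hL : KFlat.IsKFlat (T A) L) {M M' : DRing.Cx A} (φ : M ⟶ M') [QuasiIso φ] (n : ℤ) :
    hl (KFlat.tot (T A) M L) n = hl (KFlat.tot (T A) M' L) n :=
  have := hL.quasiIso_totL φ
  hl_quasiIso ((KFlat.totL (T A) L).map φ) n

/-- A complex with cohomology in a single degree. -/
theorem hl_tot_of_single (hL : KFlat.IsKFlat (T A) L) (M : DRing.Cx A) (b : ℤ)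
    (hM : ∀ j, j ≠ b → IsZero (M.homology j)) (n : ℤ) :
    hl (KFlat.tot (T A) M L) n = hl ((slice L (M.homology b))⟦-b⟧) n := by
  haveI : M.IsGE b := (CochainComplex.isGE_iff M b).2 fun j hj =>
    (M.exactAt_iff_isZero_homology j).2 (hM j (by omega))
  haveI : M.IsLE b := (CochainComplex.isLE_iff M b).2 fun j hj =>
    (M.exactAt_iff_isZero_homology j).2 (hM j (by omega))
  let K := M.truncGE b
  haveI : K.IsStrictlyGE b := inferInstanceAs ((M.truncGE b).IsStrictlyGE b)
  haveI : K.IsLE b := (CochainComplex.isLE_iff K b).2 fun j hj =>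
    (K.exactAt_iff_isZero_homology j).2 ((hM j (by omega)).of_iso (isoOfQuasiIsoAt (M.πTruncGE b) j).symm)
  haveI : (K.truncLE b).IsStrictlyGE b := inferInstance
  obtain ⟨N, ⟨e⟩⟩ := CochainComplex.exists_iso_single (K.truncLE b) b
  have eN : N ≅ M.homology b :=
    (singleObjHomologySelfIso up b N).symm ≪≫ (homologyFunctor _ up b).mapIso e.symm ≪≫
      isoOfQuasiIsoAt (K.ιTruncLE b) b ≪≫ (isoOfQuasiIsoAt (M.πTruncGE b) b).symm
  rw [hl_tot_quasiIso L hL (M.πTruncGE b), ← hl_tot_quasiIso L hL (K.ιTruncLE b)]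
  refine (hl_iso ((KFlat.totL (T A) L).mapIso e) n).trans ((hl_single L N b n).trans ?_)
  exact hl_iso ((shiftFunctor _ (-b)).mapIso
    ((NatIso.mapHomologicalComplex ((T A).mapIso eN) up).app L)) n

/-- The Euler characteristic of a derived tensor product is computed on cohomology modules. -/
theorem good_tot (hL : KFlat.IsKFlat (T A) L) (hflat : DRing.TermwiseFlat L) (s : Finset ℤ) :
    ∀ M : DRing.Cx A, (∀ j ∉ s, IsZero (M.homology j)) → (∀ j, Good (slice L (M.homology j))) →
      Good (KFlat.tot (T A) M L) ∧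
        eul (KFlat.tot (T A) M L) = ∑ j ∈ s, (j.negOnePow : ℤ) * eul (slice L (M.homology j)) := by
  classical
  induction s using Finset.induction_on_max with
  | empty =>
    intro M hM _
    have hac : M.Acyclic := fun j => (M.exactAt_iff_isZero_homology j).2 (hM j (Finset.notMem_empty j))
    simpa using good_zero (hl_eq_zero_of_acyclic (hL M hac))
  | insert b s hlt ih =>
    intro M hM hgood
    let S := M.shortComplexTruncLE (b - 1)
    have hS : S.ShortExact := M.shortComplexTruncLE_shortExact (b - 1)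
    let φ := M.shortComplexTruncLEX₃ToTruncGE (b - 1) b (by omega)
    have hlow : ∀ j, j ≤ b - 1 → Nonempty ((M.truncLE (b - 1)).homology j ≅ M.homology j) := fun j hj =>
      have := M.quasiIsoAt_ιTruncLE (b - 1) j hj
      ⟨isoOfQuasiIsoAt (M.ιTruncLE (b - 1)) j⟩
    have hhigh : ∀ j, b ≤ j → IsZero ((M.truncLE (b - 1)).homology j) := fun j hj =>
      (M.truncLE (b - 1)).isZero_of_isLE (b - 1) j (by omega)
    have h1 := ih (M.truncLE (b - 1)) (fun j hj => by
      by_cases hjb : j ≤ b - 1
      · obtain ⟨e⟩ := hlow j hjb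
        exact (hM j (by simp [hj]; omega)).of_iso e
      · exact hhigh j (by omega)) (fun j => by
      by_cases hjb : j ≤ b - 1
      · obtain ⟨e⟩ := hlow j hjb
        exact (congr_hl (fun i => (hl_iso ((NatIso.mapHomologicalComplex ((T A).mapIso e) up).app L) i).symm)
          (hgood j)).1
      · refine (good_zero (hl_eq_zero_of_acyclic fun i => ExactAt.of_isZero ?_)).1
        exact ((T A).flip.obj _).map_isZero (hhigh j (by omega)))
    have hG : ∀ j, j ≠ b → IsZero ((M.truncGE b).homology j) := fun j hj => by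
      by_cases hjb : b ≤ j
      · have := M.quasiIsoAt_πTruncGE b j hjb
        exact (hM j (by simp [hj]; intro h; have := hlt j h; omega)).of_iso (isoOfQuasiIsoAt (M.πTruncGE b) j).symm
      · exact (M.truncGE b).isZero_of_isGE b j (by omega)
    have e3 : ∀ n, hl ((slice L (M.homology b))⟦-b⟧) n = hl ((S.map (KFlat.totL (T A) L)).X₃) n := fun n => by
      show _ = hl (KFlat.tot (T A) S.X₃ L) n
      rw [hl_tot_quasiIso L hL φ n, hl_tot_of_single L hL _ b hG]
      exact hl_iso ((shiftFunctor _ (-b)).mapIso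
        ((NatIso.mapHomologicalComplex ((T A).mapIso (isoOfQuasiIsoAt (M.πTruncGE b) b)) up).app L)) n
    have h3 := congr_hl e3 (good_shift (hgood b) (-b)).1
    obtain ⟨g2, he⟩ := good_shortExact (shortExact_tot L hflat hS) h1.1 h3.1
    refine ⟨g2, ?_⟩
    refine he.trans ?_
    rw [Finset.sum_insert (fun h => (hlt b h).false), add_comm]
    congr 1
    · rw [h3.2, (good_shift (hgood b) (-b)).2, Int.negOnePow_neg]
    · refine h1.2.trans (Finset.sum_congr rfl fun j hj => ?_)
      obtain ⟨e⟩ := hlow j (by have := hlt j hj; omega)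
      congr 1
      exact (congr_hl (fun i => (hl_iso ((NatIso.mapHomologicalComplex ((T A).mapIso e) up).app L) i).symm)
        (hgood j)).2

open Classical in
/-- An additive functor commutes with extension of complexes along an embedding of shapes. -/
noncomputable def mapExtendIso {C D : Type*} [Category C] [Category D] [Preadditive C] [Preadditive D]
    [HasZeroObject C] [HasZeroObject D] {ι ι' : Type*} {c : ComplexShape ι} {c' : ComplexShape ι'}
    (F : C ⥤ D) [F.Additive] (K : HomologicalComplex C c) (e : c.Embedding c') :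
    (F.mapHomologicalComplex c').obj (K.extend e) ≅ ((F.mapHomologicalComplex c).obj K).extend e :=
  Hom.isoOfComponents (fun n => if h : ∃ i, e.f i = n
      then F.mapIso (K.extendXIso e h.choose_spec) ≪≫
        (((F.mapHomologicalComplex c).obj K).extendXIso e h.choose_spec).symm
      else IsZero.iso (F.map_isZero (K.isZero_extend_X e n (not_exists.mp h)))
        (((F.mapHomologicalComplex c).obj K).isZero_extend_X e n (not_exists.mp h))) fun n m _ => by
    by_cases hm : ∃ i, e.f i = m
    · by_cases hn : ∃ i, e.f i = n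
      · rw [dif_pos hn, dif_pos hm]
        rw [((F.mapHomologicalComplex c).obj K).extend_d_eq e hn.choose_spec hm.choose_spec]
        have hk := K.extend_d_eq e hn.choose_spec hm.choose_spec
        let K' := (F.mapHomologicalComplex c).obj K
        show (F.map (K.extendXIso e hn.choose_spec).hom ≫ (K'.extendXIso e hn.choose_spec).inv) ≫
            (K'.extendXIso e hn.choose_spec).hom ≫ F.map (K.d hn.choose hm.choose) ≫ (K'.extendXIso e hm.choose_spec).inv =
          F.map ((K.extend e).d n m) ≫ F.map (K.extendXIso e hm.choose_spec).hom ≫ (K'.extendXIso e hm.choose_spec).inv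
        erw [Category.assoc, Iso.inv_hom_id_assoc, ← Category.assoc, ← F.map_comp, ← Category.assoc, ← F.map_comp]
        rw [hk, Category.assoc, Category.assoc, Iso.inv_hom_id, Category.comp_id]
      · exact (F.map_isZero (K.isZero_extend_X e n (not_exists.mp hn))).eq_of_src _ _
    · exact (((F.mapHomologicalComplex c).obj K).isZero_extend_X e m (not_exists.mp hm)).eq_of_tgt _ _

/-- A projective resolution as a cochain complex, tensored with a module, computes Tor. -/
theorem nonempty_slice_resolution (U N : ModuleCat.{u} A) (P : ProjectiveResolution U) (i : ℕ) :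
    Nonempty ((slice P.cochainComplex N).homology (-(i : ℤ)) ≃ₗ[A] DRing.Tor A i N U) := by
  let F := (tensoringLeft (ModuleCat.{u} A)).obj N
  let e := ComplexShape.embeddingDownNat
  let K := (F.mapHomologicalComplex (ComplexShape.down ℕ)).obj P.complex
  exact ⟨((homologyFunctor _ up _).mapIso (mapExtendIso F P.complex e) ≪≫
    K.extendHomologyIso e (j := i) (by simp [e]) ≪≫ (P.isoLeftDerivedObj F i).symm).toLinearEquiv⟩

theorem hl_slice_resolution (U N : ModuleCat.{u} A) (P : ProjectiveResolution U) (i : ℕ) :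
    hl (slice P.cochainComplex N) (-(i : ℤ)) = Module.length A (DRing.Tor A i N U) := by
  obtain ⟨e⟩ := nonempty_slice_resolution U N P i
  exact e.length_eq

theorem hl_slice_resolution_pos (U N : ModuleCat.{u} A) (P : ProjectiveResolution U) (n : ℤ) (hn : 0 < n) :
    hl (slice P.cochainComplex N) n = 0 :=
  haveI : Subsingleton ((slice P.cochainComplex N).homology n) := ModuleCat.subsingleton_of_isZero
    (ExactAt.of_isZero (K := slice P.cochainComplex N) (i := n)
      (((T A).obj N).map_isZero (P.cochainComplex.isZero_of_isStrictlyLE 0 n hn))).isZero_homology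
  Module.length_eq_zero

theorem flat_resolution (U : ModuleCat.{u} A) (P : ProjectiveResolution U) :
    DRing.TermwiseFlat P.cochainComplex := fun q =>
  letI hp : Projective (P.cochainComplex.X q) := inferInstance
  haveI : Module.Projective A (P.cochainComplex.X q) := (IsProjective.iff_projective (P.cochainComplex.X q)).2 hp
  Module.Flat.of_projective

theorem isKFlat_resolution (U : ModuleCat.{u} A) (P : ProjectiveResolution U) :
    KFlat.IsKFlat (T A) P.cochainComplex :=
  isKFlatCx_iff.1 (isKFlatCx_of_flat P.cochainComplex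
    (fun i hi => P.cochainComplex.isZero_of_isStrictlyLE 0 i hi) (flat_resolution U P))

end Groth.CycInter.Euler
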