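import Groth.Agent.CycInter.ExtProd
import Groth.Agent.CycInter.ExtTor
import Groth.Agent.S6470
import Groth.Agent.S9501
import Groth.Agent.VarietyBC.Reduced
import Mathlib.AlgebraicGeometry.Geometrically.Integral

/-! Points of products of varieties over an algebraically closed field. -/

set_option linter.style.haveILetI false
universe u

open CategoryTheory CategoryTheory.Limits AlgebraicGeometry IsLocalRing
open Groth.CycleLimits

namespace Groth.CycInter.Ext

variable {K : Type u} [Field K] {P X Y : Scheme.{u}}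

set_option backward.isDefEq.respectTransparency false in
theorem geometricallyIntegral_of_isAlgClosed [IsAlgClosed K] (g : Y ⟶ Spec (CommRingCat.of K)) [IsIntegral Y]
    [LocallyOfFiniteType g] : GeometricallyIntegral g := by
  letI : Y.Over (Spec (CommRingCat.of K)) := ⟨g⟩
  have hirr : GeometricallyIrreducible g := by
    refine Groth.VarietyBC.geometricallyIrreducible_of_sepClosedAt (k := K) (X := Y) fun a ha => ?_
    letI := Curv2.resAlgebra K Y (genericPoint Y)
    exact ⟨_, (minpoly.degree_eq_one_iff.mp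
      (IsAlgClosed.degree_eq_one_of_irreducible K (minpoly.irreducible ha.isIntegral))).choose_spec⟩
  have hred : GeometricallyReduced g := by
    refine (Groth.VarietyBC.geometricallyReduced_iff_forall (k := K) (X := Y)).mpr fun x => ?_
    letI := Curv2.stalkAlgebra K Y x
    exact (Groth.VarietyBC.isGeomReducedAt_iff x).mpr (Groth.VarietyBC.isGeometricallyReduced_of_perfectField _)
  exact GeometricallyIntegral.of_geometricallyReduced_of_geometricallyIrreducible g

variable (f : X ⟶ Spec (CommRingCat.of K)) (g : Y ⟶ Spec (CommRingCat.of K))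
  (px : P ⟶ X) (py : P ⟶ Y) (sq : IsPullback px py f g)

include sq in
theorem isPullback_fibre (x : X) :
    IsPullback (px.fiberι x ≫ py) (px.fiberToSpecResidueField x) g (X.fromSpecResidueField x ≫ f) := by
  have h1 : IsPullback (px.fiberι x) (px.fiberToSpecResidueField x) px (X.fromSpecResidueField x) :=
    IsPullback.of_hasPullback _ _
  exact h1.paste_horiz sq.flip

include sq in
theorem isIntegral_fibre [GeometricallyIntegral g] (x : X) : IsIntegral (px.fiber x) := by
  have : GeometricallyIntegral (px.fiberToSpecResidueField x) :=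
    MorphismProperty.of_isPullback (isPullback_fibre f g px py sq x) ‹GeometricallyIntegral g›
  have : Subsingleton ↥(Spec (X.residueField x)) := inferInstanceAs (Subsingleton (PrimeSpectrum (X.residueField x)))
  exact GeometricallyIntegral.isIntegral_of_subsingleton (px.fiberToSpecResidueField x)

include sq in
theorem isPrime_fibreIdeal [GeometricallyIntegral g] (z : P) : (fibreIdeal px z).IsPrime := by
  obtain ⟨x, hx⟩ : ∃ x, px z = x := ⟨_, rfl⟩
  obtain ⟨t, rfl⟩ : z ∈ Set.range (px.fiberι x) := by rw [Scheme.Hom.range_fiberι]; exact hx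
  have := isIntegral_fibre f g px py sq x
  rw [fibreIdeal, ← (Groth.Agent.S9501.result px x t).2]
  exact RingHom.ker_isPrime _

include sq in
theorem flat_quotient_fibreIdeal (z : P) :
    letI := (py.stalkMap z).hom.toAlgebra
    Module.Flat (Y.presheaf.stalk (py z)) (P.presheaf.stalk z ⧸ fibreIdeal px z) := by
  obtain ⟨x, hx⟩ : ∃ x, px z = x := ⟨_, rfl⟩
  obtain ⟨t, rfl⟩ : z ∈ Set.range (px.fiberι x) := by rw [Scheme.Hom.range_fiberι]; exact hx
  let i := px.fiberι x
  have : Flat (X.fromSpecResidueField x ≫ f) := flat_of_field _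
  have : Flat (i ≫ py) := MorphismProperty.of_isPullback (isPullback_fibre f g px py sq x).flip
    ‹Flat (X.fromSpecResidueField x ≫ f)›
  have hfl : ((py.stalkMap (i t)) ≫ i.stalkMap t).hom.Flat := by
    rw [← Scheme.Hom.stalkMap_comp]; exact Flat.stalkMap _ _
  letI := (py.stalkMap (i t)).hom.toAlgebra
  letI : Algebra (Y.presheaf.stalk (py (i t))) ((px.fiber x).presheaf.stalk t) :=
    ((py.stalkMap (i t)) ≫ i.stalkMap t).hom.toAlgebra
  have : Module.Flat (Y.presheaf.stalk (py (i t))) ((px.fiber x).presheaf.stalk t) := hfl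
  let φ : P.presheaf.stalk (i t) →ₐ[Y.presheaf.stalk (py (i t))] (px.fiber x).presheaf.stalk t :=
    { (i.stalkMap t).hom with commutes' := fun r => rfl }
  have hφ : Function.Surjective φ := i.stalkMap_surjective t
  have hker : RingHom.ker φ.toRingHom = fibreIdeal px (i t) := (Groth.Agent.S9501.result px x t).2
  exact Module.Flat.of_linearEquiv ((Ideal.quotientEquivAlgOfEq _ hker.symm).trans
    (Ideal.quotientKerAlgEquivOfSurjective hφ)).toLinearEquiv

theorem fibreIdeal_le_genPrime {z ξ : P} (h : ξ ⤳ z) (hx : px ξ = px z) :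
    fibreIdeal px z ≤ (Groth.Cycles.genPrime h).asIdeal := by
  rw [fibreIdeal, Ideal.map_le_iff_le_comap]
  intro a ha
  change (P.presheaf.stalkSpecializes h).hom ((px.stalkMap z).hom a) ∈ maximalIdeal _
  rw [← Scheme.Hom.stalkSpecializes_stalkMap_apply]
  have h1 : px z ⤳ px ξ := specializes_of_eq hx.symm
  have e : IsIso (X.presheaf.stalkSpecializes (h.map px.continuous)) :=
    ⟨X.presheaf.stalkSpecializes h1, by simp, by simp⟩
  have : IsLocalHom (X.presheaf.stalkSpecializes (h.map px.continuous)).hom := isLocalHom_of_isIso _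
  exact map_nonunit (px.stalkMap ξ).hom _ (map_nonunit (X.presheaf.stalkSpecializes (h.map px.continuous)).hom a ha)

set_option maxHeartbeats 800000 in
include sq in
/-- Over each point of `X` there is one generalisation generic in its fibre. -/
theorem exists_gen [GeometricallyIntegral g] [IsIntegral Y] [LocallyOfFiniteType f] [LocallyOfFiniteType g]
    {δX : X → ℤ} {δY : Y → ℤ} {δ : P → ℤ}
    (hX : Cyc.DeltaCompat f δX fun _ => 0) (hY : Cyc.DeltaCompat g δY fun _ => 0)
    (hP : Cyc.DeltaCompat (px ≫ f) δ fun _ => 0) (z : P) :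
    ∃ ξ : P, ∃ h : ξ ⤳ z, px ξ = px z ∧ (Groth.Cycles.genPrime h).asIdeal = fibreIdeal px z ∧
      δ ξ = δX (px z) + δY (genericPoint Y) ∧
      Module.length (P.presheaf.stalk ξ) (P.presheaf.stalk ξ ⧸ fibreIdeal px ξ) = 1 ∧
      ∀ w : P, w ⤳ z → px w = px z → IsFibreGeneric px w → w = ξ := by
  obtain ⟨x, hx⟩ : ∃ x, px z = x := ⟨_, rfl⟩
  obtain ⟨t, rfl⟩ : z ∈ Set.range (px.fiberι x) := by rw [Scheme.Hom.range_fiberι]; exact hx
  have := isIntegral_fibre f g px py sq x
  let ξ := px.fiberι x (genericPoint (px.fiber x))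
  have hpx : ∀ u, px (px.fiberι x u) = x := fun u => Groth.FibreDim.apply_fiberι px x u
  have h : ξ ⤳ px.fiberι x t := (genericPoint_specializes t).map (px.fiberι x).continuous
  have hbelow : ∀ w : P, px w = x → ξ ⤳ w := fun w hw => by
    obtain ⟨u, rfl⟩ : w ∈ Set.range (px.fiberι x) := by rw [Scheme.Hom.range_fiberι]; exact hw
    exact (genericPoint_specializes u).map (px.fiberι x).continuous
  have hξgen : IsFibreGeneric px ξ := fun w hw hws =>
    (hws.antisymm (hbelow w (hw.trans (hpx _)))).eq
  have hgen : ∀ z' : P, ∀ h' : ξ ⤳ z', px z' = x →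
      (Groth.Cycles.genPrime h').asIdeal = fibreIdeal px z' := by
    intro z' h' hz'
    refine le_antisymm ?_ (fibreIdeal_le_genPrime px h' ((hpx _).trans hz'.symm))
    have := isPrime_fibreIdeal f g px py sq z'
    let q : PrimeSpectrum (P.presheaf.stalk z') := ⟨fibreIdeal px z', this⟩
    have hqw : px (P.fromSpecStalk z' q) = x := by
      have e : PrimeSpectrum.comap (px.stalkMap z').hom q = closedPoint (X.presheaf.stalk (px z')) :=
        PrimeSpectrum.ext (eq_of_le_of_not_lt (IsLocalRing.le_maximalIdeal (Ideal.IsPrime.ne_top inferInstance))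
          fun hlt => hlt.not_ge (Ideal.map_le_iff_le_comap.1 le_rfl))
      rw [← Scheme.Hom.comp_apply, ← Scheme.SpecMap_stalkMap_fromSpecStalk, Scheme.Hom.comp_apply]
      change X.fromSpecStalk (px z') (PrimeSpectrum.comap (px.stalkMap z').hom q) = x
      rw [e, Scheme.fromSpecStalk_closedPoint, hz']
    have hs := hbelow _ hqw
    rw [← Groth.Cycles.fromSpecStalk_genPrime h'] at hs
    exact (PrimeSpectrum.le_iff_specializes _ q).2 ((P.fromSpecStalk z').isEmbedding.isInducing.specializes_iff.1 hs)
  refine ⟨ξ, h, (hpx _).trans hx.symm, hgen _ h hx, ?_, ?_, fun w hw hwx hwgen => ?_⟩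
  · obtain ⟨v, hv, -⟩ := Scheme.Pullback.exists_preimage_pullback (f := py) (g := 𝟙 Y) ξ (py ξ) rfl
    have hvgen : IsFibreGeneric (pullback.fst py (𝟙 Y) ≫ px) v := fun w hw hs => by
      refine (pullback.fst py (𝟙 Y)).isEmbedding.injective ?_
      rw [hv]
      refine hξgen _ ?_ (hv ▸ hs.map (pullback.fst py (𝟙 Y)).continuous)
      simp only [Scheme.Hom.comp_apply] at hw
      rw [hw, hv]
    have := delta_fibreGeneric f g px py sq hX hY hP (𝟙 Y) v hvgen
    simp only [Scheme.Hom.comp_apply, hv] at this
    rw [show (𝟙 Y : Y ⟶ Y) (genericPoint Y) = genericPoint Y from rfl] at this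
    rw [this, show px ξ = px (px.fiberι x t) from (hpx _).trans hx.symm]
  · have e := hgen ξ specializes_rfl (hpx _)
    have hmax : fibreIdeal px ξ = maximalIdeal (P.presheaf.stalk ξ) := by
      rw [← e]
      exact congrArg PrimeSpectrum.asIdeal ((P.fromSpecStalk ξ).isEmbedding.injective
        ((Groth.Cycles.fromSpecStalk_genPrime _).trans Scheme.fromSpecStalk_closedPoint.symm))
    rw [hmax]
    have : IsSimpleModule (P.presheaf.stalk ξ) (P.presheaf.stalk ξ ⧸ maximalIdeal (P.presheaf.stalk ξ)) :=
      isSimpleModule_iff_isCoatom.2 (Ideal.isMaximal_def.1 (maximalIdeal.isMaximal _))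
    exact Module.length_eq_one _ _
  · exact (hwgen ξ ((hpx _).trans (hwx.trans hx).symm) (hbelow w (hwx.trans hx))).symm

end Groth.CycInter.Ext
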