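import Groth.Agent.CycInter.SectProd
import Groth.Agent.CycInter.Assoc
import Groth.Agent.Misc13.ProjFactor
import Groth.Agent.Cycles.DimFunLft
import Groth.Agent.Misc1.RatMap.RatFunBasic

/-!
Prime cycles on the projective line over a scheme: fibres and products with lifted cycles.
-/

universe u

set_option autoImplicit false
set_option linter.style.haveILetI false

open CategoryTheory CategoryTheory.Limits AlgebraicGeometry IsLocalRing TensorProduct
open Groth.CycInter.P1C Groth.CycInter.SectProd Groth.CycInter.Assoc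

namespace Groth.CycInter.FibreProd

/-- Lengths along a bijective semilinear map whose target only sees scalars from the source. -/
theorem length_eq_of_semilinear {A A' : Type u} [CommRing A] [CommRing A'] (σ : A →+* A') {T : Type u}
    [AddCommGroup T] [Module A T] {T' : Type u} [AddCommGroup T'] [Module A' T'] (φ : T →ₛₗ[σ] T')
    (hφ : Function.Bijective φ) (h : ∀ a' : A', ∃ a : A, ∀ t : T', a' • t = σ a • t) :
    Module.length A T = Module.length A' T' := by
  let up : Submodule A T → Submodule A' T' := fun S =>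
    { carrier := φ '' S
      add_mem' := by
        rintro _ _ ⟨x, hx, rfl⟩ ⟨y, hy, rfl⟩
        exact ⟨x + y, S.add_mem hx hy, map_add φ x y⟩
      zero_mem' := ⟨0, S.zero_mem, map_zero φ⟩
      smul_mem' := by
        rintro c _ ⟨x, hx, rfl⟩
        obtain ⟨a, ha⟩ := h c
        exact ⟨a • x, S.smul_mem a hx, by rw [φ.map_smulₛₗ, ha]⟩ }
  let e : Submodule A T ≃o Submodule A' T' :=
    { toFun := up
      invFun := fun S =>
        { carrier := φ ⁻¹' S
          add_mem' := fun {x y} hx hy => by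
            show φ (x + y) ∈ S
            rw [map_add]; exact S.add_mem hx hy
          zero_mem' := by
            show φ 0 ∈ S
            rw [map_zero]; exact S.zero_mem
          smul_mem' := fun c x hx => by
            show φ (c • x) ∈ S
            rw [φ.map_smulₛₗ]; exact S.smul_mem _ hx }
      left_inv := fun S => SetLike.coe_injective (Set.preimage_image_eq _ hφ.1)
      right_inv := fun S => SetLike.coe_injective (Set.image_preimage_eq _ hφ.2)
      map_rel_iff' := fun {a b} => Set.image_subset_image_iff hφ.1 }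
  apply WithBot.coe_injective
  rw [Module.coe_length, Module.coe_length]
  exact Order.krullDim_eq_of_orderIso e

/-- Tor against a quotient of a flat algebra onto which the base surjects. -/
theorem chi_baseChange {A A' : Type u} [CommRing A] [CommRing A'] [Algebra A A'] [Module.Flat A A']
    (p q : Ideal A) (q' : Ideal A') (hq : q'.comap (algebraMap A A') = q)
    (hsurj : ∀ a' : A', ∃ a : A, a' - algebraMap A A' a ∈ q') :
    IntMult.chi A' (A' ⧸ q') (A' ⧸ p.map (algebraMap A A')) = IntMult.chi A (A ⧸ q) (A ⧸ p) := by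
  have hs : Function.Surjective ((Ideal.Quotient.mkₐ A q').comp (Algebra.ofId A A')) := fun x => by
    obtain ⟨a', rfl⟩ := Ideal.Quotient.mk_surjective x
    obtain ⟨a, ha⟩ := hsurj a'
    exact ⟨a, ((Ideal.Quotient.mk_eq_mk_iff_sub_mem _ _).2 ha).symm⟩
  have hk : RingHom.ker ((Ideal.Quotient.mkₐ A q').comp (Algebra.ofId A A')) = q := by
    ext a
    rw [← hq, RingHom.mem_ker, Ideal.mem_comap]
    exact Ideal.Quotient.eq_zero_iff_mem
  let e : (A ⧸ q) ≃ₗ[A] (A' ⧸ q') := ((Ideal.quotientEquivAlgOfEq A hk.symm).trans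
    (Ideal.quotientKerAlgEquivOfSurjective hs)).toLinearEquiv
  rw [Groth.Calg6.Diag.intMult_chi_symm (S := A'), Groth.Calg6.Diag.intMult_chi_symm (S := A),
    Groth.Calg6.Diag.intMult_chi_congr_left (Algebra.TensorProduct.quotIdealMapEquivTensorQuot A' p).toLinearEquiv,
    Groth.Calg6.Diag.intMult_chi_symm (S := A) (A ⧸ p), Groth.Calg6.Diag.intMult_chi_congr_left e,
    Groth.Calg6.Diag.intMult_chi_symm (S := A) _ (A ⧸ p)]
  refine finsum_congr fun i => ?_
  obtain ⟨φ, hφ⟩ := Groth.HTorLib.tor_baseChange_acyclic (A := A) (A' := A') (A ⧸ p) (A' ⧸ q')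
    (fun j hj => by
      obtain ⟨j, rfl⟩ : ∃ k, j = k + 1 := ⟨j - 1, by omega⟩
      exact Groth.HTorLib.subsingleton_tor_of_flat_right _ A' j) i
  rw [← length_eq_of_semilinear (algebraMap A A') φ hφ fun a' => ?_]
  obtain ⟨a, ha⟩ := hsurj a'
  refine ⟨a, fun t => sub_eq_zero.1 ?_⟩
  rw [← sub_smul]
  refine Module.mem_annihilator.1 (Groth.GrInt.annihilator_sup_le_tor (A := A') (M := A' ⊗[A] (A ⧸ p))
    (N := A' ⧸ q') i (le_sup_right (a := Module.annihilator A' (A' ⊗[A] (A ⧸ p))) ?_)) t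
  rw [Ideal.annihilator_quotient]
  exact ha

theorem comap_genPrime {X Y : Scheme.{u}} (f : X ⟶ Y) {a b : X} (h : a ⤳ b) :
    (Groth.Cycles.genPrime h).asIdeal.comap (f.stalkMap b).hom =
      (Groth.Cycles.genPrime (h.map f.continuous)).asIdeal := by
  ext x
  have e : (f.stalkMap a).hom ((Y.presheaf.stalkSpecializes (h.map f.continuous)).hom x) =
      (X.presheaf.stalkSpecializes h).hom ((f.stalkMap b).hom x) := by
    rw [← CommRingCat.comp_apply, Scheme.Hom.stalkSpecializes_stalkMap, CommRingCat.comp_apply]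
  show (X.presheaf.stalkSpecializes h).hom ((f.stalkMap b).hom x) ∈ maximalIdeal _ ↔
    (Y.presheaf.stalkSpecializes (h.map f.continuous)).hom x ∈ maximalIdeal _
  rw [IsLocalRing.mem_maximalIdeal, IsLocalRing.mem_maximalIdeal, mem_nonunits_iff, mem_nonunits_iff, ← e,
    isUnit_map_iff]

variable {X : Scheme.{u}}

theorem mem_range_toP1 {V : Scheme.{u}} (i : V ⟶ X) (z : CohB1.ProjSpaceOver 1 X) :
    z ∈ Set.range (P1.toP1 i) ↔ CohB1.ProjSpaceOver.toBase 1 X z ∈ Set.range i := by
  constructor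
  · rintro ⟨w, rfl⟩
    refine ⟨CohB1.ProjSpaceOver.toBase 1 V w, ?_⟩
    rw [← Scheme.Hom.comp_apply, ← Scheme.Hom.comp_apply, toP1_toBase]
  · rintro ⟨s, hs⟩
    obtain ⟨q, hq, -⟩ := Scheme.exists_preimage_of_isPullback (isPullback_toP1' i) z s hs.symm
    exact ⟨q, hq⟩

theorem sect_apply_toBase (i : Fin (1 + 1)) (x : X) :
    CohB1.ProjSpaceOver.toBase 1 X (P1.sect X i x) = x := by
  rw [← Scheme.Hom.comp_apply, sect_toBase]; rfl

instance isClosedImmersion_toP1 {V : Scheme.{u}} (i : V ⟶ X) [IsClosedImmersion i] :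
    IsClosedImmersion (P1.toP1 i) :=
  MorphismProperty.of_isPullback (P := @IsClosedImmersion) (isPullback_toP1' i).flip ‹IsClosedImmersion i›

/-- The projective line over an integral scheme is integral. -/
theorem isIntegral_P1 [IsIntegral X] : IsIntegral (CohB1.ProjSpaceOver 1 X) := by
  haveI : ∀ p : CohB1.ProjSpaceOver 1 X, _root_.IsReduced ((CohB1.ProjSpaceOver 1 X).presheaf.stalk p) := fun p =>
    haveI := isDomain_stalk p
    inferInstance
  haveI : IsReduced (CohB1.ProjSpaceOver 1 X) := isReduced_of_isReduced_stalk _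
  set η := P1.sect X 0 (genericPoint X) with hηdef
  have hex : ∀ p : CohB1.ProjSpaceOver 1 X, ∃ (O : Set (CohB1.ProjSpaceOver 1 X)) (g : CohB1.ProjSpaceOver 1 X),
      IsOpen O ∧ p ∈ O ∧ η ∈ O ∧ g ∈ O ∧ ∀ q ∈ O, g ⤳ q := fun p => by
    obtain ⟨U, hU, hpU, -⟩ := exists_isAffineOpen_mem_and_subset (U := (⊤ : X.Opens))
      (x := CohB1.ProjSpaceOver.toBase 1 X p) trivial
    haveI : Nonempty U := ⟨⟨_, hpU⟩⟩
    haveI : IsOpenImmersion hU.fromSpec := hU.isOpenImmersion_fromSpec
    haveI : IsOpenImmersion (P1.toP1 hU.fromSpec) :=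
      MorphismProperty.of_isPullback (P := @IsOpenImmersion) (isPullback_toP1' hU.fromSpec).flip inferInstance
    haveI : IsIntegral (CohB1.ProjSpaceOver 1 (Spec Γ(X, U))) :=
      Groth.Misc15.P1Stalk.isIntegral_projSpaceOver 1 Γ(X, U)
    refine ⟨Set.range (P1.toP1 hU.fromSpec), P1.toP1 hU.fromSpec (genericPoint _),
      (P1.toP1 hU.fromSpec).isOpenEmbedding.isOpen_range, ?_, ?_, ⟨_, rfl⟩, ?_⟩
    · rw [mem_range_toP1, hU.range_fromSpec]; exact hpU
    · rw [mem_range_toP1, hU.range_fromSpec, sect_apply_toBase]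
      exact (genericPoint_specializes _).mem_open U.2 hpU
    · rintro _ ⟨q, rfl⟩
      exact (genericPoint_specializes q).map (P1.toP1 hU.fromSpec).continuous
  obtain ⟨O, g, hO, -, hηO, hgO, hg⟩ := hex η
  haveI : Nonempty (CohB1.ProjSpaceOver 1 X) := ⟨η⟩
  haveI : IrreducibleSpace (CohB1.ProjSpaceOver 1 X) := by
    have hcl : closure ({g} : Set (CohB1.ProjSpaceOver 1 X)) = Set.univ := Set.eq_univ_of_forall fun p => by
      obtain ⟨O', g', hO', hpO', hηO', hgO', hg'⟩ := hex p
      have h1 : g ∈ O' := (hg η hηO).mem_open hO' hηO'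
      have h2 : g' ∈ O := (hg' η hηO').mem_open hO hηO
      have e : g = g' := ((hg g' h2).antisymm (hg' g h1)).eq
      exact specializes_iff_mem_closure.1 (e ▸ hg' p hpO')
    exact { toPreirreducibleSpace := ⟨hcl ▸ isIrreducible_singleton.closure.isPreirreducible⟩
            toNonempty := inferInstance }
  exact isIntegral_of_irreducibleSpace_of_isReduced _

variable {δ : X → ℤ} {δP : ↥(CohB1.ProjSpaceOver 1 X) → ℤ}

theorem isSetup_P1 (hX : Cyc.IsSetup X δ) (hP : Cyc.DeltaCompat (CohB1.ProjSpaceOver.toBase 1 X) δP δ) :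
    Cyc.IsSetup (CohB1.ProjSpaceOver 1 X) δP :=
  haveI := Groth.Variety2.isProper_projSpaceOver_toBase 1 X
  isSetup_of_lft hX _ hP

theorem delta_genericPoint [IsIntegral X] [IrreducibleSpace (CohB1.ProjSpaceOver 1 X)] (hX : Cyc.IsSetup X δ)
    (hP : Cyc.DeltaCompat (CohB1.ProjSpaceOver.toBase 1 X) δP δ) :
    δP (genericPoint (CohB1.ProjSpaceOver 1 X)) = δ (genericPoint X) + 1 := by
  have hPX := isSetup_P1 hX hP
  haveI := hPX.1
  set η := P1.sect X 0 (genericPoint X) with hη
  have hd : δP η = δ (genericPoint X) := delta_sect hP 0 _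
  have hηC : η ∉ C X (oth 0) := (range_sect X 0).le ⟨_, rfl⟩
  have hgs : genericPoint (CohB1.ProjSpaceOver 1 X) ⤳ η := genericPoint_specializes _
  have hne : genericPoint (CohB1.ProjSpaceOver 1 X) ≠ η := fun e => by
    have hs : genericPoint (CohB1.ProjSpaceOver 1 X) ⤳ P1.sect X (oth 0) (genericPoint X) :=
      genericPoint_specializes _
    rw [e] at hs
    have hmem : P1.sect X (oth 0) (genericPoint X) ∉ C X (oth (oth 0)) := (range_sect X (oth 0)).le ⟨_, rfl⟩
    have h2 : P1.sect X (oth 0) (genericPoint X) ∈ C X (oth 0) :=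
      (mem_C_or X _ 0).resolve_left (by rwa [oth_oth] at hmem)
    have h3 := (sect_specializes_iff 0 (P1.sect X (oth 0) (genericPoint X))).1 hs
    exact h3 h2
  have hlt := (hPX.2.2 _ _ hgs hne).1
  have hC : η ∈ C X 0 := (mem_C_or X η 0).resolve_right hηC
  have hmax : maximalIdeal ((CohB1.ProjSpaceOver 1 X).presheaf.stalk η) =
      Ideal.span {((CohB1.ProjSpaceOver 1 X).presheaf.germ (C X 0) η hC).hom (t X 0)} := by
    rw [← (stalkIdeal_sect X 0 η).1 hC, hη, ← genPrime_closedImm (P1.sect X 0) (genericPoint X) (specializes_refl _)]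
    ext a
    show a ∈ maximalIdeal _ ↔ ((CohB1.ProjSpaceOver 1 X).presheaf.stalkSpecializes (specializes_refl _)).hom a ∈ maximalIdeal _
    rw [TopCat.Presheaf.stalkSpecializes_refl]
    rfl
  have hdim : ringKrullDim ((CohB1.ProjSpaceOver 1 X).presheaf.stalk η) ≤ 1 := by
    rw [← IsLocalRing.maximalIdeal_height_eq_ringKrullDim]
    have hmem : maximalIdeal ((CohB1.ProjSpaceOver 1 X).presheaf.stalk η) ∈
        (Ideal.span {((CohB1.ProjSpaceOver 1 X).presheaf.germ (C X 0) η hC).hom (t X 0)}).minimalPrimes :=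
      ⟨⟨(maximalIdeal.isMaximal _).isPrime, hmax.ge⟩, fun q hq _ => hmax.le.trans hq.2⟩
    haveI : (Ideal.span {((CohB1.ProjSpaceOver 1 X).presheaf.germ (C X 0) η hC).hom (t X 0)}).IsPrincipal :=
      ⟨⟨_, rfl⟩⟩
    exact_mod_cast Ideal.height_le_one_of_isPrincipal_of_mem_minimalPrimes _ _ hmem
  have h1 := (Groth.Calg6.ClosedImmStalk.dim_quotient_genPrime hPX.2.2 hgs).ge.trans
    ((ringKrullDim_quotient_le _).trans hdim)
  have h2 : (δP (genericPoint (CohB1.ProjSpaceOver 1 X)) - δP η).toNat ≤ 1 := by exact_mod_cast h1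
  omega

variable [IsIntegral X]

/-- Every point of a fibre of a subvariety is a specialisation of a point of codimension one in it. -/
theorem exists_fibre_pt (hPX : Cyc.IsSetup (CohB1.ProjSpaceOver 1 X) δP) (i : Fin (1 + 1))
    {c z : CohB1.ProjSpaceOver 1 X} (h : c ⤳ z) (hz : z ∉ C X (oth i)) (hc : c ∈ C X (oth i)) :
    ∃ w, c ⤳ w ∧ w ⤳ z ∧ w ∉ C X (oth i) ∧ δP w + 1 = δP c := by
  haveI := hPX.1
  have hne : ∀ w, c ⤳ w → w ∉ C X (oth i) → δP w < δP c := fun w hw hwC =>
    (hPX.2.2 c w hw fun e => hwC (e ▸ hc)).1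
  let S : Set ℤ := {d | ∃ w, c ⤳ w ∧ w ⤳ z ∧ w ∉ C X (oth i) ∧ δP w = d}
  obtain ⟨d, ⟨w, hcw, hwz, hwC, hwd⟩, hmaxd⟩ := Int.exists_greatest_of_bdd (P := fun d => d ∈ S)
    ⟨δP c, fun d hd => by obtain ⟨w, h1, -, h3, rfl⟩ := hd; exact (hne w h1 h3).le⟩
    ⟨δP z, z, h, specializes_refl z, hz, rfl⟩
  refine ⟨w, hcw, hwz, hwC, ?_⟩
  have hlt := hne w hcw hwC
  have hwi : w ∈ C X i := (mem_C_or X w i).resolve_right hwC
  let A := (CohB1.ProjSpaceOver 1 X).presheaf.stalk w
  let a : A := ((CohB1.ProjSpaceOver 1 X).presheaf.germ (C X i) w hwi).hom (t X i)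
  let p := (Groth.Cycles.genPrime hcw).asIdeal
  have ha : ¬ IsUnit a := fun hu => hwC ((isUnit_germ_t_iff X i w hwi).1 hu)
  let m := maximalIdeal (A ⧸ p)
  have hmem : m ∈ (Ideal.span {Ideal.Quotient.mk p a}).minimalPrimes := by
    refine ⟨⟨(maximalIdeal.isMaximal _).isPrime, ?_⟩, fun Q hQ hQm => ?_⟩
    · rw [Ideal.span_le, Set.singleton_subset_iff, SetLike.mem_coe, IsLocalRing.mem_maximalIdeal, mem_nonunits_iff]
      haveI : IsLocalHom (Ideal.Quotient.mk p) := IsLocalHom.of_surjective _ Ideal.Quotient.mk_surjective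
      exact fun hu => ha (isUnit_of_map_unit (Ideal.Quotient.mk p) a hu)
    · haveI := hQ.1
      let P : PrimeSpectrum A := ⟨Q.comap (Ideal.Quotient.mk p), hQ.1.comap _⟩
      have hpP : p ≤ P.asIdeal := fun x hx => by
        show Ideal.Quotient.mk p x ∈ Q
        rw [Ideal.Quotient.eq_zero_iff_mem.mpr hx]; exact Q.zero_mem
      let w' := (CohB1.ProjSpaceOver 1 X).fromSpecStalk w P
      have hw'w : w' ⤳ w := Scheme.range_fromSpecStalk.le ⟨P, rfl⟩
      have hcw' : c ⤳ w' := by
        have := ((PrimeSpectrum.le_iff_specializes (Groth.Cycles.genPrime hcw) P).mp hpP).map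
          ((CohB1.ProjSpaceOver 1 X).fromSpecStalk w).continuous
        rwa [Groth.Cycles.fromSpecStalk_genPrime] at this
      have haP : a ∈ (Groth.Cycles.genPrime hw'w).asIdeal := by
        rw [Groth.Cycles.genPrime_fromSpecStalk P hw'w]
        exact hQ.2 (Ideal.subset_span rfl)
      have hw'C : w' ∉ C X (oth i) := fun hcc => by
        have hu := (isUnit_germ_t_iff X i w' (hw'w.mem_open (C X i).2 hwi)).2 hcc
        rw [← TopCat.Presheaf.germ_stalkSpecializes_apply _ hwi hw'w] at hu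
        exact (IsLocalRing.mem_maximalIdeal _).1 haP hu
      have e : δP w' = δP w := le_antisymm (hwd ▸ hmaxd _ ⟨w', hcw', hw'w.trans hwz, hw'C, rfl⟩)
        (Groth.Cycles.delta_le_of_specializes hPX.2.2 hw'w)
      have ew : w' = w := by
        by_contra hne'
        exact absurd (hPX.2.2 w' w hw'w hne').1 (by omega)
      have hP : P = IsLocalRing.closedPoint A :=
        ((CohB1.ProjSpaceOver 1 X).fromSpecStalk w).isEmbedding.injective
          (ew.trans Scheme.fromSpecStalk_closedPoint.symm)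
      intro x hx
      obtain ⟨y, rfl⟩ := Ideal.Quotient.mk_surjective x
      show y ∈ P.asIdeal
      rw [hP]
      exact (IsLocalRing.mem_maximalIdeal _).2 fun hu =>
        (IsLocalRing.mem_maximalIdeal _).1 hx (hu.map _)
  haveI : (Ideal.span {Ideal.Quotient.mk p a}).IsPrincipal := ⟨⟨_, rfl⟩⟩
  have h1 := Ideal.height_le_one_of_isPrincipal_of_mem_minimalPrimes _ _ hmem
  have h2 : ringKrullDim (A ⧸ p) ≤ 1 := by
    rw [← IsLocalRing.maximalIdeal_height_eq_ringKrullDim]; exact_mod_cast h1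
  rw [Groth.Calg6.ClosedImmStalk.dim_quotient_genPrime hPX.2.2 hcw] at h2
  have h3 : (δP c - δP w).toNat ≤ 1 := by exact_mod_cast h2
  omega

/-- The components of a fibre of a subvariety. -/
theorem exists_component (hX : Cyc.IsSetup X δ) (hPX : Cyc.IsSetup (CohB1.ProjSpaceOver 1 X) δP)
    (hP : Cyc.DeltaCompat (CohB1.ProjSpaceOver.toBase 1 X) δP δ) {W : Scheme.{u}} [IsIntegral W]
    (ι : W ⟶ CohB1.ProjSpaceOver 1 X) [IsClosedImmersion ι] (i : Fin (1 + 1))
    (hc : ι (genericPoint W) ∈ C X (oth i)) (y : X) (hy : ι (genericPoint W) ⤳ P1.sect X i y) (k : ℤ)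
    (hk : δP (ι (genericPoint W)) = k + 1) :
    ∃ x, x ⤳ y ∧ ι (genericPoint W) ⤳ P1.sect X i x ∧ δ x = k ∧
      Cyc.subschemeFun δ k (pullback.snd ι (P1.sect X i)) x ≠ 0 := by
  obtain ⟨w, h1, h2, h3, h4⟩ := exists_fibre_pt hPX i hy ((range_sect X i).le ⟨y, rfl⟩) hc
  obtain ⟨x, rfl⟩ := (range_sect X i).ge h3
  rw [delta_sect hP, hk] at h4
  refine ⟨x, (P1.sect X i).isEmbedding.isInducing.specializes_iff.1 h2, h1, by omega, ?_⟩
  obtain ⟨w', hw'⟩ := h1.mem_closed ι.isClosedEmbedding.isClosed_range ⟨_, rfl⟩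
  obtain ⟨q, -, rfl⟩ := Scheme.Pullback.exists_preimage_pullback (f := ι) (g := P1.sect X i) w' x hw'
  haveI := hX.1
  haveI : IsLocallyNoetherian (pullback ι (P1.sect X i)) :=
    LocallyOfFiniteType.isLocallyNoetherian (pullback.snd ι (P1.sect X i))
  haveI := Groth.Misc1.RatFun.isArtinianRing_stalk_of_isMaxPt (x := q) fun q' hq' =>
    (pullback.snd ι (P1.sect X i)).isClosedEmbedding.injective (by
      refine Groth.Cycles.eq_of_specializes_of_delta_le hX.2.2
        (hq'.map (pullback.snd ι (P1.sect X i)).continuous) ?_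
      have hs : ι (genericPoint W) ⤳ P1.sect X i (pullback.snd ι (P1.sect X i) q') := by
        rw [← Scheme.Hom.comp_apply, ← pullback.condition, Scheme.Hom.comp_apply]
        exact (genericPoint_specializes _).map ι.continuous
      have := (hPX.2.2 _ _ hs fun e => (range_sect X i).le ⟨_, rfl⟩ (e ▸ hc)).1
      rw [delta_sect hP, hk] at this
      omega)
  rw [Groth.Calg6.ClosedImmStalk.subschemeFun_eq, if_pos (by omega)]
  have hfin : Module.length ((pullback ι (P1.sect X i)).presheaf.stalk q)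
      ((pullback ι (P1.sect X i)).presheaf.stalk q) ≠ ⊤ :=
    Module.length_ne_top_iff.mpr (isFiniteLength_iff_isNoetherian_isArtinian.mpr ⟨inferInstance, inferInstance⟩)
  exact_mod_cast fun h0 => (Module.length_pos (R := (pullback ι (P1.sect X i)).presheaf.stalk q)
    (M := (pullback ι (P1.sect X i)).presheaf.stalk q)).ne' ((ENat.toNat_eq_zero.1 h0).resolve_right hfin)

/-- The multiplicity of a component of a fibre. -/
theorem mult_fibre (hPX : Cyc.IsSetup (CohB1.ProjSpaceOver 1 X) δP)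
    (hP : Cyc.DeltaCompat (CohB1.ProjSpaceOver.toBase 1 X) δP δ) {W : Scheme.{u}} [IsIntegral W]
    (ι : W ⟶ CohB1.ProjSpaceOver 1 X) [IsClosedImmersion ι] (i : Fin (1 + 1))
    (hc : ι (genericPoint W) ∈ C X (oth i)) (y : X) (hy : ι (genericPoint W) ⤳ P1.sect X i y) (k : ℤ)
    (hk : δ y = k) :
    IntMult.mult (IntMult.ptIdeal (ι (genericPoint W))) (IntMult.ptIdeal (P1.sect X i (genericPoint X)))
        (P1.sect X i y) = Cyc.subschemeFun δ k (pullback.snd ι (P1.sect X i)) y := by
  haveI := hPX.1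
  have hζC : P1.sect X i y ∉ C X (oth i) := (range_sect X i).le ⟨y, rfl⟩
  have hC : P1.sect X i y ∈ C X i := (mem_C_or X _ i).resolve_right hζC
  obtain ⟨w, hw⟩ := hy.mem_closed ι.isClosedEmbedding.isClosed_range ⟨_, rfl⟩
  obtain ⟨q, -, hq⟩ := Scheme.Pullback.exists_preimage_pullback (f := ι) (g := P1.sect X i) w y hw
  have ha : ((CohB1.ProjSpaceOver 1 X).presheaf.germ (C X i) (P1.sect X i y) hC).hom (t X i) ∉
      (Groth.Cycles.genPrime hy).asIdeal := fun hh => by
    have hu := (isUnit_germ_t_iff X i (ι (genericPoint W)) (hy.mem_open (C X i).2 hC)).2 hc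
    rw [← TopCat.Presheaf.germ_stalkSpecializes_apply _ hC hy] at hu
    exact (IsLocalRing.mem_maximalIdeal _).1 hh hu
  rw [mult_sect hy i hζC hC ha]
  subst hq
  haveI : IsClosedImmersion (pullback.snd ι (P1.sect X i)) := inferInstance
  rw [Groth.Calg6.ClosedImmStalk.subschemeFun_eq (i := pullback.snd ι (P1.sect X i)), if_pos hk, Groth.Calg6.ClosedImmStalk.length_stalk (pullback.snd ι (P1.sect X i))]
  have hker : IntMult.stalkIdeal (pullback.snd ι (P1.sect X i)).ker (pullback.snd ι (P1.sect X i) q) =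
      (Groth.Cycles.genPrime hy).asIdeal.map ((P1.sect X i).stalkMap (pullback.snd ι (P1.sect X i) q)).hom := by
    have h2 : (pullback.snd ι (P1.sect X i)).ker = ι.ker.comap (P1.sect X i) := by
      rw [← pullbackSymmetry_hom_comp_fst, Scheme.Hom.ker_comp_of_isIso,
        Scheme.IdealSheafData.ker_fst_of_isClosedImmersion ι (P1.sect X i)]
    rw [h2, Groth.ParaFormal.stalkIdeal_comap]
    congr 1
    have key : ∀ (z : CohB1.ProjSpaceOver 1 X) (h : ι (genericPoint W) ⤳ z),
        (Groth.Cycles.genPrime h).asIdeal = IntMult.stalkIdeal ι.ker z := fun z h => by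
      obtain ⟨w', rfl⟩ := h.mem_closed ι.isClosedEmbedding.isClosed_range ⟨_, rfl⟩
      exact genPrime_closedImm ι w' h
    exact (key _ hy).symm
  congr 2
  rw [hker]
  set p := (Groth.Cycles.genPrime hy).asIdeal with hp
  set ψ := ((P1.sect X i).stalkMap (pullback.snd ι (P1.sect X i) q)).hom with hψ
  have hψs : Function.Surjective ψ := (P1.sect X i).stalkMap_surjective _
  have hψk : RingHom.ker ψ = Ideal.span {((CohB1.ProjSpaceOver 1 X).presheaf.germ (C X i) _ hC).hom (t X i)} := by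
    rw [hψ, Groth.Calg6.ClosedImmStalk.ker_stalkMap_eq, (stalkIdeal_sect X i _).1 hC]
  letI := ψ.toAlgebra
  have hs' : Function.Surjective ((Ideal.Quotient.mkₐ _ (p.map ψ)).comp
      (Algebra.ofId ((CohB1.ProjSpaceOver 1 X).presheaf.stalk _) (X.presheaf.stalk (pullback.snd ι (P1.sect X i) q)))) :=
    Ideal.Quotient.mk_surjective.comp hψs
  have hk' : RingHom.ker ((Ideal.Quotient.mkₐ _ (p.map ψ)).comp
      (Algebra.ofId ((CohB1.ProjSpaceOver 1 X).presheaf.stalk _) (X.presheaf.stalk (pullback.snd ι (P1.sect X i) q)))) =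
      p ⊔ Ideal.span {((CohB1.ProjSpaceOver 1 X).presheaf.germ (C X i) _ hC).hom (t X i)} := by
    rw [← hψk, show p ⊔ RingHom.ker ψ = (p.map ψ).comap ψ from (Ideal.comap_map_of_surjective ψ hψs p).symm]
    ext a
    rw [RingHom.mem_ker, Ideal.mem_comap]
    exact Ideal.Quotient.eq_zero_iff_mem
  rw [← Module.length_eq_of_surjective (R := X.presheaf.stalk (pullback.snd ι (P1.sect X i) q))
    (S := (CohB1.ProjSpaceOver 1 X).presheaf.stalk _)
    (M := X.presheaf.stalk (pullback.snd ι (P1.sect X i) q) ⧸ p.map ψ) hψs]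
  exact ((Ideal.quotientEquivAlgOfEq _ hk'.symm).trans (Ideal.quotientKerAlgEquivOfSurjective hs')).toLinearEquiv.length_eq

/-- The multiplicity of a lifted subvariety and a point of a section. -/
theorem mult_lift {V : Scheme.{u}} [IsIntegral V] [IrreducibleSpace (CohB1.ProjSpaceOver 1 V)] (j : V ⟶ X)
    [IsClosedImmersion j] (i : Fin (1 + 1)) (y η : X) (hv : j (genericPoint V) ⤳ y) (hη : η ⤳ y) :
    IntMult.mult (IntMult.ptIdeal (P1.toP1 j (genericPoint (CohB1.ProjSpaceOver 1 V))))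
        (IntMult.ptIdeal (P1.sect X i η)) (P1.sect X i y) =
      IntMult.mult (IntMult.ptIdeal (j (genericPoint V))) (IntMult.ptIdeal η) y := by
  haveI := isIntegral_P1 (X := V)
  obtain ⟨y₀, hy₀⟩ := hv.mem_closed j.isClosedEmbedding.isClosed_range ⟨_, rfl⟩
  set π := CohB1.ProjSpaceOver.toBase 1 X with hπdef
  set z := P1.sect X i y with hzdef
  have hπy : π z = y := sect_apply_toBase i y
  obtain ⟨q₀, hq₀⟩ : z ∈ Set.range (P1.toP1 j) := (mem_range_toP1 j z).2 (hπy.symm ▸ ⟨y₀, hy₀⟩)
  have hv' : P1.toP1 j (genericPoint (CohB1.ProjSpaceOver 1 V)) ⤳ z :=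
    hq₀ ▸ (genericPoint_specializes q₀).map (P1.toP1 j).continuous
  have hη' : P1.sect X i η ⤳ z := hη.map (P1.sect X i).continuous
  have hvz : j (genericPoint V) ⤳ π z := hπy.symm ▸ hv
  haveI : Smooth π := Groth.Misc13.ProjFactor.smooth_projSpaceOver_toBase 1 X
  letI := (π.stalkMap z).hom.toAlgebra
  haveI : Module.Flat (X.presheaf.stalk (π z)) ((CohB1.ProjSpaceOver 1 X).presheaf.stalk z) := Flat.stalkMap π z
  have hp' : (Groth.Cycles.genPrime hv').asIdeal =
      (Groth.Cycles.genPrime hvz).asIdeal.map (π.stalkMap z).hom := by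
    have h1 : (Groth.Cycles.genPrime hvz).asIdeal = IntMult.stalkIdeal j.ker (π z) := by
      revert hvz
      rw [hπy, ← hy₀]
      exact fun hvz => genPrime_closedImm j y₀ hvz
    have h2 : (P1.toP1 j).ker = j.ker.comap π := by
      rw [← Scheme.IdealSheafData.ker_fst_of_isClosedImmersion, ← (isPullback_toP1' j).isoPullback_hom_fst,
        Scheme.Hom.ker_comp_of_isIso]
    rw [h1, ← Groth.ParaFormal.stalkIdeal_comap, ← h2]
    revert hv'
    rw [← hq₀]
    exact fun hv' => genPrime_closedImm (P1.toP1 j) q₀ hv'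
  have hq : (Groth.Cycles.genPrime hη').asIdeal.comap (π.stalkMap z).hom =
      IntMult.stalkIdeal (IntMult.ptIdeal η) (π z) := by
    rw [comap_genPrime π hη', ← Groth.Agent.S6470.stalkIdeal_ptIdeal, hπdef, sect_apply_toBase, sect_apply_toBase]
  have hsurj : ∀ a' : (CohB1.ProjSpaceOver 1 X).presheaf.stalk z, ∃ a : X.presheaf.stalk (π z),
      a' - algebraMap _ _ a ∈ (Groth.Cycles.genPrime hη').asIdeal := fun a' => by
    haveI : IsIso (P1.sect X i ≫ π) := by rw [hπdef, sect_toBase]; infer_instance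
    have hc : Function.Surjective ((P1.sect X i ≫ π).stalkMap y) :=
      (ConcreteCategory.bijective_of_isIso _).2
    rw [Scheme.Hom.stalkMap_comp] at hc
    obtain ⟨a, ha⟩ := hc (((P1.sect X i).stalkMap y).hom a')
    refine ⟨a, ?_⟩
    have hle : RingHom.ker ((P1.sect X i).stalkMap y).hom ≤ (Groth.Cycles.genPrime hη').asIdeal := fun x hx => by
      show ((CohB1.ProjSpaceOver 1 X).presheaf.stalkSpecializes hη').hom x ∈ maximalIdeal _
      have e : ((P1.sect X i).stalkMap η).hom (((CohB1.ProjSpaceOver 1 X).presheaf.stalkSpecializes hη').hom x) =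
          (X.presheaf.stalkSpecializes hη).hom (((P1.sect X i).stalkMap y).hom x) := by
        rw [← CommRingCat.comp_apply, Scheme.Hom.stalkSpecializes_stalkMap, CommRingCat.comp_apply]
      rw [RingHom.mem_ker.1 hx, map_zero] at e
      rw [IsLocalRing.mem_maximalIdeal, mem_nonunits_iff]
      exact fun hu => not_isUnit_zero (e ▸ hu.map ((P1.sect X i).stalkMap η).hom)
    refine hle (RingHom.mem_ker.2 ?_)
    rw [map_sub, sub_eq_zero]
    exact ha.symm
  conv_rhs => rw [← hπy]
  rw [IntMult.mult, IntMult.mult, Groth.Agent.S6470.stalkIdeal_ptIdeal hv',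
    Groth.Agent.S6470.stalkIdeal_ptIdeal hη', hp', Groth.Agent.S6470.stalkIdeal_ptIdeal hvz]
  exact chi_baseChange _ _ _ hq hsurj

/-- Products with a lifted subvariety of cycles supported on a section. -/
theorem interProd_lift {V : Scheme.{u}} [IsIntegral V] [IrreducibleSpace (CohB1.ProjSpaceOver 1 V)] (j : V ⟶ X)
    [IsClosedImmersion j] (hX : Cyc.IsSetup X δ) (hP : Cyc.DeltaCompat (CohB1.ProjSpaceOver.toBase 1 X) δP δ)
    (i : Fin (1 + 1)) (n : ℤ) (β : ↥(CohB1.ProjSpaceOver 1 X) → ℤ) (hβ : ∀ p, p ∈ C X (oth i) → β p = 0) :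
    (∀ y, IntMult.interProd δP (n + 1)
        (Set.indicator {P1.toP1 j (genericPoint (CohB1.ProjSpaceOver 1 V))} 1) β (P1.sect X i y) =
      IntMult.interProd δ n (Set.indicator {j (genericPoint V)} 1) (fun x => β (P1.sect X i x)) y) ∧
    (∀ p, p ∈ C X (oth i) → IntMult.interProd δP (n + 1)
        (Set.indicator {P1.toP1 j (genericPoint (CohB1.ProjSpaceOver 1 V))} 1) β p = 0) := by
  classical
  have hdv : δP (P1.toP1 j (genericPoint (CohB1.ProjSpaceOver 1 V))) = δ (j (genericPoint V)) + 1 :=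
    delta_genericPoint (δP := fun q => δP (P1.toP1 j q)) (δ := fun v => δ (j v))
      (Groth.Cycles.isSetup_closedImmersion j hX)
      (Groth.Cycles.deltaCompat_restrict _ hP (P1.toP1 j) j (CohB1.ProjSpaceOver.toBase 1 V)
        (toP1_toBase j).symm)
  refine ⟨fun y => ?_, fun p hp => ?_⟩
  · rw [interProd_single, interProd_single]
    set F : ↥(CohB1.ProjSpaceOver 1 X) → ℤ := fun η => β η *
      if P1.toP1 j (genericPoint (CohB1.ProjSpaceOver 1 V)) ⤳ P1.sect X i y ∧ η ⤳ P1.sect X i y ∧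
          δP (P1.toP1 j (genericPoint (CohB1.ProjSpaceOver 1 V))) + δP η - (n + 1) = δP (P1.sect X i y) then
        IntMult.mult (IntMult.ptIdeal (P1.toP1 j (genericPoint (CohB1.ProjSpaceOver 1 V)))) (IntMult.ptIdeal η)
          (P1.sect X i y) else 0 with hF
    trans ∑ᶠ η ∈ Set.range (P1.sect X i), F η
    · refine finsum_congr fun η => ?_
      rw [finsum_eq_if]
      by_cases hr : η ∈ Set.range (P1.sect X i)
      · rw [if_pos hr, hF]
      · rw [if_neg hr]; show β η * _ = 0; rw [hβ η (by_contra fun hh => hr ((range_sect X i).ge hh)), zero_mul]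
    rw [finsum_mem_range (P1.sect X i).isEmbedding.injective]
    refine finsum_congr fun η => ?_
    rw [hF]
    simp only
    have hiff : P1.toP1 j (genericPoint (CohB1.ProjSpaceOver 1 V)) ⤳ P1.sect X i y ↔ j (genericPoint V) ⤳ y := by
      constructor
      · intro h
        have := h.map (CohB1.ProjSpaceOver.toBase 1 X).continuous
        rw [sect_apply_toBase, ← Scheme.Hom.comp_apply, toP1_toBase, Scheme.Hom.comp_apply] at this
        exact ((genericPoint_specializes _).map j.continuous).trans this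
      · intro h
        obtain ⟨q, hq⟩ := (mem_range_toP1 j (P1.sect X i y)).2 (by
          rw [sect_apply_toBase]; exact h.mem_closed j.isClosedEmbedding.isClosed_range ⟨_, rfl⟩)
        exact hq ▸ (genericPoint_specializes q).map (P1.toP1 j).continuous
    simp only [hdv, delta_sect hP, hiff, (P1.sect X i).isEmbedding.isInducing.specializes_iff]
    congr 1
    refine if_ctx_congr ⟨fun h => ⟨h.1, h.2.1, by omega⟩, fun h => ⟨h.1, h.2.1, by omega⟩⟩ (fun h => ?_) fun _ => rfl
    exact mult_lift j i y η h.1 h.2.1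
  · rw [interProd_single]
    refine finsum_eq_zero_of_forall_eq_zero fun η => ?_
    split_ifs with h
    · rw [hβ η (h.2.1.mem_open (C X (oth i)).2 hp), zero_mul]
    · rw [mul_zero]

/-- Pushing forward a cycle supported on a section. -/
theorem map_sect_supported (hP : Cyc.DeltaCompat (CohB1.ProjSpaceOver.toBase 1 X) δP δ)
    [QuasiCompact (CohB1.ProjSpaceOver.toBase 1 X)] (i : Fin (1 + 1))
    (γ : AlgebraicCycle (CohB1.ProjSpaceOver 1 X) ℤ) (hγ : ∀ p, p ∈ C X (oth i) → γ p = 0) (y : X) :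
    AlgebraicCycle.map (CohB1.ProjSpaceOver.toBase 1 X) δP δ γ y = γ (P1.sect X i y) := by
  classical
  haveI : IsPreimmersion (P1.sect X i ≫ CohB1.ProjSpaceOver.toBase 1 X) := by
    rw [sect_toBase]; infer_instance
  obtain ⟨hd, hr⟩ := delta_eq_of_closedImm_comp (CohB1.ProjSpaceOver.toBase 1 X) hP (P1.sect X i) y
  rw [Groth.Cycles.map_apply_eq_sum _ δP δ γ y {P1.sect X i y} (fun p hp hne => ?_), Finset.sum_singleton,
    if_pos (sect_apply_toBase i y), AlgebraicCycle.mapCoeff, if_pos hd, hr, Nat.cast_one, mul_one]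
  obtain ⟨x, rfl⟩ := (range_sect X i).ge (show p ∉ C X (oth i) from fun h => hne (hγ p h))
  rw [sect_apply_toBase] at hp
  rw [Finset.mem_singleton, hp]

end Groth.CycInter.FibreProd
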