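import Groth.Agent.CycInter.PullFib

/-!
The Gysin map of the zero scheme of a section of an invertible module, on cycles.
-/

universe u

set_option autoImplicit false

open CategoryTheory AlgebraicGeometry IsLocalRing
open Groth.RefRank Groth.QCohMod Groth.Cycles

namespace Groth.CycInter

variable {X : Scheme.{u}} {δ : X → ℤ} {L N : X.Modules}

/-- The value of a global section in the fibre. -/
noncomputable def sbar (L : X.Modules) (s : L.presheaf.obj (Opposite.op ⊤)) (x : X) : Cyc.secFibre L x :=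
  fmk ((L.presheaf.germ ⊤ x trivial) s)

/-- The vanishing locus of a global section. -/
def zeroLocus (L : X.Modules) (s : L.presheaf.obj (Opposite.op ⊤)) : Set X := {x | sbar L s x = 0}

variable {s : L.presheaf.obj (Opposite.op ⊤)}

theorem gysinChoice_ne_zero {w : (ξ : X) → Cyc.secFibre L ξ} (hw : ∀ ξ, w ξ ≠ 0) (ξ : X) :
    Cyc.gysinChoice L s w ξ ≠ 0 := by
  classical
  rw [Cyc.gysinChoice]
  split_ifs with h
  exacts [h, hw ξ]

theorem gysinChoice_of_notMem (w : (ξ : X) → Cyc.secFibre L ξ) {ξ : X} (hξ : ξ ∉ zeroLocus L s) :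
    Cyc.gysinChoice L s w ξ = sbar L s ξ := if_pos hξ

theorem gysinChoice_of_mem (w : (ξ : X) → Cyc.secFibre L ξ) {ξ : X} (hξ : ξ ∈ zeroLocus L s) :
    Cyc.gysinChoice L s w ξ = w ξ := if_neg (not_not.mpr hξ)

theorem isStalkBasis_germ_of_notMem (hL : PicF.IsInvertible L) {x : X} (hx : x ∉ zeroLocus L s) :
    IsStalkBasis L x ((L.presheaf.germ ⊤ x trivial) s) := by
  obtain ⟨f, hf⟩ := (bas_spec hL x).2 ((L.presheaf.germ ⊤ x trivial) s)
  have hu : IsUnit f := by
    by_contra h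
    refine hx ?_
    show sbar L s x = 0
    rw [sbar, Submodule.Quotient.mk_eq_zero, ← hf]
    exact Submodule.smul_mem_smul ((mem_maximalIdeal f).mpr h) Submodule.mem_top
  rw [← hf]
  exact isStalkBasis_smul (bas_spec hL x) hu

theorem mspec_germ_top {x y : X} (h : y ⤳ x) :
    mspec L h ((L.presheaf.germ ⊤ x trivial) s) = (L.presheaf.germ ⊤ y trivial) s :=
  mspec_germ L h (U := ⊤) trivial s

theorem mem_zeroLocus_of_specializes (hL : PicF.IsInvertible L) {x y : X} (h : y ⤳ x)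
    (hy : y ∈ zeroLocus L s) : x ∈ zeroLocus L s := by
  by_contra hx
  have hb := isStalkBasis_mspec hL h (isStalkBasis_germ_of_notMem hL hx)
  rw [mspec_germ_top] at hb
  have h1 := coef_fmk hb
  rw [show fmk _ = sbar L s y from rfl, show sbar L s y = (0 : X.presheaf.stalk y) • fmk _ from
    (show sbar L s y = 0 from hy).trans (zero_smul _ (fmk ((L.presheaf.germ ⊤ y trivial) s))).symm,
    coef_smul hb, map_zero] at h1
  exact zero_ne_one h1

theorem coef_gysinChoice (hL : PicF.IsInvertible L) (w : (ξ : X) → Cyc.secFibre L ξ) {ξ : X}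
    (hξ : ξ ∉ zeroLocus L s) :
    coef L ξ ((L.presheaf.germ ⊤ ξ trivial) s) (Cyc.gysinChoice L s w ξ) = 1 := by
  rw [gysinChoice_of_notMem w hξ]
  exact coef_fmk (isStalkBasis_germ_of_notMem hL hξ)

theorem ratCoef_gysinChoice (hL : PicF.IsInvertible L) (w : (ξ : X) → Cyc.secFibre L ξ) {ξ x : X}
    (h : ξ ⤳ x) (hx : x ∉ zeroLocus L s) :
    ratCoef h ((L.presheaf.germ ⊤ x trivial) s) (Cyc.gysinChoice L s w ξ) = 1 := by
  rw [ratCoef, mspec_germ_top]
  exact coef_gysinChoice hL w fun hξ => hx (mem_zeroLocus_of_specializes hL h hξ)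

theorem secDivFun_gysinChoice_of_notMem (hX : Cyc.IsSetup X δ) (hL : PicF.IsInvertible L)
    {w : (ξ : X) → Cyc.secFibre L ξ} (hw : ∀ ξ, w ξ ≠ 0) (ξ : X) {x : X} (hx : x ∉ zeroLocus L s) :
    Cyc.secDivFun δ L ξ (Cyc.gysinChoice L s w ξ) x = 0 := by
  by_cases h : ξ ⤳ x
  swap
  · exact secDivFun_of_not_specializes _ h
  rw [secDivFun_eq hX hL h (specializes_refl x) (isStalkBasis_germ_of_notMem hL hx) (gysinChoice_ne_zero hw ξ),
    ratCoef_gysinChoice hL w _ hx, divFun_one hX]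

theorem c1CapFun_gysin_of_notMem (hX : Cyc.IsSetup X δ) (hL : PicF.IsInvertible L) (F : X → ℤ)
    {w : (ξ : X) → Cyc.secFibre L ξ} (hw : ∀ ξ, w ξ ≠ 0) {x : X} (hx : x ∉ zeroLocus L s) :
    Cyc.c1CapFun δ L F (Cyc.gysinChoice L s w) x = 0 :=
  finsum_eq_zero_of_forall_eq_zero fun ξ =>
    mul_eq_zero_of_right _ (secDivFun_gysinChoice_of_notMem hX hL hw ξ hx)

theorem symb_one_left (hX : Cyc.IsSetup X δ) {ξ : X} {g : X.residueField ξ} (hg : g ≠ 0) (x : X) :
    symb δ hX ξ 1 g x = 1 := by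
  have h := symb_mul_left hX (f := (1 : X.residueField ξ)) (f' := 1) one_ne_zero one_ne_zero hg (x := x)
  rw [one_mul] at h
  exact (mul_eq_left₀ (symb_ne_zero hX one_ne_zero hg x)).mp h.symm

theorem symb_one_right (hX : Cyc.IsSetup X δ) {ξ : X} {f : X.residueField ξ} (hf : f ≠ 0) (x : X) :
    symb δ hX ξ f 1 x = 1 := by
  have h := symb_mul_right hX (g := (1 : X.residueField ξ)) (g' := 1) hf one_ne_zero one_ne_zero (x := x)
  rw [one_mul] at h
  exact (mul_eq_left₀ (symb_ne_zero hX hf one_ne_zero x)).mp h.symm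

/-- Away from the zero locus the correction function is trivial (first factor). -/
theorem commFun_eq_one_left (hX : Cyc.IsSetup X δ) (hL : PicF.IsInvertible L) (hN : PicF.IsInvertible N)
    {w : (ξ : X) → Cyc.secFibre L ξ} (hw : ∀ ξ, w ξ ≠ 0) {ξ : X} {t : Cyc.secFibre N ξ} (ht : t ≠ 0)
    (u : (x : X) → Cyc.secFibre N x) {x : X} (hx : x ∉ zeroLocus L s) :
    commFun hX hL hN ξ (Cyc.gysinChoice L s w ξ) t u (Cyc.gysinChoice L s w) x = 1 := by
  by_cases h : IsDivPt δ ξ x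
  swap
  · exact dif_neg h
  rw [commFun_eq hX hL hN (gysinChoice_ne_zero hw ξ) ht h (isStalkBasis_germ_of_notMem hL hx)
    (bas_spec hN x), ratCoef_gysinChoice hL w h.1 hx, coef_gysinChoice hL w hx,
    symb_one_left hX (ratCoef_ne_zero hN h.1 (bas_spec hN x) ht), ordAt_one hX h, zpow_zero, one_mul,
    one_mul, one_zpow]

/-- Away from the zero locus the correction function is trivial (second factor). -/
theorem commFun_eq_one_right (hX : Cyc.IsSetup X δ) (hL : PicF.IsInvertible L) (hN : PicF.IsInvertible N)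
    {w : (ξ : X) → Cyc.secFibre L ξ} (hw : ∀ ξ, w ξ ≠ 0) {ξ : X} {t : Cyc.secFibre N ξ} (ht : t ≠ 0)
    (v : (x : X) → Cyc.secFibre N x) {x : X} (hx : x ∉ zeroLocus L s) :
    commFun hX hN hL ξ t (Cyc.gysinChoice L s w ξ) (Cyc.gysinChoice L s w) v x = 1 := by
  by_cases h : IsDivPt δ ξ x
  swap
  · exact dif_neg h
  rw [commFun_eq hX hN hL ht (gysinChoice_ne_zero hw ξ) h (bas_spec hN x)
    (isStalkBasis_germ_of_notMem hL hx), ratCoef_gysinChoice hL w h.1 hx, coef_gysinChoice hL w hx,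
    symb_one_right hX (ratCoef_ne_zero hN h.1 (bas_spec hN x) ht), ordAt_one hX h, neg_zero, zpow_zero,
    one_zpow, one_mul, one_mul]

variable {M : X.Modules}

theorem secDivFun_sub (hX : Cyc.IsSetup X δ) (hM : PicF.IsInvertible M) {ξ : X} {a b : Cyc.secFibre M ξ}
    (ha : a ≠ 0) (hb : b ≠ 0) (z : X) :
    Cyc.secDivFun δ M ξ a z - Cyc.secDivFun δ M ξ b z =
      Cyc.divFun δ ξ (coef M ξ (bas hM ξ) a / coef M ξ (bas hM ξ) b) z := by
  by_cases h : ξ ⤳ z
  swap
  · rw [secDivFun_of_not_specializes _ h, secDivFun_of_not_specializes _ h, divFun_of_not_specializes _ h,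
      sub_zero]
  have ht := bas_spec hM z
  have h' := h.trans (specializes_refl z)
  have hA := ratCoef_ne_zero hM h' ht ha
  have hB := ratCoef_ne_zero hM h' ht hb
  rw [secDivFun_eq hX hM h (specializes_refl z) ht ha, secDivFun_eq hX hM h (specializes_refl z) ht hb]
  obtain ⟨μ, hμ, hμl⟩ := exists_unit_of_basis (bas_spec hM ξ) (isStalkBasis_mspec hM h' ht).span_eq_top
  have ea := coef_smul_left (bas_spec hM ξ) hμ a
  have eb := coef_smul_left (bas_spec hM ξ) hμ b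
  rw [← hμl] at ea eb
  rw [ea, eb, mul_div_mul_right _ _ (hμ.map (X.residue ξ).hom).ne_zero]
  set A := ratCoef h' (bas hM z) a
  set B := ratCoef h' (bas hM z) b
  show Cyc.divFun δ ξ A z - Cyc.divFun δ ξ B z = Cyc.divFun δ ξ (A / B) z
  have h5 := divFun_mul (δ := δ) hX (div_ne_zero hA hB) hB z
  rw [div_mul_cancel₀ _ hB] at h5
  omega

theorem finite_term (F : X → ℤ) (hfin : ∀ V : X.Opens, IsAffineOpen V → ((V : Set X) ∩ Function.support F).Finite)
    (v : (ξ : X) → Cyc.secFibre M ξ) (z : X) :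
    (Function.support fun ξ => F ξ * Cyc.secDivFun δ M ξ (v ξ) z).Finite := by
  obtain ⟨_, ⟨V, hV, rfl⟩, hzV, -⟩ :=
    X.isBasis_affineOpens.exists_subset_of_mem_open (Set.mem_univ z) isOpen_univ
  refine (hfin V hV).subset fun ξ hξ => ⟨?_, left_ne_zero_of_mul hξ⟩
  have h : ξ ⤳ z := by_contra fun h => hξ (mul_eq_zero_of_right _ (secDivFun_of_not_specializes _ h))
  exact h.mem_open V.2 hzV

/-- Changing the rational sections changes the cap product by principal divisors. -/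
theorem c1CapFun_sections (hX : Cyc.IsSetup X δ) (hM : PicF.IsInvertible M) {k : ℤ} {Z : Set X}
    (F : X → ℤ) (hfin : ∀ V : X.Opens, IsAffineOpen V → ((V : Set X) ∩ Function.support F).Finite)
    (hF : ∀ ξ, F ξ ≠ 0 → δ ξ = k + 1) {a b : (ξ : X) → Cyc.secFibre M ξ} (ha : ∀ ξ, a ξ ≠ 0)
    (hb : ∀ ξ, b ξ ≠ 0)
    (hab : ∀ ξ, F ξ ≠ 0 → ξ ∉ Z → ∀ z, Cyc.secDivFun δ M ξ (a ξ) z = Cyc.secDivFun δ M ξ (b ξ) z) :
    RatZeroOn δ k Z fun z => Cyc.c1CapFun δ M F a z - Cyc.c1CapFun δ M F b z := by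
  classical
  let G : X → ℤ := fun ξ => if ξ ∈ Z then F ξ else 0
  have hG : ∀ ξ, G ξ ≠ 0 → F ξ ≠ 0 ∧ ξ ∈ Z := fun ξ h => by
    by_cases h' : ξ ∈ Z
    · exact ⟨fun e => h (by simp only [G, if_pos h', e]), h'⟩
    · exact absurd (if_neg h') h
  refine (ratZeroOn_of_points hX G (fun V hV => (hfin V hV).subset fun ξ h => ⟨h.1, (hG ξ h.2).1⟩)
    (fun ξ h => hF ξ (hG ξ h).1) (fun ξ => coef M ξ (bas hM ξ) (a ξ) / coef M ξ (bas hM ξ) (b ξ))
    (fun ξ => div_ne_zero (coef_ne_zero (bas_spec hM ξ) (ha ξ)) (coef_ne_zero (bas_spec hM ξ) (hb ξ)))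
    fun ξ h _ => (hG ξ h).2).congr fun z => ?_
  rw [Cyc.c1CapFun, Cyc.c1CapFun, ← finsum_sub_distrib (finite_term F hfin a z) (finite_term F hfin b z)]
  refine finsum_congr fun ξ => ?_
  rw [← mul_sub, ← secDivFun_sub hX hM (ha ξ) (hb ξ) z]
  by_cases h : ξ ∈ Z
  · simp only [G, if_pos h]
  · simp only [G, if_neg h, zero_mul]
    by_cases h' : F ξ = 0
    · rw [h', zero_mul]
    · rw [hab ξ h' h, sub_self, mul_zero]

theorem exists_finsum_term_ne_zero {ι : Type u} {f : ι → ℤ} (h : ∑ᶠ i, f i ≠ 0) : ∃ i, f i ≠ 0 := by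
  by_contra! hn
  exact h (finsum_eq_zero_of_forall_eq_zero hn)

theorem finite_cycle (α : AlgebraicCycle X ℤ) (V : X.Opens) (hV : IsAffineOpen V) :
    ((V : Set X) ∩ Function.support ⇑α).Finite :=
  α.locallyFiniteSupport.finite_inter_support_of_isCompact hV.isCompact

theorem finite_c1CapFun (hX : Cyc.IsSetup X δ) (hM : PicF.IsInvertible M) (F : X → ℤ)
    (hfin : ∀ V : X.Opens, IsAffineOpen V → ((V : Set X) ∩ Function.support F).Finite)
    {v : (ξ : X) → Cyc.secFibre M ξ} (hv : ∀ ξ, v ξ ≠ 0) (V : X.Opens) (hV : IsAffineOpen V) :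
    ((V : Set X) ∩ Function.support (Cyc.c1CapFun δ M F v)).Finite := by
  choose D hD using fun ξ => exists_cycle_secDivFun hX hM ξ (hv ξ)
  refine ((hfin V hV).biUnion fun ξ _ => finite_cycle (D ξ) V hV).subset ?_
  rintro x ⟨hxV, hx⟩
  obtain ⟨ξ, hξ⟩ := exists_finsum_term_ne_zero hx
  have hξx : ξ ⤳ x := by_contra fun h => hξ (mul_eq_zero_of_right _ (secDivFun_of_not_specializes _ h))
  exact Set.mem_biUnion (x := ξ) ⟨hξx.mem_open V.2 hxV, left_ne_zero_of_mul hξ⟩
    ⟨hxV, by show D ξ x ≠ 0; rw [hD ξ]; exact right_ne_zero_of_mul hξ⟩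

theorem delta_of_c1CapFun_ne_zero {k : ℤ} {F : X → ℤ} (hF : ∀ ξ, F ξ ≠ 0 → δ ξ = k + 1)
    (v : (ξ : X) → Cyc.secFibre M ξ) {x : X} (hx : Cyc.c1CapFun δ M F v x ≠ 0) : δ x = k := by
  obtain ⟨ξ, hξ⟩ := exists_finsum_term_ne_zero hx
  have h1 := hF ξ (left_ne_zero_of_mul hξ)
  have h2 := right_ne_zero_of_mul hξ
  rw [Cyc.secDivFun] at h2
  split_ifs at h2 with h
  · have := h.2; omega
  · exact absurd rfl h2

variable {D : Scheme.{u}} (i : D ⟶ X) [IsClosedImmersion i]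

/-- Capping with the inverse image agrees with capping on the ambient scheme for functions supported
on the closed subscheme. -/
theorem c1CapFun_closedImm (hX : Cyc.IsSetup X δ) (hM : PicF.IsInvertible M) (F : X → ℤ)
    (hsupp : ∀ x, x ∉ Set.range i → F x = 0) (v : (ξ : X) → Cyc.secFibre M ξ) (hv : ∀ ξ, v ξ ≠ 0) (d : D) :
    Cyc.c1CapFun (fun d => δ (i d)) ((Scheme.Modules.pullback i).obj M) (fun d => F (i d))
      (fun e => pullFib i hM e (v (i e))) d = Cyc.c1CapFun δ M F v (i d) := by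
  rw [Cyc.c1CapFun, Cyc.c1CapFun, finsum_closedImm i _ fun x hx => by rw [hsupp x hx, zero_mul]]
  exact finsum_congr fun e => by rw [secDivFun_pullFib i hX hM (hv (i e))]

end Groth.CycInter
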