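import Groth.Agent.CycInter.SheafGysin
import Groth.Agent.Cycles.PullFib
import Groth.Agent.KTheory.ClosureSheaf
import Groth.Agent.RefRank.Stalk
import Groth.Agent.QCohMod.PullbackQCoh

/-!
The Gysin map of a relative effective Cartier divisor and flat pullback.
-/

universe u

set_option autoImplicit false

open CategoryTheory AlgebraicGeometry IsLocalRing
open Groth.RefRank Groth.QCohMod
open scoped TensorProduct

namespace Groth.CycInter

variable {X Y D : Scheme.{u}}

theorem length_stalk_congr {M N : X.Modules} (e : M ≅ N) (x : X) :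
    Module.length (X.presheaf.stalk x) (M.presheaf.stalk x) =
      Module.length (X.presheaf.stalk x) (N.presheaf.stalk x) :=
  (LinearEquiv.ofBijective (RefHull.stalkMapₗ e.hom x)
    ((isIso_iff_bijective_stalk e.hom).mp inferInstance x)).length_eq

theorem sheafFun_congr {δ : X → ℤ} {M N : X.Modules} (e : M ≅ N) (k : ℤ) :
    Cyc.sheafFun δ k M = Cyc.sheafFun δ k N := by
  funext x
  rw [Cyc.sheafFun, Cyc.sheafFun, length_stalk_congr e x]

theorem sheafFun_closure [DecidableEq X] {δ : X → ℤ} (hX : Cyc.IsSetup X δ) {η : X} {n : ℤ} (hη : δ η = n) (y : X) :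
    Cyc.sheafFun δ n (Cyc.closureStructureSheaf η) y = if y = η then 1 else 0 := by
  have := hX.1
  by_cases hy : y = η
  · subst hy
    rw [if_pos rfl, Cyc.sheafFun, if_pos hη, Groth.KTheory.Devissage.length_closureStructureSheaf]
    rfl
  rw [if_neg hy, Cyc.sheafFun]
  split_ifs with hd
  · have : Subsingleton ((Cyc.closureStructureSheaf η).presheaf.stalk y) := by
      by_contra h
      have hs : η ⤳ y := specializes_iff_mem_closure.mpr
        (Groth.KTheory.Devissage.support_closureStructureSheaf_subset η h)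
      exact hy (Groth.Cycles.eq_of_specializes_of_delta_le hX.2.2 hs (by omega)).symm
    rw [Module.length_eq_zero]
    rfl
  · rfl

theorem delta_le_of_nontrivial_closure {δ : X → ℤ} (hX : Cyc.IsSetup X δ) {η y : X}
    (hy : Nontrivial ((Cyc.closureStructureSheaf η).presheaf.stalk y)) : δ y ≤ δ η := by
  have := hX.1
  exact Groth.Cycles.delta_le_of_specializes hX.2.2 (specializes_iff_mem_closure.mpr
    (Groth.KTheory.Devissage.support_closureStructureSheaf_subset η (not_subsingleton_iff_nontrivial.mpr hy)))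

/-- An equation of a relatively flat divisor stays a nonzerodivisor after base change. -/
theorem injective_smul_pullback {L : X.Modules} (hL : PicF.IsInvertible L) {s : L.presheaf.obj (Opposite.op ⊤)}
    {i : D ⟶ X} [IsClosedImmersion i] (hD : Cyc.IsZeroSchemeOf i L s) (p : X ⟶ Y) [Flat p] [Flat (i ≫ p)]
    (hreg : ∀ x : X, Function.Injective (fun a : X.presheaf.stalk x => a • (L.presheaf.germ ⊤ x trivial) s))
    (G : Y.Modules) (x : X) (t : L.presheaf.stalk x) (f : X.presheaf.stalk x)
    (ht : Submodule.span (X.presheaf.stalk x) {t} = ⊤) (hf : (L.presheaf.germ ⊤ x trivial) s = f • t) :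
    Function.Injective (fun m : ((Scheme.Modules.pullback p).obj G).presheaf.stalk x => f • m) := by
  obtain ⟨μ, hμ, hμt⟩ := Groth.Cycles.exists_unit_of_basis (Groth.Cycles.bas_spec hL x) ht
  have htb : IsStalkBasis L x t := by rw [hμt]; exact Groth.Cycles.isStalkBasis_smul (Groth.Cycles.bas_spec hL x) hμ
  by_cases hxZ : x ∈ zeroLocus L s
  swap
  · have hb := isStalkBasis_germ_of_notMem hL hxZ
    obtain ⟨a, ha, hat⟩ := Groth.Cycles.exists_unit_of_basis htb hb.span_eq_top
    have : f = a := htb.1 (hf.symm.trans hat)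
    subst this
    exact fun m n h => ha.smul_left_cancel.mp h
  obtain ⟨d, rfl⟩ : x ∈ Set.range i := (range_eq_zeroLocus hD).ge hxZ
  obtain ⟨t', f', ht', hf', hker⟩ := hD.2 d
  obtain ⟨a, ha, hat⟩ := Groth.Cycles.exists_unit_of_basis htb ht'
  have hff : f = f' * a := htb.1 <| by
    show f • t = (f' * a) • t
    rw [← hf, hf', hat, mul_smul]
  have hker' : RingHom.ker (i.stalkMap d).hom = Ideal.span {f} := by
    rw [hker, hff, Ideal.span_singleton_mul_right_unit ha]
  let _ := stalkAlg p (i d)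
  let _ : Algebra (Y.presheaf.stalk (p (i d))) (D.presheaf.stalk d) :=
    (((i ≫ p).stalkMap d).hom).toAlgebra
  have : Module.Flat (Y.presheaf.stalk (p (i d))) (D.presheaf.stalk d) := Flat.stalkMap (i ≫ p) d
  let π : X.presheaf.stalk (i d) →ₗ[Y.presheaf.stalk (p (i d))] D.presheaf.stalk d :=
    { toFun := (i.stalkMap d).hom
      map_add' := map_add _
      map_smul' := fun r a => by
        show (i.stalkMap d).hom ((p.stalkMap (i d)).hom r * a) = ((i ≫ p).stalkMap d).hom r * (i.stalkMap d).hom a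
        rw [map_mul, Scheme.Hom.stalkMap_comp]
        rfl }
  let g : X.presheaf.stalk (i d) →ₗ[Y.presheaf.stalk (p (i d))] X.presheaf.stalk (i d) :=
    LinearMap.mulLeft _ f
  have hg : Function.Injective g := fun a b hab => hreg (i d) (by
    show a • _ = b • _
    rw [hf, smul_smul, smul_smul, mul_comm a, mul_comm b]
    exact congrArg (· • t) hab)
  have hex : Function.Exact g π := by
    intro a
    show (i.stalkMap d).hom a = 0 ↔ a ∈ Set.range g
    rw [← RingHom.mem_ker, hker', Ideal.mem_span_singleton']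
    exact ⟨fun ⟨c, hc⟩ => ⟨c, (mul_comm f c).trans hc⟩, fun ⟨c, hc⟩ => ⟨c, (mul_comm c f).trans hc⟩⟩
  have hinj := (LinearMap.lTensor_inj_iff_rTensor_inj (G.presheaf.stalk (p (i d))) g).mp
    (LinearMap.lTensor_injective_of_exact_of_flat π (i.stalkMap_surjective d) g hg hex
      (G.presheaf.stalk (p (i d))))
  have hmul : ∀ z, g.rTensor (G.presheaf.stalk (p (i d))) z = f • z := by
    intro z
    induction z using TensorProduct.induction_on with
    | zero => rw [map_zero, smul_zero]
    | tmul a m => rw [LinearMap.rTensor_tmul, TensorProduct.smul_tmul']; rfl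
    | add z w hz hw => rw [map_add, hz, hw, smul_add]
  intro m n h
  obtain ⟨m, rfl⟩ := (pullStalkEquiv p G (i d)).surjective m
  obtain ⟨n, rfl⟩ := (pullStalkEquiv p G (i d)).surjective n
  dsimp only at h
  rw [← map_smul, ← map_smul, ← hmul, ← hmul] at h
  rw [hinj ((pullStalkEquiv p G (i d)).injective h)]

theorem isCoh_pullback_obj (p : X ⟶ Y) [IsLocallyNoetherian X] {G : Y.Modules} (hG : Coh.IsCoh G) :
    Coh.IsCoh ((Scheme.Modules.pullback p).obj G) := by
  have := hG.1
  exact ⟨isQCoh_pullback_obj p G, isFT_pullback p G hG.2⟩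

/-- The Gysin map of a relative effective Cartier divisor applied to a flat pullback. -/
theorem gysin_pullFun (p : X ⟶ Y) [Flat p] {δX : X → ℤ} {δY : Y → ℤ} (hX : Cyc.IsSetup X δX)
    (hY : Cyc.IsSetup Y δY) (c : ℤ) (hc : ∀ x, Groth.CycleLimits.IsFibreGeneric p x → δX x = δY (p x) + c)
    {L : X.Modules} (hL : PicF.IsInvertible L) {s : L.presheaf.obj (Opposite.op ⊤)}
    (hreg : ∀ x : X, Function.Injective (fun a : X.presheaf.stalk x => a • (L.presheaf.germ ⊤ x trivial) s))
    (i : D ⟶ X) [IsClosedImmersion i] (hD : Cyc.IsZeroSchemeOf i L s) [Flat (i ≫ p)]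
    (hcD : ∀ d, Groth.CycleLimits.IsFibreGeneric (i ≫ p) d → δX (i d) = δY ((i ≫ p) d) + (c - 1))
    (k : ℤ) (α : AlgebraicCycle Y ℤ) (hα : α ∈ Cyc.Zk Y δY (k + 1)) {w : (ξ : X) → Cyc.secFibre L ξ}
    (hw : ∀ ξ, w ξ ≠ 0) (d : D) :
    Cyc.c1CapFun δX L (Cyc.pullFun p δX δY c ⇑α) (Cyc.gysinChoice L s w) (i d) =
      Cyc.pullFun (i ≫ p) (fun d => δX (i d)) δY (c - 1) ⇑α d := by
  classical
  have := hX.1
  have := hY.1
  have := (isSetup_sub i hX).1
  obtain ⟨_, ⟨V, hV, rfl⟩, hyV, -⟩ :=
    Y.isBasis_affineOpens.exists_subset_of_mem_open (Set.mem_univ (p (i d))) isOpen_univ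
  obtain ⟨_, ⟨W, hW, rfl⟩, hxW, -⟩ :=
    X.isBasis_affineOpens.exists_subset_of_mem_open (Set.mem_univ (i d)) isOpen_univ
  set T := (α.locallyFiniteSupport.finite_inter_support_of_isCompact hV.isCompact).toFinset
  let P : Y → X → ℤ := fun η => Cyc.pullFun p δX δY c fun y => if y = η then 1 else 0
  have hsingle : ∀ (η : Y), ∃ β : AlgebraicCycle X ℤ, ⇑β = P η := fun η => by
    obtain ⟨β, hβ⟩ := Groth.Cycles.exists_pullCycle δX δY hX hY p c hc
      (Function.locallyFinsuppWithin.single η (1 : ℤ))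
    refine ⟨β, hβ.trans ?_⟩
    show Cyc.pullFun p δX δY c _ = Cyc.pullFun p δX δY c _
    congr 1
    funext y
    rw [Function.locallyFinsuppWithin.single_apply]
  choose B hB using hsingle
  set S := (T.finite_toSet.biUnion fun η _ =>
    (B η).locallyFiniteSupport.finite_inter_support_of_isCompact hW.isCompact).toFinset
  have hterm : ∀ η, η ⤳ p (i d) → α η ≠ 0 → η ∈ T := fun η h h0 =>
    (Set.Finite.mem_toFinset _).mpr ⟨h.mem_open V.2 hyV, h0⟩
  have hlinX : Cyc.c1CapFun δX L (Cyc.pullFun p δX δY c ⇑α) (Cyc.gysinChoice L s w) (i d) =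
      ∑ η ∈ T, α η * Cyc.c1CapFun δX L (P η) (Cyc.gysinChoice L s w) (i d) := by
    refine Groth.Cycles.c1CapFun_sum (fun η => α η) P _ _ (i d) (fun x hx => ?_) T (fun η x hx hne => ?_) S
      fun η hη x hx hne => (Set.Finite.mem_toFinset _).mpr
        (Set.mem_biUnion hη ⟨hx.mem_open W.2 hxW, by show B η x ≠ 0; rwa [hB η]⟩)
    · rw [Groth.Cycles.pullFun_eq_mult, finsum_eq_single _ (p x) fun η hη => by
        simp only [P, Groth.Cycles.pullFun_eq_mult, if_neg (Ne.symm hη), zero_mul, mul_zero]]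
      simp only [P, Groth.Cycles.pullFun_eq_mult, if_true, one_mul]
    · have hpx : p x = η := by_contra fun h => hne (by
        simp only [P, Groth.Cycles.pullFun_eq_mult, if_neg h, zero_mul, mul_zero])
      exact hterm η (hpx ▸ hx.map p.continuous) (left_ne_zero_of_mul hne)
  have hlinD : Cyc.pullFun (i ≫ p) (fun d => δX (i d)) δY (c - 1) ⇑α d =
      ∑ η ∈ T, α η * Cyc.pullFun (i ≫ p) (fun d => δX (i d)) δY (c - 1) (fun y => if y = η then 1 else 0) d := by
    simp only [Groth.Cycles.pullFun_eq_mult (i ≫ p)]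
    rw [Finset.sum_congr rfl fun η _ => by rw [← mul_assoc, mul_ite, mul_one, mul_zero], ← Finset.sum_mul,
      Finset.sum_ite_eq]
    split_ifs with h
    · rfl
    · rw [show α ((i ≫ p) d) = 0 from by_contra fun h0 => h (hterm _ specializes_rfl h0)]
  rw [hlinX, hlinD]
  refine Finset.sum_congr rfl fun η hη => ?_
  congr 1
  have hηk : δY η = k + 1 := by
    have := ((Set.Finite.mem_toFinset _).mp hη).2
    exact by_contra fun h => this (hα η h)
  set G := Cyc.closureStructureSheaf η
  have hG : Coh.IsCoh G := Groth.KTheory.Devissage.isCoh_closureStructureSheaf η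
  have hGdim : ∀ y : Y, Nontrivial (G.presheaf.stalk y) → δY y ≤ k + 1 := fun y hy =>
    hηk ▸ delta_le_of_nontrivial_closure hY hy
  have hind : (fun y => if y = η then (1 : ℤ) else 0) = Cyc.sheafFun δY (k + 1) G :=
    funext fun y => (sheafFun_closure hY hηk y).symm
  obtain ⟨hFdim, hF⟩ := Groth.Cycles.pullFun_sheafFun_eq p hX.2.2 c hc (k + 1) G hGdim
  obtain ⟨-, hE⟩ := Groth.Cycles.pullFun_sheafFun_eq (i ≫ p) (isSetup_sub i hX).2.2 (c - 1) hcD (k + 1) G hGdim
  simp only [P, hind]
  rw [hF, hE, show k + 1 + c = k + c + 1 by ring, show k + 1 + (c - 1) = k + c by ring,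
    gysin_sheaf_eq hX hL s i hD (k + c) (isCoh_pullback_obj p hG)
      (fun x hx => by have := hFdim x hx; omega) (injective_smul_pullback hL hD p hreg G) hw d]
  exact congrFun (sheafFun_congr ((Scheme.Modules.pullbackComp i p).app G) (k + c)) d

end Groth.CycInter
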