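import Groth.Agent.CycleLimits.Generic
import Groth.Agent.CycleLimits.Stages
import Groth.Agent.Cycles.Excision
import Groth.Agent.Cycles.PullFib
import Groth.Agent.Cycles.PullComp
import Groth.Agent.Cycles.FlatFam
import Groth.Agent.S6496

/-!
Rational equivalence to zero descends from a limit of schemes to a stage.
-/

universe u

set_option autoImplicit false

open CategoryTheory CategoryTheory.Limits AlgebraicGeometry
open Groth.CycleLimits Groth.Cycles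

namespace Groth.CycInter.Lim

variable {I : Type u} [Category.{u} I] {D : I ⥤ Scheme.{u}} {c : Cone D}

/-- An element of the residue field at a point of the limit comes from the residue field at some stage. -/
theorem exists_residue_lift [IsCofiltered I] [∀ {i j : I} (f : i ⟶ j), IsAffineHom (D.map f)] (hc : IsLimit c)
    (i : I) (z : c.pt) (g : c.pt.residueField z) :
    ∃ (j : I) (_ : j ⟶ i), g ∈ Set.range ⇑((c.π.app j).residueFieldMap z).hom := by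
  obtain ⟨_, ⟨U, hU, rfl⟩, hzU, -⟩ :=
    (D.obj i).isBasis_affineOpens.exists_subset_of_mem_open (Set.mem_univ (c.π.app i z)) isOpen_univ
  have hW : IsAffineOpen (c.π.app i ⁻¹ᵁ U) := by
    have := isAffineHom_π_app D c hc i
    exact hU.preimage _
  have hzW : z ∈ c.π.app i ⁻¹ᵁ U := hzU
  let _ : Algebra Γ(((Functor.const I).obj c.pt).obj i, c.π.app i ⁻¹ᵁ U) (c.pt.presheaf.stalk z) :=
    c.pt.presheaf.algebra_section_stalk ⟨z, hzW⟩
  have hloc : IsLocalization.AtPrime (c.pt.presheaf.stalk z) (hW.primeIdealOf ⟨z, hzW⟩).asIdeal :=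
    hW.isLocalization_stalk ⟨z, hzW⟩
  obtain ⟨s, rfl⟩ := c.pt.residue_surjective z g
  obtain ⟨⟨a, b⟩, hab⟩ := IsLocalization.surj (hW.primeIdealOf ⟨z, hzW⟩).asIdeal.primeCompl s
  have hb := IsLocalization.map_units (c.pt.presheaf.stalk z) b
  obtain ⟨j₁, f₁, a', ha⟩ := exists_toLim_eq U hc hU a
  obtain ⟨j₂, f₂, b', hb'⟩ := exists_toLim_eq U hc hU b.1
  obtain ⟨j, g₁, g₂, e⟩ := IsCofiltered.cospan f₁ f₂
  have lift : ∀ {j₀ : I} (f₀ : j₀ ⟶ i) (g₀ : j ⟶ j₀) (_ : g₀ ≫ f₀ = g₁ ≫ f₁) (t : Γ(D.obj j₀, D.map f₀ ⁻¹ᵁ U)),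
      c.pt.residue z (c.pt.presheaf.germ _ z hzW (toLim c U f₀ t)) ∈
        Set.range ⇑((c.π.app j).residueFieldMap z).hom := by
    intro j₀ f₀ g₀ _ t
    rw [← toStage_toLim U f₀ g₀, CommRingCat.comp_apply]
    generalize toStage U f₀ g₀ t = t'
    have hz' : c.π.app j z ∈ D.map (g₀ ≫ f₀) ⁻¹ᵁ U := le_preimage_π c U (g₀ ≫ f₀) hzW
    refine ⟨(D.obj j).residue _ ((D.obj j).presheaf.germ _ _ hz' t'), ?_⟩
    rw [← CommRingCat.comp_apply, ← CommRingCat.comp_apply, Scheme.residue_residueFieldMap,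
      ← CommRingCat.comp_apply, Scheme.Hom.germ_stalkMap_assoc]
    simp [toLim, Scheme.Hom.appLE]
  refine ⟨j, g₁ ≫ f₁, ?_⟩
  obtain ⟨x, hx⟩ := lift f₁ g₁ rfl a'
  obtain ⟨y, hy⟩ := lift f₂ g₂ e.symm b'
  rw [ha] at hx
  rw [hb'] at hy
  refine ⟨x / y, ?_⟩
  rw [map_div₀, hx, hy]
  exact (div_eq_iff (hb.map (c.pt.residue z).hom).ne_zero).mpr
    ((congrArg (c.pt.residue z).hom hab).symm.trans (map_mul _ _ _))

theorem range_residueFieldMap_mono {X Y Z : Scheme.{u}} (p : X ⟶ Y) (h : Y ⟶ Z) (q : X ⟶ Z) (e : p ≫ h = q) (z : X) :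
    Set.range ⇑(q.residueFieldMap z).hom ⊆ Set.range ⇑(p.residueFieldMap z).hom := by
  subst e
  rintro _ ⟨y, rfl⟩
  exact ⟨(h.residueFieldMap (p z)).hom y, (Groth.Cycles.residueFieldMap_comp_apply p h z y).symm⟩

theorem fibreIdeal_mono {X Y Z : Scheme.{u}} (p : X ⟶ Y) (h : Y ⟶ Z) (q : X ⟶ Z) (e : p ≫ h = q) (z : X) :
    fibreIdeal q z ≤ fibreIdeal p z := by
  subst e
  rw [fibreIdeal, Scheme.Hom.stalkMap_comp]
  erw [CommRingCat.hom_comp, ← Ideal.map_map]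
  exact Ideal.map_mono (IsLocalRing.le_maximalIdeal (fibreIdeal_ne_top h _))

/-- The pullback of the principal divisor at the only point over its support. -/
theorem pullFun_divFun_of_cut {X Y : Scheme.{u}} (f : X ⟶ Y) [Flat f] (δX : X → ℤ) (δY : Y → ℤ)
    (hX : Cyc.IsSetup X δX) (hY : Cyc.IsSetup Y δY)
    (hc : ∀ x, IsFibreGeneric f x → δX x = δY (f x) + 0) (ξ : X) (h1 : ∀ y, f y = f ξ → ξ ⤳ y)
    (h2 : fibreIdeal f ξ = IsLocalRing.maximalIdeal (X.presheaf.stalk ξ)) (g : Y.residueField (f ξ)) (hg : g ≠ 0) (x : X) :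
    Cyc.pullFun f δX δY 0 (Cyc.divFun δY (f ξ) g) x = Cyc.divFun δX ξ ((f.residueFieldMap ξ).hom g) x := by
  have := hX.1
  rw [pullFun_divFun_fibre δX δY hX hY f 0 hc (f ξ) g hg x]
  rw [finsum_eq_single _ (⟨ξ, rfl⟩ : {ξ' : X // f ξ' = f ξ})]
  · have hgen : IsFibreGeneric f ξ := fun y hy hs => (hs.antisymm (h1 y hy)).eq
    have hm : pullMult f δX δY 0 ξ = 1 := by
      rw [pullMult, Cyc.pullFun, if_pos (hc ξ hgen), show (IsLocalRing.maximalIdeal (Y.presheaf.stalk (f ξ))).map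
        (f.stalkMap ξ).hom = fibreIdeal f ξ from rfl, length_toNat_eq_one f ξ h2]
      rfl
    rw [hm, one_mul]
    simp
  · rintro ⟨y, hy⟩ hne
    have hng : ¬ IsFibreGeneric f y := fun hgen => hne (Subtype.ext (hgen ξ hy.symm (h1 y hy)).symm)
    rw [pullMult, Cyc.pullFun]
    split_ifs
    · rw [show (IsLocalRing.maximalIdeal (Y.presheaf.stalk (f y))).map
        (f.stalkMap y).hom = fibreIdeal f y from rfl, length_toNat_eq_zero_of_not f y hng]
      simp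
    · simp

/-- Rational equivalence to zero descends to a stage. -/
theorem descends (I : Type u) [Preorder I] [IsDirected I (fun a b => a ≤ b)] [Nonempty I]
    (D : Iᵒᵖ ⥤ Scheme.{u}) (c : Cone D) (hc : IsLimit c)
    (haff : ∀ (i j : Iᵒᵖ) (f : i ⟶ j), IsAffineHom (D.map f))
    (hflat : ∀ (i j : Iᵒᵖ) (f : i ⟶ j), Flat (D.map f)) (hqc : ∀ i, CompactSpace ↥(D.obj i))
    (δ : (i : Iᵒᵖ) → ↥(D.obj i) → ℤ) (δ' : ↥c.pt → ℤ) (hset : ∀ i, Cyc.IsSetup (D.obj i) (δ i))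
    (hset' : Cyc.IsSetup c.pt δ')
    (hshift : ∀ (i j : Iᵒᵖ) (f : i ⟶ j) (x : ↥(D.obj i)),
      (∀ y, D.map f y = D.map f x → y ⤳ x → y = x) → δ i x = δ j (D.map f x))
    (hflat' : ∀ i, Flat (c.π.app i))
    (hshift' : ∀ (i : Iᵒᵖ) (x : ↥c.pt), (∀ y, c.π.app i y = c.π.app i x → y ⤳ x → y = x) → δ' x = δ i (c.π.app i x))
    (k : ℤ) (i : Iᵒᵖ) (α : AlgebraicCycle (D.obj i) ℤ) (hα : α ∈ Cyc.Zk (D.obj i) (δ i) k)
    (α' : AlgebraicCycle c.pt ℤ) (hα' : ⇑α' = Cyc.pullFun (c.π.app i) δ' (δ i) 0 ⇑α)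
    (h0 : Cyc.RatEquivZero δ' k α') :
    ∃ (j : Iᵒᵖ) (f : j ⟶ i) (αj : AlgebraicCycle (D.obj j) ℤ),
      ⇑αj = Cyc.pullFun (D.map f) (δ j) (δ i) 0 ⇑α ∧ Cyc.RatEquivZero (δ j) k αj := by
  classical
  have : IsFiltered I := isFiltered_of_directed_le_nonempty I
  have : ∀ {i j : Iᵒᵖ} (f : i ⟶ j), IsAffineHom (D.map f) := fun f => haff _ _ f
  have : ∀ {i j : Iᵒᵖ} (f : i ⟶ j), Flat (D.map f) := fun f => hflat _ _ f
  have : IsLocallyNoetherian c.pt := hset'.1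
  have : ∀ j, IsLocallyNoetherian (((CategoryTheory.Functor.const Iᵒᵖ).obj c.pt).obj j) := fun _ => hset'.1
  have := hflat'
  have := fun j => (hset j).1
  have hcπ : ∀ j x, IsFibreGeneric (c.π.app j) x → δ' x = δ j (c.π.app j x) + 0 :=
    fun j x hx => by rw [add_zero]; exact hshift' j x hx
  have hcD : ∀ {a b : Iᵒᵖ} (g : a ⟶ b) x, IsFibreGeneric (D.map g) x → δ a x = δ b (D.map g x) + 0 :=
    fun g x hx => by rw [add_zero]; exact hshift _ _ g x hx
  obtain ⟨ι, ξ, F, hξ, hF, hlf, hsum⟩ := h0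
  -- finitely many members
  have hK : IsCompact (Set.univ : Set c.pt) := by
    have := isAffineHom_π_app D c hc i
    have := hqc i
    exact (c.π.app i).isCompact_preimage (U := (⊤ : (D.obj i).Opens)) isCompact_univ
  have hιfin : Finite ι := Set.finite_univ_iff.mp <| (Groth.Cycles.finite_of_isCompact ξ hlf hK).subset
    fun a _ => ⟨ξ a, subset_closure rfl, trivial⟩
  let _ := Fintype.ofFinite ι
  -- a common stage
  let P : ι → Iᵒᵖ → Prop := fun a j => (∀ y, c.π.app j y = c.π.app j (ξ a) → ξ a ⤳ y) ∧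
    fibreIdeal (c.π.app j) (ξ a) = IsLocalRing.maximalIdeal (c.pt.presheaf.stalk (ξ a)) ∧
      F a ∈ Set.range ⇑((c.π.app j).residueFieldMap (ξ a)).hom
  have hmono : ∀ {a : ι} {l j : Iᵒᵖ} (_ : l ⟶ j), P a j → P a l := by
    intro a l j g hj
    refine ⟨fun y hy => hj.1 y ?_, le_antisymm
      (IsLocalRing.le_maximalIdeal (fibreIdeal_ne_top _ _)) ?_, ?_⟩
    · rw [← c.w g, Scheme.Hom.comp_apply, Scheme.Hom.comp_apply, hy]
    · exact hj.2.1.symm.le.trans (fibreIdeal_mono (c.π.app l) (D.map g) (c.π.app j) (c.w g) (ξ a))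
    · exact range_residueFieldMap_mono (c.π.app l) (D.map g) (c.π.app j) (c.w g) (ξ a) hj.2.2
  have hstage : ∀ S : Finset ι, ∃ (j : Iᵒᵖ) (_ : j ⟶ i), ∀ a ∈ S, P a j := by
    intro S
    induction S using Finset.induction_on with
    | empty => exact ⟨i, 𝟙 i, fun a h => absurd h (Finset.notMem_empty a)⟩
    | insert a S _ ih =>
      obtain ⟨j₁, f₁, h₁⟩ := ih
      obtain ⟨j₂, f₂, h₂⟩ := exists_stage_cut_out (i := j₁) hc (ξ a)
      obtain ⟨j₃, f₃, h₃⟩ := exists_residue_lift hc j₂ (ξ a) (F a)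
      refine ⟨j₃, f₃ ≫ f₂ ≫ f₁, fun b hb => ?_⟩
      rcases Finset.mem_insert.mp hb with rfl | hb'
      · refine ⟨fun y hy => h₂.1 y ?_, le_antisymm
          (IsLocalRing.le_maximalIdeal (fibreIdeal_ne_top _ _)) ?_, h₃⟩
        · rw [← c.w f₃, Scheme.Hom.comp_apply, Scheme.Hom.comp_apply, hy]
        · exact h₂.2.symm.le.trans (fibreIdeal_mono _ (D.map f₃) _ (c.w f₃) (ξ b))
      · exact hmono (f₃ ≫ f₂) (h₁ b hb')
  obtain ⟨j, f, hj⟩ := hstage Finset.univ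
  have hP : ∀ a, P a j := fun a => hj a (Finset.mem_univ a)
  choose G hG using fun a => (hP a).2.2
  have hG0 : ∀ a, G a ≠ 0 := fun a h => hF a (by rw [← hG a, h, map_zero])
  have hη : ∀ a, δ j (c.π.app j (ξ a)) = k + 1 := fun a => by
    rw [← hξ a, hshift' j (ξ a) fun y hy hs => (hs.antisymm ((hP a).1 y hy)).eq]
  have hlfY : ∀ x : D.obj j, ∃ U : Set (D.obj j), IsOpen U ∧ x ∈ U ∧
      {a | (closure {c.π.app j (ξ a)} ∩ U).Nonempty}.Finite :=
    fun x => ⟨Set.univ, isOpen_univ, trivial, Set.toFinite _⟩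
  obtain ⟨γ, hγ⟩ := exists_cycle_finsum_divFun (hset j) (fun a => c.π.app j (ξ a)) G hG0 hlfY
  obtain ⟨αj, hαj⟩ := exists_pullCycle (δ j) (δ i) (hset j) (hset i) (D.map f) 0 (hcD f) α
  have hZ : αj - γ ∈ Cyc.Zk (D.obj j) (δ j) k := by
    intro x hx
    have h1 : αj x = 0 := by
      rw [hαj, Cyc.pullFun]
      split_ifs with h
      · rw [hα _ (fun e => hx (by rw [h, e, add_zero])), zero_mul]
      · rfl
    have h2 : γ x = 0 := by
      rw [hγ]
      refine finsum_eq_zero_of_forall_eq_zero fun a => dif_neg fun h => hx ?_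
      have := h.2
      rw [hη a] at this
      omega
    simp [h1, h2]
  have hpull : Cyc.pullFun (c.π.app j) δ' (δ j) 0 ⇑(αj - γ) = 0 := by
    funext x
    have e1 : Cyc.pullFun (c.π.app j) δ' (δ j) 0 ⇑αj x = α' x := by
      have key : ∀ q, c.π.app j ≫ D.map f = q → Cyc.pullFun (c.π.app j) δ' (δ j) 0 ⇑αj =
          Cyc.pullFun q δ' (δ i) 0 ⇑α := by
        rintro q rfl
        rw [hαj, ← pullFun_comp_eq (c.π.app j) (D.map f) δ' (δ j) (δ i) 0 0 (hcπ j) (hcD f), add_zero]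
      rw [hα', key _ (c.w f)]
    have e2 : Cyc.pullFun (c.π.app j) δ' (δ j) 0 ⇑γ x = α' x := by
      rw [hsum x, pullFun_eq_mult, hγ, finsum_mul]
      refine finsum_congr fun a => ?_
      rw [← pullFun_eq_mult (c.π.app j) δ' (δ j) 0 (Cyc.divFun (δ j) (c.π.app j (ξ a)) (G a)),
        pullFun_divFun_of_cut (c.π.app j) δ' (δ j) hset' (hset j) (hcπ j) (ξ a) (hP a).1 (hP a).2.1 (G a) (hG0 a) x,
        hG a]
    rw [pullFun_eq_mult] at e1 e2 ⊢
    simp only [Function.locallyFinsuppWithin.coe_sub, Pi.sub_apply, Pi.zero_apply, sub_mul, e1, e2, sub_self]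
  obtain ⟨l, g, hl⟩ := Groth.Agent.S6496.result I D c hc haff hflat hqc δ δ' hset hset' hshift hflat' hshift'
    k j (αj - γ) hZ hpull
  obtain ⟨αl, hαl⟩ := exists_pullCycle (δ l) (δ j) (hset l) (hset j) (D.map g) 0 (hcD g) γ
  refine ⟨l, g ≫ f, αl, ?_, ?_⟩
  · have key : ∀ q, D.map g ≫ D.map f = q →
        Cyc.pullFun (D.map g) (δ l) (δ j) 0 ⇑αj = Cyc.pullFun q (δ l) (δ i) 0 ⇑α := by
      rintro q rfl
      rw [hαj, ← pullFun_comp_eq (D.map g) (D.map f) (δ l) (δ j) (δ i) 0 0 (hcD g) (hcD f), add_zero]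
    rw [hαl, ← key _ (D.map_comp g f).symm]
    funext x
    have h := congrFun hl x
    rw [pullFun_eq_mult] at h
    simp only [Function.locallyFinsuppWithin.coe_sub, Pi.sub_apply, Pi.zero_apply, sub_mul, sub_eq_zero] at h
    rw [pullFun_eq_mult, pullFun_eq_mult, h]
  · have hγ0 : Cyc.RatEquivZero (δ j) k γ :=
      ⟨ι, fun a => c.π.app j (ξ a), G, hη, hG0, hlfY, hγ⟩
    simpa using ratEquivZero_pullFun (δ l) (δ j) (hset l) (hset j) (D.map g) 0 (hcD g) k γ hγ0 αl hαl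

end Groth.CycInter.Lim
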