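import Groth.Agent.CycInter.GysinTwice

/-!
Exactness in the middle of the Mayer-Vietoris sequence of cycle classes.
-/

universe u

set_option autoImplicit false

open CategoryTheory AlgebraicGeometry Limits
open Groth.Cycles

namespace Groth.CycInter

variable {X : Scheme.{u}} {δ : X → ℤ} {k : ℤ}

theorem ratZeroOn_of_ratEquivZero {α : AlgebraicCycle X ℤ} (h : Cyc.RatEquivZero δ k α) :
    RatZeroOn δ k Set.univ ⇑α := by
  obtain ⟨ι, ξ, f, hδ, hf, hlf, hF⟩ := h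
  exact ⟨ι, ξ, f, hf, fun i _ => ⟨hδ i, Set.mem_univ _⟩, fun V hV =>
    (finite_of_isCompact ξ hlf hV.isCompact).subset fun i hi => ⟨ξ i, specializes_rfl.mem_closure, hi.2⟩, hF⟩

theorem divFun_eq_zero_outside {Z : Set X} (hZ : IsClosed Z) {ξ : X} (hξ : ξ ∈ Z) (g : X.residueField ξ)
    {z : X} (hz : z ∉ Z) : Cyc.divFun δ ξ g z = 0 :=
  divFun_of_not_specializes _ fun h => hz (h.mem_closed hZ hξ)

theorem eq_zero_outside_of_ratZeroOn (hX : Cyc.IsSetup X δ) {Z : Set X} (hZ : IsClosed Z) {F : X → ℤ}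
    (h : RatZeroOn δ k Z F) {z : X} (hz : z ∉ Z) : F z = 0 := by
  obtain ⟨ι, ξ, f, hf, hδ, hfin, hF⟩ := h
  rw [hF]
  refine finsum_eq_zero_of_forall_eq_zero fun i => ?_
  by_cases hi : f i = 1
  · rw [hi, divFun_one hX]
  · exact divFun_eq_zero_outside hZ (hδ i hi).2 _ hz

theorem delta_of_ratZeroOn (hX : Cyc.IsSetup X δ) {Z : Set X} {F : X → ℤ} (h : RatZeroOn δ k Z F) {z : X}
    (hz : F z ≠ 0) : δ z = k := by
  obtain ⟨ι, ξ, f, hf, hδ, hfin, hF⟩ := h
  rw [hF] at hz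
  obtain ⟨i, hi⟩ := exists_finsum_term_ne_zero hz
  have hne : f i ≠ 1 := fun e => hi (by rw [e, divFun_one hX])
  rw [Cyc.divFun] at hi
  split_ifs at hi with hc
  · have := hc.2
    have := (hδ i hne).1
    omega
  · exact absurd rfl hi

theorem finite_of_ratZeroOn (hX : Cyc.IsSetup X δ) {Z : Set X} {F : X → ℤ} (h : RatZeroOn δ k Z F)
    (V : X.Opens) (hV : IsAffineOpen V) : ((V : Set X) ∩ Function.support F).Finite := by
  obtain ⟨ι, ξ, f, hf, hδ, hfin, hF⟩ := h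
  choose D hD using fun i => exists_cycle_divFun (δ := δ) hX (ξ i) (f i) (hf i)
  refine ((hfin V hV).biUnion fun i _ => finite_cycle (D i) V hV).subset ?_
  rintro z ⟨hzV, hz⟩
  rw [Function.mem_support, hF] at hz
  obtain ⟨i, hi⟩ := exists_finsum_term_ne_zero hz
  have hsp : ξ i ⤳ z := by_contra fun e => hi (divFun_of_not_specializes _ e)
  exact Set.mem_biUnion (x := i) ⟨fun e => hi (by rw [e, divFun_one hX]), hsp.mem_open V.2 hzV⟩
    ⟨hzV, by show D i z ≠ 0; rw [hD i]; exact hi⟩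

/-- A family of principal divisors splits along a covering by two sets. -/
theorem ratZeroOn_split (hX : Cyc.IsSetup X δ) {R₁ R₂ : Set X} (hcov : R₁ ∪ R₂ = Set.univ) {F : X → ℤ}
    (h : RatZeroOn δ k Set.univ F) :
    ∃ F₁ F₂ : X → ℤ, RatZeroOn δ k R₁ F₁ ∧ RatZeroOn δ k R₂ F₂ ∧ ∀ z, F z = F₁ z + F₂ z := by
  classical
  obtain ⟨ι, ξ, f, hf, hδ, hfin, hF⟩ := h
  have mk : ∀ p : ι → Prop, ∀ R : Set X, (∀ i, p i → ξ i ∈ R) →
      RatZeroOn δ k R fun z => ∑ᶠ i, Cyc.divFun δ (ξ i) (if p i then f i else 1) z := by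
    intro p R hR
    have key : ∀ i, (if p i then f i else 1) ≠ (1 : X.residueField (ξ i)) → p i ∧ f i ≠ 1 := fun i hi => by
      by_cases hp : p i
      · exact ⟨hp, by rwa [if_pos hp] at hi⟩
      · exact absurd (if_neg hp) hi
    refine ⟨ι, ξ, _, fun i => ?_, fun i hi => ⟨(hδ i (key i hi).2).1, hR i (key i hi).1⟩,
      fun V hV => (hfin V hV).subset fun i hi => ⟨(key i hi.1).2, hi.2⟩, fun z => rfl⟩
    split_ifs
    exacts [hf i, one_ne_zero]
  refine ⟨_, _, mk (fun i => ξ i ∈ R₁) R₁ fun i hi => hi, mk (fun i => ξ i ∉ R₁) R₂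
    fun i hi => ((Set.ext_iff.mp hcov (ξ i)).mpr trivial).resolve_left hi, fun z => ?_⟩
  have hsub : ∀ g : (i : ι) → X.residueField (ξ i), (∀ i, g i = f i ∨ g i = 1) →
      (Function.support fun i => Cyc.divFun δ (ξ i) (g i) z).Finite := fun g hg =>
    (finite_divTerm hX hfin z).subset fun i hi => by
      rcases hg i with e | e
      · rwa [Function.mem_support, e] at hi
      · exact absurd (by dsimp only; rw [e, divFun_one hX]) hi
  rw [hF, ← finsum_add_distrib (hsub _ fun i => by by_cases hp : ξ i ∈ R₁ <;> simp [hp])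
    (hsub _ fun i => by by_cases hp : ξ i ∈ R₁ <;> simp [hp])]
  refine finsum_congr fun i => ?_
  by_cases hp : ξ i ∈ R₁
  · rw [if_pos hp, if_neg (not_not.mpr hp), divFun_one hX, add_zero]
  · rw [if_neg hp, if_pos hp, divFun_one hX, zero_add]

theorem exists_cycle_on_inter (hX : Cyc.IsSetup X δ) {X₁ X₂ : Scheme.{u}} (i₁ : X₁ ⟶ X) (i₂ : X₂ ⟶ X)
    [IsClosedImmersion i₁] [IsClosedImmersion i₂] (hcov : Set.range ⇑i₁ ∪ Set.range ⇑i₂ = Set.univ)
    {α₁ : AlgebraicCycle X₁ ℤ} {α₂ : AlgebraicCycle X₂ ℤ} (h₁ : α₁ ∈ Cyc.Zk X₁ (fun x => δ (i₁ x)) k)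
    (h : Cyc.RatEquiv δ k (AlgebraicCycle.map i₁ (fun x => δ (i₁ x)) δ α₁)
      (AlgebraicCycle.map i₂ (fun x => δ (i₂ x)) δ α₂)) :
    ∃ β : AlgebraicCycle (pullback i₁ i₂) ℤ,
      β ∈ Cyc.Zk (pullback i₁ i₂) (fun z => δ (i₁ (pullback.fst i₁ i₂ z))) k ∧
      Cyc.RatEquiv (fun x => δ (i₁ x)) k α₁ (AlgebraicCycle.map (pullback.fst i₁ i₂)
        (fun z => δ (i₁ (pullback.fst i₁ i₂ z))) (fun x => δ (i₁ x)) β) ∧
      Cyc.RatEquiv (fun x => δ (i₂ x)) k α₂ (AlgebraicCycle.map (pullback.snd i₁ i₂)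
        (fun z => δ (i₁ (pullback.fst i₁ i₂ z))) (fun x => δ (i₂ x)) β) := by
  classical
  set A := AlgebraicCycle.map i₁ (fun x => δ (i₁ x)) δ α₁
  set B := AlgebraicCycle.map i₂ (fun x => δ (i₂ x)) δ α₂
  have hR₁ : IsClosed (Set.range ⇑i₁) := i₁.isClosedEmbedding.isClosed_range
  have hR₂ : IsClosed (Set.range ⇑i₂) := i₂.isClosedEmbedding.isClosed_range
  obtain ⟨F₁, F₂, hF₁, hF₂, hF⟩ := ratZeroOn_split hX hcov (ratZeroOn_of_ratEquivZero h)
  simp only [Function.locallyFinsuppWithin.coe_sub, Pi.sub_apply] at hF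
  set P := pullback i₁ i₂
  set fst := pullback.fst i₁ i₂
  set snd := pullback.snd i₁ i₂
  have hpt : ∀ z : P, i₂ (snd z) = i₁ (fst z) := fun z => by
    rw [← Scheme.Hom.comp_apply, ← Scheme.Hom.comp_apply, pullback.condition]
  have hfinA : ∀ V : X.Opens, IsAffineOpen V → ((V : Set X) ∩ Function.support fun z => A z - F₁ z).Finite :=
    fun V hV => ((finite_cycle A V hV).union (finite_of_ratZeroOn hX hF₁ V hV)).subset fun z hz => by
      by_cases e : A z = 0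
      · exact Or.inr ⟨hz.1, fun e' => hz.2 (by dsimp only; rw [e, e', sub_zero])⟩
      · exact Or.inl ⟨hz.1, e⟩
  obtain ⟨β, hβ⟩ : ∃ β : AlgebraicCycle P ℤ, ∀ z, β z = A (i₁ (fst z)) - F₁ (i₁ (fst z)) := by
    refine ⟨⟨fun z => A (i₁ (fst z)) - F₁ (i₁ (fst z)), Set.subset_univ _, fun y _ => ?_⟩, fun z => rfl⟩
    obtain ⟨_, ⟨V, hV, rfl⟩, hyV, -⟩ :=
      P.isBasis_affineOpens.exists_subset_of_mem_open (Set.mem_univ y) isOpen_univ
    exact ⟨V, V.2.mem_nhds hyV,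
      finite_preimage_support fst _ (finite_preimage_support i₁ _ hfinA) V hV⟩
  have hout₂ : ∀ x, x ∉ Set.range ⇑i₂ → A x - F₁ x = 0 := fun x hx => by
    have := hF x
    rw [eq_zero_outside_of_ratZeroOn hX hR₂ hF₂ hx,
      show B x = 0 from map_closedImm_apply_of_notMem α₂ hx] at this
    omega
  refine ⟨β, fun z hz => ?_, ?_, ?_⟩
  · rw [hβ, show A (i₁ (fst z)) = α₁ (fst z) from map_closedImm_apply α₁ _, h₁ _ hz,
      show F₁ (i₁ (fst z)) = 0 from by_contra fun e => hz (delta_of_ratZeroOn hX hF₁ e), sub_zero]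
  · refine ratEquivZero_of_ratZeroOn (isSetup_sub i₁ hX) ((hF₁.comap i₁ hX subset_rfl).congr fun x => ?_)
    simp only [Function.locallyFinsuppWithin.coe_sub, Pi.sub_apply]
    by_cases hx : x ∈ Set.range fst
    · obtain ⟨z, rfl⟩ := hx
      rw [map_closedImm_apply (δ := fun x => δ (i₁ x)) β z, hβ,
        show A (i₁ (fst z)) = α₁ (fst z) from map_closedImm_apply α₁ _]
      ring
    · rw [map_closedImm_apply_of_notMem (δ := fun x => δ (i₁ x)) β hx, sub_zero]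
      have h2 := hout₂ (i₁ x) fun hx2 => hx (by rwa [Scheme.Pullback.range_fst])
      rw [show A (i₁ x) = α₁ x from map_closedImm_apply α₁ _] at h2
      linarith
  · rw [show (fun z => δ (i₁ (fst z))) = fun z => δ (i₂ (snd z)) from funext fun z => by rw [hpt]]
    refine ratEquivZero_of_ratZeroOn (isSetup_sub i₂ hX)
      (((ratZeroOn_neg hX hF₂).comap i₂ hX subset_rfl).congr fun x => ?_)
    simp only [Function.locallyFinsuppWithin.coe_sub, Pi.sub_apply]
    have h3 := hF (i₂ x)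
    rw [show B (i₂ x) = α₂ x from map_closedImm_apply α₂ _] at h3
    by_cases hx : x ∈ Set.range snd
    · obtain ⟨z, rfl⟩ := hx
      rw [map_closedImm_apply (δ := fun x => δ (i₂ x)) β z, hβ, ← hpt]
      linarith
    · rw [map_closedImm_apply_of_notMem (δ := fun x => δ (i₂ x)) β hx, sub_zero]
      have hx1 : i₂ x ∉ Set.range ⇑i₁ := fun h1 => hx (by rwa [Scheme.Pullback.range_snd])
      rw [eq_zero_outside_of_ratZeroOn hX hR₁ hF₁ hx1,
        show A (i₂ x) = 0 from map_closedImm_apply_of_notMem α₁ hx1] at h3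
      linarith

end Groth.CycInter
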