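import Groth.Agent.Misc15.ProjPts
import Groth.Agent.ParaFormal.StalkIdeal
import Groth.Agent.Calg6.ClosedImmStalk
import Groth.Agent.Variety2.ProjBasics
import Groth.Prelude.Def_P1

/-!
The coordinate functions of the standard charts of the relative projective line and the sections at zero
and infinity.
-/

universe u

set_option autoImplicit false

open CategoryTheory CategoryTheory.Limits AlgebraicGeometry Opposite IntMult
open Groth.Misc15.ProjPts

namespace Groth.CycInter.P1C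

/-- the other index -/
noncomputable abbrev oth (i : Fin (1 + 1)) : Fin (1 + 1) := i.succAbove 0

theorem oth_ne (i : Fin (1 + 1)) : oth i ≠ i := Fin.succAbove_ne i 0

theorem oth_oth (i : Fin (1 + 1)) : oth (oth i) = i := by fin_cases i <;> rfl

/-- the coordinate of a chart as a degree zero fraction -/
noncomputable def frac (i : Fin (1 + 1)) :
    HomogeneousLocalization.Away (gr.{u} 1) (MvPolynomial.X i : MvPolynomial _ Z.{u}) :=
  HomogeneousLocalization.Away.mk (gr 1) (X_mem i) 1 (MvPolynomial.X (oth i))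
    (by rw [one_nsmul]; exact X_mem _)

theorem dehom_frac (i : Fin (1 + 1)) : dehom.{u} i (frac i) = MvPolynomial.X 0 := by
  have h : hom' i (MvPolynomial.X 0) = frac.{u} i := by
    rw [hom', MvPolynomial.eval₂Hom_X']
    rfl
  rw [← h, dehom_hom']

/-- the coordinate on a chart of `P^1_ℤ` -/
noncomputable def T (i : Fin (1 + 1)) : Γ(CohB1.ProjSpace 1 Z.{u}, D i) :=
  (Proj.awayToSection (gr 1) (MvPolynomial.X i)).hom (frac i)

theorem chartPt_eq (i : Fin (1 + 1)) :
    chartPt.{u} i Z.{u} = Spec.map (CommRingCat.ofHom (dehom.{u} i)) ≫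
      Proj.awayι (gr 1) (MvPolynomial.X i) (X_mem i) one_pos := rfl

theorem top_le_preimage (i : Fin (1 + 1)) : ⊤ ≤ chartPt.{u} i Z.{u} ⁻¹ᵁ D i := fun p _ => by
  show chartPt i Z.{u} p ∈ D i
  rw [← SetLike.mem_coe, ← range_chartPt]
  exact ⟨p, rfl⟩

theorem awayι_appLE (f : MvPolynomial (Fin (1 + 1)) Z.{u}) (hf : f ∈ gr 1 1)
    (h : ⊤ ≤ Proj.awayι (gr 1) f hf one_pos ⁻¹ᵁ Proj.basicOpen (gr 1) f)
    (a : HomogeneousLocalization.Away (gr 1) f) :
    (Proj.awayι (gr 1) f hf one_pos).appLE (Proj.basicOpen (gr 1) f) ⊤ h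
        ((Proj.awayToSection (gr 1) f).hom a) = (Scheme.ΓSpecIso _).inv.hom a := by
  set W := Proj.basicOpen (gr 1) f with hW
  set e := Proj.basicOpenIsoSpec (gr 1) f hf one_pos with he
  set x := (Scheme.ΓSpecIso (CommRingCat.of (HomogeneousLocalization.Away (gr 1) f))).inv.hom a with hx
  have h3 : (Proj.awayι (gr 1) f hf one_pos).appLE W ⊤ h = W.ι.appLE W ⊤ (by simp) ≫ e.inv.appLE ⊤ ⊤ le_top := by
    rw [Scheme.Hom.appLE_comp_appLE]
    rfl
  have h4 : (W.ι.appLE W ⊤ (by simp)).hom ((Proj.awayToSection (gr 1) f).hom a) =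
      (e.hom.appLE ⊤ ⊤ le_top).hom x := by
    have h1 := ConcreteCategory.congr_hom (Proj.basicOpenToSpec_app_top (gr 1) f) x
    have h6 : (Scheme.ΓSpecIso (CommRingCat.of (HomogeneousLocalization.Away (gr 1) f))).hom.hom x = a :=
      ConcreteCategory.congr_hom (Scheme.ΓSpecIso (CommRingCat.of (HomogeneousLocalization.Away (gr 1) f))).inv_hom_id a
    have h7 : e.hom.appLE ⊤ ⊤ le_top = (Proj.basicOpenToSpec (gr 1) f).app ⊤ := by
      rw [Scheme.Hom.app_eq_appLE]
      rfl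
    have h8 : W.ι.appLE W ⊤ (by simp) = W.topIso.inv := by
      simp [Scheme.Opens.ι_appLE]
      rfl
    rw [h7, h8]
    refine Eq.trans ?_ h1.symm
    exact congrArg (fun y => W.topIso.inv.hom ((Proj.awayToSection (gr 1) f).hom y)) h6.symm
  have h5 : e.hom.appLE ⊤ ⊤ le_top ≫ e.inv.appLE ⊤ ⊤ le_top = 𝟙 _ := by
    rw [Scheme.Hom.appLE_comp_appLE]
    simp only [e.inv_hom_id]
    simp [Scheme.Hom.appLE]
  rw [h3]
  exact (congrArg (e.inv.appLE ⊤ ⊤ le_top).hom h4).trans (ConcreteCategory.congr_hom h5 x)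

theorem chartPt_T (i : Fin (1 + 1)) :
    (chartPt.{u} i Z.{u}).appLE (D i) ⊤ (top_le_preimage i) (T i) =
      (Scheme.ΓSpecIso _).inv.hom (MvPolynomial.X 0) := by
  have hle : ⊤ ≤ Proj.awayι (gr 1) (MvPolynomial.X i : MvPolynomial _ Z.{u}) (X_mem i) one_pos ⁻¹ᵁ
      Proj.basicOpen (gr 1) (MvPolynomial.X i) := fun p _ => by
    show _ ∈ Proj.basicOpen (gr 1) _
    rw [← Proj.opensRange_awayι (gr 1) _ (X_mem i) one_pos]
    exact ⟨p, rfl⟩
  have h1 : (chartPt.{u} i Z.{u}).appLE (D i) ⊤ (top_le_preimage i) =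
      (Proj.awayι (gr 1) (MvPolynomial.X i) (X_mem i) one_pos).appLE (Proj.basicOpen (gr 1) (MvPolynomial.X i)) ⊤ hle ≫
        (Spec.map (CommRingCat.ofHom (dehom.{u} i))).appLE ⊤ ⊤ le_top := by
    rw [Scheme.Hom.appLE_comp_appLE]
    rfl
  have h2 := ConcreteCategory.congr_hom
    (Scheme.ΓSpecIso_inv_naturality (CommRingCat.ofHom (dehom.{u} i))) (frac i)
  rw [h1]
  refine (congrArg ((Spec.map (CommRingCat.ofHom (dehom.{u} i))).appLE ⊤ ⊤ le_top).hom
    (awayι_appLE _ (X_mem i) hle (frac i))).trans ?_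
  have h9 : (Spec.map (CommRingCat.ofHom (dehom.{u} i))).appLE ⊤ ⊤ le_top =
      (Spec.map (CommRingCat.ofHom (dehom.{u} i))).appTop := by
    rw [Scheme.Hom.appTop, Scheme.Hom.app_eq_appLE]
    rfl
  rw [h9]
  refine h2.symm.trans ?_
  exact congrArg (Scheme.ΓSpecIso (CommRingCat.of (MvPolynomial (Fin 1) Z.{u}))).inv.hom (dehom_frac i)

theorem chartPt_preimage_D (i : Fin (1 + 1)) :
    chartPt.{u} i Z.{u} ⁻¹ᵁ D (oth i) = PrimeSpectrum.basicOpen (MvPolynomial.X 0) := by
  have h1 := Proj.awayι_preimage_basicOpen (𝒜 := gr.{u} 1) (X_mem i) one_pos (g_deg := X_mem (oth i)) (hm' := one_pos)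
  rw [chartPt_eq]
  change Spec.map (CommRingCat.ofHom (dehom.{u} i)) ⁻¹ᵁ (Proj.awayι (gr 1) (MvPolynomial.X i) (X_mem i) one_pos ⁻¹ᵁ Proj.basicOpen (gr 1) (MvPolynomial.X (oth i))) = _
  rw [h1]
  ext p
  have h3 : dehom i (HomogeneousLocalization.Away.isLocalizationElem (X_mem.{u} i) (X_mem (oth i))) =
      MvPolynomial.X 0 := by
    rw [← dehom_frac i]
    congr 1
    apply HomogeneousLocalization.val_injective
    simp [frac, HomogeneousLocalization.Away.isLocalizationElem]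
  show (CommRingCat.ofHom (dehom i)).hom _ ∉ p.asIdeal ↔ _
  rw [CommRingCat.hom_ofHom, h3]
  rfl

theorem exists_mem_D (q : CohB1.ProjSpace 1 Z.{u}) (i : Fin (1 + 1)) : q ∈ D i ∨ q ∈ D (oth i) := by
  obtain ⟨j, hj⟩ := TopologicalSpace.Opens.mem_iSup.mp
    ((iSup_basicOpen_X.{u} (n := 1)).ge (Set.mem_univ q))
  by_cases h : j = i
  · exact .inl (h ▸ hj)
  · obtain rfl : j = oth i := by revert h; fin_cases i <;> fin_cases j <;> simp [oth] <;> rfl
    exact .inr hj

theorem frac_mul_frac (i : Fin (1 + 1)) :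
    HomogeneousLocalization.awayMap (gr.{u} 1) (X_mem (oth i)) rfl (frac i) *
      HomogeneousLocalization.awayMap (gr.{u} 1) (f := MvPolynomial.X (oth i)) (g := MvPolynomial.X i) (X_mem i)
        (mul_comm _ _) (frac (oth i)) = 1 := by
  apply HomogeneousLocalization.val_injective
  simp only [HomogeneousLocalization.val_mul, HomogeneousLocalization.val_one, frac,
    HomogeneousLocalization.Away.mk, HomogeneousLocalization.val_awayMap_mk, oth_oth]
  rw [Localization.mk_mul, ← Localization.mk_one, Localization.mk_eq_mk_iff, Localization.r_iff_exists]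
  refine ⟨1, ?_⟩
  simp only [OneMemClass.coe_one, one_mul, Submonoid.coe_mul, mul_one, pow_one]
  ring

theorem res_T_mul (i : Fin (1 + 1)) (U : (CohB1.ProjSpace 1 Z.{u}).Opens) (h1 : U ≤ D i) (h2 : U ≤ D (oth i)) :
    (CohB1.ProjSpace 1 Z.{u}).presheaf.map (homOfLE h1).op (T i) *
      (CohB1.ProjSpace 1 Z.{u}).presheaf.map (homOfLE h2).op (T (oth i)) = 1 := by
  set x : MvPolynomial (Fin (1 + 1)) Z.{u} := MvPolynomial.X i * MvPolynomial.X (oth i) with hx
  have hU : U ≤ Proj.basicOpen (gr 1) x := by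
    rw [hx, Proj.basicOpen_mul]; exact le_inf h1 h2
  have a1 := ConcreteCategory.congr_hom (Proj.awayMap_awayToSection (gr.{u} 1) (f := MvPolynomial.X i)
    (X_mem (oth i)) hx) (frac i)
  have a2 := ConcreteCategory.congr_hom (Proj.awayMap_awayToSection (gr.{u} 1) (f := MvPolynomial.X (oth i))
    (g := MvPolynomial.X i) (X_mem i) (hx.trans (mul_comm _ _))) (frac (oth i))
  simp only [CommRingCat.hom_comp, RingHom.comp_apply, CommRingCat.hom_ofHom] at a1 a2
  have b : ∀ (V : (CohB1.ProjSpace 1 Z.{u}).Opens) (hV : U ≤ V) (hVx : Proj.basicOpen (gr 1) x ≤ V)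
      (s : Γ(CohB1.ProjSpace 1 Z.{u}, V)), (CohB1.ProjSpace 1 Z.{u}).presheaf.map (homOfLE hV).op s =
        (CohB1.ProjSpace 1 Z.{u}).presheaf.map (homOfLE hU).op
          ((CohB1.ProjSpace 1 Z.{u}).presheaf.map (homOfLE hVx).op s) := fun V hV hVx s => by
    exact (ConcreteCategory.congr_hom ((CohB1.ProjSpace 1 Z.{u}).presheaf.map_comp (homOfLE hVx).op (homOfLE hU).op) s)
  rw [b _ h1 (Proj.basicOpen_mono _ _ _ ⟨_, hx⟩), b _ h2 (Proj.basicOpen_mono _ _ _ ⟨_, hx.trans (mul_comm _ _)⟩),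
    ← map_mul]
  have a3 : (Proj.awayToSection (gr.{u} 1) x).hom (HomogeneousLocalization.awayMap (gr 1) (X_mem (oth i)) hx (frac i) *
      HomogeneousLocalization.awayMap (gr 1) (X_mem i) (hx.trans (mul_comm _ _)) (frac (oth i))) = 1 := by
    rw [hx] at *
    exact (congrArg (Proj.awayToSection (gr.{u} 1) _).hom (frac_mul_frac i)).trans (map_one _)
  rw [map_mul] at a3
  refine (congrArg _ ?_).trans (map_one _)

  exact (congrArg₂ (· * ·) a1 a2).symm.trans a3

/-- evaluation at the origin -/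
noncomputable def ev0 : MvPolynomial (Fin 1) Z.{u} →+* Z.{u} := MvPolynomial.eval (fun _ => 0)

theorem evalAway_eq (i : Fin (1 + 1)) (h) :
    P1.evalAway.{u} i = evAway (MvPolynomial.X i) (Pi.single i (1 : Z.{u})) h := by
  rw [P1.evalAway, evAway]
  congr 1

theorem ev0_coord (i : Fin (1 + 1)) : ev0.{u} ∘ coord i Z.{u} = Pi.single i (1 : Z.{u}) := by
  funext l
  rcases Fin.eq_self_or_eq_succAbove i l with rfl | ⟨j, rfl⟩
  · simp [coord, ev0]
  · obtain rfl : j = 0 := Subsingleton.elim _ _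
    simp [coord, ev0, Fin.succAbove_ne i 0]

theorem point_eq (i : Fin (1 + 1)) :
    P1.point.{u} i = Spec.map (CommRingCat.ofHom ev0) ≫ chartPt i Z.{u} := by
  have h' : IsUnit (ev (ev0.{u} ∘ coord i Z.{u}) (MvPolynomial.X i)) := by
    rw [ev_X, Function.comp_apply]; simp [coord]
  rw [chartPt, pt_comp _ _ _ _ h', P1.point, pt]
  have : P1.evalAway.{u} i = evAway (MvPolynomial.X i) (ev0.{u} ∘ coord i Z.{u}) h' := by
    have h'' : IsUnit (ev (Pi.single i (1 : Z.{u}) : Fin (1 + 1) → Z.{u}) (MvPolynomial.X i)) := by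
      rw [ev_X, Pi.single_eq_same]; exact isUnit_one
    rw [evalAway_eq i h'']
    congr 1
    exact (ev0_coord i).symm
  rw [this]
  rfl

theorem ev0_surjective : Function.Surjective ev0.{u} := fun r => ⟨MvPolynomial.C r, by simp [ev0]⟩

theorem ker_ev0 : RingHom.ker ev0.{u} = Ideal.span {MvPolynomial.X 0} := by
  refine le_antisymm (fun p hp => ?_) ?_
  · have h : p - MvPolynomial.C (ev0 p) ∈ Ideal.span {(MvPolynomial.X 0 : MvPolynomial (Fin 1) Z.{u})} := by
      clear hp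
      induction p using MvPolynomial.induction_on with
      | C r => simp [ev0]
      | add p q hp' hq' =>
        have := add_mem hp' hq'
        simp only [map_add] at this ⊢
        convert this using 1
        ring
      | mul_X p j _ =>
        obtain rfl : j = 0 := Subsingleton.elim _ _
        simp [ev0, Ideal.mem_span_singleton]
    rwa [RingHom.mem_ker.mp hp, map_zero, sub_zero] at h
  · rw [Ideal.span_le, Set.singleton_subset_iff]
    simp [ev0]

instance isClosedImmersion_point (i : Fin (1 + 1)) : IsClosedImmersion (P1.point.{u} i) := by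
  haveI : IsProper (CohB1.ProjSpace.toSpec 1 Z.{u}) := Groth.Variety2.isProper_projSpace_toSpec _ _
  have : IsClosedImmersion (P1.point.{u} i ≫ CohB1.ProjSpace.toSpec 1 Z.{u}) := by
    rw [show P1.point.{u} i ≫ CohB1.ProjSpace.toSpec 1 Z.{u} = 𝟙 _ from specULiftZIsTerminal.hom_ext _ _]
    infer_instance
  exact IsClosedImmersion.of_comp _ (CohB1.ProjSpace.toSpec 1 Z.{u})

theorem stalkIdeal_eq_top_of_notMem {X : Scheme.{u}} (I : X.IdealSheafData) {x : X} (h : x ∉ I.support) :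
    stalkIdeal I x = ⊤ := by
  by_contra hne
  obtain ⟨U, hxU, -⟩ := Divisors.exists_affine_le x ⊤ trivial
  rw [Groth.ParaFormal.stalkIdeal_eq I U hxU] at hne
  have hle := IsLocalRing.le_maximalIdeal hne
  rw [Ideal.map_le_iff_le_comap] at hle
  apply h
  rw [← SetLike.mem_coe]
  have : x ∈ X.zeroLocus (U := U.1) (I.ideal U) ∩ U := by
    refine ⟨?_, hxU⟩
    rw [Scheme.mem_zeroLocus_iff]
    intro f hf hmem
    exact (IsLocalRing.mem_maximalIdeal _).mp (hle hf) ((X.mem_basicOpen f x hxU).mp hmem)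
  rw [← I.coe_support_inter U] at this
  exact this.1

theorem stalkIdeal_point (i : Fin (1 + 1)) (q : CohB1.ProjSpace 1 Z.{u}) :
    (∀ hq : q ∈ D i, stalkIdeal (P1.point.{u} i).ker q =
      Ideal.span {(CohB1.ProjSpace 1 Z.{u}).presheaf.germ (D i) q hq (T i)}) ∧
    (q ∉ D i → stalkIdeal (P1.point.{u} i).ker q = ⊤) := by
  refine ⟨fun hq => ?_, fun hq => stalkIdeal_eq_top_of_notMem _ fun hs => hq ?_⟩
  · obtain ⟨p, rfl⟩ : q ∈ Set.range (chartPt i Z.{u}) := by rw [range_chartPt]; exact hq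
    set e := Spec.map (CommRingCat.ofHom ev0.{u}) with he
    haveI : IsClosedImmersion e := IsClosedImmersion.spec_of_surjective _ ev0_surjective
    have hsq : IsPullback e (𝟙 _) (chartPt i Z.{u}) (P1.point.{u} i) := by
      refine IsPullback.of_isLimit' ⟨by rw [point_eq, Category.id_comp]⟩
        (PullbackCone.IsLimit.mk _ (fun s => s.snd) (fun s => ?_) (fun s => Category.comp_id _) (fun s t _ h2 => ?_))
      · rw [← cancel_mono (chartPt i Z.{u}), Category.assoc, ← point_eq]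
        exact s.condition.symm
      · rw [← h2, Category.comp_id]
    have hker : (P1.point.{u} i).ker.comap (chartPt i Z.{u}) = e.ker := by
      rw [← Scheme.IdealSheafData.ker_fst_of_isClosedImmersion, ← hsq.isoPullback_inv_fst,
        Scheme.Hom.ker_comp_of_isIso]
    have h1 := Groth.ParaFormal.stalkIdeal_comap (P1.point.{u} i).ker (chartPt i Z.{u}) p
    rw [hker, Groth.ParaFormal.stalkIdeal_eq e.ker ⟨⊤, isAffineOpen_top _⟩ (x := p) (Set.mem_univ p)] at h1
    have h2 : e.ker.ideal ⟨⊤, isAffineOpen_top _⟩ = Ideal.span {(Scheme.ΓSpecIso _).inv.hom (MvPolynomial.X 0)} := by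
      rw [Scheme.Hom.ker_apply]
      ext a
      obtain ⟨b, rfl⟩ := (ConcreteCategory.bijective_of_isIso (Scheme.ΓSpecIso
        (CommRingCat.of (MvPolynomial (Fin 1) Z.{u}))).inv).2 a
      have h3 := ConcreteCategory.congr_hom (Scheme.ΓSpecIso_inv_naturality (CommRingCat.ofHom ev0.{u})) b
      simp only [CommRingCat.hom_comp, RingHom.comp_apply, CommRingCat.hom_ofHom] at h3
      rw [RingHom.mem_ker]
      have h4 : (e.app ⊤).hom ((Scheme.ΓSpecIso _).inv.hom b) = 0 ↔ ev0 b = 0 := by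
        refine ⟨fun h => (ConcreteCategory.bijective_of_isIso (Scheme.ΓSpecIso (CommRingCat.of Z.{u})).inv).1 ?_,
          fun h => ?_⟩
        · rw [map_zero]; exact h3.trans h
        · exact h3.symm.trans (by rw [h]; exact map_zero _)
      refine h4.trans ?_
      rw [← RingHom.mem_ker, ker_ev0, Ideal.mem_span_singleton, Ideal.mem_span_singleton]
      constructor
      · exact map_dvd _
      · intro h; simpa using map_dvd (Scheme.ΓSpecIso (CommRingCat.of (MvPolynomial (Fin 1) Z.{u}))).hom.hom h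
    rw [h2, Ideal.map_span, Set.image_singleton, ← chartPt_T i] at h1
    have hbij : Function.Bijective ((chartPt i Z.{u}).stalkMap p).hom :=
      ConcreteCategory.bijective_of_isIso ((chartPt i Z.{u}).stalkMap p)
    have hinj : Function.Injective (Ideal.map ((chartPt i Z.{u}).stalkMap p).hom) :=
      fun I J h => by rw [← Ideal.comap_map_of_bijective _ hbij (I := I), h, Ideal.comap_map_of_bijective _ hbij]
    refine hinj ?_
    rw [← h1, Ideal.map_span, Set.image_singleton]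
    congr 2
    refine Eq.trans ?_ (Scheme.Hom.germ_stalkMap_apply (chartPt i Z.{u}) (D i) p hq (T i)).symm
    exact TopCat.Presheaf.germ_res_apply _ (homOfLE (top_le_preimage i)) p trivial _
  · rw [← SetLike.mem_coe, Scheme.Hom.support_ker, (P1.point.{u} i).isClosedEmbedding.isClosed_range.closure_eq] at hs
    obtain ⟨w, rfl⟩ := hs
    rw [point_eq, Scheme.Hom.comp_apply, ← SetLike.mem_coe, ← range_chartPt]
    exact ⟨_, rfl⟩

theorem isUnit_germ_T_iff (i : Fin (1 + 1)) (q : CohB1.ProjSpace 1 Z.{u}) (hq : q ∈ D i) :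
    IsUnit ((CohB1.ProjSpace 1 Z.{u}).presheaf.germ (D i) q hq (T i)) ↔ q ∈ D (oth i) := by
  constructor
  · intro hu
    obtain ⟨p, rfl⟩ : q ∈ Set.range (chartPt i Z.{u}) := by rw [range_chartPt]; exact hq
    show p ∈ chartPt i Z.{u} ⁻¹ᵁ D (oth i)
    rw [chartPt_preimage_D]
    refine (basicOpen_eq_of_affine (R := CommRingCat.of (MvPolynomial (Fin 1) Z.{u})) (MvPolynomial.X 0)).le ?_
    rw [Scheme.mem_basicOpen _ _ _ (Set.mem_univ p)]
    have h := hu.map ((chartPt i Z.{u}).stalkMap p).hom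
    have e : ((chartPt i Z.{u}).stalkMap p).hom ((CohB1.ProjSpace 1 Z.{u}).presheaf.germ (D i) _ hq (T i)) =
        (Spec (CommRingCat.of (MvPolynomial (Fin 1) Z.{u}))).presheaf.germ ⊤ p trivial
          ((Scheme.ΓSpecIso _).inv.hom (MvPolynomial.X 0)) := by
      rw [← chartPt_T i]
      exact (Scheme.Hom.germ_stalkMap_apply (chartPt i Z.{u}) (D i) p hq (T i)).trans
        (TopCat.Presheaf.germ_res_apply _ (homOfLE (top_le_preimage i)) p trivial _).symm
    exact e ▸ h
  · intro hq'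
    have h := res_T_mul i (D i ⊓ D (oth i)) inf_le_left inf_le_right
    have h2 := congrArg ((CohB1.ProjSpace 1 Z.{u}).presheaf.germ (D i ⊓ D (oth i)) q ⟨hq, hq'⟩).hom h
    rw [map_mul, map_one, TopCat.Presheaf.germ_res_apply, TopCat.Presheaf.germ_res_apply] at h2
    exact IsUnit.of_mul_eq_one _ h2

theorem range_point (i : Fin (1 + 1)) :
    Set.range (P1.point.{u} i) = {q | q ∉ D (oth i)} := by
  have hsupp : ((P1.point.{u} i).ker.support : Set (CohB1.ProjSpace 1 Z.{u})) = Set.range (P1.point.{u} i) := by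
    rw [Scheme.Hom.support_ker, (P1.point.{u} i).isClosedEmbedding.isClosed_range.closure_eq]
  ext q
  constructor
  · rintro ⟨w, rfl⟩ hq'
    have hq : P1.point i w ∈ D i := by
      rw [point_eq, Scheme.Hom.comp_apply, ← SetLike.mem_coe, ← range_chartPt]
      exact ⟨_, rfl⟩
    have h1 : stalkIdeal (P1.point.{u} i).ker (P1.point i w) = ⊤ := by
      rw [(stalkIdeal_point i _).1 hq, Ideal.span_singleton_eq_top]
      exact (isUnit_germ_T_iff i _ hq).mpr hq'
    have hw : P1.point i w ∈ (P1.point.{u} i).ker.support := hsupp.ge ⟨w, rfl⟩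
    obtain ⟨U, hU, -⟩ := Divisors.exists_affine_le (P1.point i w) ⊤ trivial
    rw [Groth.ParaFormal.stalkIdeal_eq _ U hU] at h1
    have hz : P1.point i w ∈ (CohB1.ProjSpace 1 Z.{u}).zeroLocus (U := U.1) ((P1.point.{u} i).ker.ideal U) :=
      ((P1.point.{u} i).ker.coe_support_inter U ▸ (show P1.point i w ∈
        ((P1.point.{u} i).ker.support : Set _) ∩ U from ⟨hw, hU⟩)).1
    rw [Scheme.mem_zeroLocus_iff] at hz
    have hle : ((P1.point.{u} i).ker.ideal U).map ((CohB1.ProjSpace 1 Z.{u}).presheaf.germ U.1 _ hU).hom ≤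
        IsLocalRing.maximalIdeal _ := by
      rw [Ideal.map_le_iff_le_comap]
      intro f hf
      exact (IsLocalRing.mem_maximalIdeal _).mpr fun hu => hz f hf ((Scheme.mem_basicOpen _ f _ hU).mpr hu)
    rw [h1] at hle
    exact (IsLocalRing.maximalIdeal.isMaximal _).ne_top (top_le_iff.mp hle)
  · intro (hq' : q ∉ D (oth i))
    rw [← hsupp]
    by_contra hs
    have h1 := stalkIdeal_eq_top_of_notMem _ hs
    have hq : q ∈ D i := (exists_mem_D q i).resolve_right hq'
    rw [(stalkIdeal_point i q).1 hq, Ideal.span_singleton_eq_top] at h1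
    exact hq' ((isUnit_germ_T_iff i q hq).mp h1)

variable (X : Scheme.{u})

/-- the projection to the absolute projective line -/
noncomputable abbrev pr : CohB1.ProjSpaceOver 1 X ⟶ CohB1.ProjSpace 1 Z.{u} := pullback.fst _ _

/-- the charts of the relative projective line -/
noncomputable def C (i : Fin (1 + 1)) : (CohB1.ProjSpaceOver 1 X).Opens := pr X ⁻¹ᵁ D i

/-- the coordinates on the charts -/
noncomputable def t (i : Fin (1 + 1)) : Γ(CohB1.ProjSpaceOver 1 X, C X i) := (pr X).app (D i) (T i)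

theorem germ_t (i : Fin (1 + 1)) (p : CohB1.ProjSpaceOver 1 X) (hp : p ∈ C X i) :
    (CohB1.ProjSpaceOver 1 X).presheaf.germ (C X i) p hp (t X i) =
      ((pr X).stalkMap p).hom ((CohB1.ProjSpace 1 Z.{u}).presheaf.germ (D i) (pr X p) hp (T i)) :=
  (Scheme.Hom.germ_stalkMap_apply (pr X) (D i) p hp (T i)).symm

theorem isUnit_germ_t_iff (i : Fin (1 + 1)) (p : CohB1.ProjSpaceOver 1 X) (hp : p ∈ C X i) :
    IsUnit ((CohB1.ProjSpaceOver 1 X).presheaf.germ (C X i) p hp (t X i)) ↔ p ∈ C X (oth i) := by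
  rw [germ_t, isUnit_map_iff]
  exact isUnit_germ_T_iff i _ hp

theorem mem_C_or (p : CohB1.ProjSpaceOver 1 X) (i : Fin (1 + 1)) : p ∈ C X i ∨ p ∈ C X (oth i) :=
  exists_mem_D (pr X p) i

theorem germ_t_mul (i : Fin (1 + 1)) (p : CohB1.ProjSpaceOver 1 X) (hp : p ∈ C X i) (hp' : p ∈ C X (oth i)) :
    (CohB1.ProjSpaceOver 1 X).presheaf.germ (C X i) p hp (t X i) *
      (CohB1.ProjSpaceOver 1 X).presheaf.germ (C X (oth i)) p hp' (t X (oth i)) = 1 := by
  rw [germ_t, germ_t, ← map_mul]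
  have h := res_T_mul i (D i ⊓ D (oth i)) inf_le_left inf_le_right
  have h2 := congrArg ((CohB1.ProjSpace 1 Z.{u}).presheaf.germ (D i ⊓ D (oth i)) (pr X p) ⟨hp, hp'⟩).hom h
  rw [map_mul, map_one, TopCat.Presheaf.germ_res_apply, TopCat.Presheaf.germ_res_apply] at h2
  exact (congrArg _ h2).trans (map_one _)

theorem sect_toBase (i : Fin (1 + 1)) : P1.sect X i ≫ CohB1.ProjSpaceOver.toBase 1 X = 𝟙 X :=
  pullback.lift_snd _ _ _

theorem isPullback_sect (i : Fin (1 + 1)) :
    IsPullback (P1.sect X i) (specULiftZIsTerminal.from X) (pr X) (P1.point i) := by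
  refine IsPullback.of_right (h₁₂ := CohB1.ProjSpaceOver.toBase 1 X) (v₁₃ := specULiftZIsTerminal.from X)
    (h₂₂ := CohB1.ProjSpace.toSpec 1 Z.{u}) ?_ ?_ (IsPullback.of_hasPullback _ _).flip
  · rw [sect_toBase, show P1.point.{u} i ≫ CohB1.ProjSpace.toSpec 1 Z.{u} = 𝟙 _ from specULiftZIsTerminal.hom_ext _ _]
    exact IsPullback.of_horiz_isIso ⟨by simp⟩
  · exact pullback.lift_fst _ _ _

instance isClosedImmersion_sect (i : Fin (1 + 1)) : IsClosedImmersion (P1.sect X i) :=
  MorphismProperty.of_isPullback (P := @IsClosedImmersion) (isPullback_sect X i).flip (isClosedImmersion_point i)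

theorem ker_sect (i : Fin (1 + 1)) : (P1.sect X i).ker = (P1.point.{u} i).ker.comap (pr X) := by
  rw [← Scheme.IdealSheafData.ker_fst_of_isClosedImmersion, ← (isPullback_sect X i).isoPullback_hom_fst,
    Scheme.Hom.ker_comp_of_isIso]

theorem stalkIdeal_sect (i : Fin (1 + 1)) (p : CohB1.ProjSpaceOver 1 X) :
    (∀ hp : p ∈ C X i, stalkIdeal (P1.sect X i).ker p =
      Ideal.span {(CohB1.ProjSpaceOver 1 X).presheaf.germ (C X i) p hp (t X i)}) ∧
    (p ∉ C X i → stalkIdeal (P1.sect X i).ker p = ⊤) := by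
  rw [ker_sect, Groth.ParaFormal.stalkIdeal_comap]
  refine ⟨fun hp => ?_, fun hp => ?_⟩
  · rw [(stalkIdeal_point i _).1 hp, Ideal.map_span, Set.image_singleton, germ_t]
  · rw [(stalkIdeal_point i _).2 hp, Ideal.map_top]

theorem range_sect (i : Fin (1 + 1)) : Set.range (P1.sect X i) = {p | p ∉ C X (oth i)} := by
  rw [← (isPullback_sect X i).isoPullback_hom_fst, Scheme.Hom.comp_base, TopCat.coe_comp, Set.range_comp,
    Set.range_eq_univ.mpr (isPullback_sect X i).isoPullback.hom.surjective, Set.image_univ,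
    Scheme.Pullback.range_fst, range_point]
  rfl

theorem chartMap_frac (B : Type u) [CommRing B] (b : B) : P1.chartMap 0 B b (frac 0) = b := by
  set c : Fin (1 + 1) → B := Function.update (fun _ => b) 0 1 with hc
  have hu : IsUnit (ev c (MvPolynomial.X 0)) := by simp [c]
  have e : P1.chartMap 0 B b = evAway (MvPolynomial.X 0) c hu := rfl
  rw [e, evAway_lift, frac, HomogeneousLocalization.Away.val_mk]
  have h1 := lift_mk c hu (MvPolynomial.X (oth 0)) 1
  rw [ev_X, ev_X, show c 0 = 1 by simp [c], one_pow, mul_one] at h1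
  refine h1.trans ?_
  simp [c, oth]

theorem graph_pr (U : X.Opens) (f : Γ(X, U)) :
    P1.graph X U f ≫ pr X = U.toSpecΓ ≫ Spec.map (CommRingCat.ofHom (P1.chartMap 0 Γ(X, U) f)) ≫
      Proj.awayι (gr 1) (MvPolynomial.X 0) (X_mem 0) one_pos :=
  pullback.lift_fst _ _ _

theorem graph_toBase (U : X.Opens) (f : Γ(X, U)) :
    P1.graph X U f ≫ CohB1.ProjSpaceOver.toBase 1 X = U.ι :=
  pullback.lift_snd _ _ _

theorem graph_mem_C (U : X.Opens) (f : Γ(X, U)) : ⊤ ≤ P1.graph X U f ⁻¹ᵁ C X 0 := fun u _ => by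
  show (P1.graph X U f ≫ pr X) u ∈ ((D.{u} (n := 1) 0) : Set _)
  rw [← range_aw, graph_pr]
  exact ⟨_, rfl⟩

theorem graph_t (U : X.Opens) (f : Γ(X, U)) :
    (P1.graph X U f).appLE (C X 0) ⊤ (graph_mem_C X U f) (t X 0) = U.topIso.inv f := by
  set φ := CommRingCat.ofHom (P1.chartMap 0 Γ(X, U) f) with hφ
  have hle : ⊤ ≤ Proj.awayι (gr 1) (MvPolynomial.X 0 : MvPolynomial _ Z.{u}) (X_mem 0) one_pos ⁻¹ᵁ
      Proj.basicOpen (gr 1) (MvPolynomial.X 0) := fun p _ => by
    show _ ∈ Proj.basicOpen (gr 1) _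
    rw [← Proj.opensRange_awayι (gr 1) _ (X_mem 0) one_pos]
    exact ⟨p, rfl⟩
  have hle2 : ⊤ ≤ (P1.graph X U f ≫ pr X) ⁻¹ᵁ D 0 := graph_mem_C X U f
  have h1 : (P1.graph X U f).appLE (C X 0) ⊤ (graph_mem_C X U f) (t X 0) =
      (P1.graph X U f ≫ pr X).appLE (D 0) ⊤ hle2 (T 0) := by
    rw [Scheme.Hom.comp_appLE]
    rfl
  have h2 : (P1.graph X U f ≫ pr X).appLE (D 0) ⊤ hle2 =
      (Proj.awayι (gr 1) (MvPolynomial.X 0) (X_mem 0) one_pos).appLE (Proj.basicOpen (gr 1) (MvPolynomial.X 0)) ⊤ hle ≫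
        (Spec.map φ).appLE ⊤ ⊤ le_top ≫ U.toSpecΓ.appLE ⊤ ⊤ le_top := by
    simp only [graph_pr]
    rw [Scheme.Hom.appLE_comp_appLE, Scheme.Hom.appLE_comp_appLE]
    rfl
  rw [h1, h2]
  have h9 : (Spec.map φ).appLE ⊤ ⊤ le_top = (Spec.map φ).appTop := by
    rw [Scheme.Hom.appTop, Scheme.Hom.app_eq_appLE]; rfl
  have h10 : U.toSpecΓ.appLE ⊤ ⊤ le_top = (Scheme.ΓSpecIso _).hom ≫ U.topIso.inv := by
    rw [← Scheme.Opens.toSpecΓ_appTop, Scheme.Hom.appTop, Scheme.Hom.app_eq_appLE]; rfl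
  refine (congrArg ((Spec.map φ).appLE ⊤ ⊤ le_top ≫ U.toSpecΓ.appLE ⊤ ⊤ le_top).hom
    (awayι_appLE _ (X_mem 0) hle (frac 0))).trans ?_
  rw [h9, h10]
  have h3 := ConcreteCategory.congr_hom (Scheme.ΓSpecIso_inv_naturality φ) (frac 0)
  refine (congrArg ((Scheme.ΓSpecIso _).hom ≫ U.topIso.inv).hom h3.symm).trans ?_
  have h4 : φ.hom (frac 0) = f := chartMap_frac _ f
  refine (congrArg (fun y => ((Scheme.ΓSpecIso _).hom ≫ U.topIso.inv).hom ((Scheme.ΓSpecIso Γ(X, U)).inv.hom y)) h4).trans ?_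
  exact congrArg U.topIso.inv.hom (ConcreteCategory.congr_hom (Scheme.ΓSpecIso Γ(X, U)).inv_hom_id f)

end Groth.CycInter.P1C
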