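import Groth.Agent.CycInter.P1Coord
import Groth.Agent.CycInter.DivZero
import Groth.Agent.Cycles.KeyScheme

/-!
The coordinate of the projective line pulled back to an integral scheme: its divisor is the fibre at zero
minus the fibre at infinity.
-/

universe u

set_option autoImplicit false

open CategoryTheory CategoryTheory.Limits AlgebraicGeometry IntMult
open Groth.RefRank Groth.Cycles

namespace Groth.CycInter.P1C

variable {X Y : Scheme.{u}} (h : Y ⟶ CohB1.ProjSpaceOver 1 X)

/-- the germ at `y` of the coordinate pulled back along `h` -/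
noncomputable def pullT (i : Fin (1 + 1)) (y : Y) (hy : h y ∈ C X i) : Y.presheaf.stalk y :=
  (h.stalkMap y).hom ((CohB1.ProjSpaceOver 1 X).presheaf.germ (C X i) (h y) hy (t X i))

theorem pullT_spec (i : Fin (1 + 1)) {y η : Y} (hs : η ⤳ y) (hy : h y ∈ C X i) (hη : h η ∈ C X i) :
    (Y.presheaf.stalkSpecializes hs).hom (pullT h i y hy) = pullT h i η hη := by
  unfold pullT
  rw [← CommRingCat.comp_apply, ← Scheme.Hom.stalkSpecializes_stalkMap, CommRingCat.comp_apply]
  exact congrArg _ (TopCat.Presheaf.germ_stalkSpecializes_apply _ hy (hs.map h.continuous) _)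

theorem isUnit_pullT_iff (i : Fin (1 + 1)) (y : Y) (hy : h y ∈ C X i) :
    IsUnit (pullT h i y hy) ↔ h y ∈ C X (oth i) := by
  rw [pullT, isUnit_map_iff]
  exact isUnit_germ_t_iff X i _ hy

theorem pullT_mul (i : Fin (1 + 1)) (y : Y) (hy : h y ∈ C X i) (hy' : h y ∈ C X (oth i)) :
    pullT h i y hy * pullT h (oth i) y hy' = 1 := by
  rw [pullT, pullT, ← map_mul, germ_t_mul X i _ hy hy', map_one]

theorem notMem_range_fst (i : Fin (1 + 1)) {y : Y} (hy : h y ∈ C X (oth i)) :
    y ∉ Set.range (pullback.fst h (P1.sect X i)) := by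
  rw [Scheme.Pullback.range_fst, range_sect]
  exact fun hn => hn hy

theorem subschemeFun_fst_of_notMem (δ : Y → ℤ) (k : ℤ) (i : Fin (1 + 1)) {y : Y} (hy : h y ∈ C X (oth i)) :
    Cyc.subschemeFun δ k (pullback.fst h (P1.sect X i)) y = 0 := by
  by_contra hne
  obtain ⟨-, z, hz⟩ := Groth.Calg6.ClosedImmStalk.exists_of_subschemeFun_ne_zero _ _ _ _ hne
  exact notMem_range_fst h i hy ⟨z, hz⟩

theorem subschemeFun_fst_eq (δ : Y → ℤ) (k : ℤ) (i : Fin (1 + 1)) {y : Y} (hy : h y ∈ C X i) (hk : δ y = k) :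
    Cyc.subschemeFun δ k (pullback.fst h (P1.sect X i)) y =
      ((Module.length (Y.presheaf.stalk y)
        (Y.presheaf.stalk y ⧸ Ideal.span {pullT h i y hy})).toNat : ℤ) := by
  by_cases hy' : h y ∈ C X (oth i)
  · rw [subschemeFun_fst_of_notMem h δ k i hy', Ideal.span_singleton_eq_top.mpr ((isUnit_pullT_iff h i y hy).mpr hy')]
    haveI : Subsingleton (Y.presheaf.stalk y ⧸ (⊤ : Ideal (Y.presheaf.stalk y))) := Ideal.Quotient.subsingleton_iff.mpr rfl
    rw [Module.length_eq_zero]
    rfl
  · obtain ⟨z, rfl⟩ : y ∈ Set.range (pullback.fst h (P1.sect X i)) := by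
      rw [Scheme.Pullback.range_fst, range_sect]; exact hy'
    rw [Groth.Calg6.ClosedImmStalk.subschemeFun_eq δ k _ z, if_pos hk,
      Groth.Calg6.ClosedImmStalk.length_stalk (pullback.fst h (P1.sect X i)) z]
    rw [Scheme.IdealSheafData.ker_fst_of_isClosedImmersion, Groth.ParaFormal.stalkIdeal_comap,
      (stalkIdeal_sect X i _).1 hy, Ideal.map_span, Set.image_singleton]
    rfl

section Integral

variable [IsIntegral Y]

/-- the rational function given by a coordinate -/
noncomputable def ratT (i : Fin (1 + 1)) (hi : h (genericPoint Y) ∈ C X i) : Y.residueField (genericPoint Y) :=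
  Y.residue (genericPoint Y) (pullT h i (genericPoint Y) hi)

theorem ratT_mul (i : Fin (1 + 1)) (hi : h (genericPoint Y) ∈ C X i) (hi' : h (genericPoint Y) ∈ C X (oth i)) :
    ratT h i hi * ratT h (oth i) hi' = 1 := by
  rw [ratT, ratT, ← map_mul, pullT_mul, map_one]

theorem ordAt_ratT {δ : Y → ℤ} (hY : Cyc.IsSetup Y δ) {n : ℤ} (hn : δ (genericPoint Y) = n) (i : Fin (1 + 1))
    (hi : h (genericPoint Y) ∈ C X i) (hi' : h (genericPoint Y) ∈ C X (oth i)) {y : Y}
    (hy : δ y = n - 1) (hyC : h y ∈ C X i) :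
    Cyc.ordAt y (genericPoint Y) (genericPoint_specializes y) (ratT h i hi) =
      Cyc.subschemeFun δ (n - 1) (pullback.fst h (P1.sect X i)) y := by
  have := hY.1
  have hdim : ringKrullDim (Y.presheaf.stalk y) ≤ 1 :=
    (ringKrullDim_stalk_eq_one_of_delta hY.2.2 (show δ y + 1 = δ (genericPoint Y) by omega)).le
  have hkd := krullDimLE_of_dim_le hdim
  set a := pullT h i y hyC with ha
  have hsp : rspec (genSpec y) a = pullT h i (genericPoint Y) hi := pullT_spec h i (genSpec y) hyC hi
  have ha0 : a ≠ 0 := fun e => by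
    have h1 : IsUnit (pullT h i (genericPoint Y) hi) := (isUnit_pullT_iff h i _ hi).mpr hi'
    rw [← hsp, e, map_zero] at h1
    exact not_isUnit_zero h1
  rw [ratT, ← hsp, ordAt_residue hdim]
  show CycAlg.ordFrac (Y.presheaf.stalk y) Y.functionField
    (algebraMap (Y.presheaf.stalk y) Y.functionField a) = _
  rw [ordFrac_algebraMap' ha0, subschemeFun_fst_eq h δ (n - 1) i hyC hy]
  rfl

/-- The divisor of the coordinate is the fibre at zero minus the fibre at infinity. -/
theorem divFun_ratT {δ : Y → ℤ} (hY : Cyc.IsSetup Y δ) {n : ℤ} (hn : δ (genericPoint Y) = n)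
    (i : Fin (1 + 1)) (hi : h (genericPoint Y) ∈ C X i) (hi' : h (genericPoint Y) ∈ C X (oth i)) :
    Cyc.divFun δ (genericPoint Y) (ratT h i hi) = fun y =>
      Cyc.subschemeFun δ (n - 1) (pullback.fst h (P1.sect X i)) y -
        Cyc.subschemeFun δ (n - 1) (pullback.fst h (P1.sect X (oth i))) y := by
  classical
  funext y
  by_cases hy : δ y = n - 1
  swap
  · rw [Cyc.divFun, dif_neg (fun hh => hy (by have := hh.2; omega)), Cyc.subschemeFun, if_neg hy,
      Cyc.subschemeFun, if_neg hy, sub_zero]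
  have hdp : IsDivPt δ (genericPoint Y) y := ⟨genericPoint_specializes y, by omega⟩
  rw [Cyc.divFun, dif_pos (show genericPoint Y ⤳ y ∧ δ y + 1 = δ (genericPoint Y) from hdp)]
  rcases mem_C_or X (h y) i with hyC | hyC
  · rw [ordAt_ratT h hY hn i hi hi' hy hyC, subschemeFun_fst_of_notMem h δ (n - 1) (oth i)
      (by rw [oth_oth]; exact hyC), sub_zero]
  · have h0 : ratT h i hi ≠ 0 := left_ne_zero_of_mul_eq_one (ratT_mul h i hi hi')
    have h0' : ratT h (oth i) hi' ≠ 0 := right_ne_zero_of_mul_eq_one (ratT_mul h i hi hi')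
    have hsum := ordAt_mul hY hdp h0 h0'
    rw [ratT_mul h i hi hi', ordAt_one hY hdp] at hsum
    rw [subschemeFun_fst_of_notMem h δ (n - 1) i hyC, zero_sub]
    have := ordAt_ratT h hY hn (oth i) hi' (by rw [oth_oth]; exact hi) hy hyC
    omega

end Integral

end Groth.CycInter.P1C
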