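import Groth.Agent.Misc1.P1Pow.Over
import Groth.Agent.Quot.FibreReg
import Groth.Agent.Variety2.ProjDim
import Groth.Agent.AlgSpBasic.DimIntegral
import Groth.Agent.S0450

/-! Flat dominant closed subschemes of codimension n in powers of the projective line. -/

universe u

open CategoryTheory CategoryTheory.Limits AlgebraicGeometry Order

namespace Groth.CycInter

theorem eq_of_specializes_of_lqf {A B : Scheme.{u}} (φ : A ⟶ B) [LocallyQuasiFinite φ] [LocallyOfFiniteType φ] {a b : A}
    (h : a ⤳ b) (e : φ a = φ b) : a = b := by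
  have hd := locallyQuasiFinite_iff_isDiscrete_preimage_singleton.mp ‹LocallyQuasiFinite φ› (φ b)
  rw [isDiscrete_iff_discreteTopology] at hd
  have h' : (⟨a, e⟩ : φ ⁻¹' {φ b}) ⤳ ⟨b, rfl⟩ := Topology.IsInducing.subtypeVal.specializes_iff.mp h
  exact congrArg Subtype.val h'.eq

theorem strictMono_of_lqf {A B : Scheme.{u}} (φ : A ⟶ B) [LocallyQuasiFinite φ] [LocallyOfFiniteType φ] :
    StrictMono (fun a : A => φ a) := by
  intro a b hab
  refine lt_of_le_not_ge ((show b ⤳ a from hab.le).map φ.continuous) fun hge => hab.not_ge ?_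
  have e : φ a = φ b := (Specializes.antisymm (show φ a ⤳ φ b from hge) ((show b ⤳ a from hab.le).map φ.continuous)).eq
  exact (eq_of_specializes_of_lqf φ (show b ⤳ a from hab.le) e.symm).le

theorem coheight_projSpaceOver_le {X : Scheme.{u}} [IsIntegral X] (n : ℕ)
    (p : CohB1.ProjSpaceOver n X) (hp : CohB1.ProjSpaceOver.toBase n X p = genericPoint X) :
    Order.coheight p ≤ (n : ℕ∞) := by
  set π := CohB1.ProjSpaceOver.toBase n X with hπ
  obtain ⟨q, -, -⟩ := Groth.Quot.exists_fibre_iso n
    (Coh.structureModule (CohB1.ProjSpaceOver n X)) (genericPoint X)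
  have hdim : topologicalKrullDim ↥(π.fiber (genericPoint X)) = (n : WithBot ℕ∞) := by
    rw [← q.hom.homeomorph.isHomeomorph.topologicalKrullDim_eq]
    exact Groth.Variety2.PSpace.dim_projSpace
  have hover : ∀ a : CohB1.ProjSpaceOver n X, p ≤ a → a ∈ π ⁻¹' {genericPoint X} := fun a ha => by
    have h1 : π a ⤳ genericPoint X := hp ▸ (show a ⤳ p from ha).map π.continuous
    exact (h1.antisymm (genericPoint_specializes _)).eq
  let e : Set.Ici p → ↥(π.fiber (genericPoint X)) := fun a =>
    (π.fiberHomeo (genericPoint X)).symm ⟨a.1, hover _ a.2⟩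
  have he : StrictMono e := by
    intro a b hab
    have h1 : (π.fiberι _ (e a)) = a.1 := by simp [e]
    have h2 : (π.fiberι _ (e b)) = b.1 := by simp [e]
    have hab' : (a : CohB1.ProjSpaceOver n X) < b := hab
    refine lt_of_le_not_ge ?_ fun hge => hab'.not_ge ?_
    · refine (π.fiberι _).isEmbedding.isInducing.specializes_iff.mp ?_
      rw [h1, h2]; exact hab'.le
    · have := (show e a ⤳ e b from hge).map (π.fiberι _).continuous
      rwa [h1, h2] at this
  have h := Order.krullDim_le_of_strictMono e he
  rw [← Order.coheight_eq_krullDim_Ici, ← Groth.AlgSpBasic.topologicalKrullDim_eq_points, hdim] at h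
  exact_mod_cast h

theorem isFinite_surjective_of_dominant_flat (X : Scheme.{u}) [IsIntegral X] [IsNoetherian X] (n : ℕ)
    (W : Scheme.{u}) [IsIntegral W]
    (i : W ⟶ widePullback X (fun _ : Fin n => CohB1.ProjSpaceOver 1 X)
      (fun _ => CohB1.ProjSpaceOver.toBase 1 X))
    [IsClosedImmersion i]
    (hcodim : ringKrullDim
      ((widePullback X (fun _ : Fin n => CohB1.ProjSpaceOver 1 X)
        (fun _ => CohB1.ProjSpaceOver.toBase 1 X)).presheaf.stalk (i.base (genericPoint W))) = n)
    (f : W ⟶ X)
    (hf : i ≫ WidePullback.base (fun _ : Fin n => CohB1.ProjSpaceOver.toBase 1 X) = f)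
    [IsDominant f] [Flat f] :
    IsFinite f ∧ Surjective f := by
  obtain ⟨φ, hφf, hφs, hφb⟩ := Groth.Chow.exists_finite_surjective_pow X n
  haveI : IsProper (CohB1.ProjSpaceOver.toBase n X) :=
    Groth.Variety2.isProper_projSpaceOver_toBase _ _
  haveI : IsProper f := by rw [← hf, ← hφb]; infer_instance
  haveI hsurj : Surjective f :=
    ⟨Set.range_eq_univ.mp (f.denseRange.closure_range ▸ (f.isClosedMap.isClosed_range).closure_eq.symm)⟩
  refine ⟨?_, hsurj⟩
  set η := genericPoint X with hη
  have hfib : f ⁻¹' {η} ⊆ {genericPoint W} := by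
    intro w (hw : f w = η)
    by_contra hne
    have hsp : i (genericPoint W) ⤳ i w := (genericPoint_specializes w).map i.continuous
    have hlt : i w < i (genericPoint W) := lt_of_le_not_ge hsp fun h =>
      hne (i.isEmbedding.injective (Specializes.antisymm (show i w ⤳ i (genericPoint W) from h) hsp).eq)
    have h1 := Order.coheight_add_one_le hlt
    have h2 : Order.coheight (i (genericPoint W)) = (n : ℕ∞) := by
      have := hcodim
      rw [ringKrullDim_stalk_eq_coheight] at this
      exact_mod_cast this
    have h3 := Order.coheight_le_coheight_apply_of_strictMono _ (strictMono_of_lqf φ) (i w)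
    have h4 := coheight_projSpaceOver_le n (φ (i w)) (by
      rw [← Scheme.Hom.comp_apply, hφb, ← Scheme.Hom.comp_apply, hf, hw])
    rw [h2] at h1
    have : ((n : ℕ∞) + 1) ≤ n := h1.trans (h3.trans h4)
    exact absurd this (by exact_mod_cast Nat.not_succ_le_self n)
  obtain ⟨V, hηV, hV⟩ :=
    exists_isFinite_morphismRestrict_of_finite_preimage_singleton f η ((Set.finite_singleton _).subset hfib)
  haveI : IsLocallyNoetherian W := LocallyOfFiniteType.isLocallyNoetherian f
  haveI : LocallyOfFinitePresentation f := inferInstance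
  exact Groth.Agent.S0450.result f V (V.2.dense ⟨η, hηV⟩) 

end Groth.CycInter
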