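import Groth.Agent.CycInter.P1Fibre
import Groth.Agent.Cycles.NormDiv
import Groth.Agent.Cycles.PushC1
import Groth.Agent.FibreDim.LowerSemicont
import Groth.Agent.PropsBasic.IntegralImage

/-!
The divisor of an invertible function as the difference of the two fibres of the closure of its graph.
-/

universe u

set_option autoImplicit false

open CategoryTheory CategoryTheory.Limits AlgebraicGeometry
open Groth.RefRank Groth.Cycles Groth.Variety2.Dim Groth.Misc15.ProjPts

namespace Groth.CycInter.P1C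

variable {X Y : Scheme.{u}}

theorem exists_deltaCompat (q : Y ⟶ X) [LocallyOfFiniteType q] (δ : X → ℤ) :
    ∃ δY : Y → ℤ, Cyc.DeltaCompat q δY δ := by
  choose n hn using fun y => Groth.FibreDim.exists_relTrdeg_eq_height q y
  exact ⟨fun y => δ (q y) + n y, fun y => ⟨n y, (hn y).1, rfl⟩⟩

theorem residue_eq_evaluation (U : X.Opens) (x : X) (hx : x ∈ U) (s : Γ(X, U)) :
    X.residue x (X.presheaf.germ U x hx s) = X.evaluation U x hx s := rfl

theorem stalkMap_fac {A B C : Scheme.{u}} (g : A ⟶ B) (ι : B ⟶ C) (q : A ⟶ C) (e : g ≫ ι = q) (a : A)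
    {V : C.Opens} (h1 : ι (g a) ∈ V) (h2 : q a ∈ V) (s : Γ(C, V)) :
    (g.stalkMap a).hom ((ι.stalkMap (g a)).hom (C.presheaf.germ V (ι (g a)) h1 s)) =
      (q.stalkMap a).hom (C.presheaf.germ V (q a) h2 s) := by
  subst e
  rw [Scheme.Hom.stalkMap_comp]
  rfl

theorem divFun_eq_fibres (X : Scheme.{u}) [IsIntegral X] (δ : X → ℤ) (hX : Cyc.IsSetup X δ) (n : ℤ)
    (hn : δ (genericPoint X) = n) (U : X.Opens) (hη : genericPoint X ∈ U) (f : Γ(X, U)) (hf : IsUnit f) :
    Cyc.divFun δ (genericPoint X) (X.evaluation U (genericPoint X) hη f) = fun x =>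
      Cyc.subschemeFun δ (n - 1) (pullback.snd (P1.graphClosureι X U f) (P1.sect X 0)) x -
      Cyc.subschemeFun δ (n - 1) (pullback.snd (P1.graphClosureι X U f) (P1.sect X 1)) x := by
  have := hX.1
  haveI : IsProper (CohB1.ProjSpaceOver.toBase 1 X) := Groth.Variety2.isProper_projSpaceOver_toBase _ _
  haveI : Nonempty (U : Scheme.{u}) := ⟨⟨genericPoint X, hη⟩⟩
  haveI : IsIntegral (U : Scheme.{u}) := isIntegral_of_isOpenImmersion U.ι
  set gr := P1.graph X U f with hgr
  haveI : QuasiCompact (gr ≫ CohB1.ProjSpaceOver.toBase 1 X) := by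
    rw [hgr, graph_toBase]; infer_instance
  haveI : QuasiCompact gr := QuasiCompact.of_comp gr (CohB1.ProjSpaceOver.toBase 1 X)
  haveI : IsIntegral gr.ker.subscheme := Groth.PropsBasic.isIntegral_image gr
  let g' : (U : Scheme.{u}) ⟶ gr.ker.subscheme := gr.toImage
  haveI : IsDominant g' := inferInstanceAs (IsDominant gr.toImage)
  let ι := P1.graphClosureι X U f
  haveI : IsClosedImmersion ι := inferInstanceAs (IsClosedImmersion gr.ker.subschemeι)
  have hfac : g' ≫ ι = gr := gr.toImage_imageι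
  set ηU := genericPoint (U : Scheme.{u}) with hηU
  set ηW := genericPoint gr.ker.subscheme with hηW
  have hgη : g' ηU = ηW := by
    refine ((genericPoint_specializes _).antisymm ?_).eq.symm
    rw [specializes_iff_mem_closure]
    have hsub : Set.range g' ⊆ closure {g' ηU} := by
      rintro _ ⟨v, rfl⟩
      exact ((genericPoint_specializes v).map g'.continuous).mem_closure
    exact closure_minimal hsub isClosed_closure (g'.denseRange _)
  have hUη : U.ι ηU = genericPoint X := genericPoint_eq_of_isOpenImmersion U.ι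
  have hgrη : gr ηU = ι ηW := by rw [← hgη, ← Scheme.Hom.comp_apply, hfac]
  have hC0 : gr ηU ∈ C X 0 := graph_mem_C X U f (Set.mem_univ ηU)
  set p := ι ≫ CohB1.ProjSpaceOver.toBase 1 X with hp
  have hg'p : g' ≫ p = U.ι := by rw [hp, ← Category.assoc, hfac, hgr, graph_toBase]
  -- the coordinate pulls back to `f`
  set a := (U : Scheme.{u}).presheaf.germ ⊤ ηU trivial (U.topIso.inv f) with ha
  have hpull : (gr.stalkMap ηU).hom ((CohB1.ProjSpaceOver 1 X).presheaf.germ (C X 0) _ hC0 (t X 0)) = a := by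
    rw [ha, ← graph_t X U f]
    exact (Scheme.Hom.germ_stalkMap_apply gr (C X 0) ηU hC0 (t X 0)).trans
      (TopCat.Presheaf.germ_res_apply _ (homOfLE (graph_mem_C X U f)) ηU trivial _).symm
  have hC1 : gr ηU ∈ C X (oth 0) := by
    rw [← isUnit_germ_t_iff X 0 _ hC0, ← isUnit_map_iff (gr.stalkMap ηU).hom, hpull, ha]
    exact (hf.map U.topIso.inv.hom).map _
  have h0 : ι ηW ∈ C X 0 := hgrη ▸ hC0
  have h1 : ι ηW ∈ C X (oth 0) := hgrη ▸ hC1
  obtain ⟨δP, hP⟩ := exists_deltaCompat (CohB1.ProjSpaceOver.toBase 1 X) δ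
  set δW := fun w => δP (ι w) with hδW
  have hδ : Cyc.DeltaCompat p δW δ := deltaCompat_restrict_left ι _ hP
  haveI : IsPreimmersion (g' ≫ p) := by rw [hg'p]; infer_instance
  have hpη : p ηW = genericPoint X := by rw [← hgη, ← Scheme.Hom.comp_apply, hg'p, hUη]
  obtain ⟨hd, hdeg⟩ := delta_eq_of_closedImm_comp p hδ g' ηU
  rw [hgη] at hd
  have hdW : δW ηW = n := by rw [hd, hpη, hn]
  obtain ⟨α, β, hα, hβ, -, hmα, hmβ⟩ := exists_fibre_cycles hX hP ι (n := n) hdW h0 h1
  have hW : Cyc.IsSetup gr.ker.subscheme δW := isSetup_of_lft hX p hδ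
  have hdiv := divFun_ratT ι hW (n := n) hdW 0 h0 h1
  have hne : ratT ι 0 h0 ≠ 0 := left_ne_zero_of_mul_eq_one (ratT_mul ι 0 h0 h1)
  have hαβ : ⇑(α - β) = Cyc.divFun δW ηW (ratT ι 0 h0) := by
    rw [hdiv, Function.locallyFinsuppWithin.coe_sub, hα, hβ]
    rfl
  have hmap := map_divFun_eq δW δ hW hX p hδ ηW rfl hpη (by rw [hdW, hn]) _ hne (α - β) hαβ
  rw [map_sub', Function.locallyFinsuppWithin.coe_sub, hmα, hmβ] at hmap
  -- the norm
  have hsec : ∀ (x : X) (hx : x ∈ U) (g : gr.ker.subscheme.residueField ηW) (_ : x = p ηW),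
      (∀ hx' : p ηW ∈ U, g = p.residueFieldMap ηW (X.evaluation U (p ηW) hx' f)) →
      Cyc.divFun δ (p ηW) (Cyc.normGen p ηW g) = Cyc.divFun δ x (X.evaluation U x hx f) := by
    rintro x hx g rfl hg
    rw [hg hx, normGen_residueFieldMap]
    have hr : p.residueDegree ηW = 1 := hgη ▸ hdeg
    rw [hr, pow_one]
  have key : ∀ (w : gr.ker.subscheme) (_ : g' ηU = w) (h0 : ι w ∈ C X 0) (hx' : p w ∈ U),
      gr.ker.subscheme.residue w (pullT ι 0 w h0) = p.residueFieldMap w (X.evaluation U (p w) hx' f) := by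
    rintro w rfl h0 hx'
    refine (g'.residueFieldMap ηU).hom.injective ?_
    have eL : (g'.residueFieldMap ηU) (gr.ker.subscheme.residue (g' ηU) (pullT ι 0 (g' ηU) h0)) = (U : Scheme.{u}).residue ηU a := by
      rw [← hpull]
      refine (ConcreteCategory.congr_hom (Scheme.residue_residueFieldMap g' ηU) _).trans ?_
      refine congrArg ((U : Scheme.{u}).residue ηU) ?_
      rw [pullT]
      exact stalkMap_fac g' ι _ hfac ηU _ _ (t X 0)
    refine eL.trans ?_
    rw [ha, residue_eq_evaluation]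
    have e2 : (g'.residueFieldMap ηU) (p.residueFieldMap (g' ηU) (X.evaluation U (p (g' ηU)) hx' f)) =
        ((g' ≫ p).residueFieldMap ηU) (X.evaluation U ((g' ≫ p) ηU) hx' f) := by
      rw [Scheme.residueFieldMap_comp g' p ηU]
      rfl
    refine Eq.trans ?_ e2.symm
    have aux : ∀ (q : (U : Scheme.{u}) ⟶ X) (_ : q = U.ι) (hq : q ηU ∈ U),
        (U : Scheme.{u}).evaluation ⊤ ηU trivial (U.topIso.inv f) = q.residueFieldMap ηU (X.evaluation U (q ηU) hq f) := by
      rintro q rfl hq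
      rw [Scheme.evaluation_naturality_apply, ← residue_eq_evaluation, ← residue_eq_evaluation]
      congr 1
      rw [show U.topIso.inv = U.ι.appLE U ⊤ (by simp) by simp [Scheme.Opens.ι_appLE]; rfl]
      exact TopCat.Presheaf.germ_res_apply _ _ _ _ _
    exact aux (g' ≫ p) hg'p hx'
  have hfin := hsec (genericPoint X) hη _ hpη.symm (key ηW hgη h0)
  exact hfin.symm.trans hmap.symm

end Groth.CycInter.P1C
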