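import Groth.Agent.CycInter.SheafOrd
import Groth.Agent.CycInter.P1Fibre
import Groth.Agent.CycInter.GysinComm
import Groth.Agent.CohTwo.SupportLocal

/-!
The fibres at zero and infinity of a coherent sheaf on the projective line are rationally equivalent.
-/

universe u

set_option autoImplicit false

open CategoryTheory CategoryTheory.Limits AlgebraicGeometry IsLocalRing
open Groth.RefRank Groth.Cycles
open scoped Pointwise

namespace Groth.CycInter.P1C

variable {X : Scheme.{u}} {δ : X → ℤ}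

theorem finite_sheaf_top {Y : Scheme.{u}} {δY : Y → ℤ} (hY : Cyc.IsSetup Y δY) {k : ℤ} {F : Y.Modules}
    (hF : Coh.IsCoh F) (hdim : ∀ y, Nontrivial (F.presheaf.stalk y) → δY y ≤ k) (V : Y.Opens)
    (hV : IsAffineOpen V) : ((V : Set Y) ∩ Function.support (Cyc.sheafFun δY k F)).Finite := by
  have := hY.1
  haveI : CompactSpace V.toScheme := isCompact_iff_compactSpace.mp hV.isCompact
  haveI : IsNoetherian V.toScheme := {}
  have hS : IsClosed (V.ι ⁻¹' CohB1.support F) :=
    (Groth.CohTwo.isClosed_support F hF).preimage V.ι.continuous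
  obtain ⟨T, hTfin, hTcl, hTirr, hTU⟩ := TopologicalSpace.NoetherianSpace.exists_finite_set_isClosed_irreducible hS
  haveI := hTfin.to_subtype
  refine (Set.finite_range fun C : T => V.ι (hTirr C.1 C.2).genericPoint).subset ?_
  rintro y ⟨hyV, hy⟩
  have hd : δY y = k := by_contra fun h => hy (if_neg h)
  have hnt : ¬ Subsingleton (F.presheaf.stalk y) := fun h => hy (by
    rw [Cyc.sheafFun, if_pos hd, Module.length_eq_zero]; rfl)
  have hmem : (⟨y, hyV⟩ : V) ∈ ⋃₀ T := hTU ▸ (show y ∈ CohB1.support F from hnt)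
  obtain ⟨C, hC, hyC⟩ := Set.mem_sUnion.mp hmem
  refine ⟨⟨C, hC⟩, ?_⟩
  have hgp := (hTirr C hC).isGenericPoint_genericPoint (hTcl C hC)
  have hgS : V.ι (hTirr C hC).genericPoint ∈ CohB1.support F := by
    have : (hTirr C hC).genericPoint ∈ ⋃₀ T := Set.mem_sUnion.mpr ⟨C, hC, hgp.mem⟩
    rw [← hTU] at this
    exact this
  exact eq_of_specializes_of_delta_le hY.2.2 ((hgp.specializes hyC).map V.ι.continuous)
    (hd ▸ hdim _ (not_subsingleton_iff_nontrivial.mp hgS))

theorem sect_mem_C (j : Fin (1 + 1)) (x : X) : P1.sect X j x ∈ C X j := by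
  have h : P1.sect X j x ∉ C X (oth j) := by
    have h0 : P1.sect X j x ∈ Set.range (P1.sect X j) := ⟨x, rfl⟩
    rw [range_sect] at h0; exact h0
  exact (mem_C_or X _ j).resolve_right h

theorem delta_sect {δP : ↥(CohB1.ProjSpaceOver 1 X) → ℤ}
    (hP : Cyc.DeltaCompat (CohB1.ProjSpaceOver.toBase 1 X) δP δ) (j : Fin (1 + 1)) (x : X) :
    δP (P1.sect X j x) = δ x := by
  haveI : IsPreimmersion (P1.sect X j ≫ CohB1.ProjSpaceOver.toBase 1 X) := by rw [sect_toBase]; infer_instance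
  rw [(delta_eq_of_closedImm_comp _ hP (P1.sect X j) x).1, ← Scheme.Hom.comp_apply, sect_toBase]
  rfl

/-- the coordinate at a point as a rational function -/
noncomputable def gC (j : Fin (1 + 1)) (ξ : CohB1.ProjSpaceOver 1 X) :
    (CohB1.ProjSpaceOver 1 X).residueField ξ :=
  open Classical in
  if h : ξ ∈ C X j ∧ ξ ∈ C X (oth j) then
    (CohB1.ProjSpaceOver 1 X).residue ξ ((CohB1.ProjSpaceOver 1 X).presheaf.germ (C X j) ξ h.1 (t X j))
  else 1

theorem gC_ne_zero (j : Fin (1 + 1)) (ξ : CohB1.ProjSpaceOver 1 X) : gC j ξ ≠ 0 := by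
  unfold gC
  split_ifs with h
  · exact (((isUnit_germ_t_iff X j ξ h.1).mpr h.2).map _).ne_zero
  · exact one_ne_zero

theorem gC_mul {ξ : CohB1.ProjSpaceOver 1 X} (j : Fin (1 + 1)) (h : ξ ∈ C X j) (h' : ξ ∈ C X (oth j)) :
    gC j ξ * gC (oth j) ξ = 1 := by
  rw [gC, dif_pos ⟨h, h'⟩, gC, dif_pos ⟨h', by rw [oth_oth]; exact h⟩, ← map_mul, germ_t_mul X j ξ h h', map_one]

section Main

variable {δP : ↥(CohB1.ProjSpaceOver 1 X) → ℤ} {k : ℤ} {F : (CohB1.ProjSpaceOver 1 X).Modules}

theorem sheafFun_sect (hP : Cyc.DeltaCompat (CohB1.ProjSpaceOver.toBase 1 X) δP δ) (j : Fin (1 + 1)) (x : X)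
    (hx : δ x = k) :
    Cyc.sheafFun δ k ((Scheme.Modules.pullback (P1.sect X j)).obj F) x =
      ((Module.length ((CohB1.ProjSpaceOver 1 X).presheaf.stalk (P1.sect X j x))
        (F.presheaf.stalk (P1.sect X j x) ⧸ ((CohB1.ProjSpaceOver 1 X).presheaf.germ (C X j) _ (sect_mem_C j x) (t X j)) •
          (⊤ : Submodule ((CohB1.ProjSpaceOver 1 X).presheaf.stalk (P1.sect X j x))
            (F.presheaf.stalk (P1.sect X j x))))).toNat : ℤ) := by
  rw [Cyc.sheafFun, if_pos hx, length_pullback_closedImm (P1.sect X j) F x _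
    ((Groth.Calg6.ClosedImmStalk.ker_stalkMap_eq (P1.sect X j) x).trans
      ((stalkIdeal_sect X j _).1 (sect_mem_C j x)))]

theorem mem_C_of_top (hX : Cyc.IsSetup X δ) (hP : Cyc.DeltaCompat (CohB1.ProjSpaceOver.toBase 1 X) δP δ)
    (hF : Coh.IsCoh F) (h : ∀ (j : Fin (1 + 1)) (x : X),
      Nontrivial (((Scheme.Modules.pullback (P1.sect X j)).obj F).presheaf.stalk x) → δ x ≤ k)
    {ξ : CohB1.ProjSpaceOver 1 X} (hξ : δP ξ = k + 1) (hnt : Nontrivial (F.presheaf.stalk ξ))
    (j : Fin (1 + 1)) : ξ ∈ C X j := by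
  haveI := hX.1
  haveI : IsProper (CohB1.ProjSpaceOver.toBase 1 X) := Groth.Variety2.isProper_projSpaceOver_toBase _ _
  haveI := LocallyOfFiniteType.isLocallyNoetherian (CohB1.ProjSpaceOver.toBase 1 X)
  by_contra hnj
  obtain ⟨x, rfl⟩ : ξ ∈ Set.range (P1.sect X (oth j)) := by rw [range_sect, oth_oth]; exact hnj
  rw [delta_sect hP] at hξ
  have hsub : Subsingleton (((Scheme.Modules.pullback (P1.sect X (oth j))).obj F).presheaf.stalk x) := by
    by_contra hne
    have := h (oth j) x (not_subsingleton_iff_nontrivial.mp hne)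
    omega
  set a := (CohB1.ProjSpaceOver 1 X).presheaf.germ (C X (oth j)) _ (sect_mem_C (oth j) x) (t X (oth j)) with ha
  have hl := length_pullback_closedImm (P1.sect X (oth j)) F x a
    ((Groth.Calg6.ClosedImmStalk.ker_stalkMap_eq (P1.sect X (oth j)) x).trans
      ((stalkIdeal_sect X (oth j) _).1 (sect_mem_C (oth j) x)))
  rw [Module.length_eq_zero (M := ((Scheme.Modules.pullback (P1.sect X (oth j))).obj F).presheaf.stalk x)] at hl
  have hq := Module.length_eq_zero_iff.mp hl.symm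
  have htop : a • (⊤ : Submodule ((CohB1.ProjSpaceOver 1 X).presheaf.stalk (P1.sect X (oth j) x))
      (F.presheaf.stalk (P1.sect X (oth j) x))) = ⊤ := Submodule.Quotient.subsingleton_iff.mp hq
  have ham : a ∈ maximalIdeal ((CohB1.ProjSpaceOver 1 X).presheaf.stalk (P1.sect X (oth j) x)) := by
    refine (IsLocalRing.mem_maximalIdeal _).mpr fun hu => hnj ?_
    have := (isUnit_germ_t_iff X (oth j) _ (sect_mem_C (oth j) x)).mp hu
    rwa [oth_oth] at this
  have := finite_stalkModule hF (P1.sect X (oth j) x)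
  have h0 : (⊤ : Submodule ((CohB1.ProjSpaceOver 1 X).presheaf.stalk (P1.sect X (oth j) x))
      (F.presheaf.stalk (P1.sect X (oth j) x))) = ⊥ :=
    Submodule.eq_bot_of_le_smul_of_le_jacobson_bot _ _ (Module.Finite.fg_top)
      (by
        conv_lhs => rw [← htop]
        rw [← Submodule.ideal_span_singleton_smul]
        exact Submodule.smul_mono_left (Ideal.span_le.mpr (by simpa using ham)))
      (IsLocalRing.maximalIdeal_le_jacobson _)
  exact not_subsingleton (F.presheaf.stalk (P1.sect X (oth j) x))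
    ((Submodule.subsingleton_iff _).mp (subsingleton_of_bot_eq_top h0.symm))

theorem local_eq (hX : Cyc.IsSetup X δ) (hP : Cyc.DeltaCompat (CohB1.ProjSpaceOver.toBase 1 X) δP δ)
    (hF : Coh.IsCoh F) (hsupp : ∀ p, Nontrivial (F.presheaf.stalk p) → δP p ≤ k + 1)
    (h : ∀ (j : Fin (1 + 1)) (x : X),
      Nontrivial (((Scheme.Modules.pullback (P1.sect X j)).obj F).presheaf.stalk x) → δ x ≤ k)
    (hemb : ∀ p, IsAssociatedPrime (maximalIdeal ((CohB1.ProjSpaceOver 1 X).presheaf.stalk p)) (F.presheaf.stalk p) →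
      ∀ j, p ∉ C X j → δP p < k)
    (j : Fin (1 + 1)) {y : CohB1.ProjSpaceOver 1 X} (hy : δP y = k) (hyC : y ∈ C X j) :
    ((Module.length ((CohB1.ProjSpaceOver 1 X).presheaf.stalk y)
        (F.presheaf.stalk y ⧸ ((CohB1.ProjSpaceOver 1 X).presheaf.germ (C X j) y hyC (t X j)) •
          (⊤ : Submodule ((CohB1.ProjSpaceOver 1 X).presheaf.stalk y) (F.presheaf.stalk y)))).toNat : ℤ) =
      ∑ᶠ ξ, Cyc.sheafFun δP (k + 1) F ξ * Cyc.divFun δP ξ (gC j ξ) y := by
  haveI : IsProper (CohB1.ProjSpaceOver.toBase 1 X) := Groth.Variety2.isProper_projSpaceOver_toBase _ _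
  have hPs : Cyc.IsSetup (CohB1.ProjSpaceOver 1 X) δP := isSetup_of_lft hX _ hP
  have := hPs.1
  have := hF.1
  refine length_quot_eq_finsum hPs k hF hsupp hy _ ?_ ?_ _ ?_
  · by_contra hni
    obtain ⟨ξ, hξy, hnu, hass⟩ := exists_associated_gen F _ hni
    have hξC : ξ ∈ C X j := hξy.mem_open (C X j).2 hyC
    have he : rspec hξy ((CohB1.ProjSpaceOver 1 X).presheaf.germ (C X j) y hyC (t X j)) =
        (CohB1.ProjSpaceOver 1 X).presheaf.germ (C X j) ξ hξC (t X j) :=
      TopCat.Presheaf.germ_stalkSpecializes_apply _ hyC hξy _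
    rw [he, isUnit_germ_t_iff] at hnu
    have h1 := hemb ξ hass (oth j) hnu
    by_cases hne : ξ = y
    · subst hne; omega
    · have := (hPs.2.2 ξ y hξy hne).1; omega
  · intro ξ hξy hξ hnt
    have he : rspec hξy ((CohB1.ProjSpaceOver 1 X).presheaf.germ (C X j) y hyC (t X j)) =
        (CohB1.ProjSpaceOver 1 X).presheaf.germ (C X j) ξ (hξy.mem_open (C X j).2 hyC) (t X j) :=
      TopCat.Presheaf.germ_stalkSpecializes_apply _ hyC hξy _
    rw [he, isUnit_germ_t_iff]
    exact mem_C_of_top hX hP hF h hξ hnt (oth j)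
  · intro ξ hξy hξ hnt
    rw [gC, dif_pos ⟨mem_C_of_top hX hP hF h hξ hnt j, mem_C_of_top hX hP hF h hξ hnt (oth j)⟩]
    show _ = (CohB1.ProjSpaceOver 1 X).residue ξ (rspec hξy _)
    exact congrArg _ (TopCat.Presheaf.germ_stalkSpecializes_apply _ hyC hξy _).symm

theorem ratEquiv_sheaf_fibres (hX : Cyc.IsSetup X δ)
    (hP : Cyc.DeltaCompat (CohB1.ProjSpaceOver.toBase 1 X) δP δ) (hF : Coh.IsCoh F)
    (hsupp : ∀ p, Nontrivial (F.presheaf.stalk p) → δP p ≤ k + 1)
    (h : ∀ (j : Fin (1 + 1)) (x : X),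
      Nontrivial (((Scheme.Modules.pullback (P1.sect X j)).obj F).presheaf.stalk x) → δ x ≤ k)
    (hemb : ∀ p, IsAssociatedPrime (maximalIdeal ((CohB1.ProjSpaceOver 1 X).presheaf.stalk p)) (F.presheaf.stalk p) →
      ∀ j, p ∉ C X j → δP p < k)
    (α β : AlgebraicCycle X ℤ)
    (hα : ⇑α = Cyc.sheafFun δ k ((Scheme.Modules.pullback (P1.sect X 0)).obj F))
    (hβ : ⇑β = Cyc.sheafFun δ k ((Scheme.Modules.pullback (P1.sect X (oth 0))).obj F)) :
    Cyc.RatEquiv δ k α β := by
  classical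
  haveI : IsProper (CohB1.ProjSpaceOver.toBase 1 X) := Groth.Variety2.isProper_projSpaceOver_toBase _ _
  have hPs : Cyc.IsSetup (CohB1.ProjSpaceOver 1 X) δP := isSetup_of_lft hX _ hP
  have := hPs.1
  have hsd : ∀ j, (fun x => δP (P1.sect X j x)) = δ := fun j => funext (delta_sect hP j)
  set a := AlgebraicCycle.map (P1.sect X 0) δ δP α with ha
  set b := AlgebraicCycle.map (P1.sect X (oth 0)) δ δP β with hb
  have happ : ∀ (j : Fin (1 + 1)) (c : AlgebraicCycle X ℤ),
      (∀ x, AlgebraicCycle.map (P1.sect X j) δ δP c (P1.sect X j x) = c x) ∧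
      (∀ y ∉ Set.range (P1.sect X j), AlgebraicCycle.map (P1.sect X j) δ δP c y = 0) := fun j c => by
    rw [← hsd j]
    exact ⟨fun x => Groth.CycInter.map_closedImm_apply (i := P1.sect X j) (δ := δP) c x,
      fun y hy => Groth.CycInter.map_closedImm_apply_of_notMem (i := P1.sect X j) (δ := δP) c hy⟩
  set G : ↥(CohB1.ProjSpaceOver 1 X) → ℤ :=
    fun y => ∑ᶠ ξ, Cyc.sheafFun δP (k + 1) F ξ * Cyc.divFun δP ξ (gC 0 ξ) y with hG
  have hG1 : ∀ y, ∑ᶠ ξ, Cyc.sheafFun δP (k + 1) F ξ * Cyc.divFun δP ξ (gC (oth 0) ξ) y = - G y := fun y => by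
    rw [hG, ← finsum_neg_distrib]
    refine finsum_congr fun ξ => ?_
    by_cases hn : Cyc.sheafFun δP (k + 1) F ξ = 0
    · simp [hn]
    have hξ : δP ξ = k + 1 := by_contra fun h' => hn (if_neg h')
    have hnt : Nontrivial (F.presheaf.stalk ξ) := by
      by_contra hc
      have := not_nontrivial_iff_subsingleton.mp hc
      exact hn (by rw [Cyc.sheafFun, if_pos hξ, Module.length_eq_zero]; rfl)
    have hm := gC_mul (0 : Fin (1 + 1)) (mem_C_of_top hX hP hF h hξ hnt 0) (mem_C_of_top hX hP hF h hξ hnt (oth 0))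
    have hd := divFun_mul hPs (gC_ne_zero 0 ξ) (gC_ne_zero (oth 0) ξ) y
    rw [hm, divFun_one hPs] at hd
    have : Cyc.divFun δP ξ (gC (oth 0) ξ) y = - Cyc.divFun δP ξ (gC 0 ξ) y := by omega
    rw [this, mul_neg]
  have hpt : ∀ y, (a - b) y = G y := by
    intro y
    rw [Function.locallyFinsuppWithin.coe_sub, Pi.sub_apply]
    by_cases hy : δP y = k
    swap
    · have hz : G y = 0 := finsum_eq_zero_of_forall_eq_zero fun ξ => by
        by_cases hn : Cyc.sheafFun δP (k + 1) F ξ = 0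
        · rw [hn, zero_mul]
        have hξ : δP ξ = k + 1 := by_contra fun h' => hn (if_neg h')
        rw [Cyc.divFun, dif_neg (fun hh => hy (by have := hh.2; omega)), mul_zero]
      rw [hz]
      have hzero : ∀ (j : Fin (1 + 1)) (c : AlgebraicCycle X ℤ)
          (_ : ⇑c = Cyc.sheafFun δ k ((Scheme.Modules.pullback (P1.sect X j)).obj F)),
          AlgebraicCycle.map (P1.sect X j) δ δP c y = 0 := fun j c hc => by
        by_cases hr : y ∈ Set.range (P1.sect X j)
        · obtain ⟨x, rfl⟩ := hr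
          rw [(happ j c).1, hc, Cyc.sheafFun, if_neg]
          rwa [delta_sect hP] at hy
        · exact (happ j c).2 y hr
      rw [ha, hb, hzero 0 α hα, hzero (oth 0) β hβ, sub_zero]
    have main : ∀ (j : Fin (1 + 1)) (c : AlgebraicCycle X ℤ)
        (_ : ⇑c = Cyc.sheafFun δ k ((Scheme.Modules.pullback (P1.sect X j)).obj F)) (hyC : y ∈ C X j),
        AlgebraicCycle.map (P1.sect X j) δ δP c y =
          ∑ᶠ ξ, Cyc.sheafFun δP (k + 1) F ξ * Cyc.divFun δP ξ (gC j ξ) y := fun j c hc hyC => by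
      rw [← local_eq hX hP hF hsupp h hemb j hy hyC]
      by_cases hr : y ∈ Set.range (P1.sect X j)
      · obtain ⟨x, rfl⟩ := hr
        rw [(happ j c).1, hc, sheafFun_sect hP j x (by rwa [delta_sect hP] at hy)]
      · rw [(happ j c).2 y hr]
        have hu : IsUnit ((CohB1.ProjSpaceOver 1 X).presheaf.germ (C X j) y hyC (t X j)) := by
          rw [isUnit_germ_t_iff]
          rw [range_sect, Set.mem_setOf_eq, not_not] at hr
          exact hr
        have : (CohB1.ProjSpaceOver 1 X).presheaf.germ (C X j) y hyC (t X j) •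
            (⊤ : Submodule ((CohB1.ProjSpaceOver 1 X).presheaf.stalk y) (F.presheaf.stalk y)) = ⊤ := by
          rw [← Submodule.ideal_span_singleton_smul, Ideal.span_singleton_eq_top.mpr hu, Submodule.top_smul]
        have := Submodule.Quotient.subsingleton_iff.mpr this
        rw [Module.length_eq_zero]
        rfl
    rcases mem_C_or X y 0 with hyC | hyC
    · rw [ha, main 0 α hα hyC, hb, (happ (oth 0) β).2 y (by
        rw [range_sect, oth_oth]; exact fun hh => hh hyC), sub_zero]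
    · rw [hb, main (oth 0) β hβ hyC, hG1, ha, (happ 0 α).2 y (by
        rw [range_sect]; exact fun hh => hh hyC), zero_sub, neg_neg]
  have hab : Cyc.RatEquivZero δP k (a - b) := by
    refine Groth.CycInter.ratEquivZero_of_ratZeroOn hPs (Z := Set.univ) ((Groth.CycInter.ratZeroOn_of_points hPs (k := k)
      (Cyc.sheafFun δP (k + 1) F) (finite_sheaf_top hPs hF hsupp) (fun ξ hξ => by_contra fun h' => hξ (if_neg h'))
      (fun ξ => gC 0 ξ) (fun ξ => gC_ne_zero 0 ξ) fun ξ _ _ => Set.mem_univ ξ).congr hpt)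
  have h2 := ratEquivZero_map δP δ hPs hX (CohB1.ProjSpaceOver.toBase 1 X) hP k (a - b) hab
  have hc : ∀ (j : Fin (1 + 1)) (c : AlgebraicCycle X ℤ),
      AlgebraicCycle.map (CohB1.ProjSpaceOver.toBase 1 X) δP δ (AlgebraicCycle.map (P1.sect X j) δ δP c) = c := by
    intro j c
    have hs : Cyc.DeltaCompat (P1.sect X j) δ δP := by
      rw [← hsd j]; exact deltaCompat_preimmersion (P1.sect X j) δP
    rw [map_map_eq _ _ hs hP]
    simp only [sect_toBase]
    exact AlgebraicCycle.map_id _ _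
  rw [Groth.Cycles.map_sub', ha, hb, hc, hc] at h2
  exact h2

end Main

end Groth.CycInter.P1C
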