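import Groth.Agent.CycInter.PbAffine
import Groth.Agent.Cycles.Excision
import Groth.Agent.S9501
import Mathlib.AlgebraicGeometry.AffineSpace

/-!
Flat pullback to an affine space bundle is surjective on Chow groups.
-/

universe u

set_option autoImplicit false

open CategoryTheory CategoryTheory.Limits AlgebraicGeometry Opposite IsLocalRing Groth.Cycles

noncomputable section

namespace Groth.CycInter.PB.AffBun

variable {X Y : Scheme.{u}} (f : X ⟶ Y) {r : ℕ}

/-- The hypothesis that `f` is an affine space over the members of an open cover. -/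
def LocAff (r : ℕ) : Prop :=
  ∀ y : Y, ∃ U : Y.Opens, y ∈ U ∧ ∃ e : (↑(f ⁻¹ᵁ U) : Scheme.{u}) ≅ 𝔸(ULift.{u} (Fin r); (↑U : Scheme.{u})),
    e.hom ≫ (𝔸(ULift.{u} (Fin r); (↑U : Scheme.{u})) ↘ (↑U : Scheme.{u})) = f ∣_ U

theorem quasiCompact (h : LocAff f r) : QuasiCompact f := by
  choose U hU e he using h
  refine IsZariskiLocalAtTarget.of_iSup_eq_top (P := @QuasiCompact) U
    (top_le_iff.mp fun y _ => TopologicalSpace.Opens.mem_iSup.mpr ⟨y, hU y⟩) fun y => ?_
  rw [← he y]
  infer_instance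

/-- The affine space as the fibre. -/
theorem exists_fibre_chart (h : LocAff f r) (y : Y) :
    ∃ ε : Spec (CommRingCat.of (MvPolynomial (Fin r) (Y.residueField y))) ≅ f.fiber y,
      ε.hom ≫ f.fiberι y ≫ f = affPr (Y.residueField y) (Fin r) ≫ Y.fromSpecResidueField y := by
  obtain ⟨U, hy, e, he⟩ := h y
  let u : Spec (Y.residueField y) ⟶ (↑U : Scheme.{u}) :=
    IsOpenImmersion.lift U.ι (Y.fromSpecResidueField y) (by
      rw [Scheme.range_fromSpecResidueField, Scheme.Opens.range_ι]; simpa using hy)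
  have hu : u ≫ U.ι = Y.fromSpecResidueField y := IsOpenImmersion.lift_fac _ _ _
  have hU : IsPullback (e.inv ≫ (f ⁻¹ᵁ U).ι) (𝔸(ULift.{u} (Fin r); (↑U : Scheme.{u})) ↘ (↑U : Scheme.{u})) f U.ι :=
    IsPullback.of_iso (isPullback_morphismRestrict f U).flip e (Iso.refl _) (Iso.refl _) (Iso.refl _)
      (by simp) (by simp [he]) (by simp) (by simp)
  have sq := ((AffineSpace.isPullback_map (n := ULift.{u} (Fin r)) u).paste_horiz hU)
  rw [hu] at sq
  let en := MvPolynomial.renameEquiv (Y.residueField y) (Equiv.ulift.{u, 0} (α := Fin r))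
  let ρ : Spec (CommRingCat.of (MvPolynomial (Fin r) (Y.residueField y))) ≅
      Spec (CommRingCat.of (MvPolynomial (ULift.{u} (Fin r)) (Y.residueField y))) :=
    Scheme.Spec.mapIso en.toRingEquiv.toCommRingCatIso.op
  let ε : Spec (CommRingCat.of (MvPolynomial (Fin r) (Y.residueField y))) ≅ f.fiber y := ρ ≪≫ (AffineSpace.SpecIso (ULift.{u} (Fin r)) (Y.residueField y)).symm ≪≫
    sq.isoPullback
  refine ⟨ε, ?_⟩
  have h1 : ε.hom ≫ f.fiberToSpecResidueField y = affPr (Y.residueField y) (Fin r) := by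
    simp only [ε, Scheme.Hom.fiberToSpecResidueField, Iso.trans_hom, Iso.symm_hom, Category.assoc]
    erw [sq.isoPullback_hom_snd, AffineSpace.SpecIso_inv_over]
    show Spec.map _ ≫ Spec.map _ = _
    rw [← Spec.map_comp]
    congr 1
    exact CommRingCat.hom_ext (RingHom.ext fun a => en.commutes a)
  rw [f.fiber_fac]
  exact (Category.assoc _ _ _).symm.trans (congrArg (· ≫ Y.fromSpecResidueField y) h1)

variable (h : LocAff f r) (y : Y)

/-- The fibre over a point as an affine space. -/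
def chartIso : Spec (CommRingCat.of (MvPolynomial (Fin r) (Y.residueField y))) ≅ f.fiber y :=
  (exists_fibre_chart f h y).choose

/-- The affine space over a point mapped into the total space. -/
def chart : Spec (CommRingCat.of (MvPolynomial (Fin r) (Y.residueField y))) ⟶ X :=
  (chartIso f h y).hom ≫ f.fiberι y

instance isPreimmersion_chart : IsPreimmersion (chart f h y) := by
  unfold chart; infer_instance

theorem chart_π : chart f h y ≫ f = affPr (Y.residueField y) (Fin r) ≫ Y.fromSpecResidueField y := by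
  rw [chart, Category.assoc]
  exact (exists_fibre_chart f h y).choose_spec

theorem f_chart (a : Spec (CommRingCat.of (MvPolynomial (Fin r) (Y.residueField y)))) : f (chart f h y a) = y := by
  rw [← Scheme.Hom.comp_apply, chart_π, Scheme.Hom.comp_apply, Scheme.fromSpecResidueField_apply]

theorem exists_chart_eq {x : X} (hx : f x = y) : ∃ a, chart f h y a = x := by
  obtain ⟨z, hz⟩ : x ∈ Set.range (f.fiberι y) := by rw [f.range_fiberι]; exact hx
  refine ⟨(chartIso f h y).inv z, ?_⟩
  rw [chart, Scheme.Hom.comp_apply, ← Scheme.Hom.comp_apply (chartIso f h y).inv, Iso.inv_hom_id]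
  exact hz

/-- The generic point of the fibre. -/
def gen : X :=
  chart f h y (⟨⊥, Ideal.isPrime_bot⟩ : PrimeSpectrum (MvPolynomial (Fin r) (Y.residueField y)))

theorem f_gen : f (gen f h y) = y := f_chart f h y _

theorem gen_specializes {x : X} (hx : f x = y) : gen f h y ⤳ x := by
  obtain ⟨a, rfl⟩ := exists_chart_eq f h y hx
  exact ((PrimeSpectrum.le_iff_specializes _ _).mp bot_le).map (chart f h y).continuous

theorem isFibreGeneric_gen : Groth.CycleLimits.IsFibreGeneric f (gen f h y) := fun x hx hs => by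
  have hx' : f x = y := hx.trans (f_gen f h y)
  exact (hs.antisymm (gen_specializes f h y hx')).eq

variable [Flat f] [LocallyOfFiniteType f]

theorem pullFun_gen {δX : X → ℤ} {δY : Y → ℤ} (hr : Cyc.HasRelDim f r) (hδ : Cyc.DeltaCompat f δX δY)
    (hX : IsLocallyNoetherian X) (α : Y → ℤ) : Cyc.pullFun f δX δY (r : ℤ) α (gen f h y) = α y := by
  rw [Cyc.pullFun, if_pos (Groth.Cycles.delta_eq_add_of_isFibreGeneric f hr hδ (isFibreGeneric_gen f h y))]
  let A := CommRingCat.of (MvPolynomial (Fin r) (Y.residueField y))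
  let z : Spec A := (⟨⊥, Ideal.isPrime_bot⟩ : PrimeSpectrum A)
  let g := affPr (Y.residueField y) (Fin r)
  have hl := Dvr.length_fibre_sq g f (chart f h y) (Y.fromSpecResidueField y) (chart_π f h y).symm z (by
    intro a ha
    have h2 : ((chartIso f h y).hom.stalkMap z) ((f.fiberι y).stalkMap ((chartIso f h y).hom z) a) = 0 :=
      (congr(($(Scheme.Hom.stalkMap_comp (chartIso f h y).hom (f.fiberι y) z)).hom a)).symm.trans ha
    have h3 : (f.fiberι y).stalkMap ((chartIso f h y).hom z) a = 0 :=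
      (ConcreteCategory.bijective_of_isIso ((chartIso f h y).hom.stalkMap z)).1 (h2.trans (map_zero _).symm)
    exact (Groth.Agent.S9501.result f y ((chartIso f h y).hom z)).2 ▸ h3)
  have h1 : Module.length ((Spec A).presheaf.stalk z)
      ((Spec A).presheaf.stalk z ⧸ (maximalIdeal ((Spec (Y.residueField y)).presheaf.stalk (g z))).map
        (g.stalkMap z).hom) = 1 := by
    have hm : (maximalIdeal ((Spec (Y.residueField y)).presheaf.stalk (g z))).map (g.stalkMap z).hom =
        maximalIdeal ((Spec A).presheaf.stalk z) := by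
      refine le_antisymm (Ideal.map_le_iff_le_comap.mpr fun a ha hu =>
        ha (isUnit_of_map_unit (g.stalkMap z).hom a hu)) fun b hb => ?_
      obtain ⟨a, c, hc, e⟩ := exists_sgerm_div z b
      refine (Ideal.mul_unit_mem_iff_mem _ (isUnit_sgerm.mpr hc)).mp ?_
      rw [e]
      have ha : a = 0 := Ideal.mem_bot.mp (show a ∈ z.asIdeal from by_contra fun ha =>
        hb (isUnit_of_mul_isUnit_left (e ▸ isUnit_sgerm.mpr ha)))
      rw [ha, map_zero]
      exact Ideal.zero_mem _
    rw [hm]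
    exact Module.length_eq_one_iff.mpr (isSimpleModule_iff_isCoatom.mpr (maximalIdeal.isMaximal _).out)
  replace hl := h1.symm.trans hl
  show α (f (gen f h y)) * _ = α y
  rw [show gen f h y = chart f h y z from rfl, ← hl, f_chart]
  simp

/-! ### Clearing the fibres -/

variable {δX : X → ℤ} {δY : Y → ℤ} (hX : Cyc.IsSetup X δX) (hY : Cyc.IsSetup Y δY)
  (hr : Cyc.HasRelDim f r) (hδ : Cyc.DeltaCompat f δX δY)

include hδ in
theorem deltaCompat_chart :
    Cyc.DeltaCompat (affPr (Y.residueField y) (Fin r)) (δX ∘ chart f h y) (fun _ => δY y) := by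
  refine Dvr.deltaCompat_of_comp (affPr (Y.residueField y) (Fin r)) (g := Y.fromSpecResidueField y) (δZ := δY) ?_ ?_
  · rw [← chart_π f h y]
    exact Bivar.deltaCompat_comp _ f _ δX δY (deltaCompat_preimmersion _ δX) hδ
  · have := deltaCompat_preimmersion (Y.fromSpecResidueField y) δY
    rwa [show δY ∘ ⇑(Y.fromSpecResidueField y) = fun _ => δY y from
      funext fun a => congrArg δY (Scheme.fromSpecResidueField_apply y a)] at this

include hδ in
theorem delta_gen (hr : Cyc.HasRelDim f r) : δX (gen f h y) = δY y + r :=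
  (Groth.Cycles.delta_eq_add_of_isFibreGeneric f hr hδ (isFibreGeneric_gen f h y)).trans (by rw [f_gen])

include h hX hr hδ in
theorem delta_le (x : X) : δX x ≤ δY (f x) + r :=
  delta_gen f h (f x) hδ hr ▸ Groth.Cycles.delta_le_of_specializes hX.2.2 (gen_specializes f h (f x) rfl)

include h hX hδ in
theorem exists_clear {k : ℤ} {n : ℕ} (hn : 0 < n) (hy : δY y = k + n) (β : AlgebraicCycle X ℤ)
    (hβ : β ∈ Cyc.Zk X δX (k + r)) :
    ∃ (ι : Type u) (_ : Fintype ι) (ξ : ι → X) (F : (i : ι) → X.residueField (ξ i)),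
      (∀ i, δX (ξ i) = k + r + 1) ∧ (∀ i, f (ξ i) = y) ∧ (∀ i, F i ≠ 0) ∧
        ∀ x, f x = y → β x = ∑ i, Cyc.divFun δX (ξ i) (F i) x := by
  let j := chart f h y
  let γ : AlgebraicCycle (Spec (CommRingCat.of (MvPolynomial (Fin r) (Y.residueField y)))) ℤ :=
    ⟨fun a => β (j a), Set.subset_univ _, fun a _ => by
      obtain ⟨U, hU, hfin⟩ := β.locallyFiniteSupport (j a)
      exact ⟨j ⁻¹' U, j.continuous.continuousAt.preimage_mem_nhds hU,
        (hfin.preimage j.isEmbedding.injective.injOn).subset fun b hb => hb⟩⟩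
  have hγ : γ ∈ Cyc.Zk _ (δX ∘ j) (k + r) := fun a ha => hβ _ ha
  have hc := deltaCompat_chart f h y hδ
  have h0 := affine_vanish' (Fin r) (δX ∘ j) (δY y) hc (l := k + r) (by rw [hy, Fintype.card_fin]; omega) γ hγ
  obtain ⟨ι, _, ξ, F, hd, hrng, hF, hval⟩ := exists_family_transfer j
    (ratEquivZero_of_tcl_eq_zero (isSetup_field_const (affPr (Y.residueField y) (Fin r)) hc) h0)
  refine ⟨ι, inferInstance, ξ, F, hd, fun i => ?_, hF, fun x hx => ?_⟩
  · obtain ⟨a, ha⟩ := hrng i
    exact ha ▸ f_chart f h y a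
  · obtain ⟨a, rfl⟩ := exists_chart_eq f h y hx
    exact hval a

theorem finite_base [QuasiCompact f] (β : AlgebraicCycle X ℤ) {W : Y.Opens} (hW : IsAffineOpen W) :
    {y | y ∈ W ∧ ∃ x, β x ≠ 0 ∧ f x = y}.Finite := by
  refine ((β.locallyFiniteSupport.finite_inter_support_of_isCompact
    (QuasiCompact.isCompact_preimage (f := f) _ W.2 hW.isCompact)).image f).subset ?_
  rintro y ⟨hy, x, hx, rfl⟩
  exact ⟨x, ⟨hy, hx⟩, rfl⟩

include h hX hY hδ in
theorem exists_reduce {k : ℤ} {n : ℕ} (hn : 0 < n) (β : AlgebraicCycle X ℤ) (hβ : β ∈ Cyc.Zk X δX (k + r))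
    (hsup : ∀ x, β x ≠ 0 → δY (f x) ≤ k + n) :
    ∃ (β' : AlgebraicCycle X ℤ), β' ∈ Cyc.Zk X δX (k + r) ∧ Cyc.RatEquivZero δX (k + r) (β - β') ∧
      ∀ x, β' x ≠ 0 → δY (f x) < k + n := by
  classical
  haveI := quasiCompact f h
  let S : Set Y := {y | δY y = k + n ∧ ∃ x, β x ≠ 0 ∧ f x = y}
  choose κ hκ ξ F hd hπ hF hclear using fun y : S => exists_clear f h y hX hδ hn y.2.1 β hβ
  let e : (Σ y, κ y) → X := fun s => ξ s.1 s.2
  let g : (s : Σ y, κ y) → X.residueField (e s) := fun s => F s.1 s.2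
  have hlf : ∀ p : X, ∃ U : Set X, IsOpen U ∧ p ∈ U ∧ {s | (closure {e s} ∩ U).Nonempty}.Finite := fun p => by
    obtain ⟨_, ⟨W, hW, rfl⟩, hpW, -⟩ :=
      Y.isBasis_affineOpens.exists_subset_of_mem_open (Set.mem_univ (f p)) isOpen_univ
    refine ⟨f ⁻¹' W, W.2.preimage f.continuous, hpW,
      (((finite_base f β hW).preimage Subtype.val_injective.injOn).biUnion
        fun y (_ : y ∈ _) => Set.finite_range fun t : κ y => (⟨y, t⟩ : Σ y, κ y)).subset ?_⟩
    rintro ⟨y, t⟩ ⟨z, hz, hzW⟩
    have hyW : (y : Y) ∈ W := by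
      rw [← hπ y t]
      exact (specializes_iff_mem_closure.mpr hz).mem_open (W.2.preimage f.continuous) hzW
    exact Set.mem_biUnion (x := y) ⟨hyW, y.2.2⟩ ⟨t, rfl⟩
  obtain ⟨D, hD⟩ := exists_cycle_finsum_divFun hX e g (fun s => hF _ _) hlf
  have hne : ∀ (s : Σ y, κ y) x, Cyc.divFun δX (e s) (g s) x ≠ 0 → e s ⤳ x ∧ δX x = k + r := fun s x hs => by
    by_cases h' : e s ⤳ x ∧ δX x + 1 = δX (e s)
    · exact ⟨h'.1, by have := h'.2; rw [show δX (e s) = k + r + 1 from hd _ _] at this; omega⟩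
    · exact absurd (dif_neg h') hs
  have hDk : D ∈ Cyc.Zk X δX (k + r) := fun x hx => by
    rw [hD]
    exact finsum_eq_zero_of_forall_eq_zero fun s => by_contra fun h => hx (hne s x h).2
  refine ⟨β - D, (ChowOps.zk X δX _).sub_mem hβ hDk, ?_, fun x hx => ?_⟩
  · rw [sub_sub_cancel]
    exact ⟨_, e, g, fun s => hd _ _, fun s => hF _ _, hlf, hD⟩
  by_contra hge
  have hterm : ∀ s : Σ y, κ y, Cyc.divFun δX (e s) (g s) x ≠ 0 → (s.1 : Y) = f x := fun s hs => by
    have h1 := (hne s x hs).1.map f.continuous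
    rw [show f (e s) = (s.1 : Y) from hπ _ _] at h1
    by_contra hh
    have := (hY.2.2 _ _ h1 hh).1
    rw [s.1.2.1] at this
    omega
  refine hx ?_
  simp only [Function.locallyFinsuppWithin.coe_sub, Pi.sub_apply, sub_eq_zero]
  rw [hD]
  by_cases hS : f x ∈ S
  · rw [finsum_eq_sum_of_support_subset _
      (s := Finset.univ.map ⟨fun t => (⟨⟨f x, hS⟩, t⟩ : Σ y, κ y), sigma_mk_injective⟩) ?_, Finset.sum_map]
    · exact hclear ⟨f x, hS⟩ x rfl
    rintro ⟨y, t⟩ hs
    obtain rfl : y = ⟨f x, hS⟩ := Subtype.ext (hterm ⟨y, t⟩ hs)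
    simp
  · rw [finsum_eq_zero_of_forall_eq_zero fun s => by_contra fun h => hS (hterm s h ▸ s.1.2)]
    refine by_contra fun h => hS ⟨?_, x, h, rfl⟩
    have := hsup x h
    omega

include h hX hY hr hδ in
theorem surjective_of_support {k : ℤ} (n : ℕ) :
    ∀ (β : AlgebraicCycle X ℤ), β ∈ Cyc.Zk X δX (k + r) → (∀ x, β x ≠ 0 → δY (f x) ≤ k + n) →
      ∃ (α : AlgebraicCycle Y ℤ) (β' : AlgebraicCycle X ℤ), α ∈ Cyc.Zk Y δY k ∧
        ⇑β' = Cyc.pullFun f δX δY r ⇑α ∧ Cyc.RatEquiv δX (k + r) β β' := by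
  classical
  haveI := quasiCompact f h
  haveI := hX.1
  induction n with
  | zero =>
      intro β hβ hsup
      let α : AlgebraicCycle Y ℤ :=
        ⟨fun y => if δY y = k then β (gen f h y) else 0, Set.subset_univ _, fun y _ => by
          obtain ⟨_, ⟨W, hW, rfl⟩, hyW, -⟩ :=
            Y.isBasis_affineOpens.exists_subset_of_mem_open (Set.mem_univ y) isOpen_univ
          refine ⟨W, W.2.mem_nhds hyW, (finite_base f β hW).subset ?_⟩
          rintro z ⟨hz, hz'⟩
          refine ⟨hz, gen f h z, fun h' => hz' ?_, f_gen f h z⟩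
          show (if δY z = k then β (gen f h z) else 0) = 0
          rw [h', ite_self]⟩
      have hα : α ∈ Cyc.Zk Y δY k := fun y hy => if_neg hy
      refine ⟨α, β, hα, funext fun x => ?_, ?_⟩
      · have hf := delta_le f h hX hr hδ x
        have hg : δY (f x) = k → δX x = k + r → x = gen f h (f x) := fun h1 h2 => by
          by_contra hne
          have := (hX.2.2 _ _ (gen_specializes f h (f x) rfl) (Ne.symm hne)).1
          rw [delta_gen f h (f x) hδ hr] at this
          omega
        by_cases hgen : δY (f x) = k ∧ δX x = k + r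
        · rw [hg hgen.1 hgen.2, pullFun_gen f h (f x) hr hδ hX.1]
          exact (if_pos hgen.1).symm
        · have h1 : β x = 0 := by
            by_contra hx
            have h2 : δX x = k + r := by_contra fun h' => hx (hβ x h')
            have := hsup x hx
            exact hgen ⟨by push_cast at this; omega, h2⟩
          rw [h1, Cyc.pullFun]
          split_ifs with hd
          · have h3 : α (f x) = 0 := hα _ fun h' => hgen ⟨h', by omega⟩
            rw [h3, zero_mul]
          · rfl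
      · exact ratEquiv_of_tcl_eq hX (hα := hβ) (hβ := hβ) rfl
  | succ n ih =>
      intro β hβ hsup
      obtain ⟨β₁, hβ₁, h₁, hsup₁⟩ := exists_reduce f h hX hY hδ (n := n + 1) (by omega) β hβ hsup
      obtain ⟨α, β', hα, hβ', h₂⟩ := ih β₁ hβ₁ fun x hx => by
        have := hsup₁ x hx; push_cast at this ⊢; omega
      refine ⟨α, β', hα, hβ', ?_⟩
      have hβ'k : β' ∈ Cyc.Zk X δX (k + r) := Bivar.pullFun_mem_Zk f δX δY r k hα _ hβ'
      exact ratEquiv_of_tcl_eq hX (hα := hβ) (hβ := hβ'k)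
        ((tcl_eq_of_ratEquiv rfl hβ hβ₁ h₁).trans (tcl_eq_of_ratEquiv rfl hβ₁ hβ'k h₂))

include h hX hY hr hδ in
theorem surjective {k : ℤ} (β : AlgebraicCycle X ℤ) (hβ : β ∈ Cyc.Zk X δX (k + r)) :
    ∃ (α : AlgebraicCycle Y ℤ) (β' : AlgebraicCycle X ℤ), α ∈ Cyc.Zk Y δY k ∧
      ⇑β' = Cyc.pullFun f δX δY r ⇑α ∧ Cyc.RatEquiv δX (k + r) β β' :=
  surjective_of_support f h hX hY hr hδ r β hβ fun x hx => by
    have h1 : δX x = k + r := by_contra fun h' => hx (hβ x h')
    obtain ⟨m, -, hm⟩ := hδ x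
    omega

end Groth.CycInter.PB.AffBun
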