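import Groth.Agent.CycInter.ExtProd
import Mathlib.AlgebraicGeometry.Morphisms.Preimmersion
import Mathlib.RingTheory.Localization.AtPrime.Basic

/-!
Preimmersions of affine schemes given by fractions, and the residue field at a point of an affine open.
-/

universe u

set_option autoImplicit false

open CategoryTheory CategoryTheory.Limits AlgebraicGeometry

namespace Groth.CycInter.PB

/-- A ring map all of whose target is fractions of images gives a preimmersion. -/
theorem isPreimmersion_of_exists_div {R S : CommRingCat.{u}} (f : R ⟶ S)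
    (h : ∀ x : S, ∃ r s : R, IsUnit (f.hom s) ∧ f.hom s * x = f.hom r) : IsPreimmersion (Spec.map f) := by
  let M : Submonoid R := (IsUnit.submonoid S).comap f.hom
  let g : Localization M →+* S := IsLocalization.lift (M := M) (g := f.hom) fun y => y.2
  have hg : Function.Surjective g := fun x => by
    obtain ⟨r, s, hs, e⟩ := h x
    exact ⟨IsLocalization.mk' (Localization M) r (⟨s, hs⟩ : M),
      (IsLocalization.lift_mk'_spec _ _ _ _).mpr e.symm⟩
  have : IsPreimmersion (Spec.map (CommRingCat.ofHom (algebraMap R (Localization M)))) :=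
    IsPreimmersion.of_isLocalization M
  have : IsClosedImmersion (Spec.map (CommRingCat.ofHom g)) := IsClosedImmersion.spec_of_surjective _ hg
  have e : f = CommRingCat.ofHom (algebraMap R (Localization M)) ≫ CommRingCat.ofHom g :=
    CommRingCat.hom_ext (IsLocalization.lift_comp (M := M) (g := f.hom) fun y => y.2).symm
  rw [e, Spec.map_comp]
  infer_instance

/-- Every element of a residue field is a fraction of values of functions on an affine neighbourhood. -/
theorem exists_evaluation_div {X : Scheme.{u}} {V : X.Opens} (hV : IsAffineOpen V) {x : X} (hx : x ∈ V)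
    (c : X.residueField x) :
    ∃ a b : Γ(X, V), X.evaluation V x hx b ≠ 0 ∧ c * X.evaluation V x hx b = X.evaluation V x hx a := by
  obtain ⟨c, rfl⟩ := X.residue_surjective x c
  let alg : Algebra Γ(X, V) (X.presheaf.stalk x) := TopCat.Presheaf.algebra_section_stalk X.presheaf ⟨x, hx⟩
  have := hV.isLocalization_stalk ⟨x, hx⟩
  obtain ⟨⟨a, b⟩, e⟩ := IsLocalization.surj (hV.primeIdealOf ⟨x, hx⟩).asIdeal.primeCompl c
  have hb : IsUnit (algebraMap Γ(X, V) (X.presheaf.stalk x) b) :=
    IsLocalization.map_units _ b
  exact ⟨a, b, (hb.map (X.residue x).hom).ne_zero,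
    (map_mul (X.residue x).hom c _).symm.trans (congrArg (X.residue x).hom e)⟩

/-- The point of a residue field through an affine open. -/
theorem fromSpecResidueField_eq {X : Scheme.{u}} {V : X.Opens} (hV : IsAffineOpen V) {x : X} (hx : x ∈ V) :
    Spec.map (X.evaluation V x hx) ≫ hV.fromSpec = X.fromSpecResidueField x := by
  rw [Scheme.fromSpecResidueField, ← hV.fromSpecStalk_eq_fromSpecStalk hx, IsAffineOpen.fromSpecStalk,
    ← Spec.map_comp_assoc]
  rfl

/-- A scheme locally of finite type over a field with the induced dimension function is a setup. -/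
theorem isSetup_field_const {K : Type u} [Field K] {X : Scheme.{u}} (f : X ⟶ Spec (CommRingCat.of K))
    [LocallyOfFiniteType f] {δ : X → ℤ} {c : ℤ} (hδ : Cyc.DeltaCompat f δ fun _ => c) : Cyc.IsSetup X δ := by
  have : LocCoh.IsCohenMacaulayRing K :=
    Groth.KoszShLib.isCohenMacaulayRing_of_local K
      (Groth.Ega4Algebra1.isCohenMacaulayLocalRing_of_krullDimLE_zero K)
  have hK : CAlg.IsUniversallyCatenary K := Groth.Agent.S0603.result K
  have hst := fun p => Groth.EtCdDim.isUniversallyCatenary_stalk hK p
  have hS : Cyc.IsSetup (Spec (CommRingCat.of K)) fun _ => c :=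
    ⟨inferInstance, hst, fun x y _ hne => (hne (Subsingleton.elim (α := PrimeSpectrum K) x y)).elim⟩
  exact ⟨LocallyOfFiniteType.isLocallyNoetherian f,
    fun x => Groth.EGA43Topo.JacobsonDim.isUnivCat_stalk f x (hst _),
    Groth.Cycles.isDimFun_of_deltaCompat f hS hδ⟩

end Groth.CycInter.PB
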