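import Groth.Agent.CycInter.PbLine
import Groth.Agent.CycInter.DvrPush
import Groth.Agent.CycInter.PbPre

/-!
Cycles of non-maximal dimension on affine spaces over fields, and transfer of their relations along preimmersions.
-/

universe u

set_option autoImplicit false

open CategoryTheory AlgebraicGeometry Groth.Cycles

noncomputable section

namespace Groth.CycInter.PB

variable (K : Type u) [Field K]

/-- The structure map of an affine space over a field. -/
abbrev affPr (σ : Type) : Spec (CommRingCat.of (MvPolynomial σ K)) ⟶ Spec (CommRingCat.of K) :=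
  Spec.map (CommRingCat.ofHom (MvPolynomial.C : K →+* MvPolynomial σ K))

instance lft_affPr (σ : Type) [Finite σ] : LocallyOfFiniteType (affPr K σ) :=
  (HasRingHomProperty.Spec_iff (P := @LocallyOfFiniteType)).mpr
    (RingHom.finiteType_algebraMap.mpr (inferInstance : Algebra.FiniteType K (MvPolynomial σ K)))

variable {K}

theorem affine_vanish_step {A B : CommRingCat.{u}} (e : A ≅ B) {δA : Spec A → ℤ}
    (hA : Cyc.IsSetup (Spec A) δA) {l : ℤ}
    (H : ∀ (γ : AlgebraicCycle (Spec B) ℤ) (hγ : γ ∈ Cyc.Zk (Spec B) (fun z => δA (Spec.map e.hom z)) l),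
      tcl γ hγ = 0) (β : AlgebraicCycle (Spec A) ℤ) (hβ : β ∈ Cyc.Zk (Spec A) δA l) : tcl β hβ = 0 := by
  let j : Spec B ⟶ Spec A := Spec.map e.hom
  let ι : Spec A ⟶ Spec B := Spec.map e.inv
  have hB : Cyc.IsSetup (Spec B) fun z => δA (j z) := Biv.isSetup_openImm hA j
  obtain ⟨γ, hγ⟩ := Biv.exists_cycle_comp_openImm hA j β
  have hγk : γ ∈ Cyc.Zk (Spec B) (fun z => δA (j z)) l := fun z hz => by rw [hγ]; exact hβ _ hz
  have hji : ∀ x, j (ι x) = x := fun x => by
    rw [← Scheme.Hom.comp_apply, ← Spec.map_comp, Iso.hom_inv_id, Spec.map_id]; rfl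
  have hδ : δA = fun x => (fun z => δA (j z)) (ι x) := funext fun x => (congrArg δA (hji x)).symm
  have hc : Cyc.DeltaCompat ι δA fun z => δA (j z) := by
    have := deltaCompat_preimmersion ι (fun z => δA (j z))
    rwa [show ((fun z => δA (j z)) ∘ ι) = δA from hδ.symm] at this
  have hval : ⇑β = Cyc.pullFun ι δA (fun z => δA (j z)) ((0 : ℕ) : ℤ) ⇑γ := by
    funext x
    have h1 := Biv.pullFun_openImm ι (fun z => δA (j z)) ⇑γ x
    rw [show (fun u => (fun z => δA (j z)) (ι u)) = δA from hδ.symm] at h1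
    rw [Nat.cast_zero, h1, hγ, hji]
  rw [← pullT_tcl hB hA ι (Biv.hasRelDim_zero_openImm ι) hc γ hγk β hval hβ (by simp), H γ hγk, map_zero]

/-- A cycle of dimension below the top on an affine space over a field is rationally equivalent to zero. -/
theorem affine_vanish (n : ℕ) :
    ∀ (δA : Spec (CommRingCat.of (MvPolynomial (Fin n) K)) → ℤ) (c : ℤ),
      Cyc.DeltaCompat (affPr K (Fin n)) δA (fun _ => c) → ∀ l : ℤ, l < c + n →
        ∀ (β : AlgebraicCycle _ ℤ) (hβ : β ∈ Cyc.Zk _ δA l), tcl β hβ = 0 := by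
  induction n with
  | zero =>
      intro δA c hc l hl β hβ
      have h0 : β = 0 := DFunLike.ext _ _ fun z => by
        refine hβ z ?_
        obtain ⟨m, -, hm⟩ := hc z
        have hm' : δA z = c + m := hm
        omega
      exact (tcl_congr rfl h0 hβ fun _ _ => rfl).trans (tcl_zero _)
  | succ n ih =>
      intro δA c hc l hl β hβ
      let R : CommRingCat.{u} := CommRingCat.of (MvPolynomial (Fin n) K)
      let e : CommRingCat.of (MvPolynomial (Fin (n + 1)) K) ≅ lineRing R :=
        (MvPolynomial.finSuccEquiv K n).toRingEquiv.toCommRingCatIso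
      refine affine_vanish_step e (isSetup_field_const (affPr K (Fin (n + 1))) hc) (fun γ hγ => ?_) β hβ
      obtain ⟨δB, hδB⟩ := Biv.exists_delta (affPr K (Fin n)) (fun _ => c)
      have hB : Cyc.IsSetup (Spec R) δB := isSetup_field_const (affPr K (Fin n)) hδB
      have hw : Spec.map e.hom ≫ affPr K (Fin (n + 1)) = linePr R ≫ affPr K (Fin n) := by
        rw [linePr, affPr, affPr, ← Spec.map_comp, ← Spec.map_comp]
        congr 1
        exact CommRingCat.hom_ext (RingHom.ext fun a => (MvPolynomial.finSuccEquiv K n).commutes a)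
      have hA : Cyc.DeltaCompat (linePr R ≫ affPr K (Fin n)) (fun z => δA (Spec.map e.hom z)) (fun _ => c) := by
        rw [← hw]
        exact Bivar.deltaCompat_comp (Spec.map e.hom) (affPr K (Fin (n + 1))) _ δA _
          (deltaCompat_preimmersion _ δA) hc
      have hline := Dvr.deltaCompat_of_comp (linePr R) hA hδB
      have : LocallyOfFiniteType (linePr R) := lft_linePr R
      have : LocallyOfFiniteType (affPr K (Fin n)) := lft_affPr K (Fin n)
      have : LocallyOfFiniteType (linePr R ≫ affPr K (Fin n)) :=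
        MorphismProperty.comp_mem @LocallyOfFiniteType _ _ inferInstance inferInstance
      have hAs : Cyc.IsSetup (Spec (lineRing R)) fun z => δA (Spec.map e.hom z) :=
        isSetup_field_const (linePr R ≫ affPr K (Fin n)) hA
      obtain ⟨z, α, hα, rfl, hz⟩ := exists_pull_line hAs hB hline (l - 1) γ (by rwa [sub_add_cancel])
      have h0 := ih δB c hδB (l - 1) (by push_cast at hl; omega) α hα
      rw [h0, map_zero] at hz
      exact (tcl_congr (sub_add_cancel l 1).symm rfl hγ _).trans hz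

/-- The same for an arbitrary finite set of coordinates. -/
theorem affine_vanish' (σ : Type) [Fintype σ] (δA : Spec (CommRingCat.of (MvPolynomial σ K)) → ℤ) (c : ℤ)
    (hc : Cyc.DeltaCompat (affPr K σ) δA (fun _ => c)) {l : ℤ} (hl : l < c + Fintype.card σ)
    (β : AlgebraicCycle _ ℤ) (hβ : β ∈ Cyc.Zk _ δA l) : tcl β hβ = 0 := by
  let en := MvPolynomial.renameEquiv K (Fintype.equivFin σ)
  let e : CommRingCat.of (MvPolynomial σ K) ≅ CommRingCat.of (MvPolynomial (Fin (Fintype.card σ)) K) :=
    en.toRingEquiv.toCommRingCatIso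
  refine affine_vanish_step e (isSetup_field_const (affPr K σ) hc) (fun γ hγ => ?_) β hβ
  have hw : Spec.map e.hom ≫ affPr K σ = affPr K (Fin (Fintype.card σ)) := by
    rw [affPr, affPr, ← Spec.map_comp]
    congr 1
    exact CommRingCat.hom_ext (RingHom.ext fun a => en.commutes a)
  refine affine_vanish _ _ c ?_ l hl γ hγ
  rw [← hw]
  exact Bivar.deltaCompat_comp (Spec.map e.hom) (affPr K σ) _ δA _ (deltaCompat_preimmersion _ δA) hc

variable {T : Scheme.{u}}

/-- Relations on a quasi-compact preimmersed subspace transfer to relations on the ambient space. -/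
theorem exists_family_transfer {A : Scheme.{u}} [CompactSpace A] (j : A ⟶ T) [IsPreimmersion j] {δ : T → ℤ}
    {l : ℤ} {β : AlgebraicCycle A ℤ} (h : Cyc.RatEquivZero (δ ∘ j) l β) :
    ∃ (ι : Type u) (_ : Fintype ι) (ξ : ι → T) (f : (i : ι) → T.residueField (ξ i)),
      (∀ i, δ (ξ i) = l + 1) ∧ (∀ i, ξ i ∈ Set.range j) ∧ (∀ i, f i ≠ 0) ∧
        ∀ a : A, β a = ∑ i, Cyc.divFun δ (ξ i) (f i) (j a) := by
  obtain ⟨ι, ξ, f, hd, hf, hloc, hval⟩ := h
  choose U hU hmem hfin using hloc
  obtain ⟨s, hs⟩ := (isCompact_univ (X := A)).elim_finite_subcover U hU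
    fun a _ => Set.mem_iUnion.mpr ⟨a, hmem a⟩
  have : Finite ι := by
    have h1 : (⋃ a ∈ s, {i | (closure {ξ i} ∩ U a).Nonempty}).Finite :=
      s.finite_toSet.biUnion fun a _ => hfin a
    refine Set.finite_univ_iff.mp (h1.subset fun i _ => ?_)
    obtain ⟨a, ha, hia⟩ : ∃ a ∈ s, ξ i ∈ U a := by simpa using hs (Set.mem_univ (ξ i))
    exact Set.mem_biUnion ha ⟨ξ i, subset_closure rfl, hia⟩
  let := Fintype.ofFinite ι
  have hbij : ∀ a : A, Function.Bijective (j.residueFieldMap a).hom := fun a =>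
    ⟨(j.residueFieldMap a).hom.injective, Groth.Variety2.Dim.residueFieldMap_surjective j a⟩
  choose g hg using fun i => (hbij (ξ i)).2 (f i)
  refine ⟨ι, inferInstance, fun i => j (ξ i), g, fun i => hd i, fun i => ⟨_, rfl⟩, fun i h0 => hf i ?_,
    fun a => ?_⟩
  · rw [← hg i, h0, map_zero]
  · rw [hval a, finsum_eq_sum_of_fintype]
    refine Finset.sum_congr rfl fun i _ => ?_
    unfold Cyc.divFun
    by_cases hdiv : ξ i ⤳ a ∧ (δ ∘ j) a + 1 = (δ ∘ j) (ξ i)
    · have hdiv' : j (ξ i) ⤳ j a ∧ δ (j a) + 1 = δ (j (ξ i)) := ⟨hdiv.1.map j.continuous, hdiv.2⟩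
      rw [dif_pos hdiv, dif_pos hdiv', ← hg i]
      exact ordAt_preimmersion j hdiv.1 hdiv'.1 (g i)
    · rw [dif_neg hdiv, dif_neg]
      exact fun h' => hdiv ⟨j.isEmbedding.isInducing.specializes_iff.mp h'.1, h'.2⟩

end Groth.CycInter.PB
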