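import Groth.Agent.CycInter.PbTot
import Groth.Agent.CycInter.BivFlat
import Groth.Agent.CycInter.BivGysinLemmas
import Groth.Agent.S1926
import Groth.Agent.S1929

/-!
The Gysin map on total Chow groups; compatibilities of pushforward, pullback, Gysin maps and first Chern classes.
-/

universe u

set_option autoImplicit false

open CategoryTheory CategoryTheory.Limits AlgebraicGeometry
open Groth.RefRank Groth.Cycles

namespace Groth.CycInter.PB

variable {X Y : Scheme.{u}} {δ : X → ℤ} {δY : Y → ℤ}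

theorem pullT_congr (hX : Cyc.IsSetup X δ) (hY : Cyc.IsSetup Y δY) {f g : Y ⟶ X} [Flat f] [LocallyOfFiniteType f]
    [Flat g] [LocallyOfFiniteType g] (e : f = g) {r s : ℕ} (hr : Cyc.HasRelDim f r) (hs : Cyc.HasRelDim g s)
    (hrs : r = s) (hδ : Cyc.DeltaCompat f δY δ) (hδ' : Cyc.DeltaCompat g δY δ) :
    pullT hX hY f hr hδ = pullT hX hY g hs hδ' := by
  subst e hrs
  rfl

/-- Proper pushforward commutes with first Chern classes. -/
theorem pushT_c1T (hX : Cyc.IsSetup X δ) (hY : Cyc.IsSetup Y δY) (p : Y ⟶ X) [IsProper p]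
    (hδ : Cyc.DeltaCompat p δY δ) {L : X.Modules} (hL : PicF.IsInvertible L) {L' : Y.Modules}
    (hL' : PicF.IsInvertible L') (e : L' ≅ (Scheme.Modules.pullback p).obj L) :
    (pushT hX hY p hδ).comp (c1T hY hL') = (c1T hX hL).comp (pushT hX hY p hδ) := by
  refine hom_ext fun k α hα => ?_
  have hM := Groth.PicAux.isInvertible_pullback p hL
  obtain ⟨u, hu⟩ := Biv.exists_secs hM
  obtain ⟨v, hv⟩ := Biv.exists_secs hL
  obtain ⟨γ, hγ⟩ := exists_cycle_c1CapFun hY hM α hu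
  have hγk : γ ∈ Cyc.Zk Y δY (k - 1) := Biv.c1Cap_mem _ hα _ hγ
  have hpα := Bivar.cycMap_mem_Zk p δY δ k hα
  obtain ⟨γ', hγ'⟩ := exists_cycle_c1CapFun hX hL (AlgebraicCycle.map p δY δ α) hv
  have hγ'k : γ' ∈ Cyc.Zk X δ (k - 1) := Biv.c1Cap_mem _ hpα _ hγ'
  rw [AddMonoidHom.comp_apply, AddMonoidHom.comp_apply,
    c1T_tcl hY hL' α hα hM e.symm hu γ hγ hγk rfl,
    pushT_tcl hX hY p hδ γ hγk (Bivar.cycMap_mem_Zk p δY δ _ hγk) rfl,
    pushT_tcl hX hY p hδ α hα hpα rfl, c1T_tcl hX hL _ hpα hL (Iso.refl _) hv γ' hγ' hγ'k rfl]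
  exact tcl_eq_of_ratEquiv rfl _ _ (Groth.Agent.S1926.result Y X δY δ hY hX p hδ L hL (k - 1) α
    (by rwa [sub_add_cancel]) u hu v hv γ hγ γ' hγ')

/-- Proper pushforward commutes with flat pullback in a cartesian square. -/
theorem pushT_pullT {X' Y' : Scheme.{u}} {δX' : X' → ℤ} {δY' : Y' → ℤ} (hX : Cyc.IsSetup X δ)
    (hY : Cyc.IsSetup Y δY) (hX' : Cyc.IsSetup X' δX') (hY' : Cyc.IsSetup Y' δY')
    {f : Y ⟶ X} {p : X' ⟶ X} {q : Y' ⟶ Y} {f' : Y' ⟶ X'} (sq : IsPullback q f' f p)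
    [IsProper f] [IsProper f'] [Flat p] [LocallyOfFiniteType p] [Flat q] [LocallyOfFiniteType q]
    {r : ℕ} (hr : Cyc.HasRelDim p r) (hr' : Cyc.HasRelDim q r) (hf : Cyc.DeltaCompat f δY δ)
    (hf' : Cyc.DeltaCompat f' δY' δX') (hp : Cyc.DeltaCompat p δX' δ) (hq : Cyc.DeltaCompat q δY' δY) :
    (pushT hX' hY' f' hf').comp (pullT hY hY' q hr' hq) = (pullT hX hX' p hr hp).comp (pushT hX hY f hf) := by
  refine hom_ext fun k α hα => ?_
  have := hX'.1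
  have := hY'.1
  obtain h1 := pullCyc_mem hY hY' q hr' hq hα
  have hpα := Bivar.cycMap_mem_Zk f δY δ k hα
  rw [AddMonoidHom.comp_apply, AddMonoidHom.comp_apply,
    pullT_tcl hY hY' q hr' hq α hα _ (pullCyc_spec hY hY' q hr' hq α) h1 rfl,
    pushT_tcl hX' hY' f' hf' _ h1 (Bivar.cycMap_mem_Zk f' δY' δX' _ h1) rfl,
    pushT_tcl hX hY f hf α hα hpα rfl]
  refine (pullT_tcl hX hX' p hr hp _ hpα _ ?_ _ rfl).symm
  exact (Biv.pullFun_map_sq sq δ δX' δY δY' hf hf' (r : ℤ)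
    (fun x hx => Groth.Cycles.delta_eq_add_of_isFibreGeneric p hr hp hx)
    (fun x hx => Groth.Cycles.delta_eq_add_of_isFibreGeneric q hr' hq hx) α _
    (pullCyc_spec hY hY' q hr' hq α)).symm

/-! ### The Gysin map -/

variable (hX : Cyc.IsSetup X δ) {L : X.Modules} (hL : PicF.IsInvertible L) {D : Scheme.{u}} (i : D ⟶ X)
  [IsClosedImmersion i] {σ : L.presheaf.obj (Opposite.op ⊤)} (hσ : Cyc.IsZeroSchemeOf i L σ)

/-- The Gysin cycle with chosen fallback sections. -/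
noncomputable def gysCycT (α : AlgebraicCycle X ℤ) : AlgebraicCycle D ℤ :=
  (Biv.exists_gysin_cycle hX hL i (s := σ) (Biv.exists_secs hL).choose_spec α).choose


theorem gysCycT_spec (α : AlgebraicCycle X ℤ) (d : D) :
    gysCycT hX hL i (σ := σ) α d =
      Cyc.c1CapFun δ L ⇑α (Cyc.gysinChoice L σ (Biv.exists_secs hL).choose) (i d) :=
  (Biv.exists_gysin_cycle hX hL i (s := σ) (Biv.exists_secs hL).choose_spec α).choose_spec.1 d

theorem gysCycT_mem {k : ℤ} {α : AlgebraicCycle X ℤ} (hα : α ∈ Cyc.Zk X δ k) :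
    gysCycT hX hL i (σ := σ) α ∈ Cyc.Zk D (fun d => δ (i d)) (k + -1) :=
  (Biv.exists_gysin_cycle hX hL i (s := σ) (Biv.exists_secs hL).choose_spec α).choose_spec.2 k hα

/-- The Gysin map of a zero scheme on total Chow groups. -/
noncomputable def gysT : Tot X δ →+ Tot D (fun d => δ (i d)) :=
  mkOp (-1) (gysCycT hX hL i (σ := σ))
    (fun α β => DFunLike.coe_injective (funext fun d => by
      rw [Function.locallyFinsuppWithin.coe_add, Pi.add_apply, gysCycT_spec, gysCycT_spec, gysCycT_spec,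
        Function.locallyFinsuppWithin.coe_add, Bivar.c1CapFun_add, Pi.add_apply]))
    (fun _ _ hα => gysCycT_mem hX hL i hα)
    fun k α hα h0 => by
      rw [← sub_eq_add_neg]
      exact Groth.Agent.S1929.result X D δ hX L hL σ i hσ (k - 1) α (by rwa [sub_add_cancel])
        (by rwa [sub_add_cancel]) _ (Biv.exists_secs hL).choose_spec _ (gysCycT_spec hX hL i α)

include hX hL hσ in
theorem gys_secs_ratEquiv {k : ℤ} {α : AlgebraicCycle X ℤ} (hα : α ∈ Cyc.Zk X δ (k + 1))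
    {w w' : (ξ : X) → Cyc.secFibre L ξ} (hw : ∀ ξ, w ξ ≠ 0) (hw' : ∀ ξ, w' ξ ≠ 0) {γ γ' : AlgebraicCycle D ℤ}
    (hγ : ∀ d, γ d = Cyc.c1CapFun δ L ⇑α (Cyc.gysinChoice L σ w) (i d))
    (hγ' : ∀ d, γ' d = Cyc.c1CapFun δ L ⇑α (Cyc.gysinChoice L σ w') (i d)) :
    Cyc.RatEquiv (fun d => δ (i d)) k γ γ' := by
  have h := c1CapFun_sections hX hL (k := k) (Z := zeroLocus L σ) ⇑α (finite_cycle α)
    (fun ξ h => by_contra fun h' => h (hα ξ h')) (gysinChoice_ne_zero (s := σ) hw) (gysinChoice_ne_zero (s := σ) hw')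
    fun ξ _ hξ z => by rw [gysinChoice_of_notMem _ hξ, gysinChoice_of_notMem _ hξ]
  refine ratEquivZero_of_ratZeroOn (isSetup_sub i hX)
    ((h.comap i hX (range_eq_zeroLocus hσ).ge).congr fun d => ?_)
  simp only [Function.locallyFinsuppWithin.coe_sub, Pi.sub_apply, hγ, hγ']

theorem gysT_tcl {k j : ℤ} (α : AlgebraicCycle X ℤ) (hα : α ∈ Cyc.Zk X δ k)
    {w : (ξ : X) → Cyc.secFibre L ξ} (hw : ∀ ξ, w ξ ≠ 0) (γ : AlgebraicCycle D ℤ)
    (hγ : ∀ d, γ d = Cyc.c1CapFun δ L ⇑α (Cyc.gysinChoice L σ w) (i d))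
    (hγk : γ ∈ Cyc.Zk D (fun d => δ (i d)) j) (hj : j = k - 1) :
    gysT hX hL i hσ (tcl α hα) = tcl γ hγk := by
  subst hj
  refine (mkOp_tcl α hα).trans (tcl_eq_of_ratEquiv (by ring) _ hγk ?_)
  exact gys_secs_ratEquiv hX hL i hσ (by rwa [show k + -1 + 1 = k by ring]) (Biv.exists_secs hL).choose_spec hw
    (gysCycT_spec hX hL i α) hγ

/-- The Gysin map commutes with first Chern classes. -/
theorem gysT_c1T {N : X.Modules} (hN : PicF.IsInvertible N) {N' : D.Modules} (hN' : PicF.IsInvertible N')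
    (e : N' ≅ (Scheme.Modules.pullback i).obj N) :
    (gysT hX hL i hσ).comp (c1T hX hN) = (c1T (isSetup_sub i hX) hN').comp (gysT hX hL i hσ) := by
  refine hom_ext fun k α hα => ?_
  have hD := isSetup_sub i hX
  have hM := Groth.PicAux.isInvertible_pullback i hN
  obtain ⟨w, hw⟩ := Biv.exists_secs hL
  obtain ⟨v, hv⟩ := Biv.exists_secs hN
  obtain ⟨t, ht⟩ := Biv.exists_secs hM
  obtain ⟨c, hc⟩ := exists_cycle_c1CapFun hX hN α hv
  have hck : c ∈ Cyc.Zk X δ (k - 1) := Biv.c1Cap_mem _ hα _ hc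
  obtain ⟨γ, hγ, hγm⟩ := Biv.exists_gysin_cycle hX hL i (s := σ) hw α
  obtain ⟨ζ₁, hζ₁, hζ₁m⟩ := Biv.exists_gysin_cycle hX hL i (s := σ) hw c
  obtain ⟨ζ₂, hζ₂⟩ := exists_cycle_c1CapFun hD hM γ ht
  have hζ₂k : ζ₂ ∈ Cyc.Zk D (fun d => δ (i d)) (k - 1 - 1) := Biv.c1Cap_mem _ (hγm k hα) _ hζ₂
  rw [AddMonoidHom.comp_apply, AddMonoidHom.comp_apply, c1T_tcl hX hN α hα hN (Iso.refl _) hv c hc hck rfl,
    gysT_tcl hX hL i hσ c hck hw ζ₁ hζ₁ (hζ₁m _ hck) rfl,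
    gysT_tcl hX hL i hσ α hα hw γ hγ (hγm k hα) rfl,
    c1T_tcl hD hN' γ (hγm k hα) hM e.symm ht ζ₂ hζ₂ hζ₂k rfl]
  refine tcl_eq_of_ratEquiv rfl _ _ ?_
  rw [show k - 1 - 1 = k - 2 by ring]
  exact gysin_c1_fun hX hL hN hσ α hα hw hv ht ⇑γ hγ (fun d => by rw [hζ₁, hc]) hζ₂

/-- The Gysin map commutes with flat pullback. -/
theorem gysT_pullT {X' P : Scheme.{u}} {δ' : X' → ℤ} (hX' : Cyc.IsSetup X' δ') {f : X' ⟶ X} [Flat f]
    [LocallyOfFiniteType f] {j : P ⟶ X'} [IsClosedImmersion j] {q : P ⟶ D} [Flat q] [LocallyOfFiniteType q]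
    (sq : IsPullback j q f i) {L' : X'.Modules} (e : L' = (Scheme.Modules.pullback f).obj L)
    (hL' : PicF.IsInvertible L') {σ' : L'.presheaf.obj (Opposite.op ⊤)} (hσ' : Cyc.IsZeroSchemeOf j L' σ')
    {r : ℕ} (hr : Cyc.HasRelDim f r) (hr' : Cyc.HasRelDim q r) (hf : Cyc.DeltaCompat f δ' δ)
    (hq : Cyc.DeltaCompat q (fun z => δ' (j z)) (fun d => δ (i d))) :
    (gysT hX' hL' j hσ').comp (pullT hX hX' f hr hf) =
      (pullT (isSetup_sub i hX) (isSetup_sub j hX') q hr' hq).comp (gysT hX hL i hσ) := by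
  subst e
  refine hom_ext fun k α hα => ?_
  have hD := isSetup_sub i hX
  have hP := isSetup_sub j hX'
  obtain ⟨w, hw⟩ := Biv.exists_secs hL
  obtain ⟨w', hw'⟩ := Biv.exists_secs hL'
  have h1 := pullCyc_mem hX hX' f hr hf hα
  obtain ⟨γ, hγ, hγm⟩ := Biv.exists_gysin_cycle hX hL i (s := σ) hw α
  obtain ⟨ζ₁, hζ₁, hζ₁m⟩ := Biv.exists_gysin_cycle hX' hL' j (s := σ') hw' (pullCyc hX hX' f hr hf α)
  rw [AddMonoidHom.comp_apply, AddMonoidHom.comp_apply,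
    pullT_tcl hX hX' f hr hf α hα _ (pullCyc_spec hX hX' f hr hf α) h1 rfl,
    gysT_tcl hX' hL' j hσ' _ h1 hw' ζ₁ hζ₁ (hζ₁m _ h1) rfl,
    gysT_tcl hX hL i hσ α hα hw γ hγ (hγm k hα) rfl,
    pullT_tcl hD hP q hr' hq γ (hγm k hα) _ (pullCyc_spec hD hP q hr' hq γ)
      (pullCyc_mem hD hP q hr' hq (hγm k hα)) rfl]
  refine tcl_eq_of_ratEquiv (by ring) _ _ ?_
  rw [show k + (r : ℤ) - 1 = (k - 1) + r by ring]
  exact Biv.gysin_pull_sq hX hX' (r : ℤ) (fun x hx => Groth.Cycles.delta_eq_add_of_isFibreGeneric f hr hf hx)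
    hL hσ sq hσ' (k - 1) α (by rwa [sub_add_cancel]) hw hw'
    (fun z => by rw [hζ₁, pullCyc_spec])
    (by rw [pullCyc_spec]; exact congrArg (Cyc.pullFun q _ _ _) (funext hγ))

end Groth.CycInter.PB
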