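import Groth.Agent.CycInter.PbChern
import Groth.Agent.CycInter.PbCompat
import Groth.Agent.GrassFlag.BaseChange

/-!
Base change of projective bundles; Chern classes commute with pushforward, pullback, Gysin maps and `c1`.
-/

universe u

set_option autoImplicit false

open CategoryTheory CategoryTheory.Limits AlgebraicGeometry

noncomputable section

namespace Groth.CycInter.PB

variable {X Y : Scheme.{u}} {δ : X → ℤ} {δY : Y → ℤ} (B : Bun X δ) (g : Y ⟶ X) (hY : Cyc.IsSetup Y δY)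
  {P' : Scheme.{u}} {π' : P' ⟶ Y} {g' : P' ⟶ B.P} (sq : IsPullback g' π' B.π g) {δP' : P' → ℤ}
  (hP' : Cyc.IsSetup P' δP') (hδ' : Cyc.DeltaCompat π' δP' δY)

/-- The base change of a projective bundle with dimension functions. -/
def Bun.bc : Bun Y δY where
  P := P'
  π := π'
  E := (Scheme.Modules.pullback g).obj B.E
  O1 := (Scheme.Modules.pullback g').obj B.O1
  q := GrassFlag.bcQuot sq B.q
  hP := Grass.isGrass_one_iff.mp (GrassFlag.isGrass_bc (Grass.isGrass_one_iff.mpr B.hP) sq)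
  r := B.r
  hr := B.hr
  hE := Groth.LocFree.isFinLocFreeOfRank_pullback g B.hE
  δP := δP'
  hX := hY
  hPs := hP'
  hδ := hδ'
  hp := MorphismProperty.of_isPullback sq B.hp

/-- Chern classes commute with proper pushforward. -/
theorem Bun.chern_pushT [IsProper g] (hg : Cyc.DeltaCompat g δY δ) (hg' : Cyc.DeltaCompat g' δP' B.δP)
    (j : ℕ) (z : Tot Y δY) :
    pushT B.hX hY g hg ((B.bc g hY sq hP' hδ').chern j z) = B.chern j (pushT B.hX hY g hg z) := by
  haveI := B.hp
  haveI := B.flatπ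
  haveI := B.lftπ
  haveI : IsProper g' := MorphismProperty.of_isPullback sq.flip ‹IsProper g›
  let B' := B.bc g hY sq hP' hδ'
  haveI : Flat π' := B'.flatπ
  haveI : LocallyOfFiniteType π' := B'.lftπ
  let Ψ : Tot P' δP' →+ Tot B.P B.δP := pushT B.hPs hP' g' hg'
  exact B'.chern_natural B rfl (pushT B.hX hY g hg) Ψ
    (fun w => DFunLike.congr_fun
      (pushT_pullT B.hX hY B.hPs hP' sq.flip B.relDim B'.relDim hg hg' B.hδ hδ') w)
    (fun w => DFunLike.congr_fun (pushT_c1T B.hPs hP' g' hg' B.hO B'.hO (Iso.refl _)) w) j z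

/-- Chern classes commute with flat pullback. -/
theorem Bun.chern_pullT [Flat g] [LocallyOfFiniteType g] {c : ℕ} (hc : Cyc.HasRelDim g c)
    (hg : Cyc.DeltaCompat g δY δ) (hg' : Cyc.DeltaCompat g' δP' B.δP) (j : ℕ) (z : Tot X δ) :
    pullT B.hX hY g hc hg (B.chern j z) = (B.bc g hY sq hP' hδ').chern j (pullT B.hX hY g hc hg z) := by
  haveI := B.flatπ
  haveI := B.lftπ
  haveI : Flat g' := MorphismProperty.of_isPullback sq.flip ‹Flat g›
  haveI : LocallyOfFiniteType g' := MorphismProperty.of_isPullback sq.flip ‹LocallyOfFiniteType g›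
  let B' := B.bc g hY sq hP' hδ'
  haveI : Flat π' := B'.flatπ
  haveI : LocallyOfFiniteType π' := B'.lftπ
  have hc' : Cyc.HasRelDim g' c := Biv.hasRelDim_baseChange sq.flip hc
  have h1 := (Groth.Agent.S1857.result P' B.P X δP' B.δP δ hP' B.hPs B.hX g' B.π c (B.r - 1) hc' B.relDim hg'
    B.hδ 0).1
  have h2 := (Groth.Agent.S1857.result P' Y X δP' δY δ hP' hY B.hX π' g (B'.r - 1) c B'.relDim hc hδ' hg 0).1
  let Ψ : Tot B.P B.δP →+ Tot P' δP' := pullT B.hPs hP' g' hc' hg'
  refine B.chern_natural B' rfl (pullT B.hX hY g hc hg) Ψ (fun w => ?_)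
    (fun w => DFunLike.congr_fun (pullT_c1T B.hPs B.hO hP' g' hc' hg' B'.hO (Iso.refl _)) w) j z
  exact DFunLike.congr_fun ((pullT_comp B.hX B.hPs B.π B.relDim B.hδ hP' g' hc' hg' h1 rfl).trans
    ((pullT_congr B.hX hP' sq.w h1 h2 (show c + (B.r - 1) = (B.r - 1) + c by omega) _ _).trans
      (pullT_comp B.hX hY g hc hg hP' π' B'.relDim hδ' h2 rfl).symm)) w

/-- Chern classes commute with first Chern classes of invertible modules. -/
theorem Bun.chern_c1T {L : X.Modules} (hL : PicF.IsInvertible L) (j : ℕ) (z : Tot X δ) :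
    c1T B.hX hL (B.chern j z) = B.chern j (c1T B.hX hL z) := by
  haveI := B.flatπ
  haveI := B.lftπ
  have hL' := Groth.PicAux.isInvertible_pullback B.π hL
  exact B.chern_natural B rfl (c1T B.hX hL) (c1T B.hPs hL')
    (fun w => (DFunLike.congr_fun (pullT_c1T B.hX hL B.hPs B.π B.relDim B.hδ hL' (Iso.refl _)) w).symm)
    (fun w => DFunLike.congr_fun (c1T_comm B.hPs hL' B.hO) w) j z

omit hY sq hP' hδ' in
/-- The Chern classes of two bundles commute. -/
theorem Bun.chern_comm (C : Bun X δ) {Q : Scheme.{u}} {p : Q ⟶ B.P} {p' : Q ⟶ C.P}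
    (sqQ : IsPullback p' p C.π B.π) {δQ : Q → ℤ} (hQ : Cyc.IsSetup Q δQ) (hδQ : Cyc.DeltaCompat p δQ B.δP)
    (hδQ' : Cyc.DeltaCompat p' δQ C.δP) (i j : ℕ) (z : Tot X δ) :
    C.chern j (B.chern i z) = B.chern i (C.chern j z) := by
  haveI := B.flatπ
  haveI := B.lftπ
  let C' := C.bc B.π B.hPs sqQ hQ hδQ
  exact B.chern_natural B rfl (C.chern j) (C'.chern j)
    (fun w => (C.chern_pullT B.π B.hPs sqQ hQ hδQ B.relDim B.hδ hδQ' j w).symm)
    (fun w => (C'.chern_c1T B.hO j w).symm) i z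

end Groth.CycInter.PB

namespace Groth.CycInter.PB

variable {X : Scheme.{u}} {δ : X → ℤ}

/-- Chern classes commute with the Gysin map of a zero scheme of a section of an invertible module. -/
theorem Bun.chern_gysT (B : Bun X δ) {L : X.Modules} (hL : PicF.IsInvertible L) {D : Scheme.{u}} (i : D ⟶ X)
    [IsClosedImmersion i] {σ : L.presheaf.obj (Opposite.op ⊤)} (hσ : Cyc.IsZeroSchemeOf i L σ)
    {PD : Scheme.{u}} {pD : PD ⟶ D} {i' : PD ⟶ B.P} [IsClosedImmersion i'] (sq : IsPullback i' pD B.π i)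
    (hδ' : Cyc.DeltaCompat pD (fun y => B.δP (i' y)) (fun d => δ (i d))) (j : ℕ) (z : Tot X δ) :
    gysT B.hX hL i hσ (B.chern j z) =
      (B.bc i (isSetup_sub i B.hX) sq (isSetup_sub i' B.hPs) hδ').chern j (gysT B.hX hL i hσ z) := by
  haveI := B.flatπ
  haveI := B.lftπ
  let B' := B.bc i (isSetup_sub i B.hX) sq (isSetup_sub i' B.hPs) hδ'
  haveI : Flat pD := B'.flatπ
  haveI : LocallyOfFiniteType pD := B'.lftπ
  have hL' := Groth.PicAux.isInvertible_pullback B.π hL
  have hσ' := Biv.isZeroSchemeOf_pullTop hL hσ sq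
  let Ψ : Tot B.P B.δP →+ Tot PD (fun y => B.δP (i' y)) := gysT B.hPs hL' i' hσ'
  exact B.chern_natural B' rfl (gysT B.hX hL i hσ) Ψ
    (fun w => DFunLike.congr_fun
      (gysT_pullT B.hX hL i hσ B.hPs sq rfl hL' hσ' B.relDim B'.relDim B.hδ hδ') w)
    (fun w => DFunLike.congr_fun (gysT_c1T B.hPs hL' i' hσ' B.hO B'.hO (Iso.refl _)) w) j z

end Groth.CycInter.PB
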