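import Groth.Agent.CycInter.BivC1Gysin
import Groth.Agent.CycInter.BivClopen
import Groth.Agent.CycInter.BivPushCH
import Groth.Agent.S1856
import Groth.Agent.S1857
import Groth.Agent.S1859
import Groth.Agent.S1922
import Mathlib.Algebra.DirectSum.Basic

/-!
The total Chow group, with cap, pullback and pushforward as maps of total Chow groups.
-/

universe u

set_option autoImplicit false

open CategoryTheory CategoryTheory.Limits AlgebraicGeometry
open Groth.RefRank Groth.Cycles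
open scoped DirectSum

namespace Groth.CycInter.PB

variable {X Y : Scheme.{u}} {δ : X → ℤ} {δY : Y → ℤ}

/-- The direct sum of all Chow groups. -/
abbrev Tot (X : Scheme.{u}) (δ : X → ℤ) : Type u := ⨁ k : ℤ, ChowOps.CH X δ k

/-- The class of a `k`-cycle. -/
noncomputable def tcl {k : ℤ} (α : AlgebraicCycle X ℤ) (hα : α ∈ Cyc.Zk X δ k) : Tot X δ :=
  DirectSum.of (fun k => ChowOps.CH X δ k) k (ChowOps.cl α hα)

theorem tcl_congr {k l : ℤ} (e : k = l) {α β : AlgebraicCycle X ℤ} (h : α = β) (hα : α ∈ Cyc.Zk X δ k)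
    (hβ : β ∈ Cyc.Zk X δ l) : tcl α hα = tcl β hβ := by
  subst e h; rfl

theorem tcl_zero {k : ℤ} (h : (0 : AlgebraicCycle X ℤ) ∈ Cyc.Zk X δ k) : tcl (δ := δ) (k := k) 0 h = 0 :=
  (congrArg (DirectSum.of _ k) (Bivar.cl_zero (X := X) (δ := δ) (k := k))).trans (map_zero _)

theorem tcl_add {k : ℤ} {α β : AlgebraicCycle X ℤ} (hα : α ∈ Cyc.Zk X δ k) (hβ : β ∈ Cyc.Zk X δ k)
    (h : α + β ∈ Cyc.Zk X δ k) : tcl (α + β) h = tcl α hα + tcl β hβ :=
  (congrArg (DirectSum.of _ k) (Bivar.cl_add (hα := hα) (hβ := hβ))).trans (map_add _ _ _)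

theorem tcl_eq_of_ratEquiv {k l : ℤ} (e : k = l) {α β : AlgebraicCycle X ℤ} (hα : α ∈ Cyc.Zk X δ k)
    (hβ : β ∈ Cyc.Zk X δ l) (h : Cyc.RatEquiv δ k α β) : tcl α hα = tcl β hβ := by
  subst e
  exact congrArg (DirectSum.of _ k) (Biv.cl_eq hα hβ h)

theorem ratEquiv_of_tcl_eq (hX : Cyc.IsSetup X δ) {k : ℤ} {α β : AlgebraicCycle X ℤ}
    {hα : α ∈ Cyc.Zk X δ k} {hβ : β ∈ Cyc.Zk X δ k} (h : tcl α hα = tcl β hβ) : Cyc.RatEquiv δ k α β :=
  Biv.ratEquiv_of_cl_eq hX (DirectSum.of_injective k h)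

theorem ratEquivZero_of_tcl_eq_zero (hX : Cyc.IsSetup X δ) {k : ℤ} {α : AlgebraicCycle X ℤ}
    {hα : α ∈ Cyc.Zk X δ k} (h : tcl α hα = 0) : Cyc.RatEquivZero δ k α := by
  have h0 : (0 : AlgebraicCycle X ℤ) ∈ Cyc.Zk X δ k := fun _ _ => rfl
  have := ratEquiv_of_tcl_eq hX (h.trans (tcl_zero h0).symm)
  rwa [Cyc.RatEquiv, sub_zero] at this

theorem tcl_eq_zero_of_ratEquivZero {k : ℤ} {α : AlgebraicCycle X ℤ} (hα : α ∈ Cyc.Zk X δ k)
    (h : Cyc.RatEquivZero δ k α) : tcl α hα = 0 := by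
  have h0 : (0 : AlgebraicCycle X ℤ) ∈ Cyc.Zk X δ k := fun _ _ => rfl
  rw [← tcl_zero h0]
  exact tcl_eq_of_ratEquiv rfl hα h0 (by rwa [Cyc.RatEquiv, sub_zero])

/-- The class map on `k`-cycles. -/
noncomputable def tclHom (X : Scheme.{u}) (δ : X → ℤ) (k : ℤ) : ↥(ChowOps.zk X δ k) →+ Tot X δ :=
  (DirectSum.of (fun k => ChowOps.CH X δ k) k).comp (ChowOps.clHom X δ k)

theorem tclHom_apply {k : ℤ} (α : AlgebraicCycle X ℤ) (hα : α ∈ Cyc.Zk X δ k) :
    tclHom X δ k ⟨α, hα⟩ = tcl α hα := rfl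

theorem tcl_zsmul {k : ℤ} (n : ℤ) {α : AlgebraicCycle X ℤ} (hα : α ∈ Cyc.Zk X δ k)
    (h : n • α ∈ Cyc.Zk X δ k) : tcl (n • α) h = n • tcl α hα :=
  map_zsmul (tclHom X δ k) n ⟨α, hα⟩

theorem tcl_sub {k : ℤ} {α β : AlgebraicCycle X ℤ} (hα : α ∈ Cyc.Zk X δ k) (hβ : β ∈ Cyc.Zk X δ k)
    (h : α - β ∈ Cyc.Zk X δ k) : tcl (α - β) h = tcl α hα - tcl β hβ :=
  map_sub (tclHom X δ k) ⟨α, hα⟩ ⟨β, hβ⟩

theorem sum_mem_Zk {κ : Type*} (s : Finset κ) {k : ℤ} (α : κ → AlgebraicCycle X ℤ)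
    (hα : ∀ i, α i ∈ Cyc.Zk X δ k) : ∑ i ∈ s, α i ∈ Cyc.Zk X δ k := fun x hx => by
  rw [Function.locallyFinsuppWithin.coe_sum, Finset.sum_apply]
  exact Finset.sum_eq_zero fun i _ => hα i x hx

theorem tcl_sum {κ : Type*} (s : Finset κ) {k : ℤ} (α : κ → AlgebraicCycle X ℤ)
    (hα : ∀ i, α i ∈ Cyc.Zk X δ k) (h : ∑ i ∈ s, α i ∈ Cyc.Zk X δ k) :
    tcl (∑ i ∈ s, α i) h = ∑ i ∈ s, tcl (α i) (hα i) := by
  have h1 := map_sum (tclHom X δ k) (fun i => (⟨α i, hα i⟩ : ↥(ChowOps.zk X δ k))) s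
  refine Eq.trans ?_ h1
  refine congrArg (tclHom X δ k) (Subtype.ext ?_ : (⟨∑ i ∈ s, α i, h⟩ : ↥(ChowOps.zk X δ k)) = _)
  exact (AddSubgroup.val_finset_sum (ChowOps.zk X δ k) (fun i => (⟨α i, hα i⟩ : ↥(ChowOps.zk X δ k))) s).symm

/-- Homomorphisms out of the total Chow group are determined on classes of cycles. -/
theorem hom_ext {H : Type*} [AddCommMonoid H] {f g : Tot X δ →+ H}
    (h : ∀ (k : ℤ) (α : AlgebraicCycle X ℤ) (hα : α ∈ Cyc.Zk X δ k), f (tcl α hα) = g (tcl α hα)) :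
    f = g := by
  refine DirectSum.addHom_ext fun k x => ?_
  obtain ⟨⟨α, hα⟩, rfl⟩ := QuotientAddGroup.mk_surjective x
  exact h k α hα

/-- The map of total Chow groups of an additive map of cycles shifting the dimension. -/
noncomputable def mkOp (d : ℤ) (F : AlgebraicCycle X ℤ → AlgebraicCycle Y ℤ)
    (hadd : ∀ α β, F (α + β) = F α + F β)
    (hmem : ∀ k α, α ∈ Cyc.Zk X δ k → F α ∈ Cyc.Zk Y δY (k + d))
    (hrat : ∀ k α, α ∈ Cyc.Zk X δ k → Cyc.RatEquivZero δ k α → Cyc.RatEquivZero δY (k + d) (F α)) :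
    Tot X δ →+ Tot Y δY :=
  DirectSum.toAddMonoid fun k =>
    (DirectSum.of (fun k => ChowOps.CH Y δY k) (k + d)).comp
      (Biv.liftCH
        (AddMonoidHom.mk' (fun α : ↥(ChowOps.zk X δ k) => ChowOps.cl (F α.1) (hmem k α.1 α.2)) fun α β => by
          rw [← Bivar.cl_add]
          exact Bivar.cl_congr (hadd α.1 β.1) _ _)
        fun α hα h0 => DirectSum.of_injective (β := fun k => ChowOps.CH Y δY k) (k + d)
          ((tcl_eq_zero_of_ratEquivZero (hmem k α hα) (hrat k α hα h0)).trans (map_zero _).symm))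

theorem mkOp_tcl {d : ℤ} {F : AlgebraicCycle X ℤ → AlgebraicCycle Y ℤ} {hadd} {hmem} {hrat} {k : ℤ}
    (α : AlgebraicCycle X ℤ) (hα : α ∈ Cyc.Zk X δ k) :
    mkOp (δ := δ) (δY := δY) d F hadd hmem hrat (tcl α hα) = tcl (F α) (hmem k α hα) := by
  unfold mkOp tcl
  rw [DirectSum.toAddMonoid_of]
  rfl

/-! ### The first Chern class -/

variable (hX : Cyc.IsSetup X δ) {L : X.Modules} (hL : PicF.IsInvertible L)

/-- The cycle of the first Chern class with chosen sections. -/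
noncomputable def capCyc (α : AlgebraicCycle X ℤ) : AlgebraicCycle X ℤ :=
  (exists_cycle_c1CapFun hX hL α (Biv.exists_secs hL).choose_spec).choose

theorem capCyc_spec (α : AlgebraicCycle X ℤ) :
    ⇑(capCyc hX hL α) = Cyc.c1CapFun δ L ⇑α (Biv.exists_secs hL).choose :=
  (exists_cycle_c1CapFun hX hL α (Biv.exists_secs hL).choose_spec).choose_spec

theorem capCyc_mem {k : ℤ} {α : AlgebraicCycle X ℤ} (hα : α ∈ Cyc.Zk X δ k) :
    capCyc hX hL α ∈ Cyc.Zk X δ (k + -1) :=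
  Biv.c1Cap_mem _ hα _ (capCyc_spec hX hL α)

/-- The first Chern class on total Chow groups. -/
noncomputable def c1T : Tot X δ →+ Tot X δ :=
  mkOp (-1) (capCyc hX hL)
    (fun α β => DFunLike.coe_injective (by
      rw [Function.locallyFinsuppWithin.coe_add, capCyc_spec, capCyc_spec, capCyc_spec,
        Function.locallyFinsuppWithin.coe_add, Bivar.c1CapFun_add]))
    (fun _ _ hα => capCyc_mem hX hL hα)
    fun k α hα h0 => by
      rw [← sub_eq_add_neg]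
      exact Groth.Agent.S1921.result X δ hX L hL (k - 1) α (by rwa [sub_add_cancel]) (by rwa [sub_add_cancel])
        _ (Biv.exists_secs hL).choose_spec _ (capCyc_spec hX hL α)

theorem c1T_tcl {k j : ℤ} (α : AlgebraicCycle X ℤ) (hα : α ∈ Cyc.Zk X δ k) {M : X.Modules}
    (hM : PicF.IsInvertible M) (e : M ≅ L) {v : (ξ : X) → Cyc.secFibre M ξ} (hv : ∀ ξ, v ξ ≠ 0)
    (γ : AlgebraicCycle X ℤ) (hγ : ⇑γ = Cyc.c1CapFun δ M ⇑α v) (hγk : γ ∈ Cyc.Zk X δ j) (hj : j = k - 1) :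
    c1T hX hL (tcl α hα) = tcl γ hγk := by
  subst hj
  refine (mkOp_tcl α hα).trans (tcl_eq_of_ratEquiv (by ring) _ hγk ?_)
  have h := Biv.c1_iso hX hL hM e.symm hα (Biv.exists_secs hL).choose_spec hv (capCyc_spec hX hL α) hγ
  rwa [sub_eq_add_neg] at h

theorem c1T_iso {M : X.Modules} (hM : PicF.IsInvertible M) (e : M ≅ L) : c1T hX hM = c1T hX hL := by
  refine hom_ext fun k α hα => ?_
  rw [show c1T hX hM (tcl α hα) = tcl (capCyc hX hM α) (capCyc_mem hX hM hα) from mkOp_tcl α hα]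
  exact (c1T_tcl hX hL α hα hM e (Biv.exists_secs hM).choose_spec _ (capCyc_spec hX hM α)
    (capCyc_mem hX hM hα) (by ring)).symm

theorem c1T_comm {N : X.Modules} (hN : PicF.IsInvertible N) :
    (c1T hX hL).comp (c1T hX hN) = (c1T hX hN).comp (c1T hX hL) := by
  refine hom_ext fun k α hα => ?_
  have e₁ : ∀ {M : X.Modules} (hM : PicF.IsInvertible M) {j : ℤ} (β : AlgebraicCycle X ℤ) (hβ : β ∈ Cyc.Zk X δ j),
      c1T hX hM (tcl β hβ) = tcl (capCyc hX hM β) (capCyc_mem hX hM hβ) := fun hM j β hβ => mkOp_tcl β hβ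
  rw [AddMonoidHom.comp_apply, AddMonoidHom.comp_apply, e₁ hN α hα, e₁ hL, e₁ hL α hα, e₁ hN]
  refine tcl_eq_of_ratEquiv rfl _ _ ?_
  have h := Groth.Agent.S1922.result X δ hX L N hL hN (k - 2) α (by rwa [sub_add_cancel])
    (Biv.exists_secs hL).choose (Biv.exists_secs hL).choose (Biv.exists_secs hN).choose (Biv.exists_secs hN).choose
    (Biv.exists_secs hL).choose_spec (Biv.exists_secs hL).choose_spec (Biv.exists_secs hN).choose_spec
    (Biv.exists_secs hN).choose_spec (capCyc hX hL (capCyc hX hN α)) (capCyc hX hN (capCyc hX hL α))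
    (by rw [capCyc_spec, capCyc_spec]) (by rw [capCyc_spec, capCyc_spec])
  rwa [show k - 2 = k + -1 + -1 by ring] at h

/-! ### Proper pushforward -/

variable (hY : Cyc.IsSetup Y δY)

/-- Proper pushforward on total Chow groups. -/
noncomputable def pushT (p : Y ⟶ X) [IsProper p] (hδ : Cyc.DeltaCompat p δY δ) : Tot Y δY →+ Tot X δ :=
  mkOp 0 (AlgebraicCycle.map p δY δ) (Bivar.cycMap_add p δY δ)
    (fun k α hα => by rw [add_zero]; exact Bivar.cycMap_mem_Zk p δY δ k hα)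
    fun k α hα h0 => by
      rw [add_zero]
      have h := Groth.Agent.S1855.result Y X δY δ hY hX p hδ k α 0 hα (fun _ _ => rfl)
        (by rwa [Cyc.RatEquiv, sub_zero])
      rwa [Bivar.cycMap_zero, Cyc.RatEquiv, sub_zero] at h

theorem pushT_tcl (p : Y ⟶ X) [IsProper p] (hδ : Cyc.DeltaCompat p δY δ) {k j : ℤ} (α : AlgebraicCycle Y ℤ)
    (hα : α ∈ Cyc.Zk Y δY k) (hm : AlgebraicCycle.map p δY δ α ∈ Cyc.Zk X δ j) (hj : j = k) :
    pushT hX hY p hδ (tcl α hα) = tcl (AlgebraicCycle.map p δY δ α) hm := by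
  subst hj
  exact (mkOp_tcl α hα).trans (tcl_congr (by ring) rfl _ _)

theorem pushT_comp {Z : Scheme.{u}} {δZ : Z → ℤ} (hZ : Cyc.IsSetup Z δZ) (q : Z ⟶ Y) [IsProper q]
    (hq : Cyc.DeltaCompat q δZ δY) (p : Y ⟶ X) [IsProper p] (hp : Cyc.DeltaCompat p δY δ) :
    (pushT hX hY p hp).comp (pushT hY hZ q hq) =
      pushT hX hZ (q ≫ p) (Bivar.deltaCompat_comp q p δZ δY δ hq hp) := by
  refine hom_ext fun k α hα => ?_
  have h1 := Bivar.cycMap_mem_Zk q δZ δY k hα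
  rw [AddMonoidHom.comp_apply, pushT_tcl hY hZ q hq α hα h1 rfl,
    pushT_tcl hX hY p hp _ h1 (Bivar.cycMap_mem_Zk p δY δ k h1) rfl,
    pushT_tcl hX hZ (q ≫ p) _ α hα (Bivar.cycMap_mem_Zk (q ≫ p) δZ δ k hα) rfl]
  exact tcl_congr rfl (Groth.Agent.S1859.result Z Y X δZ δY δ hZ hY hX q p hq hp k α hα) _ _

/-! ### Flat pullback -/

variable (f : Y ⟶ X) [Flat f] [LocallyOfFiniteType f] {r : ℕ} (hr : Cyc.HasRelDim f r)
  (hδ : Cyc.DeltaCompat f δY δ)

/-- Flat pullback on cycles. -/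
noncomputable def pullCyc (α : AlgebraicCycle X ℤ) : AlgebraicCycle Y ℤ :=
  haveI := hY.1
  (exists_pullCycle δY δ hY hX f (r : ℤ)
    (fun _ hx => Groth.Cycles.delta_eq_add_of_isFibreGeneric f hr hδ hx) α).choose

theorem pullCyc_spec (α : AlgebraicCycle X ℤ) :
    ⇑(pullCyc hX hY f hr hδ α) = Cyc.pullFun f δY δ (r : ℤ) ⇑α :=
  haveI := hY.1
  (exists_pullCycle δY δ hY hX f (r : ℤ)
    (fun _ hx => Groth.Cycles.delta_eq_add_of_isFibreGeneric f hr hδ hx) α).choose_spec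

theorem pullCyc_mem {k : ℤ} {α : AlgebraicCycle X ℤ} (hα : α ∈ Cyc.Zk X δ k) :
    pullCyc hX hY f hr hδ α ∈ Cyc.Zk Y δY (k + r) :=
  Bivar.pullFun_mem_Zk f δY δ r k hα _ (pullCyc_spec hX hY f hr hδ α)

/-- Flat pullback on total Chow groups. -/
noncomputable def pullT : Tot X δ →+ Tot Y δY :=
  mkOp (r : ℤ) (pullCyc hX hY f hr hδ)
    (fun α β => DFunLike.coe_injective (by
      rw [Function.locallyFinsuppWithin.coe_add, pullCyc_spec, pullCyc_spec, pullCyc_spec,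
        Function.locallyFinsuppWithin.coe_add, Bivar.pullFun_add]))
    (fun _ _ hα => pullCyc_mem hX hY f hr hδ hα)
    fun k α hα h0 => by
      have h := Groth.Agent.S1856.result Y X δY δ hY hX f r hr hδ k α 0 hα (fun _ _ => rfl)
        (by rwa [Cyc.RatEquiv, sub_zero]) (pullCyc hX hY f hr hδ α) 0 (pullCyc_spec hX hY f hr hδ α)
        (by rw [Function.locallyFinsuppWithin.coe_zero]; funext x; simp [Cyc.pullFun])
      rwa [Cyc.RatEquiv, sub_zero] at h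

theorem pullT_tcl {k j : ℤ} (α : AlgebraicCycle X ℤ) (hα : α ∈ Cyc.Zk X δ k) (β : AlgebraicCycle Y ℤ)
    (hβ : ⇑β = Cyc.pullFun f δY δ (r : ℤ) ⇑α) (hβk : β ∈ Cyc.Zk Y δY j) (hj : j = k + r) :
    pullT hX hY f hr hδ (tcl α hα) = tcl β hβk :=
  (mkOp_tcl α hα).trans (tcl_congr hj.symm
    (DFunLike.coe_injective ((pullCyc_spec hX hY f hr hδ α).trans hβ.symm)) _ _)

/-- Flat pullback commutes with first Chern classes. -/
theorem pullT_c1T {L' : Y.Modules} (hL' : PicF.IsInvertible L')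
    (e : L' ≅ (Scheme.Modules.pullback f).obj L) :
    (pullT hX hY f hr hδ).comp (c1T hX hL) = (c1T hY hL').comp (pullT hX hY f hr hδ) := by
  refine hom_ext fun k α hα => ?_
  have hM := Groth.PicAux.isInvertible_pullback f hL
  have hc := fun x hx => Groth.Cycles.delta_eq_add_of_isFibreGeneric f hr hδ (x := x) hx
  obtain ⟨u, hu⟩ := Biv.exists_secs hM
  have h1 := capCyc_mem hX hL hα
  obtain ⟨γ, hγ⟩ := exists_cycle_c1CapFun hY hM (pullCyc hX hY f hr hδ α) hu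
  have hγk : γ ∈ Cyc.Zk Y δY (k + r - 1) := Biv.c1Cap_mem _ (pullCyc_mem hX hY f hr hδ hα) _ hγ
  rw [AddMonoidHom.comp_apply, AddMonoidHom.comp_apply,
    c1T_tcl hX hL α hα hL (Iso.refl _) (Biv.exists_secs hL).choose_spec _ (capCyc_spec hX hL α) h1 (by ring),
    pullT_tcl hX hY f hr hδ _ h1 _ (pullCyc_spec hX hY f hr hδ _) (pullCyc_mem hX hY f hr hδ h1) rfl,
    pullT_tcl hX hY f hr hδ α hα _ (pullCyc_spec hX hY f hr hδ _) (pullCyc_mem hX hY f hr hδ hα) rfl,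
    c1T_tcl hY hL' _ _ hM e.symm hu γ hγ hγk (by ring)]
  refine tcl_eq_of_ratEquiv (by ring) _ _ ?_
  have h := Groth.Cycles.pull_c1_ratEquiv δY δ hY hX f (r : ℤ) hc hL k α hα
    (Biv.exists_secs hL).choose_spec hu (pullCyc hX hY f hr hδ (capCyc hX hL α)) γ
    (by rw [pullCyc_spec, capCyc_spec]) (by rw [hγ, pullCyc_spec])
  rwa [show k + (r : ℤ) - 1 = k + -1 + r by ring] at h

theorem pullT_comp {Z : Scheme.{u}} {δZ : Z → ℤ} (hZ : Cyc.IsSetup Z δZ) (g : Z ⟶ Y) [Flat g]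
    [LocallyOfFiniteType g] {s : ℕ} (hs : Cyc.HasRelDim g s) (hg : Cyc.DeltaCompat g δZ δY) {t : ℕ}
    (ht : Cyc.HasRelDim (g ≫ f) t) (hst : t = s + r) :
    (pullT hY hZ g hs hg).comp (pullT hX hY f hr hδ) =
      pullT hX hZ (g ≫ f) ht (Bivar.deltaCompat_comp g f δZ δY δ hg hδ) := by
  refine hom_ext fun k α hα => ?_
  have h1 := pullCyc_mem hX hY f hr hδ hα
  have hgf := Bivar.deltaCompat_comp g f δZ δY δ hg hδ
  rw [AddMonoidHom.comp_apply, pullT_tcl hX hY f hr hδ α hα _ (pullCyc_spec hX hY f hr hδ α) h1 rfl,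
    pullT_tcl hY hZ g hs hg _ h1 _ (pullCyc_spec hY hZ g hs hg _) (pullCyc_mem hY hZ g hs hg h1) rfl,
    pullT_tcl hX hZ (g ≫ f) ht hgf α hα _ (pullCyc_spec hX hZ (g ≫ f) ht hgf α)
      (pullCyc_mem hX hZ (g ≫ f) ht hgf hα) rfl]
  refine tcl_congr (by subst hst; push_cast; ring) (DFunLike.coe_injective ?_) _ _
  rw [pullCyc_spec, pullCyc_spec, pullCyc_spec,
    (Groth.Agent.S1857.result Z Y X δZ δY δ hZ hY hX g f s r hs hr hg hδ k).2 α hα, hst, Nat.cast_add]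

end Groth.CycInter.PB
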