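import Groth.Agent.CycInter.PbStrata
import Groth.Agent.CycInter.PbTot
import Groth.Agent.Cycles.SecDiv

/-!
Iterated hyperplane sections of the pullback of a cycle, in a fibre of a projective bundle.
-/

universe u

set_option autoImplicit false

open CategoryTheory CategoryTheory.Limits AlgebraicGeometry Opposite TopologicalSpace IsLocalRing
open Groth.PicAux Groth.RelTw Groth.PBundle Groth.RefRank Groth.Cycles
open Groth.QCohMod (germ germ_smul)

noncomputable section

namespace Groth.CycInter.PB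

theorem germ_resP {X : Scheme.{u}} (M : X.Modules) {U W : X.Opens} (x : X) (h : W ≤ U) (hx : x ∈ W)
    (m : Γ(M, U)) : germ M x hx (res M h m) = germ M x (h hx) m :=
  TopCat.Presheaf.germ_res_apply M.presheaf (homOfLE h) x hx m

theorem mem_span_X_of_eval_eq_zero {R : Type*} [CommRing R] {σ : Type*} (a : σ)
    {T : Type*} [CommRing T] (φ : MvPolynomial σ R →+* T) (ψ : T →+* MvPolynomial σ R)
    (hC : ∀ r, ψ (φ (MvPolynomial.C r)) = MvPolynomial.C r) (hXa : φ (MvPolynomial.X a) = 0)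
    (hX : ∀ b, b ≠ a → ψ (φ (MvPolynomial.X b)) = MvPolynomial.X b) {f : MvPolynomial σ R}
    (hf : φ f = 0) : f ∈ Ideal.span {MvPolynomial.X a} := by
  have key : ∀ f : MvPolynomial σ R, f - ψ (φ f) ∈ Ideal.span {(MvPolynomial.X a : MvPolynomial σ R)} := by
    intro f
    induction f using MvPolynomial.induction_on with
    | C r => rw [hC, sub_self]; exact Ideal.zero_mem _
    | add p q hp hq => rw [map_add, map_add, add_sub_add_comm]; exact Ideal.add_mem _ hp hq
    | mul_X p b hp =>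
      by_cases hb : b = a
      · subst hb
        rw [map_mul, map_mul, hXa, map_zero, mul_zero, sub_zero]
        exact Ideal.mul_mem_left _ _ (Ideal.subset_span rfl)
      · rw [map_mul, map_mul, hX b hb, ← sub_mul]
        exact Ideal.mul_mem_right _ _ hp
  have := key f
  rwa [hf, map_zero, sub_zero] at this

variable {S P : Scheme.{u}} {π : P ⟶ S} {F : S.Modules} {O1 : P.Modules}
  {q : (Scheme.Modules.pullback π).obj F ⟶ O1} {V : S.Opens} {m : ℕ}
  (hP : KRR.IsProjBundle π F O1 q) (hV : IsAffineOpen V)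
  {e : Fin m → Γ(F, V)} (he : Basis' F V e) {x : S} (hx : x ∈ V)

variable (q e) in
/-- The hyperplane section given by the `s`th coordinate. -/
abbrev hyp (s : Fin m) : Γ(O1, π ⁻¹ᵁ V) := (linData q).app V (e s)

theorem germ_hyp {l : Fin m} (s : Fin m) {y : P} (hy : y ∈ chart q e l) :
    germ O1 y (chart_le hy) (hyp q e s) =
      P.presheaf.germ (chart q e l) y hy (coords q e l s) •
        germ O1 y hy (res O1 chart_le (hyp q e l)) := by
  rw [← germ_smul, (linData q).ratio_smul V (e l) (e s)]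
  exact (germ_resP O1 y chart_le hy _).symm

theorem isStalkBasis_hyp {l : Fin m} {y : P} (hy : y ∈ chart q e l) :
    IsStalkBasis O1 y (germ O1 y hy (res O1 chart_le (hyp q e l))) :=
  isStalkBasis_germ_of_gen ((linData q).gen_genLoc V (e l)) hy

theorem fmk_hyp_ne_zero {s : Fin m} {ξ : P} (hξ : ξ ∈ chart q e s) :
    fmk (germ O1 ξ (chart_le hξ) (hyp q e s)) ≠ 0 := by
  intro h0
  have hb := isStalkBasis_hyp hξ
  have e' : germ O1 ξ hξ (res O1 chart_le (hyp q e s)) = germ O1 ξ (chart_le hξ) (hyp q e s) :=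
    germ_resP O1 ξ chart_le hξ _
  rw [← e', show (fmk (germ O1 ξ hξ (res O1 chart_le (hyp q e s))) : Cyc.secFibre O1 ξ) =
    (1 : P.presheaf.stalk ξ) • fmk (germ O1 ξ hξ (res O1 chart_le (hyp q e s))) from (one_smul _ _).symm] at h0
  have h1 := coef_smul hb 1
  rw [h0, ← show (0 : P.presheaf.stalk ξ) • fmk (germ O1 ξ hξ (res O1 chart_le (hyp q e s))) = 0 from zero_smul _ _,
    coef_smul hb, map_zero, map_one] at h1
  exact zero_ne_one h1

theorem ratCoef_hyp (hP : KRR.IsProjBundle π F O1 q) {l : Fin m} (s : Fin m) {ξ y : P} (h : ξ ⤳ y)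
    (hy : y ∈ chart q e l) (hξ : ξ ∈ π ⁻¹ᵁ V) :
    ratCoef h (germ O1 y hy (res O1 chart_le (hyp q e l))) (fmk (germ O1 ξ hξ (hyp q e s))) =
      Cyc.specMap y ξ h (P.presheaf.germ (chart q e l) y hy (coords q e l s)) := by
  have h1 : germ O1 ξ hξ (hyp q e s) =
      P.presheaf.stalkSpecializes h (P.presheaf.germ (chart q e l) y hy (coords q e l s)) •
        mspec O1 h (germ O1 y hy (res O1 chart_le (hyp q e l))) := by
    rw [← mspec_smul, ← germ_hyp, mspec_germ]
  rw [ratCoef, h1]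
  exact coef_smul (isStalkBasis_mspec (isInvertible_O1 hP) h (isStalkBasis_hyp hy)) _

include hP hV he in
theorem specMap_germ_eq_zero_iff {l : Fin m} {ξ y : P} (h : ξ ⤳ y) (hy : y ∈ chart q e l)
    (a : Γ(P, chart q e l)) :
    Cyc.specMap y ξ h (P.presheaf.germ (chart q e l) y hy a) = 0 ↔
      P.evaluation (chart q e l) ξ (h.mem_open (chart q e l).2 hy) a = 0 := by
  have : Cyc.specMap y ξ h (P.presheaf.germ (chart q e l) y hy a) =
      P.evaluation (chart q e l) ξ (h.mem_open (chart q e l).2 hy) a := by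
    show P.residue ξ (P.presheaf.stalkSpecializes h (P.presheaf.germ (chart q e l) y hy a)) = _
    rw [TopCat.Presheaf.germ_stalkSpecializes_apply]
    rfl
  rw [this]

theorem evaluation_genPt_eq_zero_iff (i l : Fin m) (h : genPt hP hV he hx i l ∈ chart q e l)
    (a : ChartRing V m l) :
    P.evaluation (chart q e l) (genPt hP hV he hx i l) h (chartHom q e l a) = 0 ↔
      (strHom hx i l).hom a = 0 := by
  rw [Scheme.evaluation_eq_zero_iff_notMem_basicOpen, genPt, str, Scheme.Hom.comp_apply]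
  change ¬ (Spec.map (strHom hx i l) _ ∈ chartPt hP hV he l ⁻¹ᵁ P.basicOpen (chartHom q e l a)) ↔ _
  rw [chartPt_preimage_basicOpen]
  show ¬ ¬ ((strHom hx i l).hom a ∈ (⊥ : Ideal (StrRing x i l))) ↔ _
  rw [not_not, Ideal.mem_bot]

theorem genPt_eq_lin {i l : Fin m} (hil : i ≤ l) : genPt hP hV he hx i l = lin hP hV he hx i := by
  obtain ⟨z, hz⟩ := exists_str_eq hP hV he hx i l (π_genPt hP hV he hx i i)
    (genPt_mem_chart hP hV he hx i i hil) fun k hk => lin_notMem_chart hP hV he hx hk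
  have h1 : genPt hP hV he hx i l ⤳ lin hP hV he hx i := by
    show _ ⤳ genPt hP hV he hx i i
    rw [← hz]; exact genPt_specializes_str hP hV he hx i l z
  exact (h1.antisymm (lin_specializes hP hV he hx (π_genPt hP hV he hx i l)
    fun k hk => str_notMem_chart hP hV he hx i l hk hil _)).eq

include hP in
/-- The order of the `s`th coordinate along the next linear subspace is one. -/
theorem ordAt_coords (hPs : ∃ δP : P → ℤ, Cyc.IsSetup P δP ∧
      ∀ (i j : Fin m), (j : ℕ) = i + 1 → δP (lin hP hV he hx j) + 1 = δP (lin hP hV he hx i))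
    {s l : Fin m} (hsl : (l : ℕ) = s + 1) (h : lin hP hV he hx s ⤳ lin hP hV he hx l) :
    Cyc.ordAt (lin hP hV he hx l) (lin hP hV he hx s) h
      (Cyc.specMap _ _ h (P.presheaf.germ (chart q e l) (lin hP hV he hx l)
        (genPt_mem_chart_self hP hV he hx l l) (coords q e l s))) = 1 := by
  obtain ⟨δP, hPs, hd⟩ := hPs
  have hdiv : IsDivPt δP (lin hP hV he hx s) (lin hP hV he hx l) := ⟨h, hd s l hsl⟩
  have := hPs.1
  have := isDomain_locQuot h
  have := krullDimLE_one_of_isDivPt hPs hdiv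
  have := isFractionRing_locQuot h
  have hsl' : s < l := Fin.lt_def.mpr (by omega)
  let y := lin hP hV he hx l
  let ξ := lin hP hV he hx s
  have hy : y ∈ chart q e l := genPt_mem_chart_self hP hV he hx l l
  have hξy : ξ ∈ chart q e l := h.mem_open (chart q e l).2 hy
  let I := RingHom.ker (Cyc.specMap y ξ h)
  let c : Cyc.LocQuot y ξ h := Ideal.Quotient.mk I (P.presheaf.germ (chart q e l) y hy (coords q e l s))
  have hevξ : ∀ a : ChartRing V m l,
      P.evaluation (chart q e l) ξ hξy (chartHom q e l a) = 0 ↔ (strHom hx s l).hom a = 0 := fun a => by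
    rw [← evaluation_genPt_eq_zero_iff hP hV he hx s l (genPt_mem_chart_self hP hV he hx s l)]
    have e' : genPt hP hV he hx s l = ξ := genPt_eq_lin hP hV he hx hsl'.le
    revert hξy
    show ∀ hξy : ξ ∈ chart q e l, _
    rw [← e']
    exact fun _ => Iff.rfl
  have hne : c ≠ 0 := by
    rw [Ne, Ideal.Quotient.eq_zero_iff_mem, RingHom.mem_ker, specMap_germ_eq_zero_iff hP hV he h hy]
    exact (mem_chart_iff hξy).mp (genPt_mem_chart_self hP hV he hx s s)
  show Cyc.ordAt y ξ h (algebraMap (Cyc.LocQuot y ξ h) (P.residueField ξ) c) = 1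
  rw [Cyc.ordAt, Groth.RefRank.ordFrac_algebraMap' hne]
  suffices hmax : (Ideal.span {c}).IsMaximal by
    rw [Ring.ord, (Module.length_eq_one_iff).mpr (isSimpleModule_iff_isCoatom.mpr hmax.out)]
    rfl
  have hlh : IsLocalHom (Ideal.Quotient.mk I) := IsLocalHom.of_surjective _ Ideal.Quotient.mk_surjective
  have hle : Ideal.span {c} ≠ ⊤ := by
    rw [Ne, Ideal.span_singleton_eq_top]
    intro hu
    have hu' := isUnit_of_map_unit (Ideal.Quotient.mk I) _ hu
    have := (mem_chart_iff hy).mpr ((hu'.map (P.residue y).hom).ne_zero)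
    exact lin_notMem_chart hP hV he hx hsl' this
  have : IsLocalRing (Cyc.LocQuot y ξ h) :=
    IsLocalRing.of_surjective' (Ideal.Quotient.mk I) Ideal.Quotient.mk_surjective
  suffices hm : maximalIdeal (Cyc.LocQuot y ξ h) = Ideal.span {c} from hm ▸ maximalIdeal.isMaximal _
  refine le_antisymm (fun b hb => ?_) (IsLocalRing.le_maximalIdeal hle)
  obtain ⟨b, rfl⟩ := Ideal.Quotient.mk_surjective b
  have hb' : b ∈ maximalIdeal _ := fun hu => hb (hu.map _)
  -- write `b` as a fraction of functions on the chart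
  have hD := (isAffineOpen_and_bijective (j := l) he hP hV).1
  let alg : Algebra Γ(P, chart q e l) (P.presheaf.stalk y) :=
    TopCat.Presheaf.algebra_section_stalk P.presheaf ⟨y, hy⟩
  have := hD.isLocalization_stalk ⟨y, hy⟩
  obtain ⟨⟨a, d⟩, e'⟩ := IsLocalization.surj (hD.primeIdealOf ⟨y, hy⟩).asIdeal.primeCompl b
  have hd' : IsUnit (Ideal.Quotient.mk I (algebraMap Γ(P, chart q e l) (P.presheaf.stalk y) d)) :=
    (IsLocalization.map_units (P.presheaf.stalk y) d).map _
  refine (Ideal.mul_unit_mem_iff_mem _ hd').mp ?_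
  rw [← map_mul, e']
  obtain ⟨a₀, ha₀⟩ := (isAffineOpen_and_bijective (j := l) he hP hV).2.2 a
  have haev : (strHom hx l l).hom a₀ = 0 := by
    rw [← evaluation_genPt_eq_zero_iff hP hV he hx l l (genPt_mem_chart_self hP hV he hx l l), ha₀]
    exact (IsLocalRing.residue_eq_zero_iff _).mpr (e' ▸ Ideal.mul_mem_right _ _ hb')
  have hidx : ∀ k : Idx s l, k.1 ≠ s → l ≤ k.1 := fun k hk => by
    have h1 : s < k.1 := lt_of_le_of_ne k.2.1 (Ne.symm hk)
    rw [Fin.lt_def] at h1
    rw [Fin.le_def]; omega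
  let φ : MvPolynomial (Idx s l) (S.residueField x) →+* MvPolynomial (Idx l l) (S.residueField x) :=
    MvPolynomial.eval₂Hom MvPolynomial.C fun k =>
      if hk : k.1 = s then 0 else MvPolynomial.X ⟨k.1, hidx k hk, k.2.2⟩
  let ψ : MvPolynomial (Idx l l) (S.residueField x) →+* MvPolynomial (Idx s l) (S.residueField x) :=
    MvPolynomial.eval₂Hom MvPolynomial.C fun k => MvPolynomial.X ⟨k.1, hsl'.le.trans k.2.1, k.2.2⟩
  have hfac : φ.comp (strHom hx s l).hom = (strHom hx l l).hom := by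
    refine MvPolynomial.ringHom_ext (fun r => ?_) fun k => ?_
    · rw [RingHom.comp_apply, strHom_C, strHom_C]; exact MvPolynomial.eval₂Hom_C _ _ _
    · rw [RingHom.comp_apply, strHom_X, strHom_X]
      by_cases hk : s ≤ k.1
      · rw [dif_pos hk]
        refine (MvPolynomial.eval₂Hom_X' _ _ _).trans ?_
        by_cases hks : k.1 = s
        · simp only [dif_pos hks]
          rw [dif_neg (by rw [hks]; exact hsl'.not_ge)]
        · simp only [dif_neg hks]
          rw [dif_pos (hidx ⟨k.1, hk, k.2⟩ hks)]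
      · rw [dif_neg hk, map_zero, dif_neg fun h' => hk (hsl'.le.trans h')]
  have hspan : (strHom hx s l).hom a₀ ∈ Ideal.span {(MvPolynomial.X ⟨s, le_rfl, hsl'.ne⟩ :
      MvPolynomial (Idx s l) (S.residueField x))} := by
    refine mem_span_X_of_eval_eq_zero (⟨s, le_rfl, hsl'.ne⟩ : Idx s l) φ ψ (fun r => ?_) ?_ (fun b hb => ?_) ?_
    · simp only [φ, ψ, MvPolynomial.eval₂Hom_C]
    · simp only [φ, MvPolynomial.eval₂Hom_X', dite_true]
    · have hb' : b.1 ≠ s := fun h' => hb (Subtype.ext h')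
      simp only [φ, ψ, MvPolynomial.eval₂Hom_X', dif_neg hb']
    · exact (congr(($hfac) a₀)).trans haev
  obtain ⟨g, hg⟩ := Ideal.mem_span_singleton.mp hspan
  obtain ⟨b₀, cc, hcc, hcg⟩ := exists_strHom_div hV hx s l g
  have hker : (strHom hx s l).hom
      (MvPolynomial.C cc * a₀ - MvPolynomial.X ⟨s, hsl'.ne⟩ * b₀) = 0 := by
    rw [map_sub, map_mul, map_mul, strHom_C, strHom_X, dif_pos le_rfl, hg, ← hcg]; ring
  let G : Γ(P, chart q e l) →+* Cyc.LocQuot y ξ h :=
    (Ideal.Quotient.mk I).comp (P.presheaf.germ (chart q e l) y hy).hom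
  have hz : G (chartHom q e l (MvPolynomial.C cc * a₀ - MvPolynomial.X ⟨s, hsl'.ne⟩ * b₀)) = 0 :=
    Ideal.Quotient.eq_zero_iff_mem.mpr ((specMap_germ_eq_zero_iff hP hV he h hy _).mpr ((hevξ _).mpr hker))
  rw [map_sub, map_mul, map_mul, chartHom_X, ha₀, map_sub, map_mul, map_mul, sub_eq_zero] at hz
  have hu : IsUnit (G (chartHom q e l (MvPolynomial.C cc))) := by
    refine IsUnit.map (Ideal.Quotient.mk I) ?_
    by_contra hn
    have h1 : P.evaluation (chart q e l) y hy (chartHom q e l (MvPolynomial.C cc)) = 0 :=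
      (IsLocalRing.residue_eq_zero_iff _).mpr hn
    rw [evaluation_genPt_eq_zero_iff hP hV he hx l l, strHom_C, map_eq_zero_iff _ (MvPolynomial.C_injective _ _)] at h1
    exact hcc h1
  refine (Ideal.unit_mul_mem_iff_mem _ hu).mp ?_
  show G (chartHom q e l (MvPolynomial.C cc)) * G a ∈ _
  rw [hz]
  exact Ideal.mul_mem_right _ _ (Ideal.subset_span rfl)

/-! ### The iterated caps -/

variable {δ : S → ℤ} {δP : P → ℤ} (hS : Cyc.IsSetup S δ) (hPd : Cyc.IsSetup P δP)
  (hδ : Cyc.DeltaCompat π δP δ)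

include hP hV he hx hPd hδ in
/-- The divisor of a hyperplane section on the closure of a linear subspace of the fibre. -/
theorem secDiv_lin {s : Fin m} {v : Cyc.secFibre O1 (lin hP hV he hx s)}
    (hv : v = fmk (germ O1 _ (chart_le (genPt_mem_chart_self hP hV he hx s s)) (hyp q e s))) {y : P}
    (hy : π y = x) :
    (∀ l : Fin m, (l : ℕ) = s + 1 → y = lin hP hV he hx l → Cyc.secDivFun δP O1 _ v y = 1) ∧
      ((∀ l : Fin m, (l : ℕ) = s + 1 → y ≠ lin hP hV he hx l) → (s : ℕ) + 1 < m →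
        Cyc.secDivFun δP O1 _ v y = 0) := by
  subst hv
  have hO := isInvertible_O1 hP
  have hne := fmk_hyp_ne_zero (genPt_mem_chart_self hP hV he hx s s)
  have hd : ∀ i j : Fin m, (j : ℕ) = i + 1 → δP (lin hP hV he hx j) + 1 = δP (lin hP hV he hx i) := by
    intro i j hij
    rw [delta_lin hP hV he hx hδ, delta_lin hP hV he hx hδ]
    have := j.2
    omega
  refine ⟨fun l hl hyl => ?_, fun hyl hsm => ?_⟩
  · subst hyl
    have hspec : lin hP hV he hx s ⤳ lin hP hV he hx l := lin_specializes hP hV he hx hy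
      fun k hk => lin_notMem_chart hP hV he hx (hk.trans (Fin.lt_def.mpr (by omega)))
    rw [secDivFun_eq hPd hO hspec (specializes_refl _)
      (isStalkBasis_hyp (genPt_mem_chart_self hP hV he hx l l)) hne,
      ratCoef_hyp hP, Cyc.divFun, dif_pos ⟨hspec, hd s l hl⟩]
    exact ordAt_coords hP hV he hx ⟨δP, hPd, hd⟩ hl hspec
  · by_contra hnz
    obtain ⟨hspec, hdy⟩ : lin hP hV he hx s ⤳ y ∧ δP y + 1 = δP (lin hP hV he hx s) := by
      by_contra h'; exact hnz (dif_neg h')
    by_cases hys : y ∈ chart q e s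
    · refine hnz ?_
      rw [secDivFun_eq hPd hO hspec (specializes_refl _) (isStalkBasis_hyp hys) hne, ratCoef_hyp hP,
        Cyc.divFun, dif_pos ⟨hspec, hdy⟩, coords_self, map_one, map_one]
      exact ordAt_one hPd ⟨hspec, hdy⟩
    · let l : Fin m := ⟨s + 1, hsm⟩
      refine hyl l rfl (eq_lin_of_delta hP hV he hx hδ hPd.2.2 hy (fun k hk hyk => ?_) ?_)
      · rcases lt_or_eq_of_le (Nat.lt_succ_iff.mp (Fin.lt_def.mp hk) : (k : ℕ) ≤ s) with h' | h'
        · exact lin_notMem_chart hP hV he hx (Fin.lt_def.mpr h') (hspec.mem_open (chart q e k).2 hyk)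
        · exact hys (Fin.ext h' ▸ hyk)
      · have := hd s l rfl
        omega

include hP hV he hδ in
/-- The multiplicity of the pullback at the generic point of the fibre. -/
theorem pullFun_at_fibre (hm : 0 < m) (α : S → ℤ) {y : P} (hy : π y = x) [DecidableEq P]
    (hPd : Cyc.IsSetup P δP) :
    Cyc.pullFun π δP δ ((m - 1 : ℕ) : ℤ) α y = if y = lin hP hV he hx ⟨0, hm⟩ then α x else 0 := by
  let i₀ : Fin m := ⟨0, hm⟩
  have hd₀ : δP (lin hP hV he hx i₀) = δ x + ((m - 1 : ℕ) : ℤ) := by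
    rw [delta_lin hP hV he hx hδ]; rfl
  by_cases hyl : y = lin hP hV he hx i₀
  swap
  · rw [if_neg hyl, Cyc.pullFun, if_neg]
    rintro h
    refine hyl (eq_lin_of_delta hP hV he hx hδ hPd.2.2 hy (fun k hk => absurd (Fin.lt_def.mp hk) (Nat.not_lt_zero _)) ?_)
    rw [hd₀, h, hy]
  subst hyl
  rw [if_pos rfl, Cyc.pullFun, if_pos (by rw [hy]; exact hd₀)]
  suffices hlen : Module.length (P.presheaf.stalk (lin hP hV he hx i₀))
      (P.presheaf.stalk (lin hP hV he hx i₀) ⧸ Ideal.map (π.stalkMap (lin hP hV he hx i₀)).hom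
        (maximalIdeal (S.presheaf.stalk (π (lin hP hV he hx i₀))))) = 1 by
    rw [hlen]; simp [congrArg α hy]
  set y := lin hP hV he hx i₀ with hydef
  suffices hm : Ideal.map (π.stalkMap y).hom (maximalIdeal (S.presheaf.stalk (π y))) =
      maximalIdeal (P.presheaf.stalk y) by
    rw [hm]
    exact (Module.length_eq_one_iff).mpr (isSimpleModule_iff_isCoatom.mpr (maximalIdeal.isMaximal _).out)
  refine le_antisymm (Ideal.map_le_iff_le_comap.mpr fun a ha hu => ha (isUnit_of_map_unit (π.stalkMap y).hom a hu))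
    fun b hb => ?_
  have hy0 : y ∈ chart q e i₀ := genPt_mem_chart_self hP hV he hx i₀ i₀
  have hD := (isAffineOpen_and_bijective (j := i₀) he hP hV).1
  let alg : Algebra Γ(P, chart q e i₀) (P.presheaf.stalk y) :=
    TopCat.Presheaf.algebra_section_stalk P.presheaf ⟨y, hy0⟩
  have := hD.isLocalization_stalk ⟨y, hy0⟩
  obtain ⟨⟨a, d⟩, e'⟩ := IsLocalization.surj (hD.primeIdealOf ⟨y, hy0⟩).asIdeal.primeCompl b
  refine (Ideal.mul_unit_mem_iff_mem _ (IsLocalization.map_units (P.presheaf.stalk y) d)).mp ?_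
  rw [e']
  obtain ⟨a₀, ha₀⟩ := (isAffineOpen_and_bijective (j := i₀) he hP hV).2.2 a
  have haev : (strHom hx i₀ i₀).hom a₀ = 0 := by
    rw [← evaluation_genPt_eq_zero_iff hP hV he hx i₀ i₀ hy0, ha₀]
    exact (IsLocalRing.residue_eq_zero_iff _).mpr (e' ▸ Ideal.mul_mem_right _ _ hb)
  have hle : ∀ k : {k : Fin m // k ≠ i₀}, i₀ ≤ k.1 := fun k => Fin.le_def.mpr (Nat.zero_le _)
  have hfac : (MvPolynomial.rename (fun k : {k : Fin m // k ≠ i₀} => (⟨k.1, hle k, k.2⟩ : Idx i₀ i₀))).toRingHom.comp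
      (MvPolynomial.map (S.evaluation V x hx).hom) = (strHom hx i₀ i₀).hom := by
    refine MvPolynomial.ringHom_ext (fun r => ?_) fun k => ?_
    · rw [strHom_C]
      simp
    · rw [strHom_X, dif_pos (hle k)]
      simp
  have hmap : MvPolynomial.map (S.evaluation V x hx).hom a₀ = 0 := by
    refine MvPolynomial.rename_injective _ (fun k k' h => ?_)
      (((congr(($hfac) a₀)).trans haev).trans (map_zero _).symm)
    exact Subtype.ext (congrArg (fun t : Idx i₀ i₀ => t.1) h :)
  have hmem : a₀ ∈ Ideal.map MvPolynomial.C (RingHom.ker (S.evaluation V x hx).hom) := by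
    rw [← MvPolynomial.ker_map]; exact hmap
  rw [← ha₀]
  refine (Ideal.map_le_iff_le_comap.mpr fun (c : Γ(S, V)) hc => ?_ : Ideal.map MvPolynomial.C
    (RingHom.ker (S.evaluation V x hx).hom) ≤ (Ideal.map (π.stalkMap y).hom
      (maximalIdeal (S.presheaf.stalk (π y)))).comap
        ((algebraMap Γ(P, chart q e i₀) (P.presheaf.stalk y)).comp (chartHom q e i₀))) hmem
  show P.presheaf.germ (chart q e i₀) y hy0 (chartHom q e i₀ (MvPolynomial.C c)) ∈
    Ideal.map (π.stalkMap y).hom (maximalIdeal (S.presheaf.stalk (π y)))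
  rw [chartHom_C]
  have hyV : π y ∈ V := by rw [hy]; exact hx
  have h1 : π.stalkMap y (S.presheaf.germ V (π y) hyV c) =
      P.presheaf.germ (chart q e i₀) y hy0 (π.appLE V (chart q e i₀) chart_le c) := by
    rw [Scheme.Hom.appLE, Scheme.Hom.germ_stalkMap_apply]
    exact (P.presheaf.germ_res_apply (homOfLE chart_le) y hy0 _).symm
  rw [← h1]
  refine Ideal.mem_map_of_mem _ ?_
  intro hu
  have h2 : S.evaluation V x hx c = 0 := hc
  rw [Scheme.evaluation_eq_zero_iff_notMem_basicOpen] at h2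
  refine h2 ?_
  have h3 : π y ∈ S.basicOpen c := (Scheme.mem_basicOpen S c (π y) hyV).mpr hu
  rwa [hy] at h3

end Groth.CycInter.PB
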