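import Groth.Agent.CycInter.PbPre
import Groth.Agent.PBundle.Euler
import Groth.Agent.FibreDim.Smooth
import Groth.Agent.FibreDim.RelDim
import Mathlib.RingTheory.MvPolynomial.Basic

/-!
Charts of a projective bundle given by the universal property: flatness, fibre dimension.
-/

universe u

set_option autoImplicit false

open CategoryTheory CategoryTheory.Limits AlgebraicGeometry Opposite TopologicalSpace
open Groth.PicAux Groth.RelTw Groth.PBundle

noncomputable section

namespace Groth.CycInter.PB

variable {S P : Scheme.{u}} {π : P ⟶ S} {F : S.Modules} {O1 : P.Modules}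
  {q : (Scheme.Modules.pullback π).obj F ⟶ O1} {V : S.Opens} {m : ℕ}
  (hP : KRR.IsProjBundle π F O1 q) (hV : IsAffineOpen V)
  {e : Fin m → Γ(F, V)} (he : Basis' F V e)

/-- The ring of functions of the `j`th chart. -/
abbrev ChartRing (V : S.Opens) (m : ℕ) (j : Fin m) : CommRingCat.{u} :=
  CommRingCat.of (MvPolynomial {i : Fin m // i ≠ j} Γ(S, V))

/-- The `j`th chart as an affine space. -/
def chartPt (j : Fin m) : Spec (ChartRing V m j) ⟶ P :=
  Spec.map (RingEquiv.ofBijective _
    (isAffineOpen_and_bijective (j := j) he hP hV).2).toCommRingCatIso.inv ≫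
      (isAffineOpen_and_bijective (j := j) he hP hV).1.fromSpec

theorem chartHom_ofHom_comp (j : Fin m) :
    (CommRingCat.ofHom (chartHom q e j) : ChartRing V m j ⟶ Γ(P, chart q e j)) ≫
      (RingEquiv.ofBijective _ (isAffineOpen_and_bijective (j := j) he hP hV).2).toCommRingCatIso.inv = 𝟙 _ :=
  (RingEquiv.ofBijective _ (isAffineOpen_and_bijective (j := j) he hP hV).2).toCommRingCatIso.hom_inv_id

theorem comp_chartHom_ofHom (j : Fin m) :
    (RingEquiv.ofBijective _ (isAffineOpen_and_bijective (j := j) he hP hV).2).toCommRingCatIso.inv ≫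
      (CommRingCat.ofHom (chartHom q e j) : ChartRing V m j ⟶ Γ(P, chart q e j)) = 𝟙 _ :=
  (RingEquiv.ofBijective _ (isAffineOpen_and_bijective (j := j) he hP hV).2).toCommRingCatIso.inv_hom_id

instance isOpenImmersion_chartPt (j : Fin m) : IsOpenImmersion (chartPt hP hV he j) := by
  unfold chartPt; infer_instance

theorem range_chartPt (j : Fin m) : Set.range (chartPt hP hV he j) = chart q e j := by
  have hsurj : Function.Surjective ⇑(Spec.map (RingEquiv.ofBijective _
      (isAffineOpen_and_bijective (j := j) he hP hV).2).toCommRingCatIso.inv) :=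
    (Spec.map (RingEquiv.ofBijective _
      (isAffineOpen_and_bijective (j := j) he hP hV).2).toCommRingCatIso.inv).homeomorph.surjective
  rw [chartPt, Scheme.Hom.comp_base, TopCat.coe_comp, Set.range_comp, hsurj.range_eq, Set.image_univ,
    IsAffineOpen.range_fromSpec]

theorem chartPt_π (j : Fin m) :
    chartPt hP hV he j ≫ π =
      Spec.map (CommRingCat.ofHom (MvPolynomial.C : Γ(S, V) →+* ChartRing V m j)) ≫ hV.fromSpec := by
  have hD := (isAffineOpen_and_bijective (j := j) he hP hV).1
  rw [chartPt, Category.assoc, ← hV.SpecMap_appLE_fromSpec π hD chart_le, ← Spec.map_comp_assoc]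
  congr 2
  have hC : (CommRingCat.ofHom (MvPolynomial.C : Γ(S, V) →+* ChartRing V m j)) ≫
      (CommRingCat.ofHom (chartHom q e j) : ChartRing V m j ⟶ Γ(P, chart q e j)) =
      π.appLE V (chart q e j) chart_le := CommRingCat.hom_ext (RingHom.ext chartHom_C)
  rw [← hC, Category.assoc, chartHom_ofHom_comp hP hV he j, Category.comp_id]

theorem chartPt_evaluation (j : Fin m) {y : P} (hy : y ∈ chart q e j) :
    Spec.map ((CommRingCat.ofHom (chartHom q e j) : ChartRing V m j ⟶ Γ(P, chart q e j)) ≫
      P.evaluation (chart q e j) y hy) ≫ chartPt hP hV he j = P.fromSpecResidueField y := by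
  have hD := (isAffineOpen_and_bijective (j := j) he hP hV).1
  rw [chartPt, ← Spec.map_comp_assoc, ← Category.assoc, comp_chartHom_ofHom hP hV he j, Category.id_comp,
    fromSpecResidueField_eq hD hy]

theorem chartPt_preimage_basicOpen (j : Fin m) (a : ChartRing V m j) :
    chartPt hP hV he j ⁻¹ᵁ P.basicOpen (chartHom q e j a) = PrimeSpectrum.basicOpen a := by
  have hD := (isAffineOpen_and_bijective (j := j) he hP hV).1
  rw [chartPt, Scheme.Hom.comp_preimage, hD.fromSpec_preimage_basicOpen]
  show Opens.comap _ (PrimeSpectrum.basicOpen _) = _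
  exact (PrimeSpectrum.comap_basicOpen _ _).trans
    (congrArg PrimeSpectrum.basicOpen ((RingEquiv.ofBijective _
      (isAffineOpen_and_bijective (j := j) he hP hV).2).symm_apply_apply a))

include hP hV he in
theorem exists_cover : ∀ y : P, π y ∈ V → ∃ j, y ∈ Set.range (chartPt hP hV he j) := fun y hy => by
  obtain ⟨j, hj⟩ := exists_mem_chart he hP y hy
  exact ⟨j, by rw [range_chartPt]; exact hj⟩

/-- Membership in another chart. -/
theorem chart_inter (i l : Fin m) :
    chart q e i ⊓ chart q e l = P.basicOpen (coords q e i l) := by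
  apply le_antisymm
  · intro y hy
    have key : resX P (inf_le_left : chart q e i ⊓ chart q e l ≤ _) (coords q e i l) *
        resX P (inf_le_right : chart q e i ⊓ chart q e l ≤ _) (coords q e l i) = 1 := by
      have hg := ((linData q).gen_genLoc V (e i)).res (inf_le_left : chart q e i ⊓ chart q e l ≤ _)
      refine hg.smul_inj le_rfl ?_
      rw [PicAux.res_self, one_smul]
      have h1 := congrArg (res O1 (inf_le_left : chart q e i ⊓ chart q e l ≤ _))
        ((linData q).ratio_smul V (e i) (e l))
      have h2 := congrArg (res O1 (inf_le_right : chart q e i ⊓ chart q e l ≤ _))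
        ((linData q).ratio_smul V (e l) (e i))
      rw [res_smul, res_res, res_res] at h1 h2
      rw [res_res, mul_comm, mul_smul, h1, h2]
    have hu : IsUnit (resX P (inf_le_left : chart q e i ⊓ chart q e l ≤ _) (coords q e i l)) :=
      IsUnit.of_mul_eq_one _ key
    have h3 : y ∈ P.basicOpen (resX P (inf_le_left : chart q e i ⊓ chart q e l ≤ _) (coords q e i l)) := by
      rw [P.basicOpen_of_isUnit hu]; exact hy
    exact (P.basicOpen_res _ _).le h3 |>.2
  · intro y hy
    refine ⟨P.basicOpen_le _ hy, ?_⟩
    refine ((linData q).le_genLoc ((P.basicOpen_le _).trans chart_le) ?_) hy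
    have h1 := congrArg (res O1 (P.basicOpen_le (coords q e i l))) ((linData q).ratio_smul V (e i) (e l))
    rw [res_smul, res_res, res_res] at h1
    rw [← h1]
    have := (((linData q).gen_genLoc V (e i)).res (P.basicOpen_le (coords q e i l))).smul_unit
      (RingedSpace.isUnit_res_basicOpen _ (coords q e i l))
    rwa [res_res] at this

theorem mem_chart_iff {i l : Fin m} {y : P} (hy : y ∈ chart q e i) :
    y ∈ chart q e l ↔ P.evaluation (chart q e i) y hy (coords q e i l) ≠ 0 := by
  rw [Scheme.evaluation_ne_zero_iff_mem_basicOpen, ← chart_inter]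
  exact ⟨fun h => ⟨hy, h⟩, fun h => h.2⟩

/-! ### Global properties -/

section Global

variable {r : ℕ} (hF : FlatMod.IsFinLocFreeOfRank r F)

include hF in
/-- A cover by charts. -/
theorem exists_chart_cover {Q : MorphismProperty Scheme.{u}} [IsZariskiLocalAtSource Q]
    (h : ∀ (V : S.Opens) (hV : IsAffineOpen V) (e : Fin r → Γ(F, V)) (he : Basis' F V e) (j : Fin r),
      Q (chartPt hP hV he j ≫ π)) : Q π := by
  choose V e hV hx he using Groth.LocFree.exists_affine_basis_ofRank hF
  let 𝒰 : P.OpenCover := Scheme.Cover.mkOfCovers (Σ _ : S, Fin r) _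
    (fun a => chartPt hP (hV a.1) (he a.1) a.2)
    (fun y => by
      obtain ⟨j, z, hz⟩ := exists_cover hP (hV (π y)) (he (π y)) y (hx (π y))
      exact ⟨⟨π y, j⟩, z, hz⟩)
    (fun a => inferInstance)
  exact IsZariskiLocalAtSource.of_openCover 𝒰 fun a => h _ (hV a.1) _ (he a.1) a.2

include hP hF in
theorem flat : Flat π := by
  refine exists_chart_cover hP hF (Q := @Flat) fun V hV e he j => ?_
  rw [chartPt_π]
  have : Flat (Spec.map (CommRingCat.ofHom (MvPolynomial.C : Γ(S, V) →+* ChartRing V r j))) := by
    rw [Flat.SpecMap_iff]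
    exact RingHom.flat_algebraMap_iff.mpr (inferInstance : Module.Flat Γ(S, V) (ChartRing V r j))
  infer_instance

include hP hF in
theorem locallyOfFiniteType : LocallyOfFiniteType π := by
  refine exists_chart_cover hP hF (Q := @LocallyOfFiniteType) fun V hV e he j => ?_
  rw [chartPt_π]
  have : LocallyOfFiniteType (Spec.map (CommRingCat.ofHom (MvPolynomial.C : Γ(S, V) →+* ChartRing V r j))) :=
    (HasRingHomProperty.Spec_iff (P := @LocallyOfFiniteType)).mpr
      (RingHom.finiteType_algebraMap.mpr (inferInstance : Algebra.FiniteType Γ(S, V) (ChartRing V r j)))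
  infer_instance

theorem fibreDimAt_spec_C (R : CommRingCat.{u}) (σ : Type) [Fintype σ]
    (z : Spec (CommRingCat.of (MvPolynomial σ R))) :
    FlatMor.fibreDimAt (Spec.map (CommRingCat.ofHom (MvPolynomial.C : R →+* MvPolynomial σ R))) z =
      Fintype.card σ := by
  let en := MvPolynomial.renameEquiv R (Fintype.equivFin σ)
  let ι : CommRingCat.of (MvPolynomial σ R) ≅ CommRingCat.of (MvPolynomial (Fin (Fintype.card σ)) R) :=
    en.toRingEquiv.toCommRingCatIso
  have hC : CommRingCat.ofHom (MvPolynomial.C : R →+* MvPolynomial σ R) =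
      CommRingCat.ofHom (algebraMap R (MvPolynomial (Fin (Fintype.card σ)) R)) ≫ ι.inv :=
    CommRingCat.hom_ext (RingHom.ext fun a => (en.symm.commutes a).symm)
  rw [hC, Spec.map_comp, Groth.FibreDim.fibreDimAt_openImmersion_comp]
  exact Groth.FibreDim.fibreDimAt_spec_mvPolynomial R _ _

theorem card_ne (j : Fin m) : Fintype.card {i : Fin m // i ≠ j} = m - 1 := by
  rw [Fintype.card_subtype_compl, Fintype.card_fin, Fintype.card_subtype_eq]

include hP hF in
theorem hasRelDim : Cyc.HasRelDim π (r - 1) := by
  have := locallyOfFiniteType hP hF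
  rw [Groth.FibreDim.hasRelDim_iff]
  intro y
  obtain ⟨V, e, hV, hx, he⟩ := Groth.LocFree.exists_affine_basis_ofRank hF (π y)
  obtain ⟨j, z, rfl⟩ := exists_cover hP hV he y hx
  rw [← Groth.FibreDim.fibreDimAt_openImmersion_comp (chartPt hP hV he j) π z, chartPt_π,
    Groth.FibreDim.fibreDimAt_comp_injective _ _ hV.fromSpec.isOpenEmbedding.injective]
  exact (fibreDimAt_spec_C Γ(S, V) _ z).trans (by rw [card_ne])

end Global

end Groth.CycInter.PB
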