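import Groth.Agent.CycInter.PbFormula
import Groth.Agent.CycInter.PbAffine
import Groth.Agent.Cycles.Excision

/-!
The classes of the projective bundle formula generate the Chow groups of the bundle.
-/

universe u

set_option autoImplicit false

open CategoryTheory CategoryTheory.Limits AlgebraicGeometry Groth.Cycles Groth.RelTw Groth.PBundle

noncomputable section

namespace Groth.CycInter.PB

variable {X : Scheme.{u}} {δ : X → ℤ} (B : Bun X δ)

/-- A finite sum of principal divisors of points of the fibre over `x`. -/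
def Bun.FibDiv (x : X) (l : ℤ) (F : B.P → ℤ) : Prop :=
  ∃ (ι : Type u) (_ : Fintype ι) (ξ : ι → B.P) (f : (i : ι) → B.P.residueField (ξ i)),
    (∀ i, B.δP (ξ i) = l + 1) ∧ (∀ i, B.π (ξ i) = x) ∧ (∀ i, f i ≠ 0) ∧
      ∀ y, F y = ∑ i, Cyc.divFun B.δP (ξ i) (f i) y

theorem Bun.delta_ge (y : B.P) : δ (B.π y) ≤ B.δP y := by
  obtain ⟨m, -, hm⟩ := B.hδ y
  omega

theorem Bun.delta_le (y : B.P) : B.δP y ≤ δ (B.π y) + ((B.r - 1 : ℕ) : ℤ) := by
  have hs := lin_specializes B.hP (B.hV (B.π y)) (B.hbv (B.π y)) (B.mem_V (B.π y)) (i := ⟨0, B.hr⟩) rfl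
    fun j hj => absurd hj (not_lt.mpr (Nat.zero_le _))
  have h := Groth.Cycles.delta_le_of_specializes B.hPs.2.2 hs
  rwa [delta_lin B.hP (B.hV _) (B.hbv _) (B.mem_V _) B.hδ, Nat.sub_zero] at h

theorem Bun.delta_of_divFun_ne_zero {l : ℤ} {ξ y : B.P} {f : B.P.residueField ξ} (hξ : B.δP ξ = l + 1)
    (h : Cyc.divFun B.δP ξ f y ≠ 0) : ξ ⤳ y ∧ B.δP y = l := by
  by_cases h' : ξ ⤳ y ∧ B.δP y + 1 = B.δP ξ
  · exact ⟨h'.1, by omega⟩
  · exact absurd (dif_neg h') h

/-- One stratum of a fibre is cleared by principal divisors of the fibre. -/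
theorem Bun.exists_clear {k : ℤ} {n : ℕ} (hn : n < B.r) {x : X} (hx : δ x = k + n)
    (β : AlgebraicCycle B.P ℤ) (hβ : β ∈ Cyc.Zk B.P B.δP (k + ((B.r - 1 : ℕ) : ℤ))) (i : ℕ) (hi : i ≤ n) :
    ∃ F, B.FibDiv x (k + ((B.r - 1 : ℕ) : ℤ)) F ∧
      ∀ y, B.π y = x → ∀ j : Fin B.r, (j : ℕ) < i → y ∈ chart B.q (B.bv x) j → β y = F y := by
  induction i with
  | zero =>
      exact ⟨fun _ => 0, ⟨PEmpty, inferInstance, PEmpty.elim, fun i => i.elim, fun i => i.elim,
        fun i => i.elim, fun i => i.elim, fun y => by simp⟩, fun y _ j hj => absurd hj (Nat.not_lt_zero _)⟩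
  | succ i ih =>
      obtain ⟨F, ⟨ι, _, ξ, f, hd, hπ, hf, hF⟩, hclear⟩ := ih (by omega)
      obtain ⟨c, hc⟩ := exists_cycle_finsum_divFun B.hPs ξ f hf
        fun y => ⟨Set.univ, isOpen_univ, trivial, Set.toFinite _⟩
      let ii : Fin B.r := ⟨i, by omega⟩
      let j := str B.hP (B.hV x) (B.hbv x) (B.mem_V x) ii ii
      let γ : AlgebraicCycle (Spec (StrRing x ii ii)) ℤ :=
        ⟨fun a => β (j a) - c (j a), Set.subset_univ _, fun a _ => by
          obtain ⟨U, hU, hfin⟩ := (β - c).locallyFiniteSupport (j a)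
          refine ⟨j ⁻¹' U, j.continuous.continuousAt.preimage_mem_nhds hU,
            (hfin.preimage j.isEmbedding.injective.injOn).subset ?_⟩
          rintro b ⟨hbU, hb⟩
          exact ⟨hbU, by simpa using hb⟩⟩
      have hγ : γ ∈ Cyc.Zk _ (B.δP ∘ j) (k + ((B.r - 1 : ℕ) : ℤ)) := fun a ha => by
        show β (j a) - c (j a) = 0
        rw [hβ _ ha, hc, finsum_eq_sum_of_fintype, Finset.sum_eq_zero, sub_zero]
        exact fun s _ => by_contra fun h => ha (B.delta_of_divFun_ne_zero (hd s) h).2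
      have h0 := affine_vanish' (Idx ii ii) (B.δP ∘ j) (δ x)
        (deltaCompat_str B.hP (B.hV x) (B.hbv x) (B.mem_V x) B.hδ ii ii) (l := k + ((B.r - 1 : ℕ) : ℤ))
        (by rw [card_idx_self, hx]; show _ < k + (n : ℤ) + ((B.r - 1 - i : ℕ) : ℤ); omega) γ hγ
      obtain ⟨ι', _, ξ', f', hd', hr', hf', hF'⟩ := exists_family_transfer j
        (ratEquivZero_of_tcl_eq_zero (isSetup_str B.hP (B.hV x) (B.hbv x) (B.mem_V x) B.hδ ii ii) h0)
      refine ⟨fun y => F y + ∑ s, Cyc.divFun B.δP (ξ' s) (f' s) y, ⟨ι ⊕ ι', inferInstance, Sum.elim ξ ξ',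
        fun s => Sum.rec (motive := fun s => B.P.residueField (Sum.elim ξ ξ' s)) f f' s, ?_, ?_, ?_,
        fun y => by dsimp only; rw [Fintype.sum_sum_type, hF]; rfl⟩, ?_⟩
      · rintro (s | s)
        exacts [hd s, hd' s]
      · rintro (s | s)
        · exact hπ s
        · obtain ⟨a, ha⟩ := hr' s
          show B.π (ξ' s) = x
          rw [← ha]
          exact π_str B.hP (B.hV x) (B.hbv x) (B.mem_V x) ii ii a
      · rintro (s | s)
        exacts [hf s, hf' s]
      intro y hy l hl hyl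
      by_cases hlow : ∃ l' : Fin B.r, (l' : ℕ) < i ∧ y ∈ chart B.q (B.bv x) l'
      · obtain ⟨l', hl', hyl'⟩ := hlow
        dsimp only
        rw [hclear y hy l' hl' hyl', Finset.sum_eq_zero, add_zero]
        intro s _
        by_contra hs
        obtain ⟨a, ha⟩ := hr' s
        refine str_notMem_chart B.hP (B.hV x) (B.hbv x) (B.mem_V x) ii ii (k := l') hl' le_rfl a ?_
        exact ha ▸ (B.delta_of_divFun_ne_zero (hd' s) hs).1.mem_open (chart B.q (B.bv x) l').2 hyl'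
      · have hil : l = ii := by
          have : ¬(l : ℕ) < i := fun h => hlow ⟨l, h, hyl⟩
          exact Fin.ext (show (l : ℕ) = i by omega)
        subst hil
        obtain ⟨a, rfl⟩ := exists_str_eq B.hP (B.hV x) (B.hbv x) (B.mem_V x) ii ii hy hyl
          fun l' hl' h => hlow ⟨l', hl', h⟩
        have h2 : β (j a) - c (j a) = _ := hF' a
        rw [hc, finsum_eq_sum_of_fintype, ← hF] at h2
        exact sub_eq_iff_eq_add'.mp h2

/-- The combinations of the classes of the bundle formula in a given dimension. -/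
def Bun.InSpan (k : ℤ) (z : Tot B.P B.δP) : Prop :=
  ∃ (α : Fin B.r → AlgebraicCycle X ℤ) (hα : ∀ i : Fin B.r, α i ∈ Cyc.Zk X δ (k + (i : ℕ))),
    z = ∑ i : Fin B.r, B.Hpow i (B.pull (tcl (α i) (hα i)))

theorem Bun.inSpan_zero (k : ℤ) : B.InSpan k 0 :=
  ⟨0, fun _ _ _ => rfl, (Finset.sum_eq_zero fun i _ => by
    rw [show tcl ((0 : Fin B.r → AlgebraicCycle X ℤ) i) _ = 0 from tcl_zero _, map_zero, map_zero]).symm⟩

theorem Bun.inSpan_add {k : ℤ} {z z' : Tot B.P B.δP} (h : B.InSpan k z) (h' : B.InSpan k z') :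
    B.InSpan k (z + z') := by
  obtain ⟨α, hα, rfl⟩ := h
  obtain ⟨α', hα', rfl⟩ := h'
  have hs : ∀ i : Fin B.r, (α + α') i ∈ Cyc.Zk X δ (k + (i : ℕ)) := fun i => (ChowOps.zk X δ _).add_mem (hα i) (hα' i)
  refine ⟨α + α', hs, ?_⟩
  rw [← Finset.sum_add_distrib]
  refine Finset.sum_congr rfl fun i _ => ?_
  rw [← map_add, ← map_add, ← tcl_add (hα i) (hα' i) (hs i)]
  rfl

theorem Bun.inSpan_single {k : ℤ} (i : Fin B.r) (a : AlgebraicCycle X ℤ)
    (ha : a ∈ Cyc.Zk X δ (k + (i : ℕ))) : B.InSpan k (B.Hpow i (B.pull (tcl a ha))) := by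
  classical
  have hs : ∀ l : Fin B.r, (Pi.single i a : Fin B.r → AlgebraicCycle X ℤ) l ∈ Cyc.Zk X δ (k + (l : ℕ)) := fun l => by
    by_cases h : l = i
    · subst h; rwa [Pi.single_eq_same]
    · rw [Pi.single_eq_of_ne h]; exact fun _ _ => rfl
  refine ⟨Pi.single i a, hs, ?_⟩
  rw [Finset.sum_eq_single i (fun l _ hl => ?_) (by simp)]
  · exact congrArg (fun z => B.Hpow i (B.pull z)) (tcl_congr rfl (Pi.single_eq_same (M := fun _ : Fin B.r => AlgebraicCycle X ℤ) i a).symm _ _)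
  · rw [(tcl_congr rfl (Pi.single_eq_of_ne (M := fun _ => AlgebraicCycle X ℤ) hl a) _ fun _ _ => rfl).trans
      (tcl_zero _), map_zero, map_zero]

theorem Bun.finite_base {β : AlgebraicCycle B.P ℤ} {W : X.Opens} (hW : IsAffineOpen W) :
    {x | x ∈ W ∧ ∃ y, β y ≠ 0 ∧ B.π y = x}.Finite := by
  haveI := B.isProperπ
  refine ((β.locallyFiniteSupport.finite_inter_support_of_isCompact
    (QuasiCompact.isCompact_preimage (f := B.π) _ W.2 hW.isCompact)).image B.π).subset ?_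
  rintro x ⟨hx, y, hy, rfl⟩
  exact ⟨y, ⟨hx, hy⟩, rfl⟩

/-- Clearing all fibres over the points of a fixed dimension. -/
theorem Bun.exists_reduce {k : ℤ} {n : ℕ} (hn : n < B.r) (β : AlgebraicCycle B.P ℤ)
    (hβ : β ∈ Cyc.Zk B.P B.δP (k + ((B.r - 1 : ℕ) : ℤ))) (hsup : ∀ y, β y ≠ 0 → δ (B.π y) ≤ k + n) :
    ∃ (β' : AlgebraicCycle B.P ℤ) (h : β' ∈ Cyc.Zk B.P B.δP (k + ((B.r - 1 : ℕ) : ℤ))),
      tcl β hβ = tcl β' h ∧ (∀ y, β' y ≠ 0 → δ (B.π y) ≤ k + n) ∧
        ∀ y, β' y ≠ 0 → δ (B.π y) = k + n → y = B.lin (B.π y) ⟨n, hn⟩ := by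
  classical
  let S : Set X := {x | δ x = k + n ∧ ∃ y, β y ≠ 0 ∧ B.π y = x}
  choose F hF hclear using fun x : S => B.exists_clear hn x.2.1 β hβ n le_rfl
  choose κ hκ ξ f hd hπ hf hval using hF
  let e : (Σ x, κ x) → B.P := fun s => ξ s.1 s.2
  let g : (s : Σ x, κ x) → B.P.residueField (e s) := fun s => f s.1 s.2
  have hlf : ∀ p : B.P, ∃ U : Set B.P, IsOpen U ∧ p ∈ U ∧
      {s | (closure {e s} ∩ U).Nonempty}.Finite := fun p => by
    obtain ⟨_, ⟨W, hW, rfl⟩, hpW, -⟩ :=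
      X.isBasis_affineOpens.exists_subset_of_mem_open (Set.mem_univ (B.π p)) isOpen_univ
    refine ⟨B.π ⁻¹' W, W.2.preimage B.π.continuous, hpW,
      (((B.finite_base (β := β) hW).preimage Subtype.val_injective.injOn).biUnion
        fun x (_ : x ∈ _) => Set.finite_range fun t : κ x => (⟨x, t⟩ : Σ x, κ x)).subset ?_⟩
    rintro ⟨x, t⟩ ⟨z, hz, hzW⟩
    have hxW : (x : X) ∈ W := by
      rw [← hπ x t]
      exact (specializes_iff_mem_closure.mpr hz).mem_open (W.2.preimage B.π.continuous) hzW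
    exact Set.mem_biUnion (x := x) ⟨hxW, x.2.2⟩ ⟨t, rfl⟩
  obtain ⟨D, hD⟩ := exists_cycle_finsum_divFun B.hPs e g (fun s => hf _ _) hlf
  have hDk : D ∈ Cyc.Zk B.P B.δP (k + ((B.r - 1 : ℕ) : ℤ)) := fun y hy => by
    rw [hD]
    exact finsum_eq_zero_of_forall_eq_zero fun s =>
      by_contra fun h => hy (B.delta_of_divFun_ne_zero (hd _ _) h).2
  have hβ' : β - D ∈ Cyc.Zk B.P B.δP (k + ((B.r - 1 : ℕ) : ℤ)) := (ChowOps.zk B.P B.δP _).sub_mem hβ hDk
  have hterm : ∀ y, k + (n : ℤ) ≤ δ (B.π y) → ∀ s : Σ x, κ x, Cyc.divFun B.δP (e s) (g s) y ≠ 0 →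
      δ (B.π y) = k + n ∧ (s.1 : X) = B.π y := fun y hy s hs => by
    have h1 := (B.delta_of_divFun_ne_zero (hd _ _) hs).1.map B.π.continuous
    rw [show B.π (e s) = (s.1 : X) from hπ _ _] at h1
    have h2 : (s.1 : X) = B.π y := B.eq_of_specializes h1 (by rw [s.1.2.1]; exact hy)
    exact ⟨h2 ▸ s.1.2.1, h2⟩
  have hDfib : ∀ y, k + (n : ℤ) ≤ δ (B.π y) →
      (∀ hy : B.π y ∈ S, D y = F ⟨B.π y, hy⟩ y) ∧ (B.π y ∉ S → D y = 0) := fun y hy => by
    refine ⟨fun hS => ?_, fun hS => ?_⟩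
    · rw [hD, hval, finsum_eq_sum_of_support_subset _
        (s := Finset.univ.map ⟨fun t => (⟨⟨B.π y, hS⟩, t⟩ : Σ x, κ x), sigma_mk_injective⟩) ?_,
        Finset.sum_map]
      · rfl
      rintro ⟨x, t⟩ hs
      obtain rfl : x = ⟨B.π y, hS⟩ := Subtype.ext (hterm y hy ⟨x, t⟩ hs).2
      simp
    · rw [hD]
      exact finsum_eq_zero_of_forall_eq_zero fun s => by_contra fun h =>
        hS ((hterm y hy s h).2 ▸ s.1.2)
  refine ⟨β - D, hβ', tcl_eq_of_ratEquiv rfl hβ hβ' ?_, fun y hy => ?_, fun y hy hyn => ?_⟩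
  · rw [Cyc.RatEquiv, sub_sub_cancel]
    exact ⟨_, e, g, fun s => hd _ _, fun s => hf _ _, hlf, hD⟩
  · by_contra hlt
    refine hy ?_
    have h1 : β y = 0 := by_contra fun h => hlt (hsup y h)
    have h2 : D y = 0 := (hDfib y (by omega)).2 fun h => hlt h.1.le
    simp [h1, h2]
  · by_cases hS : B.π y ∈ S
    · refine eq_lin_of_delta B.hP (B.hV _) (B.hbv _) (B.mem_V _) B.hδ B.hPs.2.2 rfl (fun j hj hjy => hy ?_) ?_
      · simp [(hDfib y hyn.ge).1 hS, hclear ⟨B.π y, hS⟩ y rfl j hj hjy]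
      · rw [delta_lin B.hP (B.hV _) (B.hbv _) (B.mem_V _) B.hδ, hyn]
        have : B.δP y = k + ((B.r - 1 : ℕ) : ℤ) := by_contra fun h => hy (hβ' y h)
        rw [this]; push_cast
        show k + (n : ℤ) + ((B.r - 1 - n : ℕ) : ℤ) ≤ _
        omega
    · refine absurd ?_ hy
      have h1 : β y = 0 := by_contra fun h => hS ⟨hyn, y, h, rfl⟩
      simp [h1, (hDfib y hyn.ge).2 hS]

theorem Bun.inSpan_of_support {k : ℤ} (n : ℕ) (hn : n ≤ B.r) :
    ∀ (β : AlgebraicCycle B.P ℤ) (hβ : β ∈ Cyc.Zk B.P B.δP (k + ((B.r - 1 : ℕ) : ℤ))),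
      (∀ y, β y ≠ 0 → δ (B.π y) < k + n) → B.InSpan k (tcl β hβ) := by
  induction n with
  | zero =>
      intro β hβ hsup
      have h0 : β = 0 := DFunLike.ext _ _ fun y => by_contra fun h => by
        have h1 := hsup y h
        have h2 : B.δP y = k + ((B.r - 1 : ℕ) : ℤ) := by_contra fun h' => h (hβ y h')
        have h3 := B.delta_le y
        omega
      rw [(tcl_congr rfl h0 hβ fun _ _ => rfl).trans (tcl_zero _)]
      exact B.inSpan_zero k
  | succ n ih =>
      intro β hβ hsup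
      classical
      obtain ⟨β', hβ', he, hsup', hlin⟩ := B.exists_reduce (show n < B.r by omega) β hβ
        fun y hy => by have := hsup y hy; push_cast at this; omega
      rw [he]
      let i : Fin B.r := ⟨n, by omega⟩
      let a : AlgebraicCycle X ℤ :=
        ⟨fun x => if δ x = k + n then β' (B.lin x i) else 0, Set.subset_univ _, fun x _ => by
          obtain ⟨_, ⟨W, hW, rfl⟩, hxW, -⟩ :=
            X.isBasis_affineOpens.exists_subset_of_mem_open (Set.mem_univ x) isOpen_univ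
          refine ⟨W, W.2.mem_nhds hxW, (B.finite_base (β := β') hW).subset ?_⟩
          rintro z ⟨hz, hz'⟩
          refine ⟨hz, B.lin z i, fun h => hz' ?_, B.π_lin z i⟩
          show (if δ z = k + n then β' (B.lin z i) else 0) = 0
          rw [h, ite_self]⟩
      have ha : a ∈ Cyc.Zk X δ (k + (i : ℕ)) := fun x hx => if_neg hx
      have hj : k + (n : ℤ) + ((B.r - 1 : ℕ) : ℤ) - (n : ℕ) = k + ((B.r - 1 : ℕ) : ℤ) := by omega
      have hit : B.iter a n ∈ Cyc.Zk B.P B.δP (k + ((B.r - 1 : ℕ) : ℤ)) := hj ▸ B.iter_mem ha n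
      have hd := (ChowOps.zk B.P B.δP _).sub_mem hβ' hit
      have hlow : ∀ y, (β' - B.iter a n) y ≠ 0 → δ (B.π y) < k + n := fun y hy => by
        by_contra hge
        rcases eq_or_ne (δ (B.π y)) (k + n) with hyn | hyn
        · refine hy ?_
          have h2 := B.iter_fibre ha (x := B.π y) hyn n i.2 (y := y) rfl
          have h3 : a (B.π y) = β' (B.lin (B.π y) i) := if_pos hyn
          simp only [Function.locallyFinsuppWithin.coe_sub, Pi.sub_apply, sub_eq_zero]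
          rw [h2]
          split_ifs with h4
          · exact (congrArg β' h4).trans h3.symm
          · exact by_contra fun h => h4 (hlin y h hyn)
        · refine hy ?_
          have h1 : β' y = 0 := by_contra fun h => hyn ((hsup' y h).antisymm (not_lt.mp hge))
          have h2 : B.iter a n y = 0 := by_contra fun h => by
            obtain ⟨x, hx, hxy⟩ := B.iter_support a n h
            have hxk : δ x = k + n := by_contra fun h' => hx (ha x h')
            have := Groth.Cycles.delta_le_of_specializes B.hX.2.2 hxy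
            exact hyn (le_antisymm (by omega) (not_lt.mp hge))
          simp [h1, h2]
      have hz : tcl β' hβ' = tcl (β' - B.iter a n) hd + B.Hpow i (B.pull (tcl a ha)) := by
        rw [B.tcl_iter ha n hit hj.symm, tcl_sub hβ' hit, sub_add_cancel]
      rw [hz]
      exact B.inSpan_add (ih (by omega) _ hd hlow) (B.inSpan_single i a ha)

/-- The classes of the bundle formula generate. -/
theorem Bun.span {k : ℤ} (β : AlgebraicCycle B.P ℤ)
    (hβ : β ∈ Cyc.Zk B.P B.δP (k + ((B.r - 1 : ℕ) : ℤ))) : B.InSpan k (tcl β hβ) :=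
  B.inSpan_of_support B.r le_rfl β hβ fun y hy => by
    have h1 : B.δP y = k + ((B.r - 1 : ℕ) : ℤ) := by_contra fun h => hy (hβ y h)
    have h2 := B.delta_ge y
    have h3 := B.hr
    omega

end Groth.CycInter.PB
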