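import Groth.Agent.CycInter.PbRows
import Groth.Agent.CycInter.PbSpan
import Groth.Prelude.Def_ChowOps2

/-!
Chern classes of a bundle as operators on the total Chow group, from the projective bundle formula.
-/

universe u

set_option autoImplicit false

open CategoryTheory AlgebraicGeometry Groth.Cycles

noncomputable section

namespace Groth.CycInter.PB

variable {X : Scheme.{u}} {δ : X → ℤ} (B : Bun X δ)

/-- The left hand side of the relation defining the Chern classes. -/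
def Bun.capRel (c : ℕ → Tot X δ) : Tot B.P B.δP :=
  ∑ i ∈ Finset.range (B.r + 1), (-1 : ℤ) ^ i • B.Hpow i (B.pull (c (B.r - i)))

/-- The family `c` consists of the Chern classes capped with `z`. -/
def Bun.IsCap (z : Tot X δ) (c : ℕ → Tot X δ) : Prop :=
  c 0 = z ∧ B.capRel c = 0

theorem Bun.capRel_add (c c' : ℕ → Tot X δ) : B.capRel (c + c') = B.capRel c + B.capRel c' := by
  simp only [Bun.capRel, Pi.add_apply, map_add, smul_add, Finset.sum_add_distrib]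

theorem Bun.capRel_sub (c c' : ℕ → Tot X δ) : B.capRel (c - c') = B.capRel c - B.capRel c' := by
  simp only [Bun.capRel, Pi.sub_apply, map_sub, smul_sub, Finset.sum_sub_distrib]

theorem Bun.isCap_add {z z' : Tot X δ} {c c' : ℕ → Tot X δ} (h : B.IsCap z c) (h' : B.IsCap z' c') :
    B.IsCap (z + z') (c + c') :=
  ⟨by rw [Pi.add_apply, h.1, h'.1], by rw [B.capRel_add, h.2, h'.2, add_zero]⟩

theorem Bun.eq_zero_of_isCap {c : ℕ → Tot X δ} (h : B.IsCap 0 c) {j : ℕ} (hj : j ≤ B.r) : c j = 0 := by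
  rcases Nat.eq_zero_or_pos j with rfl | hj0
  · exact h.1
  have h2 := h.2
  rw [Bun.capRel, Finset.sum_range_succ, Nat.sub_self, h.1, map_zero, map_zero, smul_zero, add_zero,
    ← Fin.sum_univ_eq_sum_range (fun i => (-1 : ℤ) ^ i • B.Hpow i (B.pull (c (B.r - i)))) B.r] at h2
  have h3 := B.independent (fun i => (-1 : ℤ) ^ (i : ℕ) • c (B.r - i))
    (by simpa only [map_zsmul] using h2) ⟨B.r - j, by omega⟩
  simp only [show B.r - (B.r - j) = j by omega] at h3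
  have h4 := congrArg (fun w => (-1 : ℤ) ^ (B.r - j) • w) h3
  simpa only [smul_smul, ← pow_add, smul_zero, ← two_mul, pow_mul, neg_one_sq, one_pow, one_smul] using h4

theorem Bun.isCap_unique {z : Tot X δ} {c c' : ℕ → Tot X δ} (h : B.IsCap z c) (h' : B.IsCap z c') {j : ℕ}
    (hj : j ≤ B.r) : c j = c' j :=
  sub_eq_zero.mp (B.eq_zero_of_isCap (c := c - c')
    ⟨by rw [Pi.sub_apply, h.1, h'.1, sub_self], by rw [B.capRel_sub, h.2, h'.2, sub_zero]⟩ hj)

/-- The Chern classes capped with a class of a cycle are classes of cycles of the expected dimensions. -/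
theorem Bun.exists_isCap {k : ℤ} (α : AlgebraicCycle X ℤ) (hα : α ∈ Cyc.Zk X δ k) :
    ∃ (γ : ℕ → AlgebraicCycle X ℤ) (hγ : ∀ j : ℕ, γ j ∈ Cyc.Zk X δ (k - j)),
      γ 0 = α ∧ B.IsCap (tcl α hα) fun j => tcl (γ j) (hγ j) := by
  have hm := B.iter_mem hα B.r
  have hr := B.hr
  have hm' : B.iter α B.r ∈ Cyc.Zk B.P B.δP (k - (B.r : ℕ) + ((B.r - 1 : ℕ) : ℤ)) := by
    rwa [show k - (B.r : ℕ) + ((B.r - 1 : ℕ) : ℤ) = k + ((B.r - 1 : ℕ) : ℤ) - (B.r : ℕ) by ring]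
  obtain ⟨a, ha, hspan⟩ := B.span (B.iter α B.r) hm'
  have hH : B.Hpow B.r (B.pull (tcl α hα)) = tcl (B.iter α B.r) hm' :=
    B.tcl_iter hα B.r hm' (by ring)
  classical
  let γ : ℕ → AlgebraicCycle X ℤ := fun j => if h0 : j = 0 then α else
    if h : j ≤ B.r then -((-1 : ℤ) ^ B.r * (-1) ^ (B.r - j)) • a ⟨B.r - j, by omega⟩ else 0
  have hγ : ∀ j : ℕ, γ j ∈ Cyc.Zk X δ (k - j) := fun j => by
    rcases Nat.eq_zero_or_pos j with rfl | hj
    · rw [show γ 0 = α from dif_pos rfl, Nat.cast_zero, sub_zero]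
      exact hα
    · show (if h0 : j = 0 then α else _) ∈ _
      rw [dif_neg (by omega)]
      split_ifs with h
      · refine (ChowOps.zk X δ _).zsmul_mem ?_ _
        intro x hx
        exact ha _ x fun h' => hx (by rw [h']; show k - (B.r : ℤ) + ((B.r - j : ℕ) : ℤ) = k - (j : ℤ); rw [Nat.cast_sub h]; ring)
      · exact fun _ _ => rfl
  refine ⟨γ, hγ, dif_pos rfl, tcl_congr (by simp) (dif_pos rfl) _ _, ?_⟩
  dsimp only [Bun.capRel]
  rw [Finset.sum_range_succ, show tcl (γ (B.r - B.r)) (hγ _) = tcl α hα from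
    tcl_congr (by simp) (by simp [γ]) _ _, hH, hspan, Finset.smul_sum,
    ← Fin.sum_univ_eq_sum_range (fun i => (-1 : ℤ) ^ i • B.Hpow i (B.pull (tcl (γ (B.r - i)) (hγ _)))) B.r,
    ← Finset.sum_add_distrib]
  refine Finset.sum_eq_zero fun i _ => ?_
  have hi := i.2
  have hj : (⟨B.r - (B.r - i), by omega⟩ : Fin B.r) = i := Fin.ext (show B.r - (B.r - i) = (i : ℕ) by omega)
  have hk : k - ((B.r - i : ℕ) : ℤ) = k - (B.r : ℕ) + (i : ℕ) := by omega
  have he : γ (B.r - i) = -((-1 : ℤ) ^ B.r * (-1) ^ (i : ℕ)) • a i := by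
    show (if h0 : B.r - (i : ℕ) = 0 then α else _) = _
    rw [dif_neg (by omega), dif_pos (by omega)]
    rw [hj, show B.r - (B.r - i) = (i : ℕ) by omega]
  rw [(tcl_congr hk he (hγ _) ((ChowOps.zk X δ _).zsmul_mem (ha i) _)).trans (tcl_zsmul _ (ha i) _),
    map_zsmul, map_zsmul, smul_smul, ← add_smul]
  refine smul_eq_zero_of_left ?_ _
  have hsq : ((-1 : ℤ) ^ (i : ℕ)) * (-1) ^ (i : ℕ) = 1 := by rw [← mul_pow]; simp
  linear_combination (-(-1 : ℤ) ^ B.r) * hsq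

theorem Bun.exists_isCap_tot (z : Tot X δ) : ∃ c, B.IsCap z c := by
  induction z using DirectSum.induction_on with
  | zero => exact ⟨0, rfl, by simp [Bun.capRel]⟩
  | of k x =>
      obtain ⟨⟨α, hα⟩, rfl⟩ := QuotientAddGroup.mk_surjective x
      obtain ⟨γ, hγ, -, h⟩ := B.exists_isCap α hα
      exact ⟨_, h⟩
  | add z z' hz hz' =>
      obtain ⟨c, h⟩ := hz
      obtain ⟨c', h'⟩ := hz'
      exact ⟨_, B.isCap_add h h'⟩

/-- The Chern classes as operators on the total Chow group; zero above the rank. -/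
def Bun.chern (j : ℕ) : Tot X δ →+ Tot X δ :=
  AddMonoidHom.mk' (fun z => if j ≤ B.r then (B.exists_isCap_tot z).choose j else 0) fun z z' => by
    by_cases hj : j ≤ B.r
    · simp only [if_pos hj]
      exact B.isCap_unique (B.exists_isCap_tot (z + z')).choose_spec
        (B.isCap_add (B.exists_isCap_tot z).choose_spec (B.exists_isCap_tot z').choose_spec) hj
    · simp only [if_neg hj, add_zero]

theorem Bun.chern_eq {z : Tot X δ} {c : ℕ → Tot X δ} (h : B.IsCap z c) {j : ℕ} (hj : j ≤ B.r) :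
    B.chern j z = c j :=
  (if_pos hj).trans (B.isCap_unique (B.exists_isCap_tot z).choose_spec h hj)

theorem Bun.chern_of_lt {j : ℕ} (hj : B.r < j) : B.chern j = 0 :=
  AddMonoidHom.ext fun _ => if_neg hj.not_ge

theorem Bun.chern_zero : B.chern 0 = AddMonoidHom.id _ :=
  AddMonoidHom.ext fun z => (B.chern_eq (B.exists_isCap_tot z).choose_spec (Nat.zero_le _)).trans
    (B.exists_isCap_tot z).choose_spec.1

theorem Bun.isCap_chern (z : Tot X δ) : B.IsCap z fun j => B.chern j z := by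
  obtain ⟨c, h⟩ := B.exists_isCap_tot z
  refine ⟨(B.chern_eq h (Nat.zero_le _)).trans h.1, ?_⟩
  rw [← h.2]
  exact Finset.sum_congr rfl fun i _ => by dsimp only; rw [B.chern_eq h (Nat.sub_le _ _)]

/-- The class of a representative of a Chern class. -/
theorem Bun.exists_chern_cycle {k : ℤ} (α : AlgebraicCycle X ℤ) (hα : α ∈ Cyc.Zk X δ k) (j : ℕ) :
    ∃ (γ : AlgebraicCycle X ℤ) (hγ : γ ∈ Cyc.Zk X δ (k - j)), B.chern j (tcl α hα) = tcl γ hγ := by
  by_cases hj : j ≤ B.r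
  · obtain ⟨γ, hγ, -, h⟩ := B.exists_isCap α hα
    exact ⟨γ j, hγ j, B.chern_eq h hj⟩
  · refine ⟨0, fun _ _ => rfl, ?_⟩
    rw [B.chern_of_lt (not_le.mp hj), tcl_zero]
    rfl

/-- Maps commuting with pullback to the bundles and with the hyperplane classes commute with Chern classes. -/
theorem Bun.chern_natural {X' : Scheme.{u}} {δ' : X' → ℤ} (B' : Bun X' δ') (hr : B'.r = B.r)
    (Φ : Tot X δ →+ Tot X' δ') (Ψ : Tot B.P B.δP →+ Tot B'.P B'.δP)
    (hpull : ∀ z, Ψ (B.pull z) = B'.pull (Φ z)) (hH : ∀ z, Ψ (B.H z) = B'.H (Ψ z)) (j : ℕ) (z : Tot X δ) :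
    Φ (B.chern j z) = B'.chern j (Φ z) := by
  by_cases hj : j ≤ B.r
  · have hpow : ∀ (i : ℕ) (w : Tot B.P B.δP), Ψ (B.Hpow i w) = B'.Hpow i (Ψ w) := fun i => by
      induction i with
      | zero => intro w; rfl
      | succ i ih => intro w; exact (hH _).trans (congrArg B'.H (ih w))
    obtain ⟨h0, hrel⟩ := B.isCap_chern z
    refine (B'.chern_eq (c := fun j => Φ (B.chern j z)) ⟨congrArg Φ h0, ?_⟩ (hr ▸ hj)).symm
    have := congrArg Ψ hrel
    rw [Bun.capRel, map_sum, map_zero] at this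
    rw [Bun.capRel, hr]
    refine Eq.trans (Finset.sum_congr rfl fun i _ => ?_) this
    rw [map_zsmul, hpow, hpull]
  · rw [B.chern_of_lt (not_le.mp hj), B'.chern_of_lt (hr ▸ not_le.mp hj)]
    exact map_zero Φ

/-! ### Comparison with representatives -/

/-- The powers of `H` in terms of the iterated caps. -/
theorem Bun.exists_pow {k : ℤ} {α : AlgebraicCycle X ℤ} (hα : α ∈ Cyc.Zk X δ k)
    (t : ℕ → (ξ : B.P) → Cyc.secFibre B.O1 ξ) (ht : ∀ i ξ, t i ξ ≠ 0) (s : ℕ) :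
    ∃ (c : AlgebraicCycle B.P ℤ) (hc : c ∈ Cyc.Zk B.P B.δP (k + (B.r : ℤ) - 1 - s)),
      ⇑c = Cyc.c1PowFun B.δP B.O1 t s (Cyc.pullFun B.π B.δP δ ((B.r : ℤ) - 1) ⇑α) ∧
        tcl c hc = B.Hpow s (B.pull (tcl α hα)) :=
  B.exists_chain hα t ht (fun s => Cyc.c1PowFun B.δP B.O1 t s (Cyc.pullFun B.π B.δP δ ((B.r : ℤ) - 1) ⇑α))
    rfl (fun _ => rfl) s

/-- The relation for representatives is the relation of classes. -/
theorem Bun.capRel_tcl {k : ℤ} (γ : Fin (B.r + 1) → AlgebraicCycle X ℤ)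
    (hγ : ∀ j : Fin (B.r + 1), γ j ∈ Cyc.Zk X δ (k - ((j : ℕ) : ℤ))) (c : ℕ → Tot X δ)
    (hc : ∀ j : Fin (B.r + 1), c j = tcl (γ j) (hγ j))
    (t : ℕ → (ξ : B.P) → Cyc.secFibre B.O1 ξ) (ht : ∀ i ξ, t i ξ ≠ 0) :
    ∃ (b : AlgebraicCycle B.P ℤ) (hb : b ∈ Cyc.Zk B.P B.δP (k - 1)),
      (∀ y, b y = ∑ i : Fin (B.r + 1), (-1 : ℤ) ^ (i : ℕ) *
          Cyc.c1PowFun B.δP B.O1 t i (Cyc.pullFun B.π B.δP δ ((B.r : ℤ) - 1) ⇑(γ (Fin.rev i))) y) ∧
        tcl b hb = B.capRel c := by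
  choose e he hev het using fun i : Fin (B.r + 1) => B.exists_pow (hγ (Fin.rev i)) t ht i
  have he' : ∀ i : Fin (B.r + 1), ((-1 : ℤ) ^ (i : ℕ)) • e i ∈ Cyc.Zk B.P B.δP (k - 1) := fun i => by
    refine (ChowOps.zk B.P B.δP _).zsmul_mem ?_ _
    intro y hy
    exact he i y fun h => hy (by rw [h, Fin.val_rev]; push_cast; omega)
  refine ⟨∑ i : Fin (B.r + 1), ((-1 : ℤ) ^ (i : ℕ)) • e i, sum_mem_Zk _ _ he', fun y => ?_, ?_⟩
  · rw [Function.locallyFinsuppWithin.coe_sum, Finset.sum_apply]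
    refine Finset.sum_congr rfl fun i _ => ?_
    rw [Function.locallyFinsuppWithin.coe_zsmul, Pi.smul_apply, smul_eq_mul, hev]
  · rw [tcl_sum _ _ he', Bun.capRel,
      ← Fin.sum_univ_eq_sum_range (fun i => (-1 : ℤ) ^ i • B.Hpow i (B.pull (c (B.r - i)))) (B.r + 1)]
    refine Finset.sum_congr rfl fun i _ => ?_
    have hk : k - 1 = k - ((Fin.rev i : ℕ) : ℤ) + (B.r : ℤ) - 1 - (i : ℕ) := by
      rw [Fin.val_rev]; omega
    rw [show B.r - (i : ℕ) = ((Fin.rev i : Fin (B.r + 1)) : ℕ) by rw [Fin.val_rev]; omega, hc, ← het,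
      (tcl_congr hk rfl (he' i) ((ChowOps.zk B.P B.δP _).zsmul_mem (he i) _)).trans (tcl_zsmul _ (he i) _)]

/-- Representatives of Chern classes have the classes of the operators. -/
theorem Bun.chern_tcl {k : ℤ} {α : AlgebraicCycle X ℤ} (hα : α ∈ Cyc.Zk X δ k)
    {γ : Fin (B.r + 1) → AlgebraicCycle X ℤ} (hγ : Cyc.IsChernCap B.π δ B.δP B.O1 B.r k α γ)
    (j : Fin (B.r + 1)) : B.chern j (tcl α hα) = tcl (γ j) (hγ.2.1 j) := by
  let c : ℕ → Tot X δ := fun n => if h : n < B.r + 1 then tcl (γ ⟨n, h⟩) (hγ.2.1 ⟨n, h⟩) else 0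
  have hc : ∀ j : Fin (B.r + 1), c j = tcl (γ j) (hγ.2.1 j) := fun j => dif_pos j.2
  obtain ⟨u, hu⟩ := Biv.exists_secs B.hO
  obtain ⟨b, hb, hbv, hbt⟩ := B.capRel_tcl γ hγ.2.1 c hc (fun _ => u) fun _ => hu
  have h : B.IsCap (tcl α hα) c :=
    ⟨(hc 0).trans (tcl_congr (by simp) hγ.1 _ _),
      hbt.symm.trans (tcl_eq_zero_of_ratEquivZero hb (hγ.2.2 _ (fun _ => hu) b hbv))⟩
  rw [B.chern_eq h (by omega), hc]

/-- Cycles with the classes of the operators are representatives of the Chern classes. -/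
theorem Bun.isChernCap_of_tcl {k : ℤ} {α : AlgebraicCycle X ℤ} (hα : α ∈ Cyc.Zk X δ k)
    {γ : Fin (B.r + 1) → AlgebraicCycle X ℤ} (h0 : γ 0 = α)
    (hγ : ∀ j : Fin (B.r + 1), γ j ∈ Cyc.Zk X δ (k - ((j : ℕ) : ℤ)))
    (h : ∀ j : Fin (B.r + 1), B.chern j (tcl α hα) = tcl (γ j) (hγ j)) :
    Cyc.IsChernCap B.π δ B.δP B.O1 B.r k α γ := by
  refine ⟨h0, hγ, fun t ht β hβ => ?_⟩
  obtain ⟨b, hb, hbv, hbt⟩ := B.capRel_tcl γ hγ (fun n => B.chern n (tcl α hα)) h t ht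
  obtain rfl : β = b := DFunLike.ext _ _ fun y => (hβ y).trans (hbv y).symm
  exact ratEquivZero_of_tcl_eq_zero B.hPs (hbt.trans (B.isCap_chern _).2)

end Groth.CycInter.PB
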