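import Groth.Agent.CycInter.PbChart
import Groth.Agent.GrassSub.Plucker

/-!
Properness of projective bundles given by the universal property.
-/

universe u

set_option autoImplicit false

open CategoryTheory CategoryTheory.Limits AlgebraicGeometry

namespace Groth.CycInter.PB

variable {S P : Scheme.{u}} {π : P ⟶ S} {F : S.Modules} {O1 : P.Modules}
  {q : (Scheme.Modules.pullback π).obj F ⟶ O1} (hP : KRR.IsProjBundle π F O1 q)
  {r : ℕ} (hF : FlatMod.IsFinLocFreeOfRank r F)

include hP hF in
theorem isProper [IsLocallyNoetherian S] : IsProper π := by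
  have hcoh : Coh.IsCoh F := KTheory.LocFree.isCoh (Groth.LocFree.isFinLocFree_of_rank hF)
  obtain ⟨P₀, π₀, Q₀, q₀, hp₀, hP₀⟩ := Groth.GrassSub.exists_isGrass hcoh 1
  obtain ⟨i, hi, hiw⟩ := Groth.GrassSub.exists_iso_of_isGrass (Grass.IsGrass.of_isProjBundle hP) hP₀
  rw [← hiw]
  infer_instance

end Groth.CycInter.PB
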