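import Groth.Agent.CycInter.PbOpCl
import Groth.Agent.CycInter.PbProper

/-!
Existence and uniqueness of the operational Chern classes.
-/

universe u

set_option autoImplicit false

open CategoryTheory CategoryTheory.Limits AlgebraicGeometry Groth.RelTw Groth.PBundle

noncomputable section

namespace Groth.CycInter.PB

variable {X : Scheme.{u}} {δX : X → ℤ}

/-- A projective bundle with dimension functions exists. -/
theorem exists_bun (hX : Cyc.IsSetup X δX) {E : X.Modules} {r : ℕ} (hr : 1 ≤ r)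
    (hE : FlatMod.IsFinLocFreeOfRank r E) : ∃ B : Bun X δX, B.r = r ∧ B.E = E := by
  haveI := hX.1
  have hcoh : Coh.IsCoh E := KTheory.LocFree.isCoh (Groth.LocFree.isFinLocFree_of_rank hE)
  obtain ⟨P, π, O1, q, hp, hG⟩ := Groth.GrassSub.exists_isGrass hcoh 1
  obtain ⟨δP, hδ⟩ := Biv.exists_delta π δX
  exact ⟨⟨P, π, E, O1, q, Grass.isGrass_one_iff.mp hG, r, hr, hE, δP, hX,
    P1C.isSetup_of_lft hX π hδ, hδ, hp⟩, rfl, rfl⟩

/-- The projective bundle of a bundle of rank zero is empty. -/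
theorem isEmpty_projBundle_zero {P : Scheme.{u}} {π : P ⟶ X} {E : X.Modules} {O1 : P.Modules}
    {q : (Scheme.Modules.pullback π).obj E ⟶ O1} (hP : KRR.IsProjBundle π E O1 q)
    (hE : FlatMod.IsFinLocFreeOfRank 0 E) : IsEmpty P := by
  refine ⟨fun y => ?_⟩
  obtain ⟨V, e, hV, hxV, he⟩ := Groth.LocFree.exists_affine_basis_ofRank hE (π y)
  obtain ⟨l, -⟩ := exists_mem_chart he hP y hxV
  exact l.elim0

/-- The Chern classes from a bundle. -/
def Bun.chernFam (B : Bun X δX) : (j : ℕ) → Bivar.OpCl (j : ℤ) X δX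
  | 0 => Bivar.OpCl.one X δX
  | j + 1 => B.chernClass (j + 1)

theorem Bun.isChernClasses_chernFam (B : Bun X δX) : Bivar.IsChernClasses B.E B.r B.chernFam := by
  refine ⟨B.hE, rfl, fun j hj => ?_, fun s P π O1 q hP δP hδ k α hα ζ hζ0 hζ hc => ?_⟩
  · obtain ⟨i, rfl⟩ : ∃ i, j = i + 1 := ⟨j - 1, by omega⟩
    refine Bivar.OpCl.ext (funext fun s => funext fun k => AddMonoidHom.ext fun x => ?_)
    obtain ⟨α, hα, rfl⟩ := Bivar.exists_rep x
    refine (B.chernOp_cl s hα (γ := 0) (fun _ _ => rfl) ?_).trans Bivar.cl_zero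
    rw [(B.osq s).chern_of_lt (show (B.osq s).r < i + 1 from hj), tcl_zero]
    rfl
  have hS := Biv.isSetup_osq B.hX s
  haveI := hS.1
  have hEs : FlatMod.IsFinLocFreeOfRank B.r ((Scheme.Modules.pullback s.g).obj B.E) :=
    Groth.LocFree.isFinLocFreeOfRank_pullback s.g B.hE
  haveI := isProper hP hEs
  let B' : Bun s.Y s.δ := ⟨P, π, _, O1, q, hP, B.r, B.hr, hEs, δP, hS, P1C.isSetup_of_lft hS π hδ, hδ, inferInstance⟩
  refine B'.isChernCap_of_tcl hα hζ0 hζ fun j => ?_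
  rw [← Bun.chern_eq_of_bundle (B.osq s) B' rfl hP]
  have h := hc j
  rcases j with ⟨_ | i, hi⟩
  · rw [Bun.chern_zero]
    exact tcl_congr (by simp) hζ0.symm _ _
  · exact B.tcl_chernOp s hα h

theorem exists_isChernClasses (hX : Cyc.IsSetup X δX) (E : X.Modules) (r : ℕ)
    (hE : FlatMod.IsFinLocFreeOfRank r E) :
    ∃ c : (j : ℕ) → Bivar.OpCl (j : ℤ) X δX, Bivar.IsChernClasses E r c := by
  rcases Nat.eq_zero_or_pos r with rfl | hr
  · refine ⟨fun j => match j with | 0 => Bivar.OpCl.one X δX | _ + 1 => 0, hE, rfl, fun j hj => ?_,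
      fun s P π O1 q hP δP _ k α hα ζ hζ0 hζ _ => ⟨hζ0, hζ, fun t _ β hβ => ?_⟩⟩
    · obtain ⟨i, rfl⟩ : ∃ i, j = i + 1 := ⟨j - 1, by omega⟩
      rfl
    · have := isEmpty_projBundle_zero hP (Groth.LocFree.isFinLocFreeOfRank_pullback s.g hE)
      exact ⟨PEmpty, PEmpty.elim, fun i => i.elim, fun i => i.elim, fun i => i.elim,
        fun y => isEmptyElim y, fun y => isEmptyElim y⟩
  · obtain ⟨B, rfl, rfl⟩ := exists_bun hX hr hE
    exact ⟨B.chernFam, B.isChernClasses_chernFam⟩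

theorem isChernClasses_unique (hX : Cyc.IsSetup X δX) {E : X.Modules} {r : ℕ}
    (c c' : (j : ℕ) → Bivar.OpCl (j : ℤ) X δX) (hc : Bivar.IsChernClasses E r c)
    (hc' : Bivar.IsChernClasses E r c') : c = c' := by
  funext j
  rcases Nat.lt_or_ge r j with hj | hj
  · rw [hc.2.2.1 j hj, hc'.2.2.1 j hj]
  rcases Nat.eq_zero_or_pos r with rfl | hr
  · obtain rfl := Nat.le_zero.mp hj
    rw [hc.2.1, hc'.2.1]
  obtain ⟨B, rfl, rfl⟩ := exists_bun hX hr hc.1
  refine Bivar.OpCl.ext (funext fun s => funext fun k => AddMonoidHom.ext fun x => ?_)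
  obtain ⟨α, hα, rfl⟩ := Bivar.exists_rep x
  have key : ∀ d : (j : ℕ) → Bivar.OpCl (j : ℤ) X δX, Bivar.IsChernClasses B.E B.r d →
      ∃ (γ : AlgebraicCycle s.Y ℤ) (hγ : γ ∈ Cyc.Zk s.Y s.δ (k - (j : ℤ))),
        (d j).op s k (ChowOps.cl α hα) = ChowOps.cl γ hγ ∧ (B.osq s).chern j (tcl α hα) = tcl γ hγ := by
    intro d hd
    classical
    choose γ hγ hγe using fun i : Fin (B.r + 1) => Bivar.exists_rep ((d i).op s k (ChowOps.cl α hα))
    let ζ : Fin (B.r + 1) → AlgebraicCycle s.Y ℤ := fun i => if i = 0 then α else γ i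
    have hζ : ∀ i : Fin (B.r + 1), ζ i ∈ Cyc.Zk s.Y s.δ (k - ((i : ℕ) : ℤ)) := fun i => by
      by_cases h : i = 0
      · subst h; simpa [ζ] using hα
      · simpa [ζ, h] using hγ i
    have hζe : ∀ i : Fin (B.r + 1), (d i).op s k (ChowOps.cl α hα) = ChowOps.cl (ζ i) (hζ i) := fun i => by
      by_cases h : i = 0
      · subst h
        have h0 : ((d 0).op s k) = (Bivar.OpCl.one X δX).op s k := by rw [hd.2.1]
        refine (DFunLike.congr_fun h0 _).trans ?_
        show (Bivar.chCast s.Y s.δ (sub_zero k).symm) (ChowOps.cl α hα) = _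
        rw [Bivar.chCast_cl]
        exact Bivar.cl_congr (if_pos rfl).symm _ _
      · exact (hγe i).symm.trans (Bivar.cl_congr (if_neg h).symm _ _)
    have hcap := hd.2.2.2 s (B.osq s).P (B.osq s).π (B.osq s).O1 (B.osq s).q (B.osq s).hP (B.osq s).δP
      (B.osq s).hδ k α hα ζ (if_pos rfl) hζ hζe
    exact ⟨ζ ⟨j, by omega⟩, hζ ⟨j, by omega⟩, hζe ⟨j, by omega⟩,
      (B.osq s).chern_tcl hα (γ := ζ) hcap ⟨j, by show j < B.r + 1; omega⟩⟩
  obtain ⟨γ, hγ, e, e'⟩ := key c hc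
  obtain ⟨γ', hγ', e₁, e₁'⟩ := key c' hc'
  rw [e, e₁]
  exact DirectSum.of_injective (β := fun l => ChowOps.CH s.Y s.δ l) (k - (j : ℤ)) (e'.symm.trans e₁')

end Groth.CycInter.PB
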