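import Groth.Agent.PBundle.Euler
import Groth.Agent.SymAlg.Univ
import Groth.Agent.Limits.RelSpecColimit
import Groth.Agent.KTheory.KvbModel

/-!
The complement of the hyperplane at infinity in the projective completion of a vector bundle.
-/

universe u

set_option autoImplicit false

open CategoryTheory CategoryTheory.Limits AlgebraicGeometry Opposite TopologicalSpace
open Groth.PicAux Groth.RelTw Groth.PBundle

set_option backward.isDefEq.respectTransparency.types false

noncomputable section

namespace Groth.CycInter.Completion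

variable {X : Scheme.{u}} (E : X.Modules)

/-- The bundle `E ⊕ O`. -/
abbrev aug : X.Modules := E ⊞ Coh.structureModule X

/-- The section `(0, 1)`. -/
def ov (W : X.Opens) : Γ(aug E, W) :=
  (biprod.inr : Coh.structureModule X ⟶ aug E).app W (oneSec X W)

theorem res_ov {W V : X.Opens} (h : V ≤ W) : res (aug E) h (ov E W) = ov E V := by
  rw [ov, ov, ← app_res, res_oneSec]

/-- The sections of the first summand. -/
def inlSec {W : X.Opens} (e : Γ(E, W)) : Γ(aug E, W) := (biprod.inl : E ⟶ aug E).app W e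

variable {E} in
/-- A basis of `E` extended by `(0, 1)`. -/
def augBasis {W : X.Opens} {r : ℕ} (e : Fin r → Γ(E, W)) : Fin (r + 1) → Γ(aug E, W) :=
  Fin.snoc (fun i => inlSec E (e i)) (ov E W)

theorem basis_aug {W : X.Opens} {r : ℕ} {e : Fin r → Γ(E, W)} (he : Basis' E W e) :
    Basis' (aug E) W (augBasis e) := by
  intro V hV
  let il := (biprod.inl : E ⟶ aug E)
  let ir := (biprod.inr : Coh.structureModule X ⟶ aug E)
  let f := (biprod.fst : aug E ⟶ E)
  let g := (biprod.snd : aug E ⟶ Coh.structureModule X)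
  have ev : ∀ c : Fin (r + 1) → Γ(X, V), ∑ i, c i • res (aug E) hV (augBasis e i) =
      il.app V (∑ i : Fin r, c (Fin.castSucc i) • res E hV (e i)) +
        ir.app V (c (Fin.last r) • oneSec X V) := fun c => by
    rw [Fin.sum_univ_castSucc, map_sum]
    refine congrArg₂ (· + ·) (Finset.sum_congr rfl fun i _ => ?_) ?_
    · rw [augBasis, Fin.snoc_castSucc, inlSec, ← app_res, Scheme.Modules.Hom.app_smul]
    · rw [augBasis, Fin.snoc_last, res_ov, Scheme.Modules.Hom.app_smul]
      rfl
  have hfl : ∀ a, f.app V (il.app V a) = a := fun a =>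
    congr(($((biprod.inl_fst : il ≫ f = 𝟙 E))).app V a)
  have hfr : ∀ a, f.app V (ir.app V a) = 0 := fun a =>
    congr(($((biprod.inr_fst : ir ≫ f = 0))).app V a)
  have hgl : ∀ a, g.app V (il.app V a) = 0 := fun a =>
    congr(($((biprod.inl_snd : il ≫ g = 0))).app V a)
  have hgr : ∀ a, g.app V (ir.app V a) = a := fun a =>
    congr(($((biprod.inr_snd : ir ≫ g = 𝟙 _))).app V a)
  constructor
  · intro c c' h
    simp only [ev] at h
    have h1 := congrArg (f.app V) h
    rw [map_add, map_add, hfl, hfl, hfr, hfr, add_zero, add_zero] at h1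
    have h2 := congrArg (g.app V) h
    rw [map_add, map_add, hgl, hgl, hgr, hgr, zero_add, zero_add] at h2
    have h3 := congrFun ((he V hV).1 h1)
    have h4 : c (Fin.last r) = c' (Fin.last r) := by
      simpa only [toFun_smul, toFun_oneSec, mul_one] using congrArg toFun h2
    exact funext (Fin.lastCases h4 h3)
  · intro x
    obtain ⟨a, ha⟩ := (he V hV).2 (f.app V x)
    refine ⟨Fin.snoc a (toFun (g.app V x)), ?_⟩
    simp only [ev, Fin.snoc_castSucc, Fin.snoc_last, ← eq_toFun_smul_oneSec]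
    rw [show ∑ i, a i • res E hV (e i) = f.app V x from ha]
    have h := congr(($((biprod.total : f ≫ il + g ≫ ir = 𝟙 (aug E)))).app V x)
    exact h

theorem isFinLocFreeOfRank_aug {r : ℕ} (hE : FlatMod.IsFinLocFreeOfRank r E) :
    FlatMod.IsFinLocFreeOfRank (r + 1) (aug E) := by
  rw [Groth.LocFree.isFinLocFreeOfRank_iff] at hE ⊢
  intro x
  obtain ⟨W, e, hx, he⟩ := hE x
  exact ⟨W, _, hx, basis_aug E he⟩

variable {P : Scheme.{u}} {π : P ⟶ X} {O1 : P.Modules}
  (q : (Scheme.Modules.pullback π).obj (aug E) ⟶ O1)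

/-- The open where `(0, 1)` generates. -/
def finPart : P.Opens := (linData q).genLoc ⊤ (ov E ⊤)

theorem genLoc_ov (W : X.Opens) :
    (linData q).genLoc W (ov E W) = finPart E q ⊓ π ⁻¹ᵁ W := by
  have hres : ∀ {D : P.Opens} (h : D ≤ π ⁻¹ᵁ W), res O1 h ((linData q).app W (ov E W)) =
      res O1 (h.trans (π.preimage_mono le_top)) ((linData q).app ⊤ (ov E ⊤)) := fun h => by
    rw [← res_ov E (le_top : W ≤ ⊤), ← (linData q).app_res, res_res]
  refine le_antisymm (le_inf ?_ ((linData q).genLoc_le W _)) ?_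
  · refine (linData q).le_genLoc (((linData q).genLoc_le W _).trans (π.preimage_mono le_top)) ?_
    rw [← hres]
    exact (linData q).gen_genLoc W _
  · refine (linData q).le_genLoc inf_le_right ?_
    rw [hres]
    refine Eq.mp ?_ (((linData q).gen_genLoc ⊤ (ov E ⊤)).res
      (inf_le_left : finPart E q ⊓ π ⁻¹ᵁ W ≤ (linData q).genLoc ⊤ (ov E ⊤)))
    rw [res_res]

/-- The projection of the finite part. -/
abbrev finProj : (finPart E q).toScheme ⟶ X := (finPart E q).ι ≫ π

theorem finProj_preimage_le (W : X.Opens) :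
    finProj E q ⁻¹ᵁ W ≤ (finPart E q).ι ⁻¹ᵁ (linData q).genLoc W (ov E W) := by
  rw [genLoc_ov]
  exact fun z hz => ⟨z.2, hz⟩

/-- The coordinate of a section of `E` on the finite part. -/
def coordFun (W : X.Opens) (e : Γ(E, W)) : Γ((finPart E q).toScheme, finProj E q ⁻¹ᵁ W) :=
  (finPart E q).ι.appLE _ _ (finProj_preimage_le E q W) ((linData q).ratio W (ov E W) (inlSec E e))

theorem ratio_res {W V : X.Opens} (h : V ≤ W) {o : Γ(aug E, W)} {o' : Γ(aug E, V)}
    (ho : res (aug E) h o = o') (x : Γ(aug E, W)) (hle : (linData q).genLoc V o' ≤ (linData q).genLoc W o) :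
    resX P hle ((linData q).ratio W o x) = (linData q).ratio V o' (res (aug E) h x) := by
  subst ho
  refine (linData q).eq_ratio ?_
  have h1 := congrArg (res O1 hle) ((linData q).ratio_smul W o x)
  rw [res_smul, res_res, res_res] at h1
  rw [← (linData q).app_res W V h, ← (linData q).app_res W V h, res_res, res_res]
  exact h1

theorem coordFun_res {W V : X.Opens} (h : V ≤ W) (e : Γ(E, W)) :
    resX _ ((finProj E q).preimage_mono h) (coordFun E q W e) = coordFun E q V (res E h e) := by
  have hle : (linData q).genLoc V (ov E V) ≤ (linData q).genLoc W (ov E W) := by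
    rw [genLoc_ov, genLoc_ov]
    exact inf_le_inf_left _ (π.preimage_mono h)
  have hx : inlSec E (res E h e) = res (aug E) h (inlSec E e) := by rw [inlSec, inlSec, app_res]
  rw [coordFun, coordFun, hx, ← ratio_res E q h (res_ov E h) (inlSec E e) hle]
  change ((finPart E q).ι.appLE _ _ _ ≫ _) _ = ((P.presheaf.map (homOfLE hle).op) ≫ (finPart E q).ι.appLE _ _ _) _
  rw [Scheme.Hom.appLE_map, Scheme.Hom.map_appLE]

theorem coordFun_add (W : X.Opens) (a b : Γ(E, W)) :
    coordFun E q W (a + b) = coordFun E q W a + coordFun E q W b := by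
  rw [coordFun, inlSec, map_add, LinData.ratio_add, map_add]
  rfl

theorem coordFun_smul (W : X.Opens) (c : Γ(X, W)) (e : Γ(E, W)) :
    coordFun E q W (c • e) = (finProj E q).app W c * coordFun E q W e := by
  rw [coordFun, inlSec, Scheme.Modules.Hom.app_smul, LinData.ratio_base_smul, map_mul]
  refine congrArg (· * _) ?_
  change (π.appLE W _ _ ≫ (finPart E q).ι.appLE _ _ _) c = _
  rw [Scheme.Hom.appLE_comp_appLE, ← Scheme.Hom.app_eq_appLE]

variable [QuasiCompact (finProj E q)] [QuasiSeparated (finProj E q)]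

/-- The coordinates as a map of modules. -/
def coordHom : E ⟶ (RelSpec.QCAlg.directImage (finProj E q)).toModule :=
  ⟨PresheafOfModules.homMk
    { app := fun W => AddCommGrpCat.ofHom (AddMonoidHom.mk' (coordFun E q W.unop) (coordFun_add E q W.unop))
      naturality := fun W V i => by
        ext e
        exact (coordFun_res E q i.unop.le e).symm }
    fun W c e => coordFun_smul E q W.unop c e⟩

variable {A : RelSpec.QCAlg X} {j : E ⟶ A.toModule} (hA : RelSpec.IsSymAlg E A j)

/-- The map of algebras given by the coordinates. -/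
def coordAlg : A ⟶ RelSpec.QCAlg.directImage (finProj E q) := (hA _ (coordHom E q)).exists.choose

theorem coordAlg_j (W : X.Opens) (e : Γ(E, W)) :
    ((coordAlg E q hA).hom.app (op W)).hom (Groth.QCohMod.toB A (j.app W e)) = coordFun E q W e :=
  congr(($((hA _ (coordHom E q)).exists.choose_spec)).app W e)

include hA in
theorem bijective_coordAlg [E.IsQuasicoherent] {r : ℕ} (hP : KRR.IsProjBundle π (aug E) O1 q) {W : X.Opens}
    (hW : IsAffineOpen W) {e : Fin r → Γ(E, W)} (he : Basis' E W e) :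
    IsAffineOpen (finProj E q ⁻¹ᵁ W) ∧ Function.Bijective ((coordAlg E q hA).hom.app (op W)).hom := by
  classical
  let e' := augBasis e
  obtain ⟨hD, hbij⟩ := isAffineOpen_and_bijective (j := Fin.last r) (basis_aug E he) hP hW
  have hl : e' (Fin.last r) = ov E W := Fin.snoc_last _ _
  have hc : ∀ i, e' (Fin.castSucc i) = inlSec E (e i) := fun i => Fin.snoc_castSucc _ _ i
  have hDeq : chart q e' (Fin.last r) = finPart E q ⊓ π ⁻¹ᵁ W := by
    rw [chart, hl]; exact genLoc_ov E q W
  have hpre : finProj E q ⁻¹ᵁ W = (finPart E q).ι ⁻¹ᵁ chart q e' (Fin.last r) := by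
    rw [hDeq]
    ext z
    exact ⟨fun hz => ⟨z.2, hz⟩, fun hz => hz.2⟩
  have hrange : chart q e' (Fin.last r) ≤ (finPart E q).ι.opensRange := by
    rw [hDeq, Scheme.Opens.opensRange_ι]; exact inf_le_left
  refine ⟨hpre ▸ hD.preimage_of_isOpenImmersion _ hrange, ?_⟩
  let κ : Γ(P, chart q e' (Fin.last r)) ⟶ Γ((finPart E q).toScheme, finProj E q ⁻¹ᵁ W) :=
    (finPart E q).ι.appLE _ _ hpre.le
  haveI := Scheme.Hom.isIso_app (finPart E q).ι _ hrange
  haveI : IsIso κ := by
    have : κ = (finPart E q).ι.app (chart q e' (Fin.last r)) ≫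
        (finPart E q).toScheme.presheaf.map (eqToHom hpre).op := rfl
    rw [this]
    infer_instance
  have hcoord : ∀ (o : Γ(aug E, W)) (ho : o = ov E W) (h : finProj E q ⁻¹ᵁ W ≤
      (finPart E q).ι ⁻¹ᵁ (linData q).genLoc W o) (x : Γ(E, W)),
      (finPart E q).ι.appLE _ _ h ((linData q).ratio W o (inlSec E x)) = coordFun E q W x := by
    intro o ho h x
    subst ho
    rfl
  let σ : Fin r ≃ {i : Fin (r + 1) // i ≠ Fin.last r} := finSuccAboveEquiv (Fin.last r)
  have hσ : ∀ i, (σ i).1 = Fin.castSucc i := fun i => Fin.succAbove_last_apply i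
  let el : (Fin r → Γ(X, W)) ≃ₗ[Γ(X, W)] Γ(E, W) :=
    LinearEquiv.ofBijective (Fintype.linearCombination Γ(X, W) e) (by
      have h := he W le_rfl
      simp only [PicAux.res_self] at h
      convert h using 1
      funext c
      exact Fintype.linearCombination_apply _ _ _)
  let b : Module.Basis (Fin r) Γ(X, W) Γ(E, W) := (Pi.basisFun Γ(X, W) (Fin r)).map el
  have hb : ∀ i, b i = e i := fun i => by simp [b, el]
  let e1 := (SymmetricAlgebra.equivMvPolynomial b).symm
  let e2 := RingEquiv.ofBijective (Groth.SymAlg.liftSec A j W) (Groth.SymAlg.bijective_liftSec hA hW)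
  let f : MvPolynomial (Fin r) Γ(X, W) →+* Γ((finPart E q).toScheme, finProj E q ⁻¹ᵁ W) :=
    (((coordAlg E q hA).hom.app (op W)).hom.comp e2.toRingHom).comp e1.toRingEquiv.toRingHom
  let g : MvPolynomial (Fin r) Γ(X, W) →+* Γ((finPart E q).toScheme, finProj E q ⁻¹ᵁ W) :=
    (κ.hom.comp (chartHom q e' (Fin.last r))).comp
      (MvPolynomial.renameEquiv Γ(X, W) σ).toRingEquiv.toRingHom
  have hfg : f = g := by
    refine MvPolynomial.ringHom_ext (fun c => ?_) fun i => ?_
    · have h1 : e1 (MvPolynomial.C c) = algebraMap Γ(X, W) _ c := e1.commutes c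
      change ((coordAlg E q hA).hom.app (op W)).hom (Groth.SymAlg.liftSec A j W (e1 (MvPolynomial.C c))) =
        κ (chartHom q e' (Fin.last r) (MvPolynomial.rename σ (MvPolynomial.C c)))
      rw [h1, Groth.SymAlg.liftSec_algebraMap, MvPolynomial.rename_C, chartHom_C]
      refine (Groth.SymAlg.hom_app_str (coordAlg E q hA) W c).trans ?_
      change (finProj E q).app W c = (π.appLE W _ chart_le ≫ κ) c
      rw [Scheme.Hom.appLE_comp_appLE, ← Scheme.Hom.app_eq_appLE]
    · have h1 : e1 (MvPolynomial.X i) = SymmetricAlgebra.ι Γ(X, W) Γ(E, W) (e i) := by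
        rw [← hb i]
        exact (SymmetricAlgebra.equivMvPolynomial b).symm_apply_eq.mpr
          (SymmetricAlgebra.equivMvPolynomial_ι_apply b i).symm
      change ((coordAlg E q hA).hom.app (op W)).hom (Groth.SymAlg.liftSec A j W (e1 (MvPolynomial.X i))) =
        κ (chartHom q e' (Fin.last r) (MvPolynomial.rename σ (MvPolynomial.X i)))
      rw [h1, Groth.SymAlg.liftSec_ι, MvPolynomial.rename_X, chartHom_X, coordAlg_j]
      change _ = κ ((linData q).ratio W (e' (Fin.last r)) (e' (σ i).1))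
      rw [hσ, hc]
      exact (hcoord _ hl hpre.le (e i)).symm
  have hg : Function.Bijective g :=
    ((ConcreteCategory.bijective_of_isIso κ).comp hbij).comp (MvPolynomial.renameEquiv Γ(X, W) σ).bijective
  rw [← hfg] at hg
  have h2 : Function.Bijective (((coordAlg E q hA).hom.app (op W)).hom ∘ (e2 ∘ e1)) := hg
  exact (Function.Bijective.of_comp_iff _ (e2.bijective.comp e1.bijective)).1 h2

include hA in
/-- The finite part is the vector bundle. -/
theorem exists_iso_spec [E.IsQuasicoherent] {r : ℕ} (hE : FlatMod.IsFinLocFreeOfRank r E)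
    (hP : KRR.IsProjBundle π (aug E) O1 q) :
    ∃ β : (finPart E q).toScheme ≅ A.spec, β.hom ≫ A.π = finProj E q := by
  obtain ⟨v, hv⟩ := Groth.Limits.RelSpecColimit.exists_isLift (finProj E q) (coordAlg E q hA)
  choose W e hW hxW he using fun x => Groth.LocFree.exists_affine_basis_ofRank hE x
  have hcov : ⨆ x : X, A.π ⁻¹ᵁ W x = ⊤ :=
    eq_top_iff.2 fun z _ => Opens.mem_iSup.2 ⟨A.π z, hxW _⟩
  haveI : IsIso v := (IsZariskiLocalAtTarget.iff_of_iSup_eq_top
    (P := MorphismProperty.isomorphisms Scheme.{u}) _ hcov).2 fun x => by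
    obtain ⟨haff, hbij⟩ := bijective_coordAlg E q hA hP (hW x) (he x)
    haveI : IsIso ((coordAlg E q hA).hom.app (op (W x))) := (ConcreteCategory.isIso_iff_bijective _).2 hbij
    haveI : IsIso (finProj E q ⁻¹ᵁ W x).toSpecΓ := haff.isoSpec.isIso_hom
    have h := hv (W x) (hW x)
    have hpre : v ⁻¹ᵁ (A.π ⁻¹ᵁ W x) = finProj E q ⁻¹ᵁ W x := by
      rw [← Scheme.Hom.comp_preimage, hv.comp_π]
    let ε := (finPart E q).toScheme.isoOfEq hpre
    have hr : (A.π ⁻¹ᵁ W x) = (A.ι (W x) (hW x)).opensRange := A.π_preimage (W x) (hW x)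
    let η := (A.ι (W x) (hW x)).isoOpensRange ≪≫ A.spec.isoOfEq hr.symm
    change IsIso (v ∣_ (A.π ⁻¹ᵁ W x))
    have key : v ∣_ (A.π ⁻¹ᵁ W x) = ε.hom ≫ (finProj E q ⁻¹ᵁ W x).toSpecΓ ≫
        Spec.map ((coordAlg E q hA).hom.app (op (W x))) ≫ η.hom := by
      rw [← cancel_mono (A.π ⁻¹ᵁ W x).ι, morphismRestrict_ι]
      simp only [Category.assoc, η, Iso.trans_hom, Scheme.isoOfEq_hom_ι, Scheme.Hom.isoOpensRange_hom_ι]
      rw [← h, ← Category.assoc, Scheme.isoOfEq_hom_ι]
    rw [key]
    let φ := (coordAlg E q hA).hom.app (op (W x))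
    haveI i2 : IsIso (Spec.map φ) := inferInstance
    exact IsIso.comp_isIso' (ε.isIso_hom) (IsIso.comp_isIso' ‹IsIso (finProj E q ⁻¹ᵁ W x).toSpecΓ›
      (IsIso.comp_isIso' i2 η.isIso_hom))
  exact ⟨asIso v, hv.comp_π⟩

end Groth.CycInter.Completion
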