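import Groth.Agent.CycInter.PbTensorCl
import Groth.Agent.RefRank.DualInv
import Groth.Agent.Duality.StalkHom
import Groth.Agent.CohBase.HomPull
import Mathlib.Algebra.Exact.Basic

/-!
Chern classes of dual bundles.
-/

universe u

set_option autoImplicit false

open CategoryTheory CategoryTheory.Limits AlgebraicGeometry
open Groth.RefRank Groth.Cycles

noncomputable section

namespace Groth.CycInter.PB

variable {X : Scheme.{u}} {δ : X → ℤ}

/-- The Chern operators depend only on the isomorphism class. -/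
theorem chernE_congr (hX : Cyc.IsSetup X δ) {E E' : X.Modules} {r r' : ℕ} (hr : r = r')
    (hE : FlatMod.IsFinLocFreeOfRank r E) (hE' : FlatMod.IsFinLocFreeOfRank r' E') (e : E ≅ E') (n : ℕ) :
    chernE hX hE n = chernE hX hE' n := by
  subst hr
  obtain ⟨S, ⟨F⟩⟩ := exists_split r hX hE
  refine AddMonoidHom.ext fun z => (show Function.Injective S.pull from S.inj) ?_
  rw [chernE_split hX hE S F, chernE_split hX hE' S (F.mapIso ((Scheme.Modules.pullback S.π).mapIso e)),
    Filt.ops_mapIso]

/-- A projective bundle as a splitting. -/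
def Bun.toSplit (B : Bun X δ) : Split X δ :=
  ⟨B.P, B.π, B.δP, B.r - 1, B.hX, B.hPs, B.flatπ, B.lftπ, B.relDim, B.hδ, B.pull_injective⟩

theorem isFinLocFreeOfRank_homSh_structure {E : X.Modules} {r : ℕ} (hE : FlatMod.IsFinLocFreeOfRank r E) :
    FlatMod.IsFinLocFreeOfRank r (RefHull.homSh E (Coh.structureModule X)) := by
  have h := Groth.LocFree.isFinLocFreeOfRank_homSh (a := r) (b' := 1) hE (Groth.LocFree.isFinLocFreeOfRank_unit X)
  rwa [mul_one] at h

theorem c1T_dual (hX : Cyc.IsSetup X δ) {L : X.Modules} (hL : PicF.IsInvertible L)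
    (hD : PicF.IsInvertible (RefHull.dual L)) : c1T hX hD = -c1T hX hL := by
  obtain ⟨e⟩ := Groth.RefRank.DualInv.exists_tensor_dual_iso hL
  have hT := Groth.PicAux.isInvertible_tensorMod hL hD
  have hO := Groth.LocFree.isInvertible_iff_ofRank_one.mpr (Groth.LocFree.isFinLocFreeOfRank_unit X)
  have h := c1T_tensor hX hL hD hT
  rw [c1T_iso hX hO hT e, c1T_structureModule hX hO] at h
  exact (neg_eq_of_add_eq_zero_right h.symm).symm

theorem toHomSh_inv {F G G' : X.Modules} (φ : G ≅ G') :
    Groth.CohTwo.SheafHomIso.toHomSh (Groth.CohTwo.SheafHomIso.evalHom F G ≫ φ.hom) ≫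
      Groth.CohTwo.SheafHomIso.toHomSh (Groth.CohTwo.SheafHomIso.evalHom F G' ≫ φ.inv) = 𝟙 _ := by
  refine (Groth.CohTwo.SheafHomIso.toHomSh_comp _ _).symm.trans (Eq.trans ?_
    Groth.CohTwo.SheafHomIso.toHomSh_eval)
  refine congrArg Groth.CohTwo.SheafHomIso.toHomSh ?_
  refine (Category.assoc _ _ _).symm.trans ((congrArg (· ≫ φ.inv)
    (Groth.CohTwo.SheafHomIso.map_toHomSh_eval _)).trans ?_)
  exact (Category.assoc _ _ _).trans ((congrArg (_ ≫ ·) φ.hom_inv_id).trans (Category.comp_id _))

/-- The sheaf Hom is functorial in isomorphisms of the target. -/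
def homShIsoRight (F : X.Modules) {G G' : X.Modules} (φ : G ≅ G') : RefHull.homSh F G ≅ RefHull.homSh F G' :=
  ⟨_, _, toHomSh_inv φ, toHomSh_inv φ.symm⟩

/-- The dual of a short exact sequence of bundles is short exact. -/
theorem shortExact_dual [IsLocallyNoetherian X] {S : ShortComplex X.Modules} (hS : S.ShortExact)
    (h₁ : FlatMod.IsFinLocFree S.X₁) (h₂ : FlatMod.IsFinLocFree S.X₂) (h₃ : FlatMod.IsFinLocFree S.X₃) :
    (Groth.Duality.StalkHom.homSeq S (Coh.structureModule X)).ShortExact := by
  refine Groth.Duality.StalkHom.shortExact_homSeq hS (KTheory.LocFree.isCoh h₁) (KTheory.LocFree.isCoh h₂)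
    (KTheory.LocFree.isCoh h₃) _ fun x ψ => ?_
  haveI := KTheory.LocFree.free_stalk h₃ x
  obtain ⟨hi, hs, he⟩ := Groth.Duality.StalkHom.exact_stalk hS x
  obtain ⟨sec, hsec⟩ := Module.projective_lifting_property (RefHull.stalkMapₗ S.g x) LinearMap.id hs
  obtain ⟨e, he'⟩ := he.splitSurjectiveEquiv hi ⟨sec, hsec⟩
  refine ⟨ψ ∘ₗ LinearMap.fst _ _ _ ∘ₗ e.toLinearMap, LinearMap.ext fun v => ?_⟩
  have h1 : RefHull.stalkMapₗ S.f x v = e.symm (v, 0) := LinearMap.congr_fun he'.1 v
  simp [h1]

theorem sum_signed {A : Type*} [AddCommGroup A] {f g : ℕ → (A →+ A)} (hc : ∀ i j w, f i (g j w) = g j (f i w))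
    (n : ℕ) (z : A) :
    ∑ i ∈ Finset.range (n + 1), (-1 : ℤ) ^ (n - i) • g (n - i) ((-1 : ℤ) ^ i • f i z) =
      (-1 : ℤ) ^ n • ∑ i ∈ Finset.range (n + 1), f (n - i) (g i z) := by
  conv_rhs => rw [← Finset.sum_range_reflect, Finset.smul_sum]
  refine Finset.sum_congr rfl fun i hi => ?_
  rw [Finset.mem_range] at hi
  rw [map_zsmul, smul_smul, ← pow_add, Nat.sub_add_cancel (by omega : i ≤ n),
    show n - (n + 1 - 1 - i) = i by omega, show n + 1 - 1 - i = n - i by omega, hc]

/-- The Chern classes of the dual. -/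
theorem chernE_dual : ∀ (r : ℕ) {X : Scheme.{u}} {δ : X → ℤ} (hX : Cyc.IsSetup X δ) {E : X.Modules}
    (hE : FlatMod.IsFinLocFreeOfRank r E) (n : ℕ) (z : Tot X δ),
    chernE hX (isFinLocFreeOfRank_homSh_structure hE) n z = (-1 : ℤ) ^ n • chernE hX hE n z := by
  intro r
  induction r with
  | zero =>
      intro X δ hX E hE n z
      rw [chernE, dif_neg (Nat.not_succ_le_zero 0), chernE, dif_neg (Nat.not_succ_le_zero 0)]
      rcases n with _ | n
      · simp [esymOp_zero]
      · rw [esymOp_of_lt _ (Nat.succ_pos n)]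
        simp
  | succ r ih =>
      intro X δ hX E hE n z
      obtain ⟨B, hBr, rfl⟩ := exists_bun hX (Nat.le_add_left 1 r) hE
      haveI := B.hP.epi
      haveI := B.hPs.1
      let S := B.toSplit
      have hE' : FlatMod.IsFinLocFreeOfRank (r + 1) ((Scheme.Modules.pullback B.π).obj B.E) :=
        Groth.LocFree.isFinLocFreeOfRank_pullback B.π hE
      have hS : (ShortComplex.mk (kernel.ι B.q) B.q (kernel.condition B.q)).ShortExact :=
        { exact := ShortComplex.exact_kernel B.q }
      have hK : FlatMod.IsFinLocFreeOfRank r (kernel B.q) :=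
        Groth.LocFree.isFinLocFreeOfRank_left hS hE' B.hP.invertible
      have hO := B.hO
      have hO1 := Groth.LocFree.isInvertible_iff_ofRank_one.mp hO
      have hD := Groth.RefRank.DualInv.isInvertible_dual hO
      have hD1 : FlatMod.IsFinLocFreeOfRank 1 (RefHull.homSh B.O1 (Coh.structureModule B.P)) :=
        isFinLocFreeOfRank_homSh_structure hO1
      have hS' := shortExact_dual hS (Groth.LocFree.isFinLocFree_of_rank hK)
        (Groth.LocFree.isFinLocFree_of_rank hE') (Groth.LocFree.isFinLocFree_of_rank hO1)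
      have hdual : FlatMod.IsFinLocFreeOfRank (1 + r)
          (RefHull.homSh ((Scheme.Modules.pullback B.π).obj B.E) (Coh.structureModule B.P)) := by
        rw [add_comm]; exact isFinLocFreeOfRank_homSh_structure hE'
      haveI := Groth.CohBase.HomPull.isIso_comp B.π (Groth.LocFree.isFinLocFree_of_rank hE)
        (Groth.LocFree.isFinLocFree_unit X)
      have hO' : Nonempty ((Scheme.Modules.pullback B.π).obj (Coh.structureModule X) ≅ Coh.structureModule B.P) :=
        (haveI := Groth.PicAux.isIso_pullUnit B.π; ⟨asIso (Groth.PicAux.pullUnit B.π)⟩)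
      obtain ⟨eO⟩ := hO'
      let e : (Scheme.Modules.pullback B.π).obj (RefHull.homSh B.E (Coh.structureModule X)) ≅
          RefHull.homSh ((Scheme.Modules.pullback B.π).obj B.E) (Coh.structureModule B.P) :=
        asIso (Groth.CohBase.HomPull.comp B.π B.E (Coh.structureModule X)) ≪≫
          homShIsoRight _ eO
      refine (show Function.Injective S.pull from S.inj) ?_
      rw [chernE_pull hX (isFinLocFreeOfRank_homSh_structure hE) S, map_zsmul, chernE_pull hX hE S,
        chernE_congr S.hP (add_comm r 1) (Groth.LocFree.isFinLocFreeOfRank_pullback S.π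
          (isFinLocFreeOfRank_homSh_structure hE)) hdual e]
      haveI := hS'.epi_g
      rw [@chernE_whitney _ _ S.hP _ _ _ _ _ hD1 hdual (isFinLocFreeOfRank_homSh_structure hK)
          (Groth.Duality.StalkHom.pre (Coh.structureModule B.P) B.q)
          (Groth.Duality.StalkHom.pre (Coh.structureModule B.P) (kernel.ι B.q))
          (Groth.Duality.StalkHom.homSeq (ShortComplex.mk (kernel.ι B.q) B.q (kernel.condition B.q))
            (Coh.structureModule B.P)).zero hS'.epi_g hS'.exact,
        @chernE_whitney _ _ S.hP _ _ _ _ _ hK (Groth.LocFree.isFinLocFreeOfRank_pullback S.π hE) hO1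
          (kernel.ι B.q) B.q (kernel.condition B.q) B.hP.epi hS.exact]
      have hline : ∀ (i : ℕ) (w : Tot B.P B.δP),
          chernE S.hP hD1 i w = (-1 : ℤ) ^ i • chernE S.hP hO1 i w := fun i w => by
        match i with
        | 0 => rw [chernE_zero, chernE_zero, pow_zero, one_smul]
        | 1 =>
            rw [chernE_one_invertible S.hP hD hD1, chernE_one_invertible S.hP hO hO1]
            refine (DFunLike.congr_fun (c1T_dual B.hPs hO hD) w).trans ?_
            rw [pow_one, neg_one_smul]
            rfl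
        | i + 2 =>
            rw [chernE_of_lt S.hP hD1 (by omega), chernE_of_lt S.hP hO1 (by omega), AddMonoidHom.zero_apply,
              smul_zero]
      simp only [ih S.hP hK, hline]
      exact sum_signed (fun i j w => chernE_comm S.hP hO1 hK i j w) n _

end Groth.CycInter.PB
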