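import Groth.Agent.CycInter.PbTensor
import Mathlib.Data.Nat.Choose.Basic
import Mathlib.Tactic.Module
import Mathlib.Tactic.LinearCombination

/-!
Symmetric functions of shifted families and of sums of two families, in low degree.
-/

set_option autoImplicit false

namespace Groth.CycInter.PB

variable {A : Type*} [AddCommGroup A]

theorem iterOp_commute {x g : A →+ A} (h : ∀ w, g (x w) = x (g w)) : ∀ (j : ℕ) (w : A),
    g (iterOp x j w) = iterOp x j (g w)
  | 0, w => rfl
  | j + 1, w => (h _).trans (congrArg x (iterOp_commute h j w))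

/-- Symmetric functions of a family shifted by `x`. -/
theorem esymOp_shift (f : ℕ → (A →+ A)) (x : A →+ A) : ∀ (r : ℕ), (∀ a < r, ∀ w, f a (x w) = x (f a w)) →
    ∀ (i : ℕ) (z : A), esymOp (fun a => f a + x) r i z =
      ∑ j ∈ Finset.range (i + 1), ((r - (i - j)).choose j : ℤ) • iterOp x j (esymOp f r (i - j) z)
  | 0, _, 0, z => by simp [esymOp, iterOp]
  | 0, _, i + 1, z => by
      refine (Finset.sum_eq_zero fun j hj => ?_).symm
      rw [Finset.mem_range] at hj
      rcases Nat.lt_or_ge j (i + 1) with h | h
      · rw [esymOp_of_lt f (show 0 < i + 1 - j by omega), AddMonoidHom.zero_apply, map_zero, smul_zero]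
      · rw [show j = i + 1 by omega, Nat.sub_self, Nat.zero_sub, Nat.choose_zero_succ, Nat.cast_zero, zero_smul]
  | r + 1, _, 0, z => by simp [esymOp_zero, iterOp]
  | r + 1, h, i + 1, z => by
      have hr := fun a (ha : a < r) => h a (Nat.lt_succ_of_lt ha)
      rw [esymOp_succ, AddMonoidHom.add_apply, AddMonoidHom.comp_apply, esymOp_shift f x r hr (i + 1),
        esymOp_shift f x r hr i, AddMonoidHom.add_apply]
      have e : ∀ j ∈ Finset.range (i + 1 + 1),
          ((r + 1 - (i + 1 - j)).choose j : ℤ) • iterOp x j (esymOp f (r + 1) (i + 1 - j) z) =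
            ((r - (i + 1 - j)).choose j : ℤ) • iterOp x j (esymOp f r (i + 1 - j) z) +
              ((if j = 0 then 0 else ((r - (i + 1 - j)).choose (j - 1) : ℤ)) • iterOp x j (esymOp f r (i + 1 - j) z) +
                if j ≤ i then ((r - (i - j)).choose j : ℤ) • f r (iterOp x j (esymOp f r (i - j) z)) else 0) := by
        intro j hj
        rw [Finset.mem_range] at hj
        have hc : ((r + 1 - (i + 1 - j)).choose j : ℤ) • iterOp x j (esymOp f r (i + 1 - j) z) =
            ((r - (i + 1 - j)).choose j : ℤ) • iterOp x j (esymOp f r (i + 1 - j) z) +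
              (if j = 0 then 0 else ((r - (i + 1 - j)).choose (j - 1) : ℤ)) • iterOp x j (esymOp f r (i + 1 - j) z) := by
          rcases Nat.lt_or_ge r (i + 1 - j) with hlt | hge
          · rw [esymOp_of_lt f hlt, AddMonoidHom.zero_apply, map_zero]; simp
          rw [← add_smul]
          congr 1
          rcases j with _ | j
          · simp
          · rw [if_neg (Nat.succ_ne_zero j), Nat.add_sub_cancel,
              show r + 1 - (i + 1 - (j + 1)) = r - (i + 1 - (j + 1)) + 1 by omega, Nat.choose_succ_succ,
              Nat.cast_add, add_comm]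
        rcases Nat.lt_or_ge i j with hij | hij
        · rw [show i + 1 - j = 0 by omega, esymOp_zero, if_neg (show ¬ j ≤ i by omega), add_zero]
          rw [show i + 1 - j = 0 by omega, esymOp_zero] at hc
          simpa only [esymOp_zero] using hc
        · rw [show esymOp f (r + 1) (i + 1 - j) z =
              esymOp f r (i + 1 - j) z + f r (esymOp f r (i - j) z) by
            rw [show i + 1 - j = (i - j) + 1 by omega, esymOp_succ]; rfl,
            map_add, smul_add, hc, if_pos hij, ← iterOp_commute (h r (Nat.lt_succ_self r)) j,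
            show r + 1 - (i + 1 - j) = r - (i - j) by omega, add_assoc]
      rw [Finset.sum_congr rfl e, Finset.sum_add_distrib, Finset.sum_add_distrib]
      congr 1
      rw [add_comm]
      congr 1
      · rw [Finset.sum_range_succ' _ (i + 1), if_pos rfl, zero_smul, add_zero, map_sum]
        refine Finset.sum_congr rfl fun j _ => ?_
        rw [map_zsmul, if_neg (Nat.succ_ne_zero j), Nat.add_sub_cancel, Nat.add_sub_add_right]
        rfl
      · rw [Finset.sum_range_succ _ (i + 1), if_neg (by omega), add_zero, map_sum]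
        refine Finset.sum_congr rfl fun j hj => ?_
        rw [Finset.mem_range] at hj
        rw [if_pos (by omega), map_zsmul]

theorem esymOp_append_one (f : ℕ → (A →+ A)) (a b : ℕ) (z : A) :
    esymOp f (a + b) 1 z = esymOp f a 1 z + esymOp (fun i => f (a + i)) b 1 z := by
  rw [esymOp_append, Finset.sum_range_succ, Finset.sum_range_one]
  simp [esymOp_zero, add_comm]

theorem esymOp_append_two (f : ℕ → (A →+ A)) (a b : ℕ) (z : A) :
    esymOp f (a + b) 2 z =
      esymOp f a 2 z + esymOp (fun i => f (a + i)) b 1 (esymOp f a 1 z) + esymOp (fun i => f (a + i)) b 2 z := by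
  rw [esymOp_append, Finset.sum_range_succ, Finset.sum_range_succ, Finset.sum_range_one]
  simp [esymOp_zero]
  abel

theorem esymOp_prodOps_one (f g : ℕ → (A →+ A)) (r : ℕ) (hfg : ∀ a < r, ∀ b, ∀ w, f a (g b w) = g b (f a w)) :
    ∀ (s : ℕ) (z : A), esymOp (prodOps f g r s) (s * r) 1 z =
      (s : ℤ) • esymOp f r 1 z + (r : ℤ) • esymOp g s 1 z
  | 0, z => by simp [esymOp]
  | s + 1, z => by
      have e1 : esymOp (prodOps f g r (s + 1)) (s * r) 1 = esymOp (prodOps f g r s) (s * r) 1 :=
        esymOp_congr fun i hi => if_pos hi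
      have e2 : esymOp (fun i => prodOps f g r (s + 1) (s * r + i)) r 1 = esymOp (fun i => f i + g s) r 1 :=
        esymOp_congr fun i _ => (if_neg (by omega)).trans (by rw [Nat.add_sub_cancel_left])
      rw [Nat.succ_mul, esymOp_append_one, e1, e2, esymOp_prodOps_one f g r hfg s,
        esymOp_shift f (g s) r (fun a ha => hfg a ha s), Finset.sum_range_succ, Finset.sum_range_one,
        esymOp_succ g s 0, AddMonoidHom.add_apply]
      simp only [Nat.sub_zero, Nat.sub_self, esymOp_zero, AddMonoidHom.id_apply, AddMonoidHom.comp_apply,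
        Nat.choose_zero_right, Nat.choose_one_right, iterOp, Nat.cast_one, one_smul, Nat.cast_add]
      module

theorem esymOp_prodOps_two (f g : ℕ → (A →+ A)) (r : ℕ) (hfg : ∀ a < r, ∀ b, ∀ w, f a (g b w) = g b (f a w))
    (hgg : ∀ a b, ∀ w, g a (g b w) = g b (g a w)) :
    ∀ (s : ℕ) (z : A), esymOp (prodOps f g r s) (s * r) 2 z =
      (r : ℤ) • esymOp g s 2 z + (s : ℤ) • esymOp f r 2 z + (r.choose 2 : ℤ) • esymOp g s 1 (esymOp g s 1 z) +
        ((r * s : ℕ) - 1 : ℤ) • esymOp f r 1 (esymOp g s 1 z) + (s.choose 2 : ℤ) • esymOp f r 1 (esymOp f r 1 z)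
  | 0, z => by simp [esymOp]
  | s + 1, z => by
      have e1 : ∀ n, esymOp (prodOps f g r (s + 1)) (s * r) n = esymOp (prodOps f g r s) (s * r) n := fun n =>
        esymOp_congr fun i hi => if_pos hi
      have e2 : ∀ n, esymOp (fun i => prodOps f g r (s + 1) (s * r + i)) r n = esymOp (fun i => f i + g s) r n :=
        fun n => esymOp_congr fun i _ => (if_neg (by omega)).trans (by rw [Nat.add_sub_cancel_left])
      have hx : ∀ w, esymOp f r 1 (g s w) = g s (esymOp f r 1 w) := fun w =>
        esymOp_commute (fun a ha w' => hfg a ha s w') 1 w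
      have hG : ∀ w, esymOp g s 1 (g s w) = g s (esymOp g s 1 w) := fun w =>
        esymOp_commute (fun a _ w' => hgg a s w') 1 w
      have hGE : ∀ w, esymOp f r 1 (esymOp g s 1 w) = esymOp g s 1 (esymOp f r 1 w) := fun w =>
        esymOp_commute (fun a ha w' => (esymOp_commute (fun b _ v => (hfg a ha b v).symm) 1 w').symm) 1 w
      rw [Nat.succ_mul, esymOp_append_two, e1, e1, e2, e2, esymOp_prodOps_two f g r hfg hgg s,
        esymOp_prodOps_one f g r hfg s, esymOp_shift f (g s) r (fun a ha => hfg a ha s),
        esymOp_shift f (g s) r (fun a ha => hfg a ha s), esymOp_succ g s 1, esymOp_succ g s 0]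
      simp only [Finset.sum_range_succ, Finset.sum_range_zero, zero_add, Nat.sub_zero, Nat.sub_self, esymOp_zero,
        AddMonoidHom.id_apply, AddMonoidHom.comp_apply, AddMonoidHom.add_apply, Nat.choose_zero_right,
        Nat.choose_one_right, iterOp, Nat.cast_one, one_smul, map_add, map_zsmul, hx, hG, hGE,
        Nat.reduceSub, Nat.cast_add, Nat.cast_mul]
      have hs : ((s + 1).choose 2 : ℤ) = s + s.choose 2 := by
        rw [Nat.choose_succ_succ, Nat.choose_one_right, Nat.cast_add]
      have hr : (r : ℤ) * r = r + 2 * r.choose 2 := by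
        have : ∀ n : ℕ, (n : ℤ) * n = n + 2 * n.choose 2 := fun n => by
          induction n with
          | zero => simp
          | succ n ih => rw [Nat.choose_succ_succ, Nat.choose_one_right]; push_cast; linear_combination ih
        exact this r
      rw [hs]
      rcases Nat.eq_zero_or_pos r with rfl | hr0
      · simp [esymOp]
      rw [Nat.cast_sub hr0]
      linear_combination (norm := module) (congrArg (fun c : ℤ => c • g s (esymOp g s 1 z)) hr)

end Groth.CycInter.PB
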