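import Mathlib.Algebra.BigOperators.Group.Finset.Basic
import Mathlib.Algebra.BigOperators.Fin
import Mathlib.Algebra.Module.Basic
import Mathlib.Tactic.Abel
import Mathlib.Tactic.Ring
import Mathlib.Data.Finset.Powerset
import Mathlib.Algebra.Group.Hom.Basic

/-!
Elementary symmetric functions of a sequence of endomorphisms, by recursion.
-/

set_option autoImplicit false

namespace Groth.CycInter.PB

variable {A P : Type*} [AddCommGroup A] [AddCommGroup P]

/-- The elementary symmetric function of degree `n` of the first `j` endomorphisms. -/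
def esymOp (f : ℕ → (A →+ A)) : ℕ → ℕ → (A →+ A)
  | _, 0 => AddMonoidHom.id A
  | 0, _ + 1 => 0
  | j + 1, n + 1 => esymOp f j (n + 1) + (f j).comp (esymOp f j n)

theorem esymOp_zero (f : ℕ → (A →+ A)) (j : ℕ) : esymOp f j 0 = AddMonoidHom.id A := by
  cases j <;> simp [esymOp]

theorem esymOp_succ (f : ℕ → (A →+ A)) (j n : ℕ) :
    esymOp f (j + 1) (n + 1) = esymOp f j (n + 1) + (f j).comp (esymOp f j n) := rfl

theorem esymOp_of_lt (f : ℕ → (A →+ A)) : ∀ {j n : ℕ}, j < n → esymOp f j n = 0
  | 0, n + 1, _ => rfl
  | j + 1, n + 1, h => by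
      rw [esymOp_succ, esymOp_of_lt f (show j < n + 1 by omega), esymOp_of_lt f (show j < n by omega),
        AddMonoidHom.comp_zero, add_zero]

theorem esymOp_congr {f g : ℕ → (A →+ A)} : ∀ {j n : ℕ}, (∀ i < j, f i = g i) → esymOp f j n = esymOp g j n
  | j, 0, _ => by rw [esymOp_zero, esymOp_zero]
  | 0, _ + 1, _ => rfl
  | j + 1, n + 1, h => by
      rw [esymOp_succ, esymOp_succ, esymOp_congr (n := n + 1) fun i hi => h i (by omega),
        esymOp_congr (n := n) fun i hi => h i (by omega), h j (by omega)]

/-- The product of the differences `H - f i`. -/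
def diffProd (H : P →+ P) (f : ℕ → (P →+ P)) : ℕ → (P →+ P)
  | 0 => AddMonoidHom.id P
  | j + 1 => (H - f j).comp (diffProd H f j)

/-- The powers of an endomorphism. -/
def iterOp (H : P →+ P) : ℕ → (P →+ P)
  | 0 => AddMonoidHom.id P
  | j + 1 => H.comp (iterOp H j)

theorem diffProd_apply (H : P →+ P) (f : ℕ → (P →+ P)) (g : ℕ → (A →+ A)) (π : A →+ P) :
    ∀ (j : ℕ), (∀ i < j, ∀ z, f i (π z) = π (g i z)) → (∀ i < j, ∀ w, f i (H w) = H (f i w)) → ∀ z,
      diffProd H f j (π z) =
        (-1 : ℤ) ^ j • ∑ i ∈ Finset.range (j + 1), (-1 : ℤ) ^ i • iterOp H i (π (esymOp g j (j - i) z)) := by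
  intro j
  induction j with
  | zero =>
      intro _ _ z
      simp [diffProd, iterOp, esymOp]
  | succ j ih =>
      intro h1 h2 z
      have hpow : ∀ (i : ℕ) (w : P), f j (iterOp H i w) = iterOp H i (f j w) := by
        intro i
        induction i with
        | zero => intro w; rfl
        | succ i ih' => intro w; exact (h2 j (by omega) _).trans (congrArg H (ih' w))
      set R := ∑ i ∈ Finset.range (j + 1), (-1 : ℤ) ^ i • iterOp H i (π (esymOp g j (j - i) z)) with hR
      have e : ∑ i ∈ Finset.range (j + 1 + 1), (-1 : ℤ) ^ i • iterOp H i (π (esymOp g (j + 1) (j + 1 - i) z)) =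
          f j R - H R := by
        rw [Finset.sum_range_succ, Nat.sub_self, esymOp_zero]
        have e1 : ∀ i ∈ Finset.range (j + 1),
            (-1 : ℤ) ^ i • iterOp H i (π (esymOp g (j + 1) (j + 1 - i) z)) =
              (-1 : ℤ) ^ i • iterOp H i (π (esymOp g j (j + 1 - i) z)) +
                (-1 : ℤ) ^ i • f j (iterOp H i (π (esymOp g j (j - i) z))) := fun i hi => by
          rw [Finset.mem_range] at hi
          rw [show j + 1 - i = (j - i) + 1 by omega, esymOp_succ, AddMonoidHom.add_apply,
            AddMonoidHom.comp_apply, map_add, map_add, smul_add, ← h1 j (by omega), ← hpow]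
        rw [Finset.sum_congr rfl e1, Finset.sum_add_distrib]
        have e2 : ∑ i ∈ Finset.range (j + 1), (-1 : ℤ) ^ i • f j (iterOp H i (π (esymOp g j (j - i) z))) = f j R := by
          rw [hR, map_sum]
          exact Finset.sum_congr rfl fun i _ => (map_zsmul _ _ _).symm
        have e3 : ∑ i ∈ Finset.range (j + 1), (-1 : ℤ) ^ i • iterOp H i (π (esymOp g j (j + 1 - i) z)) +
            (-1 : ℤ) ^ (j + 1) • iterOp H (j + 1) (π z) = - H R := by
          have e4 : ∑ i ∈ Finset.range (j + 1), (-1 : ℤ) ^ i • iterOp H i (π (esymOp g j (j + 1 - i) z)) +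
              (-1 : ℤ) ^ (j + 1) • iterOp H (j + 1) (π z) =
              ∑ i ∈ Finset.range (j + 1 + 1), (-1 : ℤ) ^ i • iterOp H i (π (esymOp g j (j + 1 - i) z)) := by
            rw [Finset.sum_range_succ _ (j + 1), Nat.sub_self, esymOp_zero]
            rfl
          rw [e4, Finset.sum_range_succ', Nat.sub_zero, esymOp_of_lt g (show j < j + 1 by omega),
            AddMonoidHom.zero_apply, map_zero, map_zero, smul_zero, add_zero, hR, map_sum, ← Finset.sum_neg_distrib]
          refine Finset.sum_congr rfl fun i _ => ?_
          rw [show j + 1 - (i + 1) = j - i by omega, map_zsmul, pow_succ, mul_neg_one, neg_smul]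
          rfl
        rw [e2, AddMonoidHom.id_apply, add_right_comm, e3]
        abel
      rw [e, diffProd, AddMonoidHom.comp_apply,
        ih (fun i hi => h1 i (by omega)) (fun i hi => h2 i (by omega)) z, ← hR, map_zsmul,
        AddMonoidHom.sub_apply, pow_succ, mul_neg_one, neg_smul, ← smul_neg, neg_sub]

/-- Elementary symmetric functions of a concatenation. -/
theorem esymOp_append (f : ℕ → (A →+ A)) (a : ℕ) : ∀ (b n : ℕ) (z : A),
    esymOp f (a + b) n z =
      ∑ i ∈ Finset.range (n + 1), esymOp (fun i => f (a + i)) b (n - i) (esymOp f a i z) := by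
  intro b
  induction b with
  | zero =>
      intro n z
      rw [Finset.sum_range_succ, Nat.sub_self, esymOp_zero, AddMonoidHom.id_apply,
        Finset.sum_eq_zero fun i hi => ?_, zero_add]
      · rfl
      rw [Finset.mem_range] at hi
      rw [esymOp_of_lt _ (show 0 < n - i by omega), AddMonoidHom.zero_apply]
  | succ b ih =>
      intro n z
      rcases n with _ | n
      · simp [esymOp_zero]
      rw [show a + (b + 1) = a + b + 1 by omega, esymOp_succ, AddMonoidHom.add_apply, AddMonoidHom.comp_apply,
        ih, ih, map_sum, Finset.sum_range_succ _ (n + 1), Finset.sum_range_succ _ (n + 1), Nat.sub_self,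
        esymOp_zero, esymOp_zero, add_right_comm, ← Finset.sum_add_distrib]
      congr 1
      refine Finset.sum_congr rfl fun i hi => ?_
      rw [Finset.mem_range] at hi
      rw [show n + 1 - i = (n - i) + 1 by omega, esymOp_succ]
      rfl

/-- The elementary symmetric functions as sums over subsets, for values on increasing products. -/
theorem esymOp_eq_sum_powerset {r : ℕ} (f : ℕ → (A →+ A)) (κ : Finset (Fin r) → A)
    (hκ : ∀ (I : Finset (Fin r)) (i : Fin r), (∀ i' ∈ I, i' < i) → κ (insert i I) = f i (κ I)) :
    ∀ (j : ℕ), j ≤ r → ∀ n : ℕ, esymOp f j n (κ ∅) =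
      ∑ I ∈ Finset.powersetCard n (Finset.univ.filter fun i : Fin r => (i : ℕ) < j), κ I := by
  intro j
  induction j with
  | zero =>
      intro _ n
      rw [Finset.filter_false_of_mem (fun i _ => Nat.not_lt_zero _)]
      rcases n with _ | n
      · simp [esymOp]
      · rw [Finset.powersetCard_eq_empty.mpr (by simp), Finset.sum_empty]
        rfl
  | succ j ih =>
      intro hj n
      rcases n with _ | n
      · simp [esymOp_zero]
      let jj : Fin r := ⟨j, by omega⟩
      have hs : Finset.univ.filter (fun i : Fin r => (i : ℕ) < j + 1) =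
          insert jj (Finset.univ.filter fun i : Fin r => (i : ℕ) < j) := by
        ext i
        simp only [Finset.mem_filter, Finset.mem_univ, true_and, Finset.mem_insert]
        constructor
        · intro h
          rcases Nat.lt_or_eq_of_le (Nat.lt_succ_iff.mp h) with h' | h'
          · exact Or.inr h'
          · exact Or.inl (Fin.ext h')
        · rintro (rfl | h)
          · exact Nat.lt_succ_self j
          · omega
      have hnot : jj ∉ Finset.univ.filter fun i : Fin r => (i : ℕ) < j := by simp [jj]
      rw [hs, Finset.powersetCard_succ_insert hnot, Finset.sum_union ?_, Finset.sum_image ?_, esymOp_succ,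
        AddMonoidHom.add_apply, AddMonoidHom.comp_apply, ih (by omega), ih (by omega), map_sum]
      · congr 1
        refine Finset.sum_congr rfl fun I hI => (hκ I jj fun i hi => ?_).symm
        exact Fin.lt_def.mpr (Finset.mem_filter.mp ((Finset.mem_powersetCard.mp hI).1 hi)).2
      · intro s hs' t ht' h
        have hns : jj ∉ s := fun h' => hnot ((Finset.mem_powersetCard.mp hs').1 h')
        have hnt : jj ∉ t := fun h' => hnot ((Finset.mem_powersetCard.mp ht').1 h')
        rw [← Finset.erase_insert hns, ← Finset.erase_insert hnt, h]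
      · refine Finset.disjoint_left.mpr fun s hs' hs'' => ?_
        obtain ⟨t, -, rfl⟩ := Finset.mem_image.mp hs''
        exact hnot ((Finset.mem_powersetCard.mp hs').1 (Finset.mem_insert_self _ _))

end Groth.CycInter.PB
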