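import Groth.Agent.CycInter.PbFiltStep
import Groth.Agent.CycInter.PbEsymm
import Groth.Agent.QCohMod.Stalk

/-!
Filtrations with invertible quotients and the relation satisfied by a quotient line bundle.
-/

universe u

set_option autoImplicit false

open CategoryTheory CategoryTheory.Limits AlgebraicGeometry
open Groth.RefRank Groth.Cycles

noncomputable section

namespace Groth.CycInter.PB

variable {T : Scheme.{u}}

theorem stalkMap_surjective {M N : T.Modules} (φ : M ⟶ N) [Epi φ] (y : T) :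
    Function.Surjective (RefHull.stalkMapₗ φ y) :=
  (Groth.QCohMod.epi_iff_stalk φ).mp inferInstance y

theorem stalkMap_comp_apply {M N K : T.Modules} (φ : M ⟶ N) (ψ : N ⟶ K) (y : T) (v : M.presheaf.stalk y) :
    RefHull.stalkMapₗ (φ ≫ ψ) y v = RefHull.stalkMapₗ ψ y (RefHull.stalkMapₗ φ y v) := by
  show (Groth.QCohMod.stalk y).map (φ ≫ ψ) v = _
  rw [Functor.map_comp]
  rfl

theorem exists_preimage_of_exact {M N K : T.Modules} (φ : M ⟶ N) (ψ : N ⟶ K) (w : φ ≫ ψ = 0)
    (h : (ShortComplex.mk φ ψ w).Exact) (y : T) {v : N.presheaf.stalk y}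
    (hv : RefHull.stalkMapₗ ψ y v = 0) : ∃ u, RefHull.stalkMapₗ φ y u = v :=
  (ShortComplex.ab_exact_iff _).mp ((Groth.QCohMod.exact_iff_stalk _).mp h y) v hv

variable {δ : T → ℤ}

/-- The classes of cycles supported in `Z`. -/
def suppSub (T : Scheme.{u}) (δ : T → ℤ) (Z : Set T) : AddSubgroup (Tot T δ) :=
  AddSubgroup.closure {w | ∃ (k : ℤ) (z : AlgebraicCycle T ℤ) (hz : z ∈ Cyc.Zk T δ k),
    (∀ y, z y ≠ 0 → y ∈ Z) ∧ w = tcl z hz}

theorem mem_suppSub_univ (w : Tot T δ) : w ∈ suppSub T δ Set.univ := by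
  induction w using DirectSum.induction_on with
  | zero => exact zero_mem _
  | of k x =>
      obtain ⟨⟨α, hα⟩, rfl⟩ := QuotientAddGroup.mk_surjective x
      exact AddSubgroup.subset_closure ⟨k, α, hα, fun _ _ => trivial, rfl⟩
  | add x y hx hy => exact add_mem hx hy

theorem eq_zero_of_mem_suppSub {Z : Set T} (hZ : Z = ∅) {w : Tot T δ} (hw : w ∈ suppSub T δ Z) : w = 0 := by
  refine AddSubgroup.closure_induction (p := fun w _ => w = 0) ?_ rfl (fun a b _ _ ha hb => by rw [ha, hb, add_zero])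
    (fun a _ ha => by rw [ha, neg_zero]) hw
  rintro _ ⟨k, z, hz, hs, rfl⟩
  have h0 : z = 0 := DFunLike.ext _ _ fun y => by_contra fun h => by simpa [hZ] using hs y h
  exact (tcl_congr rfl h0 hz fun _ _ => rfl).trans (tcl_zero _)

theorem suppSub_mono {Z Z' : Set T} (h : Z ⊆ Z') : suppSub T δ Z ≤ suppSub T δ Z' :=
  AddSubgroup.closure_mono fun _ ⟨k, z, hz, hs, e⟩ => ⟨k, z, hz, fun y hy => h (hs y hy), e⟩

theorem mem_suppSub_step {M L O : T.Modules} {φ : M ⟶ O} {b : M ⟶ L} (hO : PicF.IsInvertible O)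
    (hL : PicF.IsInvertible L) [Epi b] (hT : Cyc.IsSetup T δ) {Z : Set T} (hZ : ∀ y ∈ Z, FibreFactors φ b y)
    (hZspec : ∀ ξ y, ξ ⤳ y → ξ ∈ Z → y ∈ Z) {w : Tot T δ} (hw : w ∈ suppSub T δ Z) :
    (c1T hT hO - c1T hT hL) w ∈ suppSub T δ (Z ∩ vanishSet φ) := by
  refine AddSubgroup.closure_induction
    (p := fun w _ => (c1T hT hO - c1T hT hL) w ∈ suppSub T δ (Z ∩ vanishSet φ)) ?_
    (by rw [map_zero]; exact zero_mem _) (fun a b _ _ ha hb => by rw [map_add]; exact add_mem ha hb)
    (fun a _ ha => by rw [map_neg]; exact neg_mem ha) hw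
  rintro _ ⟨k, z, hz, hs, rfl⟩
  obtain ⟨z', hz', e, hs'⟩ := exists_step hO hL (stalkMap_surjective b) hT hZ hZspec hz hs
  rw [AddMonoidHom.sub_apply, e]
  exact AddSubgroup.subset_closure ⟨_, z', hz', hs', rfl⟩

/-- A filtration with invertible quotients, built from the bottom. -/
inductive Filt : T.Modules → ℕ → Type (u + 1)
  | zero {E : T.Modules} (h : IsZero E) : Filt E 0
  | step {M E L : T.Modules} {r : ℕ} (F : Filt M r) (a : M ⟶ E) (b : E ⟶ L) (hL : PicF.IsInvertible L)
      (hab : a ≫ b = 0) (hepi : Epi b) (hex : (ShortComplex.mk a b hab).Exact) : Filt E (r + 1)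

/-- The first Chern classes of the quotients. -/
def Filt.ops (hT : Cyc.IsSetup T δ) : ∀ {E : T.Modules} {r : ℕ}, Filt E r → ℕ → (Tot T δ →+ Tot T δ)
  | _, _, .zero _, _ => 0
  | _, r + 1, .step F _ _ hL _ _ _, i => if i = r then c1T hT hL else F.ops hT i

theorem Filt.ops_step_lt (hT : Cyc.IsSetup T δ) {M E L : T.Modules} {r : ℕ} (F : Filt M r) (a : M ⟶ E)
    (b : E ⟶ L) (hL : PicF.IsInvertible L) (hab : a ≫ b = 0) (hepi : Epi b)
    (hex : (ShortComplex.mk a b hab).Exact) {i : ℕ} (hi : i < r) :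
    (Filt.step F a b hL hab hepi hex).ops hT i = F.ops hT i := by
  rw [Filt.ops, if_neg (by omega)]

/-- A filtration of an isomorphic bundle. -/
def Filt.mapIso : ∀ {E E' : T.Modules} {r : ℕ}, Filt E r → (E ≅ E') → Filt E' r
  | _, _, _, .zero h, e => .zero (h.of_iso e.symm)
  | _, _, _, .step F a b hL hab hepi hex, e =>
      haveI := hepi
      .step F (a ≫ e.hom) (e.inv ≫ b) hL (by simp [hab]) (epi_comp _ _)
        (ShortComplex.exact_of_iso
          (ShortComplex.isoMk (S₁ := ShortComplex.mk a b hab) (Iso.refl _) e (Iso.refl _) (by simp) (by simp)) hex)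

theorem Filt.ops_mapIso (hT : Cyc.IsSetup T δ) {E E' : T.Modules} {r : ℕ} (F : Filt E r) (e : E ≅ E') :
    (F.mapIso e).ops hT = F.ops hT := by
  cases F <;> rfl

theorem diffProd_congr {P : Type*} [AddCommGroup P] (H : P →+ P) {f g : ℕ → (P →+ P)} :
    ∀ {j : ℕ}, (∀ i < j, f i = g i) → diffProd H f j = diffProd H g j
  | 0, _ => rfl
  | j + 1, h => by rw [diffProd, diffProd, diffProd_congr H fun i hi => h i (by omega), h j (by omega)]

/-- The product of the differences moves classes into the vanishing locus of `ψ`. -/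
theorem Filt.mem_suppSub (hT : Cyc.IsSetup T δ) {O : T.Modules} (hO : PicF.IsInvertible O) {Z : Set T}
    (hZ : ∀ ξ y, ξ ⤳ y → ξ ∈ Z → y ∈ Z) {w : Tot T δ} (hw : w ∈ suppSub T δ Z) {E : T.Modules} {r : ℕ}
    (F : Filt E r) : ∀ ψ : E ⟶ O,
      diffProd (c1T hT hO) (F.ops hT) r w ∈ suppSub T δ (Z ∩ vanishSet ψ) := by
  induction F with
  | @zero E h =>
      intro ψ
      refine suppSub_mono ?_ hw
      intro y hy
      refine ⟨hy, fun v => ?_⟩
      rw [show ψ = 0 from h.eq_of_src _ _, show RefHull.stalkMapₗ (0 : E ⟶ O) y v = 0 from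
        congr(($(Functor.map_zero (Groth.QCohMod.stalk y) _ _)).hom v)]
      exact Submodule.Quotient.mk_zero _
  | @step M E L r F a b hL hab hepi hex ih =>
      intro ψ
      have hs : ∀ ξ y, ξ ⤳ y → ξ ∈ Z ∩ vanishSet (a ≫ ψ) → y ∈ Z ∩ vanishSet (a ≫ ψ) :=
        fun ξ y h hξ => ⟨hZ ξ y h hξ.1, specializes_vanishSet hO h hξ.2⟩
      have hf : ∀ y ∈ Z ∩ vanishSet (a ≫ ψ), FibreFactors ψ b y := fun y hy v hv => by
        obtain ⟨u, rfl⟩ := exists_preimage_of_exact a b hab hex y hv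
        rw [← stalkMap_comp_apply]
        exact hy.2 u
      have h1 := mem_suppSub_step hO hL hT hf hs (ih (a ≫ ψ))
      rw [diffProd, Filt.ops, if_pos rfl, AddMonoidHom.comp_apply,
        diffProd_congr (c1T hT hO) fun i hi => F.ops_step_lt hT a b hL hab hepi hex hi]
      refine suppSub_mono ?_ h1
      intro y hy
      exact ⟨hy.1.1, hy.2⟩

/-- An epimorphism to an invertible module does not vanish on any fibre. -/
theorem vanishSet_eq_empty {E O : T.Modules} (hO : PicF.IsInvertible O) (ψ : E ⟶ O) [Epi ψ] :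
    vanishSet ψ = ∅ := by
  refine Set.eq_empty_iff_forall_notMem.mpr fun y hy => ?_
  obtain ⟨v, hv⟩ := stalkMap_surjective ψ y (bas hO y)
  exact fmk_ne_zero_of_isStalkBasis (bas_spec hO y) (hv ▸ hy v)

/-- The inverse image of a filtration. -/
def Filt.pull {Y : Scheme.{u}} (f : Y ⟶ T) : ∀ {E : T.Modules} {r : ℕ}, Filt E r →
    Filt ((Scheme.Modules.pullback f).obj E) r
  | _, _, .zero h => .zero ((Scheme.Modules.pullback f).map_isZero h)
  | _, _, .step F a b hL hab hepi hex =>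
      .step (F.pull f) ((Scheme.Modules.pullback f).map a) ((Scheme.Modules.pullback f).map b)
        (Groth.PicAux.isInvertible_pullback f hL) (by rw [← Functor.map_comp, hab, Functor.map_zero])
        (by haveI := hepi; infer_instance)
        (hex.map_of_epi_of_preservesCokernel (Scheme.Modules.pullback f) hepi inferInstance)

end Groth.CycInter.PB
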