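import Groth.Agent.CycInter.PbTot
import Groth.Agent.Cycles.SecDiv

/-!
One step of a filtration: the difference of two first Chern classes moves a cycle into a smaller locus.
-/

universe u

set_option autoImplicit false

open CategoryTheory AlgebraicGeometry IsLocalRing
open Groth.RefRank Groth.Cycles

noncomputable section

namespace Groth.CycInter.PB

variable {T : Scheme.{u}} {M L O : T.Modules}

/-- The points at which the morphism vanishes on the fibre. -/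
def vanishSet (φ : M ⟶ O) : Set T :=
  {y | ∀ v : M.presheaf.stalk y, fmk (RefHull.stalkMapₗ φ y v) = 0}

theorem isStalkBasis_of_fmk_ne_zero (hO : PicF.IsInvertible O) {y : T} {t : O.presheaf.stalk y}
    (h : fmk t ≠ 0) : IsStalkBasis O y t := by
  obtain ⟨a, rfl⟩ := (bas_spec hO y).2 t
  refine isStalkBasis_smul (bas_spec hO y) ?_
  by_contra ha
  exact h ((Submodule.Quotient.mk_eq_zero _).mpr
    (Submodule.smul_mem_smul ((IsLocalRing.mem_maximalIdeal a).mpr ha) Submodule.mem_top))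

theorem fmk_ne_zero_of_isStalkBasis {y : T} {t : O.presheaf.stalk y} (ht : IsStalkBasis O y t) : fmk t ≠ 0 := by
  intro h
  have h1 := coef_fmk ht
  rw [h, ← zero_smul (T.presheaf.stalk y) (fmk t), coef_smul ht, map_zero] at h1
  exact zero_ne_one h1

theorem fmk_eq_of_sub {y : T} {s t : O.presheaf.stalk y} (h : fmk (s - t) = 0) : fmk s = fmk t :=
  sub_eq_zero.mp ((Submodule.Quotient.mk_sub _).symm.trans h)

variable (φ : M ⟶ O) (b : M ⟶ L)

/-- `φ` factors through `b` on the fibre over `y`. -/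
def FibreFactors (y : T) : Prop :=
  ∀ v : M.presheaf.stalk y, RefHull.stalkMapₗ b y v = 0 → fmk (RefHull.stalkMapₗ φ y v) = 0

variable {φ b} (hO : PicF.IsInvertible O) (hL : PicF.IsInvertible L)
  (hb : ∀ y, Function.Surjective (RefHull.stalkMapₗ b y))

include hL hb in
theorem isStalkBasis_b {y : T} (hy : FibreFactors φ b y) {v : M.presheaf.stalk y}
    (hv : fmk (RefHull.stalkMapₗ φ y v) ≠ 0) : IsStalkBasis L y (RefHull.stalkMapₗ b y v) := by
  refine isStalkBasis_of_fmk_ne_zero hL fun h => hv ?_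
  obtain ⟨l, hl⟩ := (bas_spec hL y).2 (RefHull.stalkMapₗ b y v)
  obtain ⟨w, hw⟩ := hb y (bas hL y)
  have hlm : l ∈ maximalIdeal (T.presheaf.stalk y) := by
    by_contra hl'
    exact fmk_ne_zero_of_isStalkBasis
      (hl ▸ isStalkBasis_smul (bas_spec hL y) (not_not.mp fun hu => hl' ((IsLocalRing.mem_maximalIdeal l).mpr hu)))
      h
  have h1 := hy (v - l • w) (by rw [map_sub, map_smul, hw]; exact sub_eq_zero.mpr hl.symm)
  rw [map_sub, map_smul] at h1
  replace h1 := fmk_eq_of_sub h1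
  rw [h1]
  exact (Submodule.Quotient.mk_eq_zero _).mpr (Submodule.smul_mem_smul hlm Submodule.mem_top)

include hO in
theorem specializes_vanishSet {ξ y : T} (h : ξ ⤳ y) (hξ : ξ ∈ vanishSet φ) : y ∈ vanishSet φ := by
  intro v
  by_contra hv
  have hb := isStalkBasis_mspec hO h (isStalkBasis_of_fmk_ne_zero hO hv)
  rw [← stalkMapₗ_mspec] at hb
  exact fmk_ne_zero_of_isStalkBasis hb (hξ _)

variable {δ : T → ℤ}

open Classical in
/-- The sections used for `O`. -/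
def secO (φ : M ⟶ O) (hO : PicF.IsInvertible O) (ξ : T) : Cyc.secFibre O ξ :=
  if h : ∃ v, fmk (RefHull.stalkMapₗ φ ξ v) ≠ 0 then fmk (RefHull.stalkMapₗ φ ξ h.choose)
  else fmk (bas hO ξ)

open Classical in
/-- The sections used for `L`. -/
def secL (φ : M ⟶ O) (b : M ⟶ L) (hL : PicF.IsInvertible L) (ξ : T) : Cyc.secFibre L ξ :=
  if h : FibreFactors φ b ξ ∧ ∃ v, fmk (RefHull.stalkMapₗ φ ξ v) ≠ 0 then fmk (RefHull.stalkMapₗ b ξ h.2.choose)
  else fmk (bas hL ξ)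

include hO in
theorem secO_ne (ξ : T) : secO φ hO ξ ≠ 0 := by
  unfold secO
  split_ifs with h
  · exact h.choose_spec
  · exact fmk_ne_zero_of_isStalkBasis (bas_spec hO ξ)

include hL hb in
theorem secL_ne (ξ : T) : secL φ b hL ξ ≠ 0 := by
  unfold secL
  split_ifs with h
  · exact fmk_ne_zero_of_isStalkBasis (isStalkBasis_b hL hb h.1 h.2.choose_spec)
  · exact fmk_ne_zero_of_isStalkBasis (bas_spec hL ξ)

include hO hL hb in
theorem secDivFun_secs_eq (hT : Cyc.IsSetup T δ) {ξ y : T} (h : ξ ⤳ y) (hξ : FibreFactors φ b ξ)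
    (hy : FibreFactors φ b y) (hy' : y ∉ vanishSet φ) :
    Cyc.secDivFun δ O ξ (secO φ hO ξ) y = Cyc.secDivFun δ L ξ (secL φ b hL ξ) y := by
  have hξ' : ξ ∉ vanishSet φ := fun h' => hy' (specializes_vanishSet hO h h')
  obtain ⟨w, hw⟩ := not_forall.mp hy'
  have hne : ∃ v, fmk (RefHull.stalkMapₗ φ ξ v) ≠ 0 := not_forall.mp hξ'
  have htO := isStalkBasis_of_fmk_ne_zero hO hw
  have htL := isStalkBasis_b hL hb hy hw
  rw [secDivFun_eq hT hO h (specializes_refl y) htO (secO_ne hO ξ),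
    secDivFun_eq hT hL h (specializes_refl y) htL (secL_ne hL hb ξ)]
  refine congrArg (fun c => Cyc.divFun δ ξ c y) ?_
  unfold ratCoef
  set w' := mspec M h w with hw'
  have htO' : IsStalkBasis O ξ (RefHull.stalkMapₗ φ ξ w') := by
    rw [hw', stalkMapₗ_mspec]; exact isStalkBasis_mspec hO h htO
  have htL' : IsStalkBasis L ξ (RefHull.stalkMapₗ b ξ w') := by
    rw [hw', stalkMapₗ_mspec]; exact isStalkBasis_mspec hL h htL
  rw [← stalkMapₗ_mspec, ← stalkMapₗ_mspec, secO, secL, dif_pos hne, dif_pos ⟨hξ, hne⟩]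
  obtain ⟨c, hc⟩ := htL'.2 (RefHull.stalkMapₗ b ξ hne.choose)
  have h1 := hξ (hne.choose - c • w') (by rw [map_sub, map_smul]; exact sub_eq_zero.mpr hc.symm)
  rw [map_sub, map_smul] at h1
  replace h1 := fmk_eq_of_sub h1
  have h2 : fmk (RefHull.stalkMapₗ b ξ hne.choose) = c • fmk (RefHull.stalkMapₗ b ξ w') := by
    rw [← Submodule.Quotient.mk_smul]; exact congrArg fmk hc.symm
  have h3 : fmk (RefHull.stalkMapₗ φ ξ hne.choose) = c • fmk (RefHull.stalkMapₗ φ ξ w') := by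
    rw [h1, ← Submodule.Quotient.mk_smul]
  rw [h2, h3, coef_smul htO', coef_smul htL']

include hO hL hb in
/-- Capping with the difference of the two classes moves a cycle into the vanishing locus. -/
theorem exists_step (hT : Cyc.IsSetup T δ) {Z : Set T} (hZ : ∀ y ∈ Z, FibreFactors φ b y)
    (hZspec : ∀ ξ y, ξ ⤳ y → ξ ∈ Z → y ∈ Z) {k : ℤ} {z : AlgebraicCycle T ℤ} (hz : z ∈ Cyc.Zk T δ k)
    (hsupp : ∀ ξ, z ξ ≠ 0 → ξ ∈ Z) :
    ∃ (z' : AlgebraicCycle T ℤ) (hz' : z' ∈ Cyc.Zk T δ (k - 1)),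
      c1T hT hO (tcl z hz) - c1T hT hL (tcl z hz) = tcl z' hz' ∧
        ∀ y, z' y ≠ 0 → y ∈ Z ∧ y ∈ vanishSet φ := by
  obtain ⟨a, ha⟩ := exists_cycle_c1CapFun hT hO z (secO_ne (φ := φ) hO)
  obtain ⟨a', ha'⟩ := exists_cycle_c1CapFun hT hL z (secL_ne (φ := φ) hL hb)
  have hak : a ∈ Cyc.Zk T δ (k - 1) := Biv.c1Cap_mem _ hz _ ha
  have hak' : a' ∈ Cyc.Zk T δ (k - 1) := Biv.c1Cap_mem _ hz _ ha'
  have hd := (ChowOps.zk T δ _).sub_mem hak hak'
  refine ⟨a - a', hd, ?_, fun y hy => ?_⟩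
  · rw [c1T_tcl hT hO z hz hO (Iso.refl _) (secO_ne hO) a ha hak rfl,
      c1T_tcl hT hL z hz hL (Iso.refl _) (secL_ne hL hb) a' ha' hak' rfl, tcl_sub hak hak' hd]
  rw [Function.locallyFinsuppWithin.coe_sub, Pi.sub_apply, ha, ha'] at hy
  have hne : ∀ {N : T.Modules} (s : (ξ : T) → Cyc.secFibre N ξ) (ξ : T),
      z ξ * Cyc.secDivFun δ N ξ (s ξ) y ≠ 0 → ξ ∈ Z ∧ ξ ⤳ y := fun {N} s ξ h => by
    refine ⟨hsupp ξ (left_ne_zero_of_mul h), ?_⟩
    by_contra hs
    exact right_ne_zero_of_mul h (dif_neg fun h' => hs h'.1)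
  have hyZ : y ∈ Z := by
    by_contra hy'
    refine hy ?_
    rw [Cyc.c1CapFun, Cyc.c1CapFun, finsum_eq_zero_of_forall_eq_zero, finsum_eq_zero_of_forall_eq_zero, sub_zero]
    · exact fun ξ => by_contra fun h => hy' (hZspec ξ y (hne _ ξ h).2 (hne _ ξ h).1)
    · exact fun ξ => by_contra fun h => hy' (hZspec ξ y (hne _ ξ h).2 (hne _ ξ h).1)
  refine ⟨hyZ, by_contra fun hv => hy (sub_eq_zero.mpr (finsum_congr fun ξ => ?_))⟩
  by_cases hz0 : z ξ = 0
  · rw [hz0, zero_mul, zero_mul]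
  by_cases hs : ξ ⤳ y
  · rw [secDivFun_secs_eq hO hL hb hT hs (hZ ξ (hsupp ξ hz0)) (hZ y hyZ) hv]
  · rw [show Cyc.secDivFun δ O ξ _ y = 0 from dif_neg fun h' => hs h'.1,
      show Cyc.secDivFun δ L ξ _ y = 0 from dif_neg fun h' => hs h'.1]

end Groth.CycInter.PB
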