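import Groth.Agent.CycInter.PbCap

/-!
The pushforward of iterated hyperplane sections of pullbacks to a projective bundle.
-/

universe u

set_option autoImplicit false

open CategoryTheory CategoryTheory.Limits AlgebraicGeometry Opposite TopologicalSpace IsLocalRing
open Groth.PicAux Groth.RelTw Groth.PBundle Groth.RefRank Groth.Cycles
open Groth.QCohMod (germ)

noncomputable section

namespace Groth.CycInter.PB

/-- The structure of a projective bundle with dimension functions. -/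
structure Bun (X : Scheme.{u}) (δ : X → ℤ) where
  P : Scheme.{u}
  π : P ⟶ X
  E : X.Modules
  O1 : P.Modules
  q : (Scheme.Modules.pullback π).obj E ⟶ O1
  hP : KRR.IsProjBundle π E O1 q
  r : ℕ
  hr : 1 ≤ r
  hE : FlatMod.IsFinLocFreeOfRank r E
  δP : P → ℤ
  hX : Cyc.IsSetup X δ
  hPs : Cyc.IsSetup P δP
  hδ : Cyc.DeltaCompat π δP δ
  hp : IsProper π

theorem finsum_mem_single' {ι M : Type*} [AddCommMonoid M] {s : Set ι} {f : ι → M} {a : ι} (h : a ∈ s)
    (h' : ∀ y ∈ s, y ≠ a → f y = 0) : ∑ᶠ i ∈ s, f i = f a := by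
  classical
  rw [finsum_mem_def, finsum_eq_single _ a fun y hy => ?_, Set.indicator_of_mem h]
  by_cases hys : y ∈ s
  · rw [Set.indicator_of_mem hys, h' y hys hy]
  · rw [Set.indicator_of_notMem hys]

variable {X : Scheme.{u}} {δ : X → ℤ} (B : Bun X δ)

theorem Bun.hO : PicF.IsInvertible B.O1 := isInvertible_O1 B.hP

theorem Bun.isProperπ : IsProper B.π := B.hp

theorem Bun.flatπ : Flat B.π := flat B.hP B.hE

theorem Bun.lftπ : LocallyOfFiniteType B.π := locallyOfFiniteType B.hP B.hE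

theorem Bun.relDim : Cyc.HasRelDim B.π (B.r - 1) := hasRelDim B.hP B.hE

/-- The flat pullback to the bundle. -/
def Bun.pull : Tot X δ →+ Tot B.P B.δP :=
  haveI := B.flatπ; haveI := B.lftπ
  pullT B.hX B.hPs B.π B.relDim B.hδ

/-- The pushforward from the bundle. -/
def Bun.push : Tot B.P B.δP →+ Tot X δ :=
  haveI := B.isProperπ
  pushT B.hX B.hPs B.π B.hδ

/-- The first Chern class of `O(1)`. -/
def Bun.H : Tot B.P B.δP →+ Tot B.P B.δP := c1T B.hPs B.hO

/-- The powers of the first Chern class of `O(1)`. -/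
def Bun.Hpow : ℕ → (Tot B.P B.δP →+ Tot B.P B.δP)
  | 0 => AddMonoidHom.id _
  | n + 1 => B.H.comp (Hpow n)

theorem Bun.Hpow_add (a b : ℕ) (z : Tot B.P B.δP) : B.Hpow (a + b) z = B.Hpow a (B.Hpow b z) := by
  induction a with
  | zero => simp [Bun.Hpow]
  | succ a ih =>
      rw [show a + 1 + b = (a + b) + 1 by omega]
      show B.H (B.Hpow (a + b) z) = B.H (B.Hpow a (B.Hpow b z))
      rw [ih]

/-- An affine open around a point. -/
def Bun.V (x : X) : X.Opens := (Groth.LocFree.exists_affine_basis_ofRank B.hE x).choose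

/-- A basis over the affine open. -/
def Bun.bv (x : X) : Fin B.r → Γ(B.E, B.V x) :=
  (Groth.LocFree.exists_affine_basis_ofRank B.hE x).choose_spec.choose

theorem Bun.hV (x : X) : IsAffineOpen (B.V x) :=
  (Groth.LocFree.exists_affine_basis_ofRank B.hE x).choose_spec.choose_spec.1

theorem Bun.mem_V (x : X) : x ∈ B.V x :=
  (Groth.LocFree.exists_affine_basis_ofRank B.hE x).choose_spec.choose_spec.2.1

theorem Bun.hbv (x : X) : Basis' B.E (B.V x) (B.bv x) :=
  (Groth.LocFree.exists_affine_basis_ofRank B.hE x).choose_spec.choose_spec.2.2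

/-- The linear subspaces of the fibre over a point. -/
abbrev Bun.lin (x : X) (i : Fin B.r) : B.P :=
  PB.lin B.hP (B.hV x) (B.hbv x) (B.mem_V x) i

theorem Bun.π_lin (x : X) (i : Fin B.r) : B.π (B.lin x i) = x :=
  π_genPt B.hP (B.hV x) (B.hbv x) (B.mem_V x) i i

open Classical in
/-- The hyperplane section of index `s` for the coordinates chosen at `x`. -/
def Bun.secAt (x : X) (s : Fin B.r) (ξ : B.P) : Cyc.secFibre B.O1 ξ :=
  if h : B.π ξ ∈ B.V x then
    if fmk (germ B.O1 ξ (U := B.π ⁻¹ᵁ B.V x) h (hyp B.q (B.bv x) s)) ≠ 0 then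
      fmk (germ B.O1 ξ (U := B.π ⁻¹ᵁ B.V x) h (hyp B.q (B.bv x) s))
    else (Biv.exists_secs B.hO).choose ξ
  else (Biv.exists_secs B.hO).choose ξ

/-- The chosen sections of the `s`th cap. -/
def Bun.secs (s : ℕ) (ξ : B.P) : Cyc.secFibre B.O1 ξ :=
  if hs : s < B.r then B.secAt (B.π ξ) ⟨s, hs⟩ ξ else (Biv.exists_secs B.hO).choose ξ

theorem Bun.secs_ne (s : ℕ) (ξ : B.P) : B.secs s ξ ≠ 0 := by
  unfold Bun.secs Bun.secAt
  split_ifs with h1 h2 h3
  · exact h3
  all_goals exact (Biv.exists_secs B.hO).choose_spec ξ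

theorem Bun.secs_lin (x : X) (s : Fin B.r) :
    B.secs s (B.lin x s) = fmk (germ B.O1 (B.lin x s)
      (chart_le (genPt_mem_chart_self B.hP (B.hV x) (B.hbv x) (B.mem_V x) s s)) (hyp B.q (B.bv x) s)) := by
  have hV : B.π (B.lin x s) ∈ B.V x := (B.π_lin x s).symm ▸ B.mem_V x
  rw [Bun.secs, dif_pos s.2, show B.secAt (B.π (B.lin x s)) ⟨s, s.2⟩ (B.lin x s) = B.secAt x s (B.lin x s) from
    congrArg (fun z => B.secAt z s (B.lin x s)) (B.π_lin x s), Bun.secAt, dif_pos hV, if_pos]
  exact fmk_hyp_ne_zero (genPt_mem_chart_self B.hP (B.hV x) (B.hbv x) (B.mem_V x) s s)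

/-- The iterated hyperplane sections of a pullback. -/
def Bun.iter (α : AlgebraicCycle X ℤ) : ℕ → AlgebraicCycle B.P ℤ
  | 0 => haveI := B.flatπ; haveI := B.lftπ; pullCyc B.hX B.hPs B.π B.relDim B.hδ α
  | s + 1 => (exists_cycle_c1CapFun B.hPs B.hO (Bun.iter α s) (B.secs_ne s)).choose

theorem Bun.iter_succ (α : AlgebraicCycle X ℤ) (s : ℕ) :
    ⇑(B.iter α (s + 1)) = Cyc.c1CapFun B.δP B.O1 ⇑(B.iter α s) (B.secs s) :=
  (exists_cycle_c1CapFun B.hPs B.hO (B.iter α s) (B.secs_ne s)).choose_spec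

theorem Bun.iter_zero (α : AlgebraicCycle X ℤ) :
    ⇑(B.iter α 0) = Cyc.pullFun B.π B.δP δ ((B.r - 1 : ℕ) : ℤ) ⇑α :=
  haveI := B.flatπ; haveI := B.lftπ
  pullCyc_spec B.hX B.hPs B.π B.relDim B.hδ α

theorem Bun.iter_mem {k : ℤ} {α : AlgebraicCycle X ℤ} (hα : α ∈ Cyc.Zk X δ k) (s : ℕ) :
    B.iter α s ∈ Cyc.Zk B.P B.δP (k + ((B.r - 1 : ℕ) : ℤ) - s) := by
  induction s with
  | zero =>
      rw [Nat.cast_zero, sub_zero]
      exact Bivar.pullFun_mem_Zk B.π B.δP δ _ k hα _ (B.iter_zero α)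
  | succ s ih =>
      rw [show k + ((B.r - 1 : ℕ) : ℤ) - ((s + 1 : ℕ) : ℤ) = k + ((B.r - 1 : ℕ) : ℤ) - s - 1 by push_cast; ring]
      exact Biv.c1Cap_mem _ ih _ (B.iter_succ α s)

theorem Bun.tcl_iter {k j : ℤ} {α : AlgebraicCycle X ℤ} (hα : α ∈ Cyc.Zk X δ k) (s : ℕ)
    (h : B.iter α s ∈ Cyc.Zk B.P B.δP j) (hj : j = k + ((B.r - 1 : ℕ) : ℤ) - s) :
    B.Hpow s (B.pull (tcl α hα)) = tcl (B.iter α s) h := by
  induction s generalizing j with
  | zero =>
      haveI := B.flatπ; haveI := B.lftπ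
      exact pullT_tcl B.hX B.hPs B.π B.relDim B.hδ α hα _ (B.iter_zero α) h (by rw [hj]; simp)
  | succ s ih =>
      show B.H (B.Hpow s (B.pull (tcl α hα))) = _
      rw [ih (B.iter_mem hα s) rfl]
      exact c1T_tcl B.hPs B.hO _ _ B.hO (Iso.refl _) (B.secs_ne s) _ (B.iter_succ α s) h
        (by rw [hj]; push_cast; ring)

/-- The support of an iterated hyperplane section lies over the closure of the support of the cycle. -/
theorem Bun.iter_support (α : AlgebraicCycle X ℤ) (s : ℕ) {y : B.P} (h : B.iter α s y ≠ 0) :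
    ∃ x, α x ≠ 0 ∧ x ⤳ B.π y := by
  induction s generalizing y with
  | zero =>
      refine ⟨B.π y, fun h0 => h ?_, specializes_refl _⟩
      rw [B.iter_zero, Cyc.pullFun]
      split_ifs
      · rw [h0, zero_mul]
      · rfl
  | succ s ih =>
      rw [B.iter_succ] at h
      obtain ⟨z, hz⟩ : ∃ z, B.iter α s z * Cyc.secDivFun B.δP B.O1 z (B.secs s z) y ≠ 0 := by
        by_contra hc
        exact h (finsum_eq_zero_of_forall_eq_zero fun z => by_contra fun h' => hc ⟨z, h'⟩)
      obtain ⟨x, hx, hxz⟩ := ih (left_ne_zero_of_mul hz)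
      refine ⟨x, hx, hxz.trans (Specializes.map ?_ B.π.continuous)⟩
      by_contra hn
      exact right_ne_zero_of_mul hz (secDivFun_of_not_specializes _ hn)

include B in
theorem Bun.eq_of_specializes {x x' : X} (h : x' ⤳ x) (hd : δ x' ≤ δ x) : x' = x := by
  by_contra hne
  have := (B.hX.2.2 x' x h hne).1
  omega

open Classical in
/-- The iterated hyperplane sections in the fibre over a point of the dimension of the cycle. -/
theorem Bun.iter_fibre {k : ℤ} {α : AlgebraicCycle X ℤ} (hα : α ∈ Cyc.Zk X δ k) {x : X} (hx : δ x = k)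
    (s : ℕ) (hs : s < B.r) {y : B.P} (hy : B.π y = x) :
    B.iter α s y = if y = B.lin x ⟨s, hs⟩ then α x else 0 := by
  induction s generalizing y with
  | zero =>
      rw [B.iter_zero]
      exact pullFun_at_fibre B.hP (B.hV x) (B.hbv x) (B.mem_V x) B.hδ hs ⇑α hy B.hPs
  | succ s ih =>
      have hs' : s < B.r := Nat.lt_of_succ_lt hs
      rw [B.iter_succ, Cyc.c1CapFun]
      have hsum : ∀ z, B.iter α s z * Cyc.secDivFun B.δP B.O1 z (B.secs s z) y ≠ 0 → z = B.lin x ⟨s, hs'⟩ := by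
        intro z hz
        have hzy : z ⤳ y := by
          by_contra hn
          exact right_ne_zero_of_mul hz (secDivFun_of_not_specializes _ hn)
        obtain ⟨x', hx', hxz⟩ := B.iter_support α s (left_ne_zero_of_mul hz)
        have hd : δ x' = k := by_contra fun h => hx' (hα x' h)
        have hπ : B.π z ⤳ x := hy ▸ hzy.map B.π.continuous
        have e := B.eq_of_specializes (hxz.trans hπ) (by omega)
        have hzx : B.π z = x := (hπ.antisymm (e ▸ hxz)).eq
        by_contra hne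
        exact left_ne_zero_of_mul hz (by rw [ih hs' hzx, if_neg hne])
      rw [finsum_eq_single _ (B.lin x ⟨s, hs'⟩) fun z hz => by_contra fun h => hz (hsum z h),
        ih hs' (B.π_lin x _), if_pos rfl, B.secs_lin x ⟨s, hs'⟩]
      have key := secDiv_lin B.hP (B.hV x) (B.hbv x) (B.mem_V x) B.hPs B.hδ (s := ⟨s, hs'⟩) rfl hy
      by_cases hyl : y = B.lin x ⟨s + 1, hs⟩
      · rw [if_pos hyl, key.1 ⟨s + 1, hs⟩ rfl hyl, mul_one]
      · rw [if_neg hyl, key.2 (fun l hl e => hyl (e.trans (congrArg (B.lin x) (Fin.ext hl)))) hs, mul_zero]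

theorem Bun.mapCoeff_lin (x : X) (i : Fin B.r) (hi : (i : ℕ) + 1 = B.r) :
    AlgebraicCycle.mapCoeff B.π B.δP δ (B.lin x i) = 1 := by
  have hd : B.δP (B.lin x i) = δ x := by
    rw [delta_lin B.hP (B.hV x) (B.hbv x) (B.mem_V x) B.hδ]
    omega
  rw [AlgebraicCycle.mapCoeff, if_pos (hd.trans (congrArg δ (B.π_lin x i)).symm)]
  have : IsEmpty (Idx i i) := ⟨fun k => k.2.2 (Fin.ext (by have := Fin.le_def.mp k.2.1; have := k.1.2; omega))⟩
  have : IsIso (CommRingCat.ofHom (MvPolynomial.C : X.residueField x →+* StrRing x i i)) :=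
    (ConcreteCategory.isIso_iff_bijective _).mpr
      ⟨MvPolynomial.C_injective _ _, MvPolynomial.C_surjective _⟩
  let σ := str B.hP (B.hV x) (B.hbv x) (B.mem_V x) i i
  have : IsPreimmersion (σ ≫ B.π) := by
    rw [str_π]; infer_instance
  let z : Spec (StrRing x i i) := (⟨⊥, Ideal.isPrime_bot⟩ : PrimeSpectrum (StrRing x i i))
  have hsurj : Function.Surjective (B.π.residueFieldMap (σ z)).hom := by
    intro c
    obtain ⟨a, ha⟩ := Groth.Variety2.Dim.residueFieldMap_surjective (σ ≫ B.π) z ((σ.residueFieldMap z).hom c)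
    refine ⟨a, (σ.residueFieldMap z).hom.injective ?_⟩
    rw [← ha, Scheme.residueFieldMap_comp]
    rfl
  letI := (B.π.residueFieldMap (σ z)).hom.toAlgebra
  exact (LinearEquiv.ofBijective (Algebra.linearMap (X.residueField (B.π (σ z))) (B.P.residueField (σ z)))
    ⟨(B.π.residueFieldMap (σ z)).hom.injective, hsurj⟩).finrank_eq.symm.trans (Module.finrank_self _)

/-- The projective bundle formula for pushforwards. -/
theorem Bun.push_Hpow_pull (s : ℕ) (hs : s < B.r) :
    B.push.comp ((B.Hpow s).comp B.pull) = if s + 1 = B.r then AddMonoidHom.id (Tot X δ) else 0 := by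
  refine hom_ext fun k α hα => ?_
  haveI := B.isProperπ
  have hm := B.iter_mem hα s
  have hmap := Bivar.cycMap_mem_Zk B.π B.δP δ _ hm
  rw [AddMonoidHom.comp_apply, AddMonoidHom.comp_apply, B.tcl_iter hα s hm rfl]
  rw [show B.push (tcl (B.iter α s) hm) = tcl (AlgebraicCycle.map B.π B.δP δ (B.iter α s)) hmap from
    pushT_tcl B.hX B.hPs B.π B.hδ _ hm hmap rfl]
  classical
  have hval : ∀ x : X, δ x = k + ((B.r - 1 : ℕ) : ℤ) - s → s + 1 = B.r →
      AlgebraicCycle.map B.π B.δP δ (B.iter α s) x = α x := by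
    intro x hxd hsr
    have hx : δ x = k := by omega
    rw [AlgebraicCycle.map, Function.locallyFinsupp.map_apply,
      finsum_mem_single' (a := B.lin x ⟨s, hs⟩) (h := B.π_lin x _) (h' := fun y hy hne => by
        have hy' : B.π y = x := hy
        rw [B.iter_fibre hα hx s hs hy', if_neg hne, zero_mul]),
      B.iter_fibre hα hx s hs (B.π_lin x _), if_pos rfl, B.mapCoeff_lin x _ hsr, Nat.cast_one, mul_one]
  by_cases hsr : s + 1 = B.r
  · rw [if_pos hsr, AddMonoidHom.id_apply]
    refine tcl_congr (by omega) (DFunLike.ext _ _ fun x => ?_) _ _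
    by_cases hx : δ x = k
    · exact hval x (by omega) hsr
    · rw [hα x hx]
      exact hmap x (by omega)
  · rw [if_neg hsr, AddMonoidHom.zero_apply]
    have hzero : AlgebraicCycle.map B.π B.δP δ (B.iter α s) = 0 := by
      refine DFunLike.ext _ _ fun x => ?_
      by_contra hne
      have hxd : δ x = k + ((B.r - 1 : ℕ) : ℤ) - s := by_contra fun h => hne (hmap x h)
      rw [AlgebraicCycle.map, Function.locallyFinsupp.map_apply] at hne
      obtain ⟨y, hy, hy'⟩ : ∃ y, B.π y = x ∧ B.iter α s y ≠ 0 := by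
        by_contra h
        exact hne (finsum_mem_eq_zero_of_forall_eq_zero fun y hy => by
          rw [by_contra fun h' => h ⟨y, hy, h'⟩, zero_mul])
      obtain ⟨x', hx', hx'y⟩ := B.iter_support α s hy'
      have hd : δ x' = k := by_contra fun h => hx' (hα x' h)
      have := B.eq_of_specializes (hy ▸ hx'y) (by omega)
      rw [← this] at hxd
      omega
    exact (tcl_congr rfl hzero _ (fun _ _ => rfl)).trans (tcl_zero _)

end Groth.CycInter.PB
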