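import Groth.Agent.CycInter.PbBase
import Groth.Agent.GrassRep.MapOfEpi

/-!
The Chern class operators do not depend on the choice of the projective bundle.
-/

universe u

set_option autoImplicit false

open CategoryTheory CategoryTheory.Limits AlgebraicGeometry Groth.Cycles

noncomputable section

namespace Groth.CycInter.PB

/-- Projective bundles of the same module are isomorphic, together with their `O(1)`. -/
theorem exists_iso_projBundle {S P P' : Scheme.{u}} {π : P ⟶ S} {π' : P' ⟶ S} {E : S.Modules}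
    {O1 : P.Modules} {O1' : P'.Modules} {q : (Scheme.Modules.pullback π).obj E ⟶ O1}
    {q' : (Scheme.Modules.pullback π').obj E ⟶ O1'} (hP : KRR.IsProjBundle π E O1 q)
    (hP' : KRR.IsProjBundle π' E O1' q') :
    ∃ h : P ⟶ P', IsIso h ∧ h ≫ π' = π ∧ Nonempty ((Scheme.Modules.pullback h).obj O1' ≅ O1) := by
  have hG := Grass.isGrass_one_iff.mpr hP
  have hG' := Grass.isGrass_one_iff.mpr hP'
  obtain ⟨h, ⟨hh, e, he⟩, -⟩ := hG'.univ P π O1 hG.rank q hG.epi
  obtain ⟨h', ⟨hh', e', he'⟩, -⟩ := hG.univ P' π' O1' hG'.rank q' hG'.epi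
  have key : ∀ {A B : Scheme.{u}} {πA : A ⟶ S} {πB : B ⟶ S} {QA : A.Modules} {QB : B.Modules}
      {qA : (Scheme.Modules.pullback πA).obj E ⟶ QA} {qB : (Scheme.Modules.pullback πB).obj E ⟶ QB}
      (_ : Grass.IsGrass πA E 1 QA qA) (a : A ⟶ B) (b : B ⟶ A) (ha : a ≫ πB = πA) (hb : b ≫ πA = πB)
      (ea : (Scheme.Modules.pullback a).obj QB ≅ QA) (eb : (Scheme.Modules.pullback b).obj QA ≅ QB),
      Grass.quotBC ha qB ≫ ea.hom = qA → Grass.quotBC hb qA ≫ eb.hom = qB → a ≫ b = 𝟙 A := by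
    intro A B πA πB QA QB qA qB hA a b ha hb ea eb hea heb
    refine (hA.univ A πA QA hA.rank qA hA.epi).unique ⟨by rw [Category.assoc, hb, ha],
      ((Scheme.Modules.pullbackComp a b).app QA).symm ≪≫ (Scheme.Modules.pullback a).mapIso eb ≪≫ ea,
      ?_⟩ ⟨Category.id_comp _, (Scheme.Modules.pullbackId A).app QA,
        GrassRep.quotBC_id (Category.id_comp _) qA⟩
    rw [Iso.trans_hom, Iso.trans_hom, Iso.symm_hom, Iso.app_inv, Functor.mapIso_hom,
      ← Category.assoc _ ((Scheme.Modules.pullback a).map _), ← Category.assoc (Grass.quotBC _ _),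
      GrassRep.quotBC_base_change ha hb qA _ _ heb, hea]
  exact ⟨h, ⟨h', key hG h h' hh hh' e e' he he', key hG' h' h hh' hh e' e he' he⟩, hh, ⟨e⟩⟩

variable {X : Scheme.{u}} {δ : X → ℤ}

/-- Isomorphic bundles give the same Chern class operators. -/
theorem Bun.chern_eq_of_iso (B B' : Bun X δ) (hr : B.r = B'.r) (φ : B.P ⟶ B'.P) [IsIso φ] (hφ : φ ≫ B'.π = B.π)
    (e : (Scheme.Modules.pullback φ).obj B'.O1 ≅ B.O1) (j : ℕ) : B.chern j = B'.chern j := by
  haveI := B.flatπ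
  haveI := B.lftπ
  haveI := B'.flatπ
  haveI := B'.lftπ
  haveI : Flat (φ ≫ B'.π) := hφ.symm ▸ B.flatπ
  haveI : LocallyOfFiniteType (φ ≫ B'.π) := hφ.symm ▸ B.lftπ
  have hd : Cyc.DeltaCompat φ B.δP B'.δP :=
    Dvr.deltaCompat_of_comp φ (g := B'.π) (by rw [hφ]; exact B.hδ) B'.hδ
  have h0 := Biv.hasRelDim_zero_openImm φ
  have hd' : Cyc.DeltaCompat (φ ≫ B'.π) B.δP δ := by rw [hφ]; exact B.hδ
  have ht : Cyc.HasRelDim (φ ≫ B'.π) (B.r - 1) := by rw [hφ]; exact B.relDim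
  refine AddMonoidHom.ext fun z => ?_
  refine (B'.chern_natural B hr (AddMonoidHom.id _) (pullT B'.hPs B.hPs φ h0 hd) (fun w => ?_)
    (fun w => DFunLike.congr_fun (pullT_c1T B'.hPs B'.hO B.hPs φ h0 hd B.hO e.symm) w) j z).symm
  exact DFunLike.congr_fun ((pullT_comp B'.hX B'.hPs B'.π B'.relDim B'.hδ B.hPs φ h0 hd ht (by omega)).trans
    (pullT_congr B'.hX B.hPs hφ ht B.relDim rfl hd' B.hδ)) w

/-- Two bundles of the same module give the same Chern class operators. -/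
theorem Bun.chern_eq_of_bundle (B B' : Bun X δ) (hr : B.r = B'.r) {q' : (Scheme.Modules.pullback B'.π).obj B.E ⟶ B'.O1}
    (h : KRR.IsProjBundle B'.π B.E B'.O1 q') (j : ℕ) : B.chern j = B'.chern j := by
  obtain ⟨φ, _, hφ, ⟨e⟩⟩ := exists_iso_projBundle B.hP h
  exact B.chern_eq_of_iso B' hr φ hφ e j

end Groth.CycInter.PB
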