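import Groth.Agent.CycInter.PbSpecStalk
import Groth.Agent.CycInter.PbTot
import Groth.Agent.CycInter.BivPrime
import Groth.Agent.FibreDim.Smooth
import Groth.Agent.FibreDim.RelDim
import Mathlib.RingTheory.Polynomial.Basic

/-!
Every cycle on an affine line over an affine Noetherian scheme is rationally equivalent to a pullback.
-/

universe u

set_option autoImplicit false

open CategoryTheory AlgebraicGeometry Polynomial
open Groth.RefRank Groth.Cycles

noncomputable section

namespace Groth.CycInter.PB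

variable (R : CommRingCat.{u})

/-- The affine line over a ring. -/
abbrev lineRing : CommRingCat.{u} := CommRingCat.of (Polynomial R)

/-- The projection of the affine line. -/
abbrev linePr : Spec (lineRing R) ⟶ Spec R := Spec.map (CommRingCat.ofHom (Polynomial.C : R →+* Polynomial R))

instance flat_linePr : Flat (linePr R) :=
  (HasRingHomProperty.Spec_iff (P := @Flat)).mpr
    (RingHom.flat_algebraMap_iff.mpr (inferInstance : Module.Flat R (Polynomial R)))

instance lft_linePr : LocallyOfFiniteType (linePr R) :=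
  (HasRingHomProperty.Spec_iff (P := @LocallyOfFiniteType)).mpr
    (RingHom.finiteType_algebraMap.mpr (inferInstance : Algebra.FiniteType R (Polynomial R)))

theorem hasRelDim_linePr : Cyc.HasRelDim (linePr R) 1 := by
  rw [Groth.FibreDim.hasRelDim_iff]
  intro z
  let ι : lineRing R ≅ CommRingCat.of (MvPolynomial (Fin 1) R) :=
    (MvPolynomial.uniqueAlgEquiv R (Fin 1)).symm.toRingEquiv.toCommRingCatIso
  have hC : (CommRingCat.ofHom (Polynomial.C : R →+* Polynomial R) : R ⟶ lineRing R) =
      CommRingCat.ofHom (algebraMap R (MvPolynomial (Fin 1) R)) ≫ ι.inv :=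
    CommRingCat.hom_ext (RingHom.ext fun a => ((MvPolynomial.uniqueAlgEquiv R (Fin 1)).commutes a).symm)
  rw [linePr, hC, Spec.map_comp, Groth.FibreDim.fibreDimAt_openImmersion_comp]
  exact Groth.FibreDim.fibreDimAt_spec_mvPolynomial R 1 _

variable {R}

/-- The generic point of the fibre of the line over a point. -/
def lineGen (v : Spec R) : Spec (lineRing R) :=
  (⟨Ideal.map (Polynomial.C : R →+* Polynomial R) v.asIdeal, (Ideal.isPrime_map_C_iff_isPrime _).mpr v.2⟩ :
    PrimeSpectrum (Polynomial R))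

theorem linePr_lineGen (v : Spec R) : linePr R (lineGen v) = v := by
  refine PrimeSpectrum.ext (Ideal.ext fun a => ?_)
  show Polynomial.C a ∈ Ideal.map Polynomial.C v.asIdeal ↔ _
  rw [Ideal.mem_map_C_iff]
  refine ⟨fun h => by simpa using h 0, fun h n => ?_⟩
  rw [Polynomial.coeff_C]
  split_ifs
  · exact h
  · exact zero_mem _

theorem lineGen_specializes {v : Spec R} {y : Spec (lineRing R)} (h : v ⤳ linePr R y) : lineGen v ⤳ y := by
  refine (PrimeSpectrum.le_iff_specializes _ _).mp ?_
  show Ideal.map Polynomial.C v.asIdeal ≤ y.asIdeal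
  rw [Ideal.map_le_iff_le_comap]
  exact (PrimeSpectrum.le_iff_specializes _ _).mpr h

theorem isFibreGeneric_lineGen (v : Spec R) :
    Groth.CycleLimits.IsFibreGeneric (linePr R) (lineGen v) := fun y hy hs =>
  (hs.antisymm (lineGen_specializes ((linePr_lineGen v).symm.trans hy.symm ▸ specializes_refl _))).eq

/-- The quotients of images of `a ∈ J` form the image ideal. -/
theorem exists_div_of_mem_map {p : Ideal R} [p.IsPrime] (J : Ideal (Polynomial R))
    {g : Polynomial p.ResidueField} (hg : g ∈ J.map (mapRingHom (algebraMap R p.ResidueField))) :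
    ∃ b : R, b ∉ p ∧ ∃ x ∈ J, Polynomial.C (algebraMap R p.ResidueField b) * g =
      mapRingHom (algebraMap R p.ResidueField) x := by
  have hdiv : ∀ g : Polynomial p.ResidueField, ∃ b : R, b ∉ p ∧ ∃ x : Polynomial R,
      Polynomial.C (algebraMap R p.ResidueField b) * g = mapRingHom (algebraMap R p.ResidueField) x := by
    intro g
    induction g using Polynomial.induction_on' with
    | add f g hf hg =>
        obtain ⟨b, hb, x, hx⟩ := hf
        obtain ⟨c, hc, y, hy⟩ := hg
        refine ⟨b * c, fun h => (Ideal.IsPrime.mem_or_mem ‹_› h).elim hb hc,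
          Polynomial.C c * x + Polynomial.C b * y, ?_⟩
        simp only [map_add, map_mul, ← hx, ← hy, coe_mapRingHom, Polynomial.map_C]
        ring
    | monomial n c =>
        obtain ⟨a, b, hb, rfl⟩ := IsFractionRing.div_surjective (A := R ⧸ p) (K := p.ResidueField) c
        obtain ⟨a, rfl⟩ := Ideal.Quotient.mk_surjective a
        obtain ⟨b, rfl⟩ := Ideal.Quotient.mk_surjective b
        have hb' : b ∉ p := fun h => nonZeroDivisors.ne_zero hb (Ideal.Quotient.eq_zero_iff_mem.mpr h)
        refine ⟨b, hb', Polynomial.monomial n a, ?_⟩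
        rw [coe_mapRingHom, Polynomial.map_monomial, Polynomial.C_mul_monomial]
        simp only [Ideal.algebraMap_quotient_residueField_mk]
        rw [mul_div_cancel₀ _ (by rw [Ne, Ideal.algebraMap_residueField_eq_zero]; exact hb')]
  induction hg using Submodule.span_induction with
  | mem g hg =>
      obtain ⟨x, hx, rfl⟩ := hg
      exact ⟨1, fun h => Ideal.IsPrime.ne_top ‹_› ((Ideal.eq_top_iff_one _).mpr h), x, hx, by simp⟩
  | zero => exact ⟨1, fun h => Ideal.IsPrime.ne_top ‹_› ((Ideal.eq_top_iff_one _).mpr h), 0, zero_mem _, by simp⟩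
  | add f g _ _ hf hg =>
      obtain ⟨b, hb, x, hxJ, hx⟩ := hf
      obtain ⟨c, hc, y, hyJ, hy⟩ := hg
      refine ⟨b * c, fun h => (Ideal.IsPrime.mem_or_mem ‹_› h).elim hb hc,
        Polynomial.C c * x + Polynomial.C b * y, add_mem (J.mul_mem_left _ hxJ) (J.mul_mem_left _ hyJ), ?_⟩
      simp only [map_add, map_mul, ← hx, ← hy, coe_mapRingHom, Polynomial.map_C]
      ring
  | smul r g _ hg =>
      obtain ⟨b, hb, x, hxJ, hx⟩ := hg
      obtain ⟨c, hc, y, hy⟩ := hdiv r
      refine ⟨c * b, fun h => (Ideal.IsPrime.mem_or_mem ‹_› h).elim hc hb, y * x, J.mul_mem_left _ hxJ, ?_⟩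
      rw [map_mul (mapRingHom _) y x, ← hx, ← hy, map_mul, map_mul, smul_eq_mul]
      ring

/-- A prime of the line strictly above the generic point of its fibre is generated modulo it by one element. -/
theorem exists_generator (v : Spec R) (w : Spec (lineRing R)) (hw : linePr R w = v)
    (hne : w ≠ lineGen v) :
    ∃ a ∈ PrimeSpectrum.asIdeal w, a ∉ PrimeSpectrum.asIdeal (lineGen v) ∧
      ∀ x ∈ PrimeSpectrum.asIdeal w, ∃ b : R, b ∉ v.asIdeal ∧ ∃ c : Polynomial R,
        Polynomial.C b * x - c * a ∈ PrimeSpectrum.asIdeal (lineGen v) := by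
  let p := v.asIdeal
  let ψ := mapRingHom (algebraMap R p.ResidueField)
  have hker : RingHom.ker ψ = Ideal.map Polynomial.C p := by
    rw [Polynomial.ker_mapRingHom, Ideal.ker_algebraMap_residueField]
  have hcomap : ∀ b : R, b ∉ p → Polynomial.C b ∉ PrimeSpectrum.asIdeal w := fun b hb h =>
    hb (show b ∈ v.asIdeal by rw [← hw]; exact h)
  obtain ⟨q, hq⟩ := IsPrincipalIdealRing.principal ((PrimeSpectrum.asIdeal w).map ψ)
  rw [Ideal.submodule_span_eq] at hq
  obtain ⟨b₀, hb₀, a, haw, ha⟩ := exists_div_of_mem_map (p := p) (PrimeSpectrum.asIdeal w)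
    (g := q) (hq ▸ Ideal.subset_span rfl)
  have hu : IsUnit (Polynomial.C (algebraMap R p.ResidueField b₀)) :=
    Polynomial.isUnit_C.mpr (IsUnit.mk0 _ (by rw [Ne, Ideal.algebraMap_residueField_eq_zero]; exact hb₀))
  have hspan : (PrimeSpectrum.asIdeal w).map ψ = Ideal.span {ψ a} := by
    rw [hq, ← ha, Ideal.span_singleton_mul_left_unit hu]
  refine ⟨a, haw, fun h => hne ?_, fun x hx => ?_⟩
  · refine PrimeSpectrum.ext (le_antisymm (fun x hx => ?_) ?_)
    · have h0 : ψ a = 0 := RingHom.mem_ker.mp (hker.ge h)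
      have : ψ x ∈ (PrimeSpectrum.asIdeal w).map ψ := Ideal.mem_map_of_mem _ hx
      rw [hspan, h0, Ideal.span_singleton_zero, Ideal.mem_bot] at this
      exact hker.le (RingHom.mem_ker.mpr this)
    · exact (PrimeSpectrum.le_iff_specializes _ _).mpr (lineGen_specializes (hw ▸ specializes_refl _))
  · have : ψ x ∈ (PrimeSpectrum.asIdeal w).map ψ := Ideal.mem_map_of_mem _ hx
    rw [hspan, Ideal.mem_span_singleton'] at this
    obtain ⟨g, hg⟩ := this
    obtain ⟨b, hb, c, -, hc⟩ := exists_div_of_mem_map (p := p) ⊤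
      (g := g) (by rw [Ideal.map_top]; exact Submodule.mem_top)
    refine ⟨b, hb, c, hker.le (RingHom.mem_ker.mpr ?_)⟩
    rw [map_sub, map_mul, map_mul, ← hg, ← hc, sub_eq_zero]
    simp only [ψ, coe_mapRingHom, Polynomial.map_C]
    ring

variable {δA : Spec (lineRing R) → ℤ} {δB : Spec R → ℤ} (hA : Cyc.IsSetup (Spec (lineRing R)) δA)
  (hB : Cyc.IsSetup (Spec R) δB) (hδ : Cyc.DeltaCompat (linePr R) δA δB)

theorem finite_support_spec {A : CommRingCat.{u}} (α : AlgebraicCycle (Spec A) ℤ) :
    {x | α x ≠ 0}.Finite :=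
  (α.locallyFiniteSupport.finite_inter_support_of_isCompact (isCompact_univ (X := Spec A))).subset
    fun _ hx => ⟨trivial, hx⟩

open Classical in
theorem exists_combination {A : CommRingCat.{u}} [IsLocallyNoetherian (Spec A)] (s : Finset (Spec A))
    (c : Spec A → ℤ) : ∃ e : AlgebraicCycle (Spec A) ℤ, ⇑e = fun y => if y ∈ s then c y else 0 := by
  refine ⟨⟨fun y => if y ∈ s then c y else 0, Set.subset_univ _, fun y _ => ?_⟩, rfl⟩
  refine ⟨Set.univ, Filter.univ_mem, s.finite_toSet.subset ?_⟩
  rintro z ⟨-, hz⟩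
  by_contra hn
  exact hz (if_neg hn)

open Classical in
theorem sum_single_eq {A : CommRingCat.{u}} (β : AlgebraicCycle (Spec A) ℤ) (s : Finset (Spec A))
    (hs : ∀ y, β y ≠ 0 → y ∈ s) (e : Spec A → AlgebraicCycle (Spec A) ℤ)
    (he : ∀ x y, e x y = if y = x then 1 else 0) : β = ∑ x ∈ s, β x • e x := by
  refine DFunLike.ext _ _ fun y => ?_
  rw [Function.locallyFinsuppWithin.coe_sum, Finset.sum_apply]
  simp only [Function.locallyFinsuppWithin.coe_zsmul, Pi.smul_apply, he, smul_eq_mul, mul_ite, mul_one, mul_zero]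
  rw [Finset.sum_ite_eq s y fun x => β x]
  split_ifs with h
  · rfl
  · exact by_contra fun hn => h (hs y hn)

open Classical in
theorem pullFun_lineGen (α : Spec R → ℤ) (v : Spec R) :
    Cyc.pullFun (linePr R) δA δB 1 α (lineGen v) = if δA (lineGen v) = δB v + 1 then α v else 0 := by
  rw [Cyc.pullFun]
  have hv := linePr_lineGen v
  have hlen : Module.length ((Spec (lineRing R)).presheaf.stalk (lineGen v))
      ((Spec (lineRing R)).presheaf.stalk (lineGen v) ⧸ Ideal.map ((linePr R).stalkMap (lineGen v)).hom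
        (IsLocalRing.maximalIdeal ((Spec R).presheaf.stalk (linePr R (lineGen v))))) = 1 := by
    suffices hm : Ideal.map ((linePr R).stalkMap (lineGen v)).hom
        (IsLocalRing.maximalIdeal ((Spec R).presheaf.stalk (linePr R (lineGen v)))) =
        IsLocalRing.maximalIdeal _ by
      rw [hm]
      exact (Module.length_eq_one_iff).mpr
        (isSimpleModule_iff_isCoatom.mpr (IsLocalRing.maximalIdeal.isMaximal _).out)
    refine le_antisymm (Ideal.map_le_iff_le_comap.mpr fun a ha hu =>
      ha (isUnit_of_map_unit ((linePr R).stalkMap _).hom a hu)) fun z hz => ?_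
    obtain ⟨a, b, hb, e⟩ := exists_sgerm_div (lineGen v) z
    refine (Ideal.mul_unit_mem_iff_mem _ (isUnit_sgerm.mpr hb)).mp ?_
    rw [e]
    have ha : a ∈ PrimeSpectrum.asIdeal (lineGen v) := by
      by_contra ha
      exact hz (isUnit_of_mul_isUnit_left (e ▸ isUnit_sgerm.mpr ha))
    refine (Ideal.map_le_iff_le_comap.mpr fun (c : R) hc => ?_ :
      Ideal.map (Polynomial.C : R →+* Polynomial R) v.asIdeal ≤ (Ideal.map ((linePr R).stalkMap (lineGen v)).hom
        (IsLocalRing.maximalIdeal ((Spec R).presheaf.stalk (linePr R (lineGen v))))).comap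
          (sgerm (lineRing R) (lineGen v))) ha
    show sgerm (lineRing R) (lineGen v) (Polynomial.C c) ∈ Ideal.map ((linePr R).stalkMap (lineGen v)).hom
      (IsLocalRing.maximalIdeal ((Spec R).presheaf.stalk (linePr R (lineGen v))))
    have h1 : ((linePr R).stalkMap (lineGen v)) (sgerm R (linePr R (lineGen v)) c) =
        sgerm (lineRing R) (lineGen v) (Polynomial.C c) := by
      show ((linePr R).stalkMap (lineGen v)) ((Spec R).presheaf.germ ⊤ _ trivial ((Scheme.ΓSpecIso R).inv c)) = _
      rw [Scheme.Hom.germ_stalkMap_apply]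
      show (Spec (lineRing R)).presheaf.germ ⊤ _ trivial _ = _
      exact congrArg _ (congr(($(Scheme.ΓSpecIso_inv_naturality
        (CommRingCat.ofHom (Polynomial.C : R →+* Polynomial R)))).hom c)).symm
    rw [← h1]
    refine Ideal.mem_map_of_mem _ (fun hu => ?_)
    exact isUnit_sgerm.mp hu (by rw [hv]; exact hc)
  rw [hlen, hv]
  simp

include hA hB hδ in
theorem delta_lineGen (v : Spec R) : δA (lineGen v) = δB v + 1 := by
  have := hA.1
  have h := delta_eq_add_of_isFibreGeneric (linePr R) (hasRelDim_linePr R) hδ (isFibreGeneric_lineGen v)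
  rw [linePr_lineGen] at h
  simpa using h

include hA hB hδ in
theorem delta_le_line (y : Spec (lineRing R)) : δA y ≤ δB (linePr R y) + 1 := by
  have := hA.1
  have h := delta_le_add (linePr R) hA (c := ((1 : ℕ) : ℤ))
    (fun x hx => delta_eq_add_of_isFibreGeneric (linePr R) (hasRelDim_linePr R) hδ hx) y
  simpa using h

open Classical in
include hA hB hδ in
theorem eq_lineGen_of_delta {y : Spec (lineRing R)} (h : δA y = δB (linePr R y) + 1) :
    y = lineGen (linePr R y) := by
  by_contra hne
  have h1 := (hA.2.2 _ _ (lineGen_specializes (specializes_refl (linePr R y))) (Ne.symm hne)).1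
  rw [delta_lineGen hA hB hδ] at h1
  omega

include hA hB hδ in
/-- Every cycle on the line is rationally equivalent to a pullback. -/
theorem exists_pull_line (l : ℤ) (β : AlgebraicCycle (Spec (lineRing R)) ℤ)
    (hβ : β ∈ Cyc.Zk (Spec (lineRing R)) δA (l + 1)) :
    ∃ z : Tot (Spec R) δB, ∃ (α : AlgebraicCycle (Spec R) ℤ) (hα : α ∈ Cyc.Zk (Spec R) δB l),
      z = tcl α hα ∧ tcl β hβ = pullT hB hA (linePr R) (hasRelDim_linePr R) hδ z := by
  classical
  have := hA.1
  have := hB.1
  have hspec : ∀ y, δA y = δB (linePr R y) + 1 → y = lineGen (linePr R y) := fun y h =>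
    eq_lineGen_of_delta hA hB hδ h
  -- pullbacks of single points are single points
  have hpull : ∀ (β : AlgebraicCycle (Spec (lineRing R)) ℤ) (hβ : β ∈ Cyc.Zk (Spec (lineRing R)) δA (l + 1)),
      (∀ y, β y ≠ 0 → δA y = δB (linePr R y) + 1) → ∃ (α : AlgebraicCycle (Spec R) ℤ) (hα : α ∈ Cyc.Zk (Spec R) δB l),
        tcl β hβ = pullT hB hA (linePr R) (hasRelDim_linePr R) hδ (tcl α hα) := by
    intro β hβ hsupp
    obtain ⟨α, hα⟩ := exists_combination ((finite_support_spec β).toFinset.image (linePr R))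
      fun v => β (lineGen v)
    have hαk : α ∈ Cyc.Zk (Spec R) δB l := fun v hv => by
      rw [hα]
      refine ite_eq_right_iff.mpr fun _ => hβ _ ?_
      rw [delta_lineGen hA hB hδ]; omega
    refine ⟨α, hαk, (pullT_tcl hB hA (linePr R) (hasRelDim_linePr R) hδ α hαk β ?_ hβ (by simp)).symm⟩
    funext y
    by_cases hy : δA y = δB (linePr R y) + 1
    · have e := hspec y hy
      rw [Nat.cast_one, e, pullFun_lineGen, if_pos (delta_lineGen hA hB hδ _), hα]
      simp only [← e]
      split_ifs with hmem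
      · rfl
      · refine by_contra fun hne => hmem (Finset.mem_image.mpr ⟨y, (Set.Finite.mem_toFinset _).mpr hne, rfl⟩)
    · rw [Cyc.pullFun, if_neg (by simpa using hy)]
      exact by_contra fun h => hy (hsupp y h)
  -- a single point
  have hsingle : ∀ (w : Spec (lineRing R)) (e : AlgebraicCycle (Spec (lineRing R)) ℤ)
      (he : e ∈ Cyc.Zk (Spec (lineRing R)) δA (l + 1)), (∀ y, e y = if y = w then 1 else 0) →
      ∃ (α : AlgebraicCycle (Spec R) ℤ) (hα : α ∈ Cyc.Zk (Spec R) δB l),
        tcl e he = pullT hB hA (linePr R) (hasRelDim_linePr R) hδ (tcl α hα) := by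
    intro w e he hew
    have hw : δA w = l + 1 := by
      by_contra h
      have := he w h
      rw [hew, if_pos rfl] at this
      omega
    by_cases hgen : δA w = δB (linePr R w) + 1
    · refine hpull e he fun y hy => ?_
      rw [hew] at hy
      split_ifs at hy with h
      · rw [h]; exact hgen
      · exact absurd rfl hy
    set v := linePr R w
    have hne : w ≠ lineGen v := fun h => hgen (by rw [h, delta_lineGen hA hB hδ])
    have hsp : lineGen v ⤳ w := lineGen_specializes (specializes_refl _)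
    have hlt := (hA.2.2 _ _ hsp (Ne.symm hne)).1
    rw [delta_lineGen hA hB hδ] at hlt
    have hle := delta_le_line hA hB hδ w
    obtain ⟨a, haw, hag, hgen'⟩ := exists_generator v w rfl hne
    let φ := (Spec (lineRing R)).residue (lineGen v) (sgerm (lineRing R) (lineGen v) a)
    have hφ : φ ≠ 0 := residue_sgerm_ne_zero hag
    obtain ⟨D, hD⟩ := exists_cycle_divFun hA (lineGen v) φ hφ
    have hv : δB v = l + 1 := by
      obtain ⟨n, -, hn⟩ := hδ w
      have h' : δA w = δB v + n := hn
      omega
    have hgd : δA (lineGen v) = l + 2 := by rw [delta_lineGen hA hB hδ, hv]; ring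
    have hDk : D ∈ Cyc.Zk (Spec (lineRing R)) δA (l + 1) := fun y hy => by
      rw [hD, Cyc.divFun, dif_neg]
      rintro ⟨-, h⟩
      omega
    have hdk : e - D ∈ Cyc.Zk (Spec (lineRing R)) δA (l + 1) := fun y hy => by
      rw [Function.locallyFinsuppWithin.coe_sub, Pi.sub_apply, he y hy, hDk y hy, sub_zero]
    have hrat : Cyc.RatEquiv δA (l + 1) e (e - D) := by
      refine ⟨PUnit, fun _ => lineGen v, fun _ => φ, fun _ => by rw [hgd]; ring, fun _ => hφ,
        fun x => ⟨Set.univ, isOpen_univ, trivial, Set.toFinite _⟩, fun x => ?_⟩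
      rw [finsum_unique, sub_sub_cancel, hD]
    suffices hs : ∀ y, (e - D) y ≠ 0 → δA y = δB (linePr R y) + 1 by
      obtain ⟨α, hα, eα⟩ := hpull (e - D) hdk hs
      exact ⟨α, hα, (tcl_eq_of_ratEquiv rfl he hdk hrat).trans eα⟩
    intro y hy
    by_contra hyg
    apply hy
    rw [Function.locallyFinsuppWithin.coe_sub, Pi.sub_apply, hD, hew, sub_eq_zero]
    by_cases hyw : y = w
    · subst hyw
      rw [if_pos rfl, Cyc.divFun, dif_pos ⟨hsp, show δA y + 1 = δA (lineGen v) by omega⟩]
      refine (ordAt_sgerm_eq_one hA ⟨hsp, by omega⟩ haw hag fun x hx => ?_).symm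
      obtain ⟨b, hb, c, hbc⟩ := hgen' x hx
      exact ⟨Polynomial.C b, c, fun h => hb h, hbc⟩
    · rw [if_neg hyw, Cyc.divFun]
      split_ifs with h
      swap; · rfl
      obtain ⟨hgy, hdy⟩ := h
      have hvy : v ⤳ linePr R y := linePr_lineGen v ▸ hgy.map (linePr R).continuous
      have h2 := delta_le_of_specializes hB.2.2 hvy
      have h3 := delta_le_line hA hB hδ y
      have hyv : linePr R y = v := by
        by_contra hne''
        have := (hB.2.2 v _ hvy (Ne.symm hne'')).1
        omega
      refine (ordAt_sgerm_eq_zero hA ⟨hgy, hdy⟩ fun hay => hyw ?_).symm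
      have hwy : w ⤳ y := (PrimeSpectrum.le_iff_specializes _ _).mp fun x hx => by
        obtain ⟨b, hb, c, hbc⟩ := hgen' x hx
        have hgl : ∀ t, t ∈ PrimeSpectrum.asIdeal (lineGen v) → t ∈ PrimeSpectrum.asIdeal y :=
          fun t ht => (PrimeSpectrum.le_iff_specializes _ _).mpr hgy ht
        have h4 : Polynomial.C b * x ∈ PrimeSpectrum.asIdeal y := by
          have := Ideal.add_mem _ (hgl _ hbc) (Ideal.mul_mem_left _ c hay)
          simpa using this
        rcases y.2.mem_or_mem h4 with hby | hxy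
        · exfalso
          exact hb (show b ∈ v.asIdeal by rw [← hyv]; exact hby)
        · exact hxy
      by_contra hne''
      have := (hA.2.2 w y hwy (Ne.symm hne'')).1
      omega
  -- general cycles
  let s := (finite_support_spec β).toFinset
  have hex : ∀ x : Spec (lineRing R), ∃ e : AlgebraicCycle (Spec (lineRing R)) ℤ,
      ∀ y, e y = if y = x then 1 else 0 := fun x => by
    obtain ⟨e, h1, h2⟩ := Biv.exists_single_cycle x
    refine ⟨e, fun y => ?_⟩
    split_ifs with h
    · rw [h, h1]
    · exact h2 y h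
  choose e he using hex
  have hek : ∀ x ∈ s, e x ∈ Cyc.Zk (Spec (lineRing R)) δA (l + 1) := fun x hx y hy => by
    rw [he, if_neg]
    rintro rfl
    exact (Set.Finite.mem_toFinset _).mp hx (hβ y hy)
  choose α hα hαe using fun x (hx : x ∈ s) => hsingle x (e x) (hek x hx) (he x)
  let γ : AlgebraicCycle (Spec R) ℤ := ∑ x : s, β x • α x.1 x.2
  have hγk : γ ∈ Cyc.Zk (Spec R) δB l := fun v hv => by
    rw [Function.locallyFinsuppWithin.coe_sum, Finset.sum_apply]
    exact Finset.sum_eq_zero fun x _ => by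
      rw [Function.locallyFinsuppWithin.coe_zsmul, Pi.smul_apply, hα x.1 x.2 v hv, smul_zero]
  refine ⟨_, γ, hγk, rfl, ?_⟩
  have hb : β = ∑ x : s, β x • e x.1 := by
    rw [Finset.sum_coe_sort s fun x => β x • e x]
    exact sum_single_eq β s (fun y hy => (Set.Finite.mem_toFinset _).mpr hy) e he
  have hbk : ∀ x : s, β x • e x.1 ∈ Cyc.Zk (Spec (lineRing R)) δA (l + 1) := fun x y hy => by
    rw [Function.locallyFinsuppWithin.coe_zsmul, Pi.smul_apply, hek x.1 x.2 y hy, smul_zero]
  have hak : ∀ x : s, β x • α x.1 x.2 ∈ Cyc.Zk (Spec R) δB l := fun x v hv => by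
    rw [Function.locallyFinsuppWithin.coe_zsmul, Pi.smul_apply, hα x.1 x.2 v hv, smul_zero]
  have hsum := hb ▸ hβ
  rw [tcl_congr rfl hb hβ hsum, tcl_sum _ _ hbk hsum, tcl_sum _ _ hak hγk, map_sum]
  refine Finset.sum_congr rfl fun x _ => ?_
  rw [tcl_zsmul _ (hek x.1 x.2) (hbk x), tcl_zsmul _ (hα x.1 x.2) (hak x), map_zsmul, hαe x.1 x.2]

end Groth.CycInter.PB
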