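import Groth.Agent.CycInter.PbIso
import Groth.Prelude.Def_Bivar2

/-!
The Chern classes of a projective bundle as operational classes.
-/

universe u

set_option autoImplicit false

open CategoryTheory CategoryTheory.Limits AlgebraicGeometry
open scoped DirectSum

noncomputable section

namespace Groth.CycInter.PB

variable {X : Scheme.{u}} {δX : X → ℤ} (B₀ : Bun X δX)

/-- The dimension function of the base change of a bundle to a test scheme. -/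
def Bun.osqDelta (s : Bivar.OSq X δX) : ↥(pullback B₀.π s.g) → ℤ :=
  haveI : LocallyOfFiniteType (pullback.snd B₀.π s.g) :=
    MorphismProperty.of_isPullback (IsPullback.of_hasPullback B₀.π s.g) B₀.lftπ
  (Biv.exists_delta (pullback.snd B₀.π s.g) s.δ).choose

theorem Bun.osqDelta_compat (s : Bivar.OSq X δX) :
    Cyc.DeltaCompat (pullback.snd B₀.π s.g) (B₀.osqDelta s) s.δ :=
  haveI : LocallyOfFiniteType (pullback.snd B₀.π s.g) :=
    MorphismProperty.of_isPullback (IsPullback.of_hasPullback B₀.π s.g) B₀.lftπ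
  (Biv.exists_delta (pullback.snd B₀.π s.g) s.δ).choose_spec

/-- The bundle over a test scheme. -/
def Bun.osq (s : Bivar.OSq X δX) : Bun s.Y s.δ :=
  haveI : LocallyOfFiniteType (pullback.snd B₀.π s.g) :=
    MorphismProperty.of_isPullback (IsPullback.of_hasPullback B₀.π s.g) B₀.lftπ
  B₀.bc s.g (Biv.isSetup_osq B₀.hX s) (IsPullback.of_hasPullback B₀.π s.g)
    (P1C.isSetup_of_lft (Biv.isSetup_osq B₀.hX s) _ (B₀.osqDelta_compat s)) (B₀.osqDelta_compat s)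

/-- The Chern class on the Chow groups of a test scheme. -/
def Bun.chernOp (j : ℕ) (s : Bivar.OSq X δX) (k : ℤ) :
    ChowOps.CH s.Y s.δ k →+ ChowOps.CH s.Y s.δ (k - (j : ℤ)) :=
  (DFinsupp.evalAddMonoidHom (k - (j : ℤ))).comp
    (((B₀.osq s).chern j).comp (DirectSum.of (fun k => ChowOps.CH s.Y s.δ k) k))

theorem Bun.chernOp_cl {j : ℕ} (s : Bivar.OSq X δX) {k : ℤ} {α : AlgebraicCycle s.Y ℤ}
    (hα : α ∈ Cyc.Zk s.Y s.δ k) {γ : AlgebraicCycle s.Y ℤ} (hγ : γ ∈ Cyc.Zk s.Y s.δ (k - (j : ℤ)))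
    (h : (B₀.osq s).chern j (tcl α hα) = tcl γ hγ) :
    B₀.chernOp j s k (ChowOps.cl α hα) = ChowOps.cl γ hγ := by
  show ((B₀.osq s).chern j (tcl α hα)) (k - (j : ℤ)) = _
  rw [h]
  exact DirectSum.of_eq_same (k - (j : ℤ)) _

theorem Bun.tcl_chernOp {j : ℕ} (s : Bivar.OSq X δX) {k : ℤ} {α : AlgebraicCycle s.Y ℤ}
    (hα : α ∈ Cyc.Zk s.Y s.δ k) {γ : AlgebraicCycle s.Y ℤ} {hγ : γ ∈ Cyc.Zk s.Y s.δ (k - (j : ℤ))}
    (h : B₀.chernOp j s k (ChowOps.cl α hα) = ChowOps.cl γ hγ) :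
    (B₀.osq s).chern j (tcl α hα) = tcl γ hγ := by
  obtain ⟨β, hβ, e⟩ := (B₀.osq s).exists_chern_cycle α hα j
  rw [e]
  exact congrArg (DirectSum.of _ _) ((B₀.chernOp_cl s hα hβ e).symm.trans h)

theorem Bun.exists_osq_sq (s t : Bivar.OSq X δX) (h : t.Y ⟶ s.Y) (w : h ≫ s.g = t.g) :
    ∃ (φ : pullback B₀.π t.g ⟶ pullback B₀.π s.g) (_ : IsPullback φ (pullback.snd B₀.π t.g)
        (pullback.snd B₀.π s.g) h),
      φ ≫ pullback.fst B₀.π s.g = pullback.fst B₀.π t.g := by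
  have hc : pullback.fst B₀.π t.g ≫ B₀.π = (pullback.snd B₀.π t.g ≫ h) ≫ s.g := by
    rw [Category.assoc, w]; exact pullback.condition
  refine ⟨pullback.lift (pullback.fst B₀.π t.g) (pullback.snd B₀.π t.g ≫ h) hc, ?_, pullback.lift_fst _ _ _⟩
  exact IsPullback.of_right (by rw [pullback.lift_fst, w]; exact IsPullback.of_hasPullback B₀.π t.g)
    (pullback.lift_snd _ _ _) (IsPullback.of_hasPullback B₀.π s.g)

/-- The bundle on `t` is the base change of the bundle on `s`. -/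
theorem Bun.chern_osq_bc (s t : Bivar.OSq X δX) (h : t.Y ⟶ s.Y) (w : h ≫ s.g = t.g) :
    ∃ (φ : (B₀.osq t).P ⟶ (B₀.osq s).P) (sq : IsPullback φ (B₀.osq t).π (B₀.osq s).π h),
      Cyc.DeltaCompat φ (B₀.osq t).δP (B₀.osq s).δP ∧
        ∀ j, ((B₀.osq s).bc h (Biv.isSetup_osq B₀.hX t) sq (B₀.osq t).hPs (B₀.osq t).hδ).chern j =
          (B₀.osq t).chern j := by
  obtain ⟨φ, sq, hφ⟩ := B₀.exists_osq_sq s t h w
  haveI := (B₀.osq s).lftπ
  haveI := (B₀.osq t).lftπ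
  haveI : LocallyOfFiniteType (pullback.snd B₀.π t.g) := (B₀.osq t).lftπ
  haveI : LocallyOfFiniteType (pullback.snd B₀.π s.g) := (B₀.osq s).lftπ
  haveI : LocallyOfFiniteType h := by
    haveI := s.lft
    haveI : LocallyOfFiniteType (h ≫ s.g) := w ▸ t.lft
    exact locallyOfFiniteType_of_comp h s.g
  haveI : LocallyOfFiniteType φ := MorphismProperty.of_isPullback sq.flip ‹LocallyOfFiniteType h›
  have hh : Cyc.DeltaCompat h t.δ s.δ :=
    Dvr.deltaCompat_of_comp h (g := s.g) (by rw [w]; exact t.compat) s.compat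
  have hd : Cyc.DeltaCompat φ (B₀.osqDelta t) (B₀.osqDelta s) :=
    Dvr.deltaCompat_of_comp φ (g := pullback.snd B₀.π s.g)
      (by rw [sq.w]; exact Bivar.deltaCompat_comp _ h _ t.δ s.δ (B₀.osqDelta_compat t) hh) (B₀.osqDelta_compat s)
  refine ⟨φ, sq, hd, fun j => ?_⟩
  let Bc := (B₀.osq s).bc h (Biv.isSetup_osq B₀.hX t) sq (B₀.osq t).hPs (B₀.osq t).hδ
  let f : Bc.P ⟶ (B₀.osq t).P := 𝟙 (B₀.osq t).P
  haveI : IsIso f := (inferInstance : IsIso (𝟙 (B₀.osq t).P))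
  refine Bc.chern_eq_of_iso (B₀.osq t) rfl f (Category.id_comp _) ?_ j
  exact (Scheme.Modules.pullbackId _).app _ ≪≫ (Scheme.Modules.pullbackCongr hφ.symm).app B₀.O1 ≪≫
    ((Scheme.Modules.pullbackComp φ (pullback.fst B₀.π s.g)).app B₀.O1).symm

/-- Gysin cycles of representatives of a Chern class represent the Chern class of the Gysin cycle. -/
theorem Bun.chern_gysin_cycles {Y : Scheme.{u}} {δ : Y → ℤ} (B : Bun Y δ) {L : Y.Modules}
    (hL : PicF.IsInvertible L) {D : Scheme.{u}} (i : D ⟶ Y) [IsClosedImmersion i]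
    {σ : L.presheaf.obj (Opposite.op ⊤)} (hσ : Cyc.IsZeroSchemeOf i L σ) {PD : Scheme.{u}} {pD : PD ⟶ D}
    {i' : PD ⟶ B.P} [IsClosedImmersion i'] (sq : IsPullback i' pD B.π i) {δD : D → ℤ}
    (eD : δD = fun d => δ (i d)) {δPD : PD → ℤ} (eP : δPD = fun y => B.δP (i' y)) (hD : Cyc.IsSetup D δD)
    (hPD : Cyc.IsSetup PD δPD) (hδ' : Cyc.DeltaCompat pD δPD δD) {j : ℕ} {k : ℤ} {α β : AlgebraicCycle Y ℤ}
    {hα : α ∈ Cyc.Zk Y δ k} {hβ : β ∈ Cyc.Zk Y δ (k - (j : ℤ))} (h : B.chern j (tcl α hα) = tcl β hβ)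
    {w : (ξ : Y) → Cyc.secFibre L ξ} (hw : ∀ ξ, w ξ ≠ 0) (γ ζ : AlgebraicCycle D ℤ)
    (hγe : ∀ d, γ d = Cyc.c1CapFun δ L ⇑α (Cyc.gysinChoice L σ w) (i d))
    (hζe : ∀ d, ζ d = Cyc.c1CapFun δ L ⇑β (Cyc.gysinChoice L σ w) (i d))
    (hγ : γ ∈ Cyc.Zk D δD (k - 1)) (hζ : ζ ∈ Cyc.Zk D δD (k - 1 - (j : ℤ))) :
    (B.bc i hD sq hPD hδ').chern j (tcl γ hγ) = tcl ζ hζ := by
  subst eD eP
  have key := B.chern_gysT hL i hσ sq hδ' j (tcl α hα)
  rw [h, gysT_tcl B.hX hL i hσ β hβ hw ζ hζe hζ (by ring),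
    gysT_tcl B.hX hL i hσ α hα hw γ hγe hγ rfl] at key
  exact key.symm

/-- The Chern class as an operational class. -/
def Bun.chernClass (j : ℕ) : Bivar.OpCl (j : ℤ) X δX where
  op := B₀.chernOp j
  push s t h _ w k := by
    intro α hα
    obtain ⟨φ, sq, hd, hbc⟩ := B₀.chern_osq_bc s t h w
    have hh : Cyc.DeltaCompat h t.δ s.δ :=
      Dvr.deltaCompat_of_comp h (g := s.g) (by rw [w]; exact t.compat) s.compat
    obtain ⟨β, hβ, e⟩ := (B₀.osq t).exists_chern_cycle α hα j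
    refine ⟨β, hβ, B₀.chernOp_cl t hα hβ e, B₀.chernOp_cl s _ _ ?_⟩
    have hS := Biv.isSetup_osq B₀.hX s
    have hT := Biv.isSetup_osq B₀.hX t
    rw [← pushT_tcl hS hT h hh α hα (Bivar.cycMap_mem_Zk h t.δ s.δ k hα) rfl,
      ← pushT_tcl hS hT h hh β hβ (Bivar.cycMap_mem_Zk h t.δ s.δ _ hβ) rfl, ← e, ← hbc j]
    exact ((B₀.osq s).chern_pushT h hT sq (B₀.osq t).hPs (B₀.osq t).hδ hh hd j _).symm
  pull s t h _ r hr w k := by
    intro α hα
    obtain ⟨φ, sq, hd, hbc⟩ := B₀.chern_osq_bc s t h w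
    have := s.lft
    have : LocallyOfFiniteType (h ≫ s.g) := w ▸ t.lft
    have : LocallyOfFiniteType h := locallyOfFiniteType_of_comp h s.g
    have hh : Cyc.DeltaCompat h t.δ s.δ :=
      Dvr.deltaCompat_of_comp h (g := s.g) (by rw [w]; exact t.compat) s.compat
    have hS := Biv.isSetup_osq B₀.hX s
    have hT := Biv.isSetup_osq B₀.hX t
    obtain ⟨β, hβ, e⟩ := (B₀.osq s).exists_chern_cycle α hα j
    refine ⟨β, hβ, B₀.chernOp_cl s hα hβ e, fun α₁ hα₁e hα₁ => ?_⟩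
    have hβ₁ : pullCyc hS hT h hr hh β ∈ Cyc.Zk t.Y t.δ (k + r - (j : ℤ)) := by
      rw [show k + (r : ℤ) - (j : ℤ) = k - (j : ℤ) + r by ring]
      exact pullCyc_mem hS hT h hr hh hβ
    refine ⟨_, hβ₁, pullCyc_spec hS hT h hr hh β, B₀.chernOp_cl t hα₁ hβ₁ ?_⟩
    rw [← pullT_tcl hS hT h hr hh α hα α₁ hα₁e hα₁ rfl,
      ← pullT_tcl hS hT h hr hh β hβ _ (pullCyc_spec hS hT h hr hh β) hβ₁ (by ring), ← e, ← hbc j]
    exact ((B₀.osq s).chern_pullT h hT sq (B₀.osq t).hPs (B₀.osq t).hδ hr hh hd j _).symm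
  gysin s t i _ w L hL σ hσ k := by
    intro α hα
    obtain ⟨φ, sq, hd, hbc⟩ := B₀.chern_osq_bc s t i w
    haveI : IsClosedImmersion φ := MorphismProperty.of_isPullback sq.flip ‹IsClosedImmersion i›
    have hh : Cyc.DeltaCompat i t.δ s.δ :=
      Dvr.deltaCompat_of_comp i (g := s.g) (by rw [w]; exact t.compat) s.compat
    have eδ := Biv.delta_closedImmersion hh
    have eφ : (B₀.osq t).δP = fun y => (B₀.osq s).δP (φ y) := Biv.delta_closedImmersion hd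
    have hS := Biv.isSetup_osq B₀.hX s
    obtain ⟨β, hβ, e⟩ := (B₀.osq s).exists_chern_cycle α hα j
    refine ⟨β, hβ, B₀.chernOp_cl s hα hβ e, fun wf hwf γ hγe hγ => ?_⟩
    obtain ⟨ζ, hζ, hζm⟩ := Biv.exists_gysin_cycle hS hL i (s := σ) hwf β
    have hζ' : ζ ∈ Cyc.Zk t.Y t.δ (k - 1 - (j : ℤ)) := by
      rw [eδ, show k - 1 - (j : ℤ) = k - (j : ℤ) - 1 by ring]
      exact hζm _ hβ
    refine ⟨ζ, hζ', hζ, B₀.chernOp_cl t hγ hζ' ?_⟩
    rw [← hbc j]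
    exact (B₀.osq s).chern_gysin_cycles hL i hσ sq eδ eφ _ _ _ e hwf γ ζ hγe hζ hγ hζ'

end Groth.CycInter.PB
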