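import Groth.Agent.CycInter.PbBase
import Groth.Agent.LocFree.SES
import Groth.Agent.LocFree.Rank

/-!
The first Chern class of an invertible module as the first Chern class of its projective bundle.
-/

universe u

set_option autoImplicit false

open CategoryTheory CategoryTheory.Limits AlgebraicGeometry

noncomputable section

namespace Groth.CycInter.PB

theorem isIso_of_epi_invertible {X : Scheme.{u}} {E F : X.Modules} (hE : FlatMod.IsFinLocFreeOfRank 1 E)
    (hF : FlatMod.IsFinLocFreeOfRank 1 F) (φ : E ⟶ F) [Epi φ] : IsIso φ := by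
  refine QCohMod.isIso_of_stalk φ fun x => (ConcreteCategory.isIso_iff_bijective _).2 ?_
  have := KTheory.LocFree.free_stalk (LocFree.isFinLocFree_of_rank hE) x
  have := KTheory.LocFree.free_stalk (LocFree.isFinLocFree_of_rank hF) x
  have := LocFree.finite_stalk (LocFree.isFinLocFree_of_rank hE) x
  have := LocFree.finite_stalk (LocFree.isFinLocFree_of_rank hF) x
  let e := LinearEquiv.ofFinrankEq (R := X.presheaf.stalk x) (F.presheaf.stalk x) (E.presheaf.stalk x)
    ((LocFree.finrank_stalk hF x).trans (LocFree.finrank_stalk hE x).symm)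
  have hs : Function.Surjective (KTheory.LocFree.stalkₗ φ x) := (QCohMod.epi_iff_stalk φ).1 ‹_› x
  have hbij : Function.Bijective (e.toLinearMap ∘ₗ KTheory.LocFree.stalkₗ φ x) :=
    OrzechProperty.bijective_of_surjective_endomorphism _ (e.surjective.comp hs)
  exact ⟨fun a b hab => hbij.1 (congrArg e hab), hs⟩

variable {X : Scheme.{u}} {δ : X → ℤ}

/-- For a bundle of rank one the first Chern class is that of the invertible module. -/
theorem Bun.chern_one_eq_c1T (B : Bun X δ) (hr : B.r = 1) (hL : PicF.IsInvertible B.E) :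
    B.chern 1 = c1T B.hX hL := by
  haveI := B.flatπ
  haveI := B.lftπ
  haveI := B.hP.epi
  haveI := isIso_of_epi_invertible (Groth.LocFree.isFinLocFreeOfRank_pullback B.π (by rw [← hr]; exact B.hE))
    B.hP.invertible B.q
  refine AddMonoidHom.ext fun z => ?_
  let c : ℕ → Tot X δ := fun j => if j = 0 then z else c1T B.hX hL z
  refine B.chern_eq (c := c) ⟨if_pos rfl, ?_⟩ hr.ge
  have h := DFunLike.congr_fun (pullT_c1T B.hX hL B.hPs B.π B.relDim B.hδ B.hO (asIso B.q).symm) z
  rw [Bun.capRel, hr, Finset.sum_range_succ, Finset.sum_range_one, show c (1 - 0) = c1T B.hX hL z from rfl,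
    show c (1 - 1) = z from rfl, pow_zero, pow_one, one_smul, neg_one_smul, ← sub_eq_add_neg, sub_eq_zero]
  exact h

end Groth.CycInter.PB
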