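import Groth.Agent.CycInter.PbSplit
import Groth.Agent.CycInter.PbRankOne
import Groth.Agent.CycInter.C1Basic
import Groth.Agent.LocFree.Basic

/-!
The Chern class operators of line bundles and of extensions by line bundles.
-/

universe u

set_option autoImplicit false

open CategoryTheory CategoryTheory.Limits AlgebraicGeometry
open Groth.RefRank Groth.Cycles

noncomputable section

namespace Groth.CycInter.PB

variable {X : Scheme.{u}} {δ : X → ℤ}

theorem chernE_zero (hX : Cyc.IsSetup X δ) {E : X.Modules} {r : ℕ} (hE : FlatMod.IsFinLocFreeOfRank r E) :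
    chernE hX hE 0 = AddMonoidHom.id _ := by
  rcases Nat.eq_zero_or_pos r with rfl | hr
  · rw [chernE, dif_neg (Nat.not_succ_le_zero 0), esymOp_zero]
  · obtain ⟨B, rfl, rfl⟩ := exists_bun hX hr hE
    rw [chernE_bun B, B.chern_zero]

theorem chernE_one_invertible (hX : Cyc.IsSetup X δ) {L : X.Modules} (hL : PicF.IsInvertible L)
    (hL1 : FlatMod.IsFinLocFreeOfRank 1 L) : chernE hX hL1 1 = c1T hX hL := by
  obtain ⟨B, hr, rfl⟩ := exists_bun hX le_rfl hL1
  rw [chernE_eq_bun hX hL1 B hr B.hP]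
  exact B.chern_one_eq_c1T hr hL

theorem c1T_structureModule (hX : Cyc.IsSetup X δ) (h : PicF.IsInvertible (Coh.structureModule X)) :
    c1T hX h = 0 := by
  refine hom_ext fun k α hα => ?_
  obtain ⟨v, hv⟩ := Biv.exists_secs h
  obtain ⟨γ, hγ⟩ := exists_cycle_c1CapFun hX h α hv
  have hγk : γ ∈ Cyc.Zk X δ (k - 1) := Biv.c1Cap_mem _ hα _ hγ
  rw [c1T_tcl hX h α hα h (Iso.refl _) hv γ hγ hγk rfl, AddMonoidHom.zero_apply]
  exact tcl_eq_zero_of_ratEquivZero _ (c1_structure hX (by rwa [sub_add_cancel]) hv hγ)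

/-- The Chern classes of an extension by a line bundle. -/
theorem chernE_line_sub (hX : Cyc.IsSetup X δ) {L E F : X.Modules} {m : ℕ} (hL : PicF.IsInvertible L)
    (hE : FlatMod.IsFinLocFreeOfRank (m + 1) E) (hF : FlatMod.IsFinLocFreeOfRank m F) (a : L ⟶ E) (b : E ⟶ F)
    (hab : a ≫ b = 0) [Epi b] (hex : (ShortComplex.mk a b hab).Exact) (n : ℕ) (z : Tot X δ) :
    chernE hX hE (n + 1) z = chernE hX hF (n + 1) z + c1T hX hL (chernE hX hF n z) := by
  have hL1 := Groth.LocFree.isInvertible_iff_ofRank_one.mp hL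
  have hE' : FlatMod.IsFinLocFreeOfRank (1 + m) E := by rwa [add_comm]
  have e : chernE hX hE (n + 1) = chernE hX hE' (n + 1) := by
    obtain ⟨B, hr, rfl⟩ := exists_bun hX (Nat.le_add_left 1 m) hE
    rw [chernE_eq_bun hX hE B hr B.hP, chernE_eq_bun hX hE' B (hr.trans (add_comm _ _)) B.hP]
  rw [e, chernE_whitney hX hL1 hE' hF a b hab hex, Finset.sum_range_succ', Nat.sub_zero,
    Finset.sum_range_succ', Finset.sum_eq_zero fun i _ => ?_, zero_add, chernE_zero hX hL1,
    chernE_one_invertible hX hL hL1, add_comm]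
  · congr 1
    simp only [zero_add, Nat.add_sub_cancel]
    rw [← chernE_one_invertible hX hL hL1]
    exact chernE_comm hX hF hL1 _ _ _
  · rw [chernE_of_lt hX hL1 (show 1 < i + 1 + 1 by omega)]
    exact map_zero _

/-- The Chern classes of a filtered bundle, in any rank. -/
theorem chernE_filt (hX : Cyc.IsSetup X δ) {E : X.Modules} {r : ℕ} (hE : FlatMod.IsFinLocFreeOfRank r E)
    (F : Filt E r) (n : ℕ) : chernE hX hE n = esymOp (F.ops hX) r n := by
  rcases Nat.eq_zero_or_pos r with rfl | hr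
  · rw [chernE, dif_neg (Nat.not_succ_le_zero 0)]
    exact esymOp_congr fun i hi => absurd hi (Nat.not_lt_zero i)
  · obtain ⟨B, hBr, rfl⟩ := exists_bun hX hr hE
    rw [chernE_eq_bun hX hE B hBr B.hP]
    exact B.chern_filt F hBr n

end Groth.CycInter.PB
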