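import Groth.Agent.CycInter.PbOps

/-!
The relation of Chern roots, closed under extensions.
-/

universe u

set_option autoImplicit false

open CategoryTheory CategoryTheory.Limits AlgebraicGeometry
open Groth.RefRank Groth.Cycles

noncomputable section

namespace Groth.CycInter.PB

variable {T : Scheme.{u}} {δ : T → ℤ} (hT : Cyc.IsSetup T δ)

/-- The operators `f 0, ..., f (r-1)` are roots of `E`: the product of their differences with the class of an
invertible module `O` moves classes into the locus where a map `E --> O` (given on a cover of `E`) vanishes. -/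
def Roots (E : T.Modules) (f : ℕ → (Tot T δ →+ Tot T δ)) (r : ℕ) : Prop :=
  ∀ (O : T.Modules) (hO : PicF.IsInvertible O) (Z : Set T), (∀ ξ y, ξ ⤳ y → ξ ∈ Z → y ∈ Z) →
    ∀ w ∈ suppSub T δ Z, ∀ (M : T.Modules) (π : M ⟶ E), Epi π → ∀ ψ : M ⟶ O,
      (∀ y ∈ Z, FibreFactors ψ π y) → diffProd (c1T hT hO) f r w ∈ suppSub T δ (Z ∩ vanishSet ψ)

theorem roots_zero {E : T.Modules} (h : IsZero E) (f : ℕ → (Tot T δ →+ Tot T δ)) : Roots hT E f 0 := by
  intro O hO Z hZ w hw M π hπ ψ hψ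
  refine suppSub_mono ?_ hw
  intro y hy
  refine ⟨hy, fun v => hψ y hy v ?_⟩
  rw [show π = 0 from h.eq_of_tgt _ _]
  exact congr(($(Functor.map_zero (Groth.QCohMod.stalk y) _ _)).hom v)

theorem roots_line {L : T.Modules} (hL : PicF.IsInvertible L) :
    Roots hT L (fun _ => c1T hT hL) 1 := by
  intro O hO Z hZ w hw M π hπ ψ hψ
  exact mem_suppSub_step hO hL hT hψ hZ hw

variable {hT}

theorem Roots.congr {E : T.Modules} {f g : ℕ → (Tot T δ →+ Tot T δ)} {r : ℕ} (h : Roots hT E f r)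
    (e : ∀ i < r, f i = g i) : Roots hT E g r := by
  intro O hO Z hZ w hw M π hπ ψ hψ
  rw [← diffProd_congr (c1T hT hO) e]
  exact h O hO Z hZ w hw M π hπ ψ hψ

theorem Roots.of_iso {E E' : T.Modules} {f : ℕ → (Tot T δ →+ Tot T δ)} {r : ℕ} (h : Roots hT E f r)
    (e : E ≅ E') : Roots hT E' f r := by
  intro O hO Z hZ w hw M π hπ ψ hψ
  refine h O hO Z hZ w hw M (π ≫ e.inv) (epi_comp _ _) ψ fun y hy v hv => hψ y hy v ?_
  have h1 : RefHull.stalkMapₗ ((π ≫ e.inv) ≫ e.hom) y v = 0 := by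
    rw [stalkMap_comp_apply, hv, map_zero]
  rwa [Category.assoc, e.inv_hom_id, Category.comp_id] at h1

/-- Roots of an extension. -/
theorem Roots.ext {E₁ E E₂ : T.Modules} (a : E₁ ⟶ E) (b : E ⟶ E₂) (hab : a ≫ b = 0) [Epi b]
    (hex : (ShortComplex.mk a b hab).Exact) {f g : ℕ → (Tot T δ →+ Tot T δ)} {r₁ r₂ : ℕ}
    (h₁ : Roots hT E₁ f r₁) (h₂ : Roots hT E₂ g r₂) :
    Roots hT E (concatFun r₁ f g) (r₁ + r₂) := by
  intro O hO Z hZ w hw M π hπ ψ hψ
  let p₁ := Limits.pullback.fst π a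
  let p₂ := Limits.pullback.snd π a
  have hp : ∀ (y : T) (t : (Limits.pullback π a).presheaf.stalk y),
      RefHull.stalkMapₗ π y (RefHull.stalkMapₗ p₁ y t) = RefHull.stalkMapₗ a y (RefHull.stalkMapₗ p₂ y t) :=
    fun y t => by rw [← stalkMap_comp_apply, ← stalkMap_comp_apply, Limits.pullback.condition]
  have hk : ∀ y ∈ Z, FibreFactors (p₁ ≫ ψ) p₂ y := fun y hy t ht => by
    rw [stalkMap_comp_apply]
    refine hψ y hy _ ?_
    rw [hp, show RefHull.stalkMapₗ p₂ y t = 0 from ht, map_zero]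
  have hw₁ := h₁ O hO Z hZ w hw _ p₂ inferInstance (p₁ ≫ ψ) hk
  have hk' : ∀ y ∈ Z ∩ vanishSet (p₁ ≫ ψ), FibreFactors ψ (π ≫ b) y := fun y hy v hv => by
    rw [stalkMap_comp_apply] at hv
    obtain ⟨u, hu⟩ := exists_preimage_of_exact a b hab hex y hv
    obtain ⟨t, rfl⟩ := stalkMap_surjective p₂ y u
    have h0 : RefHull.stalkMapₗ π y (v - RefHull.stalkMapₗ p₁ y t) = 0 := by
      rw [map_sub, hp, hu, sub_self]
    have h5 := hψ y hy.1 _ h0
    rw [map_sub, ← stalkMap_comp_apply p₁] at h5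
    exact (Groth.CycInter.PB.fmk_eq_of_sub h5).trans (hy.2 t)
  have hw₂ := h₂ O hO (Z ∩ vanishSet (p₁ ≫ ψ)) (fun ξ y h hξ => ⟨hZ ξ y h hξ.1, specializes_vanishSet hO h hξ.2⟩) _ hw₁ M (π ≫ b)
    (epi_comp _ _) ψ hk'
  rw [diffProd_concat]
  refine suppSub_mono ?_ hw₂
  exact fun y hy => ⟨hy.1.1, hy.2⟩

theorem Filt.roots : ∀ {E : T.Modules} {r : ℕ} (F : Filt E r), Roots hT E (F.ops hT) r := by
  intro E r F
  induction F with
  | zero h => exact roots_zero hT h _
  | @step M E L r F a b hL hab hepi hex ih =>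
      refine (Roots.ext a b hab hex ih (roots_line hT hL)).congr fun i hi => ?_
      rw [concatFun, Filt.ops]
      split_ifs <;> first | rfl | omega

theorem Roots.diffProd_eq_zero {E O : T.Modules} {f : ℕ → (Tot T δ →+ Tot T δ)} {r : ℕ} (h : Roots hT E f r)
    (hO : PicF.IsInvertible O) (ψ : E ⟶ O) [Epi ψ] (w : Tot T δ) : diffProd (c1T hT hO) f r w = 0 := by
  have h1 := h O hO Set.univ (fun _ _ _ _ => trivial) w (mem_suppSub_univ w) E (𝟙 E) inferInstance ψ
    fun y _ v hv => by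
      rw [show v = 0 from (congr(($(CategoryTheory.Functor.map_id (Groth.QCohMod.stalk y) E)).hom v)).symm.trans hv,
        map_zero]
      exact Submodule.Quotient.mk_zero _
  refine eq_zero_of_mem_suppSub ?_ h1
  rw [vanishSet_eq_empty hO, Set.inter_empty]

variable {X : Scheme.{u}} {δX : X → ℤ}

/-- The Chern classes of a bundle with roots. -/
theorem chernE_eq_of_roots (hX : Cyc.IsSetup X δX) {E : X.Modules} {r : ℕ}
    (hE : FlatMod.IsFinLocFreeOfRank r E) (f : ℕ → (Tot X δX →+ Tot X δX))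
    (h : ∀ B : Bun X δX, B.E = E → B.r = r → ∃ f' : ℕ → (Tot B.P B.δP →+ Tot B.P B.δP),
      (∀ i < r, ∀ z, f' i (B.pull z) = B.pull (f i z)) ∧ (∀ i < r, ∀ w, f' i (B.H w) = B.H (f' i w)) ∧
        Roots B.hPs ((Scheme.Modules.pullback B.π).obj B.E) f' r) (n : ℕ) :
    chernE hX hE n = esymOp f r n := by
  rcases Nat.eq_zero_or_pos r with rfl | hr
  · rw [chernE, dif_neg (Nat.not_succ_le_zero 0)]
    exact esymOp_congr fun i hi => absurd hi (Nat.not_lt_zero i)
  obtain ⟨B, hBr, rfl⟩ := exists_bun hX hr hE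
  obtain ⟨f', h1, h2, h3⟩ := h B rfl hBr
  rw [chernE_eq_bun hX hE B hBr B.hP]
  subst hBr
  haveI := B.hP.epi
  exact B.chern_eq_esymOp f f' h1 h2 (fun z => h3.diffProd_eq_zero B.hO B.q (B.pull z)) n

/-- The Chern operators commute with pullback along a splitting. -/
theorem chernE_pull (hX : Cyc.IsSetup X δX) {E : X.Modules} {r : ℕ} (hE : FlatMod.IsFinLocFreeOfRank r E)
    (S : Split X δX) (n : ℕ) (z : Tot X δX) :
    S.pull (chernE hX hE n z) = chernE S.hP (Groth.LocFree.isFinLocFreeOfRank_pullback S.π hE) n (S.pull z) := by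
  rcases Nat.eq_zero_or_pos r with rfl | hr
  · rw [chernE, dif_neg (Nat.not_succ_le_zero 0), chernE, dif_neg (Nat.not_succ_le_zero 0)]
    rcases n with _ | n
    · rw [esymOp_zero, esymOp_zero]; rfl
    · exact map_zero S.pull
  obtain ⟨B, rfl, rfl⟩ := exists_bun hX hr hE
  rw [chernE_bun B]
  haveI := S.hflat
  haveI := S.hlft
  haveI := B.lftπ
  let sq := IsPullback.of_hasPullback B.π S.π
  haveI : LocallyOfFiniteType (Limits.pullback.snd B.π S.π) := MorphismProperty.of_isPullback sq B.lftπ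
  haveI : LocallyOfFiniteType (Limits.pullback.fst B.π S.π) := MorphismProperty.of_isPullback sq.flip S.hlft
  obtain ⟨δ', hδ'⟩ := Biv.exists_delta (Limits.pullback.snd B.π S.π) S.δP
  have hP' := P1C.isSetup_of_lft S.hP _ hδ'
  have hg : Cyc.DeltaCompat (Limits.pullback.fst B.π S.π) δ' B.δP :=
    Dvr.deltaCompat_of_comp _ (g := B.π)
      (by rw [sq.w]; exact Bivar.deltaCompat_comp _ S.π δ' S.δP δX hδ' S.hδ) B.hδ
  show pullT S.hX S.hP S.π S.hd S.hδ (B.chern n z) = _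
  rw [B.chern_pullT S.π S.hP sq hP' hδ' S.hd S.hδ hg n z,
    ← chernE_bun (B.bc S.π S.hP sq hP' hδ')]
  rfl

end Groth.CycInter.PB
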