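import Groth.Prelude.Def_KRR
import Groth.Agent.RelTwist.ProjUnivD
import Groth.Agent.LocFree.Rank

/-!
Relative Proj of the symmetric algebra as a projective bundle with the universal property.
-/

universe u

set_option autoImplicit false

open CategoryTheory CategoryTheory.Limits AlgebraicGeometry Opposite

noncomputable section

namespace Groth.CycInter.PB

variable {S P : Scheme.{u}} {E : S.Modules} {𝒮 : RelProj.QCGrAlg S} {j : E ⟶ 𝒮.toModule}
  {p : P ⟶ S}
  {chart : ∀ (U : S.Opens) (hU : IsAffineOpen U), (((p ⁻¹ᵁ U : P.Opens) : Scheme.{u}) ≅ Proj (𝒮.deg U hU))}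
  {O1 : P.Modules}
  {lam : ∀ (U : S.Opens) (hU : IsAffineOpen U),
    O1 ⟶ (Scheme.Modules.pushforward (RelProj.emb p chart U hU)).obj (GrTwist.twist (𝒮.deg U hU) 1)}

theorem exists_isProjBundle (hq : Coh.IsQCoh E) (hj : RelProj.IsGrSymAlg E 𝒮 j)
    (hP : RelProj.IsRelProj 𝒮 p chart) (hO1 : RelProj.IsRelTwist 𝒮 p chart 1 O1 lam)
    (hinv : PicF.IsInvertible O1) :
    ∃ q : (Scheme.Modules.pullback p).obj E ⟶ O1, KRR.IsProjBundle p E O1 q := by
  have : E.IsQuasicoherent := hq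
  obtain ⟨φ, hφ⟩ := Groth.RelTw.exists_phi hj hP hO1
  exact ⟨_, Groth.LocFree.isInvertible_iff_ofRank_one.1 hinv, Groth.RelTw.epi_adjoint hj hO1 hφ,
    fun T g L hL s hs =>
      haveI := hs
      Groth.RelTw.existsUnique_toProjBdl hj hP hO1 hφ (Groth.LocFree.isInvertible_iff_ofRank_one.2 hL) s⟩

end Groth.CycInter.PB
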