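import Groth.Agent.CycInter.PbFormula
import Groth.Agent.CycInter.PbRelProj

/-!
Chains of caps on a projective bundle as classes; independence of the classes of the bundle formula.
-/

universe u

set_option autoImplicit false

open CategoryTheory CategoryTheory.Limits AlgebraicGeometry Groth.Cycles

noncomputable section

namespace Groth.CycInter.PB

variable {X : Scheme.{u}} {δ : X → ℤ}

variable (B : Bun X δ)

/-- A chain of caps with arbitrary nowhere zero sections is made of cycles computing the powers of `H`. -/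
theorem Bun.exists_chain {k : ℤ} {α : AlgebraicCycle X ℤ} (hα : α ∈ Cyc.Zk X δ k)
    (t : ℕ → (ξ : B.P) → Cyc.secFibre B.O1 ξ) (ht : ∀ i ξ, t i ξ ≠ 0) (γ : ℕ → B.P → ℤ)
    (hγ0 : γ 0 = Cyc.pullFun B.π B.δP δ ((B.r : ℤ) - 1) ⇑α)
    (hγs : ∀ i : ℕ, γ (i + 1) = Cyc.c1CapFun B.δP B.O1 (γ i) (t i)) (s : ℕ) :
    ∃ (c : AlgebraicCycle B.P ℤ) (hc : c ∈ Cyc.Zk B.P B.δP (k + (B.r : ℤ) - 1 - s)),
      ⇑c = γ s ∧ tcl c hc = B.Hpow s (B.pull (tcl α hα)) := by
  have hr := B.hr
  have hcast : ((B.r - 1 : ℕ) : ℤ) = (B.r : ℤ) - 1 := by omega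
  induction s with
  | zero =>
      haveI := B.flatπ
      haveI := B.lftπ
      have hm : B.iter α 0 ∈ Cyc.Zk B.P B.δP (k + (B.r : ℤ) - 1 - (0 : ℕ)) := by
        have := B.iter_mem hα 0
        rwa [show k + ((B.r - 1 : ℕ) : ℤ) - ((0 : ℕ) : ℤ) = k + (B.r : ℤ) - 1 - (0 : ℕ) by rw [hcast]; ring] at this
      refine ⟨B.iter α 0, hm, ?_, (B.tcl_iter hα 0 hm (by rw [hcast]; ring)).symm⟩
      rw [B.iter_zero, hγ0, hcast]
  | succ s ih =>
      obtain ⟨c, hc, hcγ, hct⟩ := ih
      obtain ⟨c', hc'⟩ := exists_cycle_c1CapFun B.hPs B.hO c (ht s)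
      have hm : c' ∈ Cyc.Zk B.P B.δP (k + (B.r : ℤ) - 1 - ((s + 1 : ℕ) : ℤ)) := by
        have := Biv.c1Cap_mem _ hc _ hc'
        rwa [show k + (B.r : ℤ) - 1 - (s : ℤ) - 1 = k + (B.r : ℤ) - 1 - ((s + 1 : ℕ) : ℤ) by push_cast; ring] at this
      refine ⟨c', hm, by rw [hc', hγs, hcγ], ?_⟩
      show _ = B.H (B.Hpow s (B.pull (tcl α hα)))
      rw [← hct]
      exact (c1T_tcl B.hPs B.hO c hc B.hO (Iso.refl _) (ht s) c' hc' hm (by push_cast; ring)).symm

/-- The classes of the projective bundle formula are independent. -/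
theorem Bun.independent (a : Fin B.r → Tot X δ)
    (h : ∑ i : Fin B.r, B.Hpow i (B.pull (a i)) = 0) : ∀ i, a i = 0 := by
  suffices ∀ n : ℕ, ∀ i : Fin B.r, B.r - 1 - (i : ℕ) ≤ n → a i = 0 from fun i => this _ i le_rfl
  intro n
  induction n using Nat.strong_induction_on with
  | _ n ih =>
      intro i hi
      by_cases hlt : B.r - 1 - (i : ℕ) < n
      · exact ih _ hlt i le_rfl
      have hn : B.r - 1 - (i : ℕ) = n := by omega
      have h1 := congrArg (fun z => B.push (B.Hpow (B.r - 1 - (i : ℕ)) z)) h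
      simp only [map_sum, map_zero, ← B.Hpow_add] at h1
      rw [Finset.sum_eq_single i ?_ (by simp)] at h1
      · have hi' := i.2
        have e := DFunLike.congr_fun (B.push_Hpow_pull (B.r - 1 - (i : ℕ) + (i : ℕ)) (by omega)) (a i)
        rw [if_pos (by omega)] at e
        exact e.symm.trans h1
      · intro j _ hji
        rcases lt_trichotomy (j : ℕ) i with hlt' | heq | hgt
        · have hi' := i.2
          have e := DFunLike.congr_fun (B.push_Hpow_pull (B.r - 1 - (i : ℕ) + (j : ℕ)) (by omega)) (a j)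
          rw [if_neg (by omega)] at e
          exact e
        · exact absurd (Fin.ext heq) hji
        · rw [ih (B.r - 1 - (j : ℕ)) (by have := j.2; omega) j le_rfl]
          simp

end Groth.CycInter.PB
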