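import Groth.Agent.Cycles.SecDiv
import Groth.Agent.QCohMod.Affine

/-!
Stalks, values and orders on affine schemes in terms of elements of the ring.
-/

universe u

set_option autoImplicit false

open CategoryTheory AlgebraicGeometry IsLocalRing
open Groth.RefRank Groth.Cycles

noncomputable section

namespace Groth.CycInter.PB

variable (A : CommRingCat.{u})

/-- The image of a ring element in a stalk of the spectrum. -/
def sgerm (y : Spec A) : A →+* (Spec A).presheaf.stalk y :=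
  ((Scheme.ΓSpecIso A).inv ≫ (Spec A).presheaf.germ ⊤ y trivial).hom

variable {A}

theorem isUnit_sgerm {y : Spec A} {a : A} : IsUnit (sgerm A y a) ↔ a ∉ PrimeSpectrum.asIdeal y := by
  rw [sgerm, CommRingCat.hom_comp, RingHom.comp_apply, ← Scheme.mem_basicOpen,
    AlgebraicGeometry.basicOpen_eq_of_affine']
  simp
  exact Iff.rfl

theorem exists_sgerm_div (y : Spec A) (z : (Spec A).presheaf.stalk y) :
    ∃ a b : A, b ∉ PrimeSpectrum.asIdeal y ∧ z * sgerm A y b = sgerm A y a := by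
  have hU := isAffineOpen_top (Spec A)
  let alg : Algebra Γ(Spec A, ⊤) ((Spec A).presheaf.stalk y) :=
    TopCat.Presheaf.algebra_section_stalk (Spec A).presheaf (⟨y, trivial⟩ : (⊤ : (Spec A).Opens))
  have := hU.isLocalization_stalk (⟨y, trivial⟩ : (⊤ : (Spec A).Opens))
  obtain ⟨⟨a, b⟩, e⟩ := IsLocalization.surj (hU.primeIdealOf (⟨y, trivial⟩ : (⊤ : (Spec A).Opens))).asIdeal.primeCompl z
  have ha : ∀ c : Γ(Spec A, ⊤), sgerm A y ((Scheme.ΓSpecIso A).hom c) =
      algebraMap Γ(Spec A, ⊤) ((Spec A).presheaf.stalk y) c := fun c => by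
    show (Spec A).presheaf.germ ⊤ y trivial ((Scheme.ΓSpecIso A).inv ((Scheme.ΓSpecIso A).hom c)) = _
    rw [Iso.hom_inv_id_apply]
    rfl
  refine ⟨(Scheme.ΓSpecIso A).hom a, (Scheme.ΓSpecIso A).hom b.1, ?_, by rw [ha, ha]; exact e⟩
  rw [← isUnit_sgerm, ha]
  exact IsLocalization.map_units _ b

theorem specMap_sgerm {ξ y : Spec A} (h : ξ ⤳ y) (a : A) :
    Cyc.specMap y ξ h (sgerm A y a) = (Spec A).residue ξ (sgerm A ξ a) := by
  show (Spec A).residue ξ ((Spec A).presheaf.stalkSpecializes h _) = _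
  rw [sgerm, CommRingCat.hom_comp, RingHom.comp_apply, TopCat.Presheaf.germ_stalkSpecializes_apply]
  rfl

theorem specMap_sgerm_eq_zero {ξ y : Spec A} (h : ξ ⤳ y) (a : A) :
    Cyc.specMap y ξ h (sgerm A y a) = 0 ↔ a ∈ PrimeSpectrum.asIdeal ξ := by
  rw [specMap_sgerm]
  refine (IsLocalRing.residue_eq_zero_iff _).trans ?_
  rw [IsLocalRing.mem_maximalIdeal, mem_nonunits_iff, isUnit_sgerm, not_not]

theorem residue_sgerm_ne_zero {ξ : Spec A} {a : A} (ha : a ∉ PrimeSpectrum.asIdeal ξ) :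
    (Spec A).residue ξ (sgerm A ξ a) ≠ 0 := fun h =>
  ha ((specMap_sgerm_eq_zero (specializes_refl ξ) a).mp ((specMap_sgerm _ a).trans h))

/-- An element generating the prime at `y` modulo that at `ξ` has order one. -/
theorem ordAt_sgerm_eq_one {δ : Spec A → ℤ} (hA : Cyc.IsSetup (Spec A) δ) {ξ y : Spec A}
    (h : IsDivPt δ ξ y) {a : A} (hay : a ∈ PrimeSpectrum.asIdeal y) (haξ : a ∉ PrimeSpectrum.asIdeal ξ)
    (hgen : ∀ x ∈ PrimeSpectrum.asIdeal y, ∃ b c : A, b ∉ PrimeSpectrum.asIdeal y ∧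
      b * x - c * a ∈ PrimeSpectrum.asIdeal ξ) :
    Cyc.ordAt y ξ h.1 ((Spec A).residue ξ (sgerm A ξ a)) = 1 := by
  have := hA.1
  have := isDomain_locQuot h.1
  have := krullDimLE_one_of_isDivPt hA h
  have := isFractionRing_locQuot h.1
  let I := RingHom.ker (Cyc.specMap y ξ h.1)
  let G : A →+* Cyc.LocQuot y ξ h.1 := (Ideal.Quotient.mk I).comp (sgerm A y)
  have hG : ∀ x, G x = 0 ↔ x ∈ PrimeSpectrum.asIdeal ξ := fun x =>
    Ideal.Quotient.eq_zero_iff_mem.trans (specMap_sgerm_eq_zero h.1 x)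
  have hne : G a ≠ 0 := fun h0 => haξ ((hG a).mp h0)
  rw [← specMap_sgerm h.1]
  show Cyc.ordAt y ξ h.1 (algebraMap (Cyc.LocQuot y ξ h.1) ((Spec A).residueField ξ) (G a)) = 1
  rw [Cyc.ordAt, Groth.RefRank.ordFrac_algebraMap' hne]
  suffices hmax : (Ideal.span {G a}).IsMaximal by
    rw [Ring.ord, (Module.length_eq_one_iff).mpr (isSimpleModule_iff_isCoatom.mpr hmax.out)]
    rfl
  have : IsLocalRing (Cyc.LocQuot y ξ h.1) :=
    IsLocalRing.of_surjective' (Ideal.Quotient.mk I) Ideal.Quotient.mk_surjective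
  have hlh : IsLocalHom (Ideal.Quotient.mk I) := IsLocalHom.of_surjective _ Ideal.Quotient.mk_surjective
  have hle : Ideal.span {G a} ≠ ⊤ := by
    rw [Ne, Ideal.span_singleton_eq_top]
    exact fun hu => isUnit_sgerm.mp (isUnit_of_map_unit (Ideal.Quotient.mk I) _ hu) hay
  suffices hm : maximalIdeal (Cyc.LocQuot y ξ h.1) = Ideal.span {G a} from hm ▸ maximalIdeal.isMaximal _
  refine le_antisymm (fun z hz => ?_) (IsLocalRing.le_maximalIdeal hle)
  obtain ⟨z, rfl⟩ := Ideal.Quotient.mk_surjective z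
  obtain ⟨p, q, hq, e⟩ := exists_sgerm_div y z
  have hqu : IsUnit (G q) := (isUnit_sgerm.mpr hq).map (Ideal.Quotient.mk I)
  refine (Ideal.mul_unit_mem_iff_mem _ hqu).mp ?_
  show Ideal.Quotient.mk I z * Ideal.Quotient.mk I (sgerm A y q) ∈ _
  rw [← map_mul, e]
  have hp : p ∈ PrimeSpectrum.asIdeal y := by
    by_contra hp
    exact hz ((isUnit_of_mul_isUnit_left (e ▸ isUnit_sgerm.mpr hp)).map _)
  obtain ⟨b, c, hb, hbc⟩ := hgen p hp
  refine (Ideal.unit_mul_mem_iff_mem _ ((isUnit_sgerm.mpr hb).map (Ideal.Quotient.mk I))).mp ?_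
  show G b * G p ∈ _
  have := (hG _).mpr hbc
  rw [map_sub, map_mul, map_mul, sub_eq_zero] at this
  rw [this]
  exact Ideal.mul_mem_left _ _ (Ideal.subset_span rfl)

theorem ordAt_sgerm_eq_zero {δ : Spec A → ℤ} (hA : Cyc.IsSetup (Spec A) δ) {ξ y : Spec A}
    (h : IsDivPt δ ξ y) {a : A} (hay : a ∉ PrimeSpectrum.asIdeal y) :
    Cyc.ordAt y ξ h.1 ((Spec A).residue ξ (sgerm A ξ a)) = 0 := by
  rw [← specMap_sgerm h.1]
  exact ordAt_specMap_of_isUnit hA h (isUnit_sgerm.mpr hay)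

end Groth.CycInter.PB
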