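import Groth.Agent.CycInter.PbBase
import Groth.Agent.CycInter.PbFilt

/-!
Chern classes of filtered bundles and of extensions of filtered bundles.
-/

universe u

set_option autoImplicit false

open CategoryTheory CategoryTheory.Limits AlgebraicGeometry
open Groth.RefRank Groth.Cycles

noncomputable section

namespace Groth.CycInter.PB

/-- The concatenation of two sequences at position `a`. -/
def concatFun {A : Type*} (a : ℕ) (f g : ℕ → A) (i : ℕ) : A := if i < a then f i else g (i - a)

theorem diffProd_concat {P : Type*} [AddCommGroup P] (H : P →+ P) (f g : ℕ → (P →+ P)) (a : ℕ) :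
    ∀ (b : ℕ) (w : P), diffProd H (concatFun a f g) (a + b) w = diffProd H g b (diffProd H f a w) := by
  intro b
  induction b with
  | zero =>
      intro w
      have e : ∀ j, j ≤ a → diffProd H (concatFun a f g) j = diffProd H f j := by
        intro j
        induction j with
        | zero => intro _; rfl
        | succ j ih => intro h; rw [diffProd, diffProd, ih (by omega), concatFun, if_pos (show j < a by omega)]
      exact DFunLike.congr_fun (e a le_rfl) w
  | succ b ih =>
      intro w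
      rw [show a + (b + 1) = (a + b) + 1 from rfl, diffProd, AddMonoidHom.comp_apply, ih, concatFun,
        if_neg (by omega), Nat.add_sub_cancel_left]
      rfl

variable {X : Scheme.{u}} {δ : X → ℤ} (B : Bun X δ)

theorem Bun.iterOp_H (i : ℕ) : iterOp B.H i = B.Hpow i := by
  induction i with
  | zero => rfl
  | succ i ih => exact congrArg B.H.comp ih

/-- A factorisation of the relation gives the Chern classes. -/
theorem Bun.chern_eq_esymOp (f : ℕ → (Tot X δ →+ Tot X δ)) (f' : ℕ → (Tot B.P B.δP →+ Tot B.P B.δP))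
    (h1 : ∀ i < B.r, ∀ z, f' i (B.pull z) = B.pull (f i z)) (h2 : ∀ i < B.r, ∀ w, f' i (B.H w) = B.H (f' i w))
    (h : ∀ z, diffProd B.H f' B.r (B.pull z) = 0) (n : ℕ) : B.chern n = esymOp f B.r n := by
  by_cases hn : n ≤ B.r
  · refine AddMonoidHom.ext fun z => B.chern_eq (c := fun n => esymOp f B.r n z) ⟨?_, ?_⟩ hn
    · dsimp only
      rw [esymOp_zero]; rfl
    · have e := h z
      rw [diffProd_apply B.H f' f B.pull B.r h1 h2] at e
      simp only [B.iterOp_H] at e
      rcases neg_one_pow_eq_or ℤ B.r with he | he <;> rw [he] at e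
      · rwa [one_smul] at e
      · rwa [neg_one_smul, neg_eq_zero] at e
  · rw [B.chern_of_lt (not_le.mp hn), esymOp_of_lt f (not_le.mp hn)]

theorem Bun.ops_pull {E : X.Modules} {r : ℕ} (F : Filt E r) : ∀ {i : ℕ}, i < r → ∀ z : Tot X δ,
    (F.pull B.π).ops B.hPs i (B.pull z) = B.pull (F.ops B.hX i z) := by
  haveI := B.flatπ
  haveI := B.lftπ
  induction F with
  | zero h => intro i hi; omega
  | @step M E L r F a b hL hab hepi hex ih =>
      intro i hi z
      rw [Filt.pull, Filt.ops, Filt.ops]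
      split_ifs with h
      · exact (DFunLike.congr_fun (pullT_c1T B.hX hL B.hPs B.π B.relDim B.hδ
          (Groth.PicAux.isInvertible_pullback B.π hL) (Iso.refl _)) z).symm
      · exact ih (by omega) z

theorem Bun.ops_H {E : B.P.Modules} {r : ℕ} (F : Filt E r) : ∀ {i : ℕ}, i < r → ∀ w : Tot B.P B.δP,
    F.ops B.hPs i (B.H w) = B.H (F.ops B.hPs i w) := by
  induction F with
  | zero h => intro i hi; omega
  | @step M E L r F a b hL hab hepi hex ih =>
      intro i hi w
      rw [Filt.ops]
      split_ifs with h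
      · exact DFunLike.congr_fun (c1T_comm B.hPs hL B.hO) w
      · exact ih (by omega) w

/-- The Chern classes of a filtered bundle. -/
theorem Bun.chern_filt {r : ℕ} (F : Filt B.E r) (hr : B.r = r) (n : ℕ) :
    B.chern n = esymOp (F.ops B.hX) r n := by
  subst hr
  refine B.chern_eq_esymOp _ ((F.pull B.π).ops B.hPs) (fun i hi => B.ops_pull F hi)
    (fun i hi => B.ops_H (F.pull B.π) hi) (fun z => ?_) n
  haveI := B.hP.epi
  refine eq_zero_of_mem_suppSub (Z := Set.univ ∩ vanishSet B.q) ?_
    ((F.pull B.π).mem_suppSub B.hPs B.hO (fun _ _ _ _ => trivial) (mem_suppSub_univ _) B.q)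
  rw [vanishSet_eq_empty B.hO, Set.inter_empty]

/-- The relation for an extension of filtered bundles, on any scheme. -/
theorem mem_suppSub_ext {T : Scheme.{u}} {δT : T → ℤ} (hT : Cyc.IsSetup T δT) {O : T.Modules}
    (hO : PicF.IsInvertible O) {E₁ E E₂ : T.Modules} (a : E₁ ⟶ E) (b : E ⟶ E₂) (hab : a ≫ b = 0) [Epi b]
    (hex : (ShortComplex.mk a b hab).Exact) {r₁ r₂ : ℕ} (F₁ : Filt E₁ r₁) (F₂ : Filt E₂ r₂) (ψ : E ⟶ O) [Epi ψ]
    (w : Tot T δT) :
    diffProd (c1T hT hO) (F₂.ops hT) r₂ (diffProd (c1T hT hO) (F₁.ops hT) r₁ w) = 0 := by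
  set Z := Set.univ ∩ vanishSet (a ≫ ψ) with hZdef
  have hZspec : ∀ ξ y, ξ ⤳ y → ξ ∈ Z → y ∈ Z := fun ξ y h hξ => ⟨trivial, specializes_vanishSet hO h hξ.2⟩
  have hw := F₁.mem_suppSub hT hO (fun _ _ _ _ => trivial) (mem_suppSub_univ w) (a ≫ ψ)
  have hkill : ∀ y ∈ Z, ∀ v : E.presheaf.stalk y, RefHull.stalkMapₗ b y v = 0 →
      fmk (RefHull.stalkMapₗ ψ y v) = 0 := fun y hy v hv => by
    obtain ⟨u, rfl⟩ := exists_preimage_of_exact a b hab hex y hv
    rw [← stalkMap_comp_apply]
    exact hy.2 u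
  have hfst : ∀ {M : T.Modules} (θ : M ⟶ E₂) (y : T) (v : (Limits.pullback b θ).presheaf.stalk y),
      RefHull.stalkMapₗ b y (RefHull.stalkMapₗ (Limits.pullback.fst b θ) y v) =
        RefHull.stalkMapₗ θ y (RefHull.stalkMapₗ (Limits.pullback.snd b θ) y v) := fun θ y v => by
    rw [← stalkMap_comp_apply, ← stalkMap_comp_apply, Limits.pullback.condition]
  have key : ∀ {M : T.Modules} {r : ℕ} (F : Filt M r) (θ : M ⟶ E₂),
      diffProd (c1T hT hO) (F.ops hT) r (diffProd (c1T hT hO) (F₁.ops hT) r₁ w) ∈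
        suppSub T δT (Z ∩ vanishSet (Limits.pullback.fst b θ ≫ ψ)) := by
    intro M r F
    induction F with
    | @zero M h =>
        intro θ
        refine suppSub_mono ?_ hw
        intro y hy
        refine ⟨hy, fun v => ?_⟩
        rw [stalkMap_comp_apply]
        refine hkill y hy _ ?_
        rw [hfst, ← stalkMap_comp_apply,
          show Limits.pullback.snd b θ ≫ θ = 0 from (congrArg _ (h.eq_of_src θ 0)).trans Limits.comp_zero]
        exact congr(($(Functor.map_zero (Groth.QCohMod.stalk y) _ _)).hom v)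
    | @step M₀ M L r F a₀ b₀ hL hab₀ hepi hex₀ ih =>
        intro θ
        let bb : Limits.pullback b θ ⟶ L := Limits.pullback.snd b θ ≫ b₀
        haveI := hepi
        haveI : Epi bb := epi_comp _ _
        let aa : Limits.pullback b (a₀ ≫ θ) ⟶ Limits.pullback b θ :=
          Limits.pullback.lift (Limits.pullback.fst b _) (Limits.pullback.snd b _ ≫ a₀)
            (by rw [Category.assoc, Limits.pullback.condition])
        let φ' := Limits.pullback.fst b (a₀ ≫ θ) ≫ ψ
        have hs : ∀ ξ y, ξ ⤳ y → ξ ∈ Z ∩ vanishSet φ' → y ∈ Z ∩ vanishSet φ' :=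
          fun ξ y h hξ => ⟨hZspec ξ y h hξ.1, specializes_vanishSet hO h hξ.2⟩
        have hf : ∀ y ∈ Z ∩ vanishSet φ', FibreFactors (Limits.pullback.fst b θ ≫ ψ) bb y := fun y hy v hv => by
          rw [stalkMap_comp_apply] at hv
          obtain ⟨w', hw'⟩ := exists_preimage_of_exact _ _ hab₀ hex₀ y hv
          obtain ⟨u, rfl⟩ := stalkMap_surjective (Limits.pullback.snd b (a₀ ≫ θ)) y w'
          have h3 := hfst θ y (v - RefHull.stalkMapₗ aa y u)
          have h4 : RefHull.stalkMapₗ (Limits.pullback.snd b θ) y (v - RefHull.stalkMapₗ aa y u) = 0 := by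
            rw [map_sub, ← stalkMap_comp_apply aa, Limits.pullback.lift_snd, stalkMap_comp_apply, hw', sub_self]
          rw [h4, map_zero] at h3
          have h5 := hkill y hy.1 _ h3
          rw [← stalkMap_comp_apply, map_sub, ← stalkMap_comp_apply aa] at h5
          refine (Groth.CycInter.PB.fmk_eq_of_sub h5).trans ?_
          rw [show aa ≫ Limits.pullback.fst b θ ≫ ψ = φ' from (Category.assoc _ _ _).symm.trans
            (congrArg (· ≫ ψ) (Limits.pullback.lift_fst _ _ _))]
          exact hy.2 u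
        have h1 := mem_suppSub_step hO hL hT hf hs (ih (a₀ ≫ θ))
        rw [diffProd, Filt.ops, if_pos rfl, AddMonoidHom.comp_apply,
          diffProd_congr (c1T hT hO) fun i hi => F.ops_step_lt hT a₀ b₀ hL hab₀ hepi hex₀ hi]
        refine suppSub_mono ?_ h1
        intro y hy
        exact ⟨hy.1.1, hy.2⟩
  refine eq_zero_of_mem_suppSub ?_ (key F₂ (𝟙 E₂))
  haveI : Epi (Limits.pullback.fst b (𝟙 E₂) ≫ ψ) := epi_comp _ _
  rw [vanishSet_eq_empty hO, Set.inter_empty]

/-- The Chern classes of an extension of two filtered bundles. -/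
theorem Bun.chern_ext {E₁ E₂ : X.Modules} (a : E₁ ⟶ B.E) (b : B.E ⟶ E₂) (hab : a ≫ b = 0) [Epi b]
    (hex : (ShortComplex.mk a b hab).Exact) {r₁ r₂ : ℕ} (F₁ : Filt E₁ r₁) (F₂ : Filt E₂ r₂)
    (hr : B.r = r₁ + r₂) (n : ℕ) (z : Tot X δ) :
    B.chern n z = ∑ i ∈ Finset.range (n + 1),
      esymOp (F₂.ops B.hX) r₂ (n - i) (esymOp (F₁.ops B.hX) r₁ i z) := by
  haveI := B.hP.epi
  rw [B.chern_eq_esymOp (concatFun r₁ (F₁.ops B.hX) (F₂.ops B.hX))
    (concatFun r₁ ((F₁.pull B.π).ops B.hPs) ((F₂.pull B.π).ops B.hPs)) (fun i hi z => ?_) (fun i hi w => ?_)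
    (fun z => ?_) n, hr, esymOp_append]
  · refine Finset.sum_congr rfl fun i _ => ?_
    rw [esymOp_congr (f := concatFun r₁ (F₁.ops B.hX) (F₂.ops B.hX)) (g := F₁.ops B.hX)
        fun j hj => if_pos hj,
      esymOp_congr (f := fun i => concatFun r₁ (F₁.ops B.hX) (F₂.ops B.hX) (r₁ + i)) (g := F₂.ops B.hX)
        fun j _ => (if_neg (by omega)).trans (by rw [Nat.add_sub_cancel_left])]
  · unfold concatFun
    split_ifs with h
    · exact B.ops_pull F₁ h z
    · exact B.ops_pull F₂ (by omega) z
  · unfold concatFun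
    split_ifs with h
    · exact B.ops_H (F₁.pull B.π) h w
    · exact B.ops_H (F₂.pull B.π) (by omega) w
  · rw [hr, diffProd_concat]
    haveI : Epi ((Scheme.Modules.pullback B.π).map b) := inferInstance
    exact mem_suppSub_ext B.hPs B.hO ((Scheme.Modules.pullback B.π).map a) ((Scheme.Modules.pullback B.π).map b)
      (by rw [← Functor.map_comp, hab, Functor.map_zero])
      (hex.map_of_epi_of_preservesCokernel (Scheme.Modules.pullback B.π) inferInstance inferInstance)
      (F₁.pull B.π) (F₂.pull B.π) B.q (B.pull z)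

end Groth.CycInter.PB
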