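import Groth.Agent.CycInter.PbChernCl
import Groth.Agent.CycInter.PbWhitney
import Groth.Agent.LocFree.SES
import Groth.Agent.KTheory.KvbModel

/-!
Splitting of bundles and the Chern class operators of an arbitrary bundle.
-/

universe u

set_option autoImplicit false

open CategoryTheory CategoryTheory.Limits AlgebraicGeometry
open Groth.RefRank Groth.Cycles

noncomputable section

namespace Groth.CycInter.PB

variable {X : Scheme.{u}}

variable {δ : X → ℤ}

/-- A flat morphism with injective pullback on total Chow groups. -/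
structure Split (X : Scheme.{u}) (δ : X → ℤ) where
  P : Scheme.{u}
  π : P ⟶ X
  δP : P → ℤ
  d : ℕ
  hX : Cyc.IsSetup X δ
  hP : Cyc.IsSetup P δP
  hflat : Flat π
  hlft : LocallyOfFiniteType π
  hd : Cyc.HasRelDim π d
  hδ : Cyc.DeltaCompat π δP δ
  inj : Function.Injective (haveI := hflat; haveI := hlft; pullT hX hP π hd hδ)

/-- The pullback along a splitting. -/
def Split.pull (S : Split X δ) : Tot X δ →+ Tot S.P S.δP :=
  haveI := S.hflat; haveI := S.hlft; pullT S.hX S.hP S.π S.hd S.hδ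

theorem Bun.pull_injective (B : Bun X δ) : Function.Injective B.pull := by
  refine (injective_iff_map_eq_zero B.pull).mpr fun z hz => ?_
  have h := B.independent (fun i => if (i : ℕ) = 0 then z else 0) (Finset.sum_eq_zero fun i _ => ?_) ⟨0, B.hr⟩
  · simpa using h
  · split_ifs with hi
    · rw [hz, map_zero]
    · rw [map_zero, map_zero]

theorem exists_split : ∀ (r : ℕ) {X : Scheme.{u}} {δ : X → ℤ} (_ : Cyc.IsSetup X δ) {E : X.Modules}
    (_ : FlatMod.IsFinLocFreeOfRank r E),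
    ∃ S : Split X δ, Nonempty (Filt ((Scheme.Modules.pullback S.π).obj E) r) := by
  intro r
  induction r with
  | zero =>
      intro X δ hX E hE
      have hδ : Cyc.DeltaCompat (𝟙 X) δ δ := Bivar.deltaCompat_id δ
      refine ⟨⟨X, 𝟙 X, δ, 0, hX, hX, inferInstance, inferInstance, Biv.hasRelDim_zero_openImm (𝟙 X), hδ, ?_⟩, ⟨?_⟩⟩
      · refine (injective_iff_map_eq_zero _).mpr fun z hz => ?_
        have e : pullT hX hX (𝟙 X) (Biv.hasRelDim_zero_openImm (𝟙 X)) hδ = AddMonoidHom.id _ := by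
          refine hom_ext fun k α hα => ?_
          refine (pullT_tcl hX hX (𝟙 X) _ hδ α hα α ?_ hα (by simp)).trans rfl
          funext x
          exact (Biv.pullFun_openImm (𝟙 X) δ ⇑α x).symm
        exact (DFunLike.congr_fun e z).symm.trans hz
      · exact .zero
          (Groth.KTheory.KvbModel.isZero_of_rank_zero (Groth.LocFree.isFinLocFreeOfRank_pullback (𝟙 X) hE))
  | succ r ih =>
      intro X δ hX E hE
      obtain ⟨B, hBr, rfl⟩ := exists_bun hX (Nat.le_add_left 1 r) hE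
      haveI := B.flatπ
      haveI := B.lftπ
      haveI := B.hP.epi
      have hS : (ShortComplex.mk (kernel.ι B.q) B.q (kernel.condition B.q)).ShortExact :=
        { exact := ShortComplex.exact_kernel B.q }
      have hK : FlatMod.IsFinLocFreeOfRank r (kernel B.q) :=
        Groth.LocFree.isFinLocFreeOfRank_left hS (Groth.LocFree.isFinLocFreeOfRank_pullback B.π hE) B.hP.invertible
      obtain ⟨S, ⟨F⟩⟩ := ih B.hPs hK
      haveI := S.hflat
      haveI := S.hlft
      have hd : Cyc.HasRelDim (S.π ≫ B.π) (S.d + (B.r - 1)) :=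
        (Groth.Agent.S1857.result S.P B.P X S.δP B.δP δ S.hP B.hPs hX S.π B.π S.d (B.r - 1) S.hd B.relDim S.hδ
          B.hδ 0).1
      refine ⟨⟨S.P, S.π ≫ B.π, S.δP, S.d + (B.r - 1), hX, S.hP, inferInstance, inferInstance, hd,
        Bivar.deltaCompat_comp S.π B.π S.δP B.δP δ S.hδ B.hδ, ?_⟩, ⟨?_⟩⟩
      · intro z w hzw
        refine B.pull_injective (S.inj ?_)
        have e := pullT_comp B.hX B.hPs B.π B.relDim B.hδ S.hP S.π S.hd S.hδ hd rfl
        exact ((DFunLike.congr_fun e z).trans hzw).trans (DFunLike.congr_fun e w).symm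
      · haveI : Epi ((Scheme.Modules.pullback S.π).map B.q) := inferInstance
        exact (Filt.step F ((Scheme.Modules.pullback S.π).map (kernel.ι B.q))
          ((Scheme.Modules.pullback S.π).map B.q) (Groth.PicAux.isInvertible_pullback S.π B.hO)
          (by rw [← Functor.map_comp, kernel.condition, Functor.map_zero]) inferInstance
          (hS.exact.map_of_epi_of_preservesCokernel (Scheme.Modules.pullback S.π) inferInstance
            inferInstance)).mapIso ((Scheme.Modules.pullbackComp S.π B.π).app B.E)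

/-- A splitting of two bundles at once. -/
theorem exists_split₂ (hX : Cyc.IsSetup X δ) {E₁ E₂ : X.Modules} {r₁ r₂ : ℕ}
    (h₁ : FlatMod.IsFinLocFreeOfRank r₁ E₁) (h₂ : FlatMod.IsFinLocFreeOfRank r₂ E₂) :
    ∃ S : Split X δ, Nonempty (Filt ((Scheme.Modules.pullback S.π).obj E₁) r₁) ∧
      Nonempty (Filt ((Scheme.Modules.pullback S.π).obj E₂) r₂) := by
  obtain ⟨S, ⟨F⟩⟩ := exists_split r₁ hX h₁
  obtain ⟨S', ⟨F'⟩⟩ := exists_split r₂ S.hP (Groth.LocFree.isFinLocFreeOfRank_pullback S.π h₂)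
  haveI := S.hflat
  haveI := S.hlft
  haveI := S'.hflat
  haveI := S'.hlft
  have hd : Cyc.HasRelDim (S'.π ≫ S.π) (S'.d + S.d) :=
    (Groth.Agent.S1857.result S'.P S.P X S'.δP S.δP δ S'.hP S.hP hX S'.π S.π S'.d S.d S'.hd S.hd S'.hδ S.hδ 0).1
  refine ⟨⟨S'.P, S'.π ≫ S.π, S'.δP, S'.d + S.d, hX, S'.hP, inferInstance, inferInstance, hd,
    Bivar.deltaCompat_comp S'.π S.π S'.δP S.δP δ S'.hδ S.hδ, ?_⟩,
    ⟨(F.pull S'.π).mapIso ((Scheme.Modules.pullbackComp S'.π S.π).app E₁)⟩,
    ⟨F'.mapIso ((Scheme.Modules.pullbackComp S'.π S.π).app E₂)⟩⟩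
  intro z w hzw
  refine S.inj (S'.inj ?_)
  have e := pullT_comp hX S.hP S.π S.hd S.hδ S'.hP S'.π S'.hd S'.hδ hd rfl
  exact ((DFunLike.congr_fun e z).trans hzw).trans (DFunLike.congr_fun e w).symm

/-! ### Chern class operators of any bundle -/

open Classical in
/-- The Chern class operators of a bundle, of any rank. -/
def chernE (hX : Cyc.IsSetup X δ) {E : X.Modules} {r : ℕ} (hE : FlatMod.IsFinLocFreeOfRank r E) (n : ℕ) :
    Tot X δ →+ Tot X δ :=
  if h : 1 ≤ r then (exists_bun hX h hE).choose.chern n else esymOp (fun _ => 0) 0 n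

theorem chernE_eq_bun (hX : Cyc.IsSetup X δ) {E : X.Modules} {r : ℕ} (hE : FlatMod.IsFinLocFreeOfRank r E)
    (B : Bun X δ) (hr : B.r = r) {q : (Scheme.Modules.pullback B.π).obj E ⟶ B.O1}
    (hP : KRR.IsProjBundle B.π E B.O1 q) (n : ℕ) : chernE hX hE n = B.chern n := by
  have h : 1 ≤ r := hr ▸ B.hr
  rw [chernE, dif_pos h]
  obtain ⟨hr', hE'⟩ := (exists_bun hX h hE).choose_spec
  generalize (exists_bun hX h hE).choose = B₀ at hr' hE'
  subst hE'
  exact B₀.chern_eq_of_bundle B (hr'.trans hr.symm) hP n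

theorem chernE_bun (B : Bun X δ) (n : ℕ) : chernE B.hX B.hE n = B.chern n :=
  chernE_eq_bun B.hX B.hE B rfl B.hP n

/-- Pullback along a splitting turns the Chern operators into symmetric functions of line bundles. -/
theorem chernE_split (hX : Cyc.IsSetup X δ) {E : X.Modules} {r : ℕ} (hE : FlatMod.IsFinLocFreeOfRank r E)
    (S : Split X δ) (F : Filt ((Scheme.Modules.pullback S.π).obj E) r) (n : ℕ) (z : Tot X δ) :
    S.pull (chernE hX hE n z) = esymOp (F.ops S.hP) r n (S.pull z) := by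
  rcases Nat.eq_zero_or_pos r with rfl | hr
  · rw [chernE, dif_neg (Nat.not_succ_le_zero 0)]
    rcases n with _ | n
    · rw [esymOp_zero, esymOp_zero]; rfl
    · rw [esymOp_of_lt _ (Nat.succ_pos n), esymOp_of_lt _ (Nat.succ_pos n)]
      exact map_zero S.pull
  obtain ⟨B, rfl, rfl⟩ := exists_bun hX hr hE
  rw [chernE_bun B]
  haveI := S.hflat
  haveI := S.hlft
  haveI := B.lftπ
  let sq := IsPullback.of_hasPullback B.π S.π
  haveI : LocallyOfFiniteType (Limits.pullback.snd B.π S.π) := MorphismProperty.of_isPullback sq B.lftπ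
  haveI : LocallyOfFiniteType (Limits.pullback.fst B.π S.π) := MorphismProperty.of_isPullback sq.flip S.hlft
  obtain ⟨δ', hδ'⟩ := Biv.exists_delta (Limits.pullback.snd B.π S.π) S.δP
  have hP' := P1C.isSetup_of_lft S.hP _ hδ'
  have hg : Cyc.DeltaCompat (Limits.pullback.fst B.π S.π) δ' B.δP :=
    Dvr.deltaCompat_of_comp _ (g := B.π)
      (by rw [sq.w]; exact Bivar.deltaCompat_comp _ S.π δ' S.δP δ hδ' S.hδ) B.hδ
  show pullT S.hX S.hP S.π S.hd S.hδ (B.chern n z) = _
  rw [B.chern_pullT S.π S.hP sq hP' hδ' S.hd S.hδ hg n z,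
    (B.bc S.π S.hP sq hP' hδ').chern_filt F rfl n]
  rfl

/-- The classes of representatives of Chern classes. -/
theorem chernE_tcl (hX : Cyc.IsSetup X δ) {E : X.Modules} {r : ℕ} (hE : FlatMod.IsFinLocFreeOfRank r E)
    {P : Scheme.{u}} {p : P ⟶ X} {O1 : P.Modules} {q : (Scheme.Modules.pullback p).obj E ⟶ O1}
    (hP : KRR.IsProjBundle p E O1 q) [IsProper p] {δP : P → ℤ} (hPs : Cyc.IsSetup P δP)
    (hδ : Cyc.DeltaCompat p δP δ) {k : ℤ} {α : AlgebraicCycle X ℤ} (hα : α ∈ Cyc.Zk X δ k)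
    {γ : Fin (r + 1) → AlgebraicCycle X ℤ} (hγ : Cyc.IsChernCap p δ δP O1 r k α γ) (j : Fin (r + 1)) :
    chernE hX hE j (tcl α hα) = tcl (γ j) (hγ.2.1 j) := by
  rcases Nat.eq_zero_or_pos r with rfl | hr
  · obtain rfl : j = 0 := Fin.ext (by have := j.2; show (j : ℕ) = 0; omega)
    rw [chernE, dif_neg (Nat.not_succ_le_zero 0)]
    show esymOp (fun _ => 0) 0 0 (tcl α hα) = _
    exact tcl_congr (by simp) hγ.1.symm _ _
  let B : Bun X δ := ⟨P, p, E, O1, q, hP, r, hr, hE, δP, hX, hPs, hδ, inferInstance⟩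
  rw [chernE_eq_bun hX hE B rfl hP]
  exact B.chern_tcl hα hγ j

/-- The Whitney formula. -/
theorem chernE_whitney (hX : Cyc.IsSetup X δ) {E₁ E E₂ : X.Modules} {r₁ r₂ : ℕ}
    (h₁ : FlatMod.IsFinLocFreeOfRank r₁ E₁) (hE : FlatMod.IsFinLocFreeOfRank (r₁ + r₂) E)
    (h₂ : FlatMod.IsFinLocFreeOfRank r₂ E₂) (a : E₁ ⟶ E) (b : E ⟶ E₂) (hab : a ≫ b = 0) [Epi b]
    (hex : (ShortComplex.mk a b hab).Exact) (n : ℕ) (z : Tot X δ) :
    chernE hX hE n z = ∑ i ∈ Finset.range (n + 1), chernE hX h₂ (n - i) (chernE hX h₁ i z) := by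
  rcases Nat.eq_zero_or_pos (r₁ + r₂) with hr | hr
  · obtain ⟨rfl, rfl⟩ : r₁ = 0 ∧ r₂ = 0 := by omega
    have key : ∀ {E' : X.Modules} {r' : ℕ} (h' : FlatMod.IsFinLocFreeOfRank r' E') (_ : r' = 0) (m : ℕ),
        chernE hX h' m = esymOp (fun _ => (0 : Tot X δ →+ Tot X δ)) 0 m := fun h' hr' m => by
      rw [chernE, dif_neg (by omega)]
    rw [key hE rfl n, Finset.sum_congr rfl fun i _ => (DFunLike.congr_fun (key h₂ rfl (n - i)) _).trans
      (congrArg _ (DFunLike.congr_fun (key h₁ rfl i) z))]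
    exact esymOp_append (fun _ => (0 : Tot X δ →+ Tot X δ)) 0 0 n z
  obtain ⟨B, hBr, rfl⟩ := exists_bun hX hr hE
  obtain ⟨S, ⟨F₁⟩, ⟨F₂⟩⟩ := exists_split₂ hX h₁ h₂
  haveI := S.hflat
  haveI := S.hlft
  refine (show Function.Injective S.pull from S.inj) ?_
  rw [map_sum, chernE_eq_bun hX hE B hBr B.hP]
  simp only [chernE_split hX h₂ S F₂, chernE_split hX h₁ S F₁]
  let sq := IsPullback.of_hasPullback B.π S.π
  haveI := B.lftπ
  haveI : LocallyOfFiniteType (Limits.pullback.snd B.π S.π) := MorphismProperty.of_isPullback sq B.lftπ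
  haveI : LocallyOfFiniteType (Limits.pullback.fst B.π S.π) := MorphismProperty.of_isPullback sq.flip S.hlft
  obtain ⟨δ', hδ'⟩ := Biv.exists_delta (Limits.pullback.snd B.π S.π) S.δP
  have hP' := P1C.isSetup_of_lft S.hP _ hδ'
  have hg : Cyc.DeltaCompat (Limits.pullback.fst B.π S.π) δ' B.δP :=
    Dvr.deltaCompat_of_comp _ (g := B.π)
      (by rw [sq.w]; exact Bivar.deltaCompat_comp _ S.π δ' S.δP δ hδ' S.hδ) B.hδ
  show pullT S.hX S.hP S.π S.hd S.hδ (B.chern n z) = _
  rw [B.chern_pullT S.π S.hP sq hP' hδ' S.hd S.hδ hg n z]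
  have hab' : (Scheme.Modules.pullback S.π).map a ≫ (Scheme.Modules.pullback S.π).map b = 0 := by
    rw [← Functor.map_comp, hab, Functor.map_zero]
  haveI : Epi ((Scheme.Modules.pullback S.π).map b) := inferInstance
  exact @Bun.chern_ext _ _ (B.bc S.π S.hP sq hP' hδ') _ _ ((Scheme.Modules.pullback S.π).map a)
    ((Scheme.Modules.pullback S.π).map b) hab' this
    (hex.map_of_epi_of_preservesCokernel (Scheme.Modules.pullback S.π) inferInstance inferInstance)
    _ _ F₁ F₂ hBr n _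

theorem chernE_of_lt (hX : Cyc.IsSetup X δ) {E : X.Modules} {r : ℕ} (hE : FlatMod.IsFinLocFreeOfRank r E) {n : ℕ}
    (hn : r < n) : chernE hX hE n = 0 := by
  rcases Nat.eq_zero_or_pos r with rfl | hr
  · rw [chernE, dif_neg (Nat.not_succ_le_zero 0), esymOp_of_lt _ hn]
  · obtain ⟨B, rfl, rfl⟩ := exists_bun hX hr hE
    rw [chernE_bun B, B.chern_of_lt hn]

theorem esymOp_commute {A : Type*} [AddCommGroup A] {f : ℕ → (A →+ A)} {g : A →+ A} :
    ∀ {j : ℕ}, (∀ i < j, ∀ w, f i (g w) = g (f i w)) → ∀ (n : ℕ) (w : A),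
      esymOp f j n (g w) = g (esymOp f j n w)
  | j, _, 0, w => by rw [esymOp_zero]; rfl
  | 0, _, n + 1, w => (map_zero g).symm
  | j + 1, h, n + 1, w => by
      rw [esymOp_succ, AddMonoidHom.add_apply, AddMonoidHom.add_apply, AddMonoidHom.comp_apply,
        AddMonoidHom.comp_apply, map_add, esymOp_commute (fun i hi => h i (by omega)) (n + 1) w,
        esymOp_commute (fun i hi => h i (by omega)) n w, h j (by omega)]

theorem Filt.ops_comm {T : Scheme.{u}} {δT : T → ℤ} (hT : Cyc.IsSetup T δT) {L : T.Modules}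
    (hL : PicF.IsInvertible L) {E : T.Modules} {r : ℕ} (F : Filt E r) : ∀ (i : ℕ) (w : Tot T δT),
      F.ops hT i (c1T hT hL w) = c1T hT hL (F.ops hT i w) := by
  induction F with
  | zero h => intro i w; exact (map_zero _).symm
  | @step M E' L' r F a b hL' hab hepi hex ih =>
      intro i w
      rw [Filt.ops]
      split_ifs with h
      · exact DFunLike.congr_fun (c1T_comm hT hL' hL) w
      · exact ih i w

theorem Filt.ops_comm_ops {T : Scheme.{u}} {δT : T → ℤ} (hT : Cyc.IsSetup T δT) {E : T.Modules} {r : ℕ}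
    (F : Filt E r) {E' : T.Modules} {r' : ℕ} (F' : Filt E' r') : ∀ (i i' : ℕ) (w : Tot T δT),
      F.ops hT i (F'.ops hT i' w) = F'.ops hT i' (F.ops hT i w) := by
  induction F with
  | zero h => intro i i' w; exact (map_zero _).symm
  | @step M E'' L r F a b hL hab hepi hex ih =>
      intro i i' w
      rw [Filt.ops]
      split_ifs with h
      · exact (F'.ops_comm hT hL i' w).symm
      · exact ih i i' w

/-- The Chern class operators commute. -/
theorem chernE_comm (hX : Cyc.IsSetup X δ) {E₁ E₂ : X.Modules} {r₁ r₂ : ℕ}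
    (h₁ : FlatMod.IsFinLocFreeOfRank r₁ E₁) (h₂ : FlatMod.IsFinLocFreeOfRank r₂ E₂) (i m : ℕ) (z : Tot X δ) :
    chernE hX h₁ i (chernE hX h₂ m z) = chernE hX h₂ m (chernE hX h₁ i z) := by
  obtain ⟨S, ⟨F₁⟩, ⟨F₂⟩⟩ := exists_split₂ hX h₁ h₂
  refine (show Function.Injective S.pull from S.inj) ?_
  rw [chernE_split hX h₁ S F₁, chernE_split hX h₂ S F₂, chernE_split hX h₂ S F₂, chernE_split hX h₁ S F₁]
  refine esymOp_commute (fun a _ w => ?_) i _
  exact (esymOp_commute (fun b _ w' => (F₁.ops_comm_ops S.hP F₂ a b w').symm) m w).symm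

end Groth.CycInter.PB
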