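import Groth.Agent.CycInter.PbChart
import Groth.Prelude.Def_Bivar
import Groth.Agent.Cycles.DimFunBC
import Groth.Agent.Cycles.DimFunLft
import Groth.Agent.Cycles.ClosureDiv

/-!
The stratification of a fibre of a projective bundle by affine spaces.
-/

universe u

set_option autoImplicit false

open CategoryTheory CategoryTheory.Limits AlgebraicGeometry Opposite TopologicalSpace
open Groth.PicAux Groth.RelTw Groth.PBundle

noncomputable section

namespace Groth.CycInter.PB

variable {S P : Scheme.{u}} {π : P ⟶ S} {F : S.Modules} {O1 : P.Modules}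
  {q : (Scheme.Modules.pullback π).obj F ⟶ O1} {V : S.Opens} {m : ℕ}
  (hP : KRR.IsProjBundle π F O1 q) (hV : IsAffineOpen V)
  {e : Fin m → Γ(F, V)} (he : Basis' F V e) {x : S} (hx : x ∈ V)

/-- The free coordinates of a stratum. -/
abbrev Idx (i l : Fin m) : Type := {k : Fin m // i ≤ k ∧ k ≠ l}

/-- The ring of functions of a stratum of the fibre over `x`. -/
abbrev StrRing (x : S) (i l : Fin m) : CommRingCat.{u} :=
  CommRingCat.of (MvPolynomial (Idx i l) (S.residueField x))

/-- Functions on the chart restricted to a stratum. -/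
def strHom (i l : Fin m) : ChartRing V m l ⟶ StrRing x i l :=
  CommRingCat.ofHom (MvPolynomial.eval₂Hom (MvPolynomial.C.comp (S.evaluation V x hx).hom)
    fun k => if h : i ≤ k.1 then MvPolynomial.X ⟨k.1, h, k.2⟩ else 0)

theorem strHom_C (i l : Fin m) (a : Γ(S, V)) :
    (strHom hx i l).hom (MvPolynomial.C a) = MvPolynomial.C (S.evaluation V x hx a) :=
  MvPolynomial.eval₂Hom_C _ _ a

theorem strHom_X (i l : Fin m) (k : {k : Fin m // k ≠ l}) :
    (strHom hx i l).hom (MvPolynomial.X k) = if h : i ≤ k.1 then MvPolynomial.X ⟨k.1, h, k.2⟩ else 0 :=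
  MvPolynomial.eval₂Hom_X' _ _ k

include hV in
theorem exists_strHom_div (i l : Fin m) (g : StrRing x i l) :
    ∃ a : ChartRing V m l, ∃ b : Γ(S, V), S.evaluation V x hx b ≠ 0 ∧
      MvPolynomial.C (S.evaluation V x hx b) * g = (strHom hx i l).hom a := by
  induction g using MvPolynomial.induction_on with
  | C c =>
    obtain ⟨a, b, hb, e⟩ := exists_evaluation_div hV hx c
    exact ⟨MvPolynomial.C a, b, hb, by rw [strHom_C, ← map_mul, mul_comm, e]⟩
  | add f g hf hg =>
    obtain ⟨a, b, hb, ea⟩ := hf
    obtain ⟨c, d, hd, ec⟩ := hg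
    refine ⟨MvPolynomial.C d * a + MvPolynomial.C b * c, b * d, ?_, ?_⟩
    · rw [map_mul]; exact mul_ne_zero hb hd
    · simp only [map_add, map_mul, ← ea, ← ec]; erw [strHom_C, strHom_C]; ring
  | mul_X f k hf =>
    obtain ⟨a, b, hb, ea⟩ := hf
    refine ⟨a * MvPolynomial.X ⟨k.1, k.2.2⟩, b, hb, ?_⟩
    rw [map_mul, strHom_X, dif_pos k.2.1, ← ea, mul_assoc]

/-- The stratum `T_{<i} = 0` of the fibre over `x`, inside the `l`th chart. -/
def str (i l : Fin m) : Spec (StrRing x i l) ⟶ P :=
  Spec.map (strHom hx i l) ≫ chartPt hP hV he l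

instance isPreimmersion_str (i l : Fin m) : IsPreimmersion (str hP hV he hx i l) := by
  have : IsPreimmersion (Spec.map (strHom hx i l)) := isPreimmersion_of_exists_div _ fun g => by
    obtain ⟨a, b, hb, e⟩ := exists_strHom_div hV hx i l g
    exact ⟨a, MvPolynomial.C b, by rw [strHom_C]; exact (IsUnit.mk0 _ hb).map MvPolynomial.C,
      by rw [strHom_C]; exact e⟩
  unfold str; infer_instance

theorem str_π (i l : Fin m) :
    str hP hV he hx i l ≫ π =
      Spec.map (CommRingCat.ofHom (MvPolynomial.C : S.residueField x →+* StrRing x i l)) ≫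
        S.fromSpecResidueField x := by
  rw [str, Category.assoc, chartPt_π, ← Spec.map_comp_assoc, ← fromSpecResidueField_eq hV hx,
    ← Spec.map_comp_assoc]
  congr 2
  exact CommRingCat.hom_ext (RingHom.ext fun a => strHom_C hx i l a)

theorem π_str (i l : Fin m) (z : Spec (StrRing x i l)) : π (str hP hV he hx i l z) = x := by
  rw [← Scheme.Hom.comp_apply, str_π, Scheme.Hom.comp_apply, Scheme.fromSpecResidueField_apply]

theorem str_mem_chart (i l : Fin m) (z : Spec (StrRing x i l)) : str hP hV he hx i l z ∈ chart q e l := by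
  rw [← SetLike.mem_coe, ← range_chartPt hP hV he, str, Scheme.Hom.comp_apply]
  exact ⟨_, rfl⟩

theorem str_mem_chart_iff (i l : Fin m) {k : Fin m} (hk : k ≠ l) (z : Spec (StrRing x i l)) :
    str hP hV he hx i l z ∈ chart q e k ↔
      (strHom hx i l).hom (MvPolynomial.X ⟨k, hk⟩) ∉ PrimeSpectrum.asIdeal z := by
  have h1 : str hP hV he hx i l z ∈ chart q e k ↔
      str hP hV he hx i l z ∈ P.basicOpen (chartHom q e l (MvPolynomial.X ⟨k, hk⟩)) := by
    rw [chartHom_X, ← chart_inter]
    exact ⟨fun h => ⟨str_mem_chart hP hV he hx i l z, h⟩, fun h => h.2⟩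
  rw [h1, str, Scheme.Hom.comp_apply]
  change Spec.map (strHom hx i l) z ∈ chartPt hP hV he l ⁻¹ᵁ P.basicOpen _ ↔ _
  rw [chartPt_preimage_basicOpen]
  rfl

theorem str_notMem_chart (i l : Fin m) {k : Fin m} (hk : k < i) (hil : i ≤ l) (z : Spec (StrRing x i l)) :
    str hP hV he hx i l z ∉ chart q e k := by
  rw [str_mem_chart_iff hP hV he hx i l (hk.trans_le hil).ne, strHom_X, dif_neg hk.not_ge, not_not]
  exact Ideal.zero_mem _

/-- A point of the fibre in the `l`th chart and outside the charts of index `< i` lies in the stratum. -/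
theorem exists_str_eq (i l : Fin m) {y : P} (hy : π y = x) (hyl : y ∈ chart q e l)
    (hlt : ∀ k, k < i → y ∉ chart q e k) : ∃ z, str hP hV he hx i l z = y := by
  subst hy
  let θ : StrRing (π y) i l ⟶ P.residueField y :=
    CommRingCat.ofHom (MvPolynomial.eval₂Hom (π.residueFieldMap y).hom
      fun k => P.evaluation (chart q e l) y hyl (coords q e l k.1))
  have hθ : strHom hx i l ≫ θ =
      (CommRingCat.ofHom (chartHom q e l) : ChartRing V m l ⟶ Γ(P, chart q e l)) ≫
        P.evaluation (chart q e l) y hyl := by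
    refine CommRingCat.hom_ext (MvPolynomial.ringHom_ext (fun a => ?_) fun k => ?_)
    · show θ.hom ((strHom hx i l).hom (MvPolynomial.C a)) =
        P.evaluation (chart q e l) y hyl (chartHom q e l (MvPolynomial.C a))
      rw [strHom_C, chartHom_C]
      refine (MvPolynomial.eval₂Hom_C _ _ _).trans ?_
      refine (congr(($(Scheme.evaluation_naturality π y hx)).hom a)).trans ?_
      show P.evaluation (π ⁻¹ᵁ V) y hx (π.app V a) = _
      rw [Scheme.Hom.appLE]
      exact congrArg (P.residue y).hom (P.presheaf.germ_res_apply (homOfLE chart_le) y hyl _).symm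
    · show θ.hom ((strHom hx i l).hom (MvPolynomial.X k)) =
        P.evaluation (chart q e l) y hyl (chartHom q e l (MvPolynomial.X k))
      rw [strHom_X, chartHom_X]
      split_ifs with h
      · exact MvPolynomial.eval₂Hom_X' _ _ _
      · rw [map_zero]
        by_contra h'
        exact hlt k.1 (not_le.mp h) ((mem_chart_iff hyl).mpr (Ne.symm h'))
  have h2 : Spec.map θ ≫ str hP hV he hx i l = P.fromSpecResidueField y := by
    rw [str, ← Spec.map_comp_assoc, hθ, chartPt_evaluation]
  exact ⟨Spec.map θ default, by rw [← Scheme.Hom.comp_apply, h2, Scheme.fromSpecResidueField_apply]⟩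

/-- The generic point of a stratum. -/
def genPt (i l : Fin m) : P := str hP hV he hx i l (⟨⊥, Ideal.isPrime_bot⟩ : PrimeSpectrum (StrRing x i l))

theorem genPt_specializes_str (i l : Fin m) (z : Spec (StrRing x i l)) :
    genPt hP hV he hx i l ⤳ str hP hV he hx i l z :=
  ((PrimeSpectrum.le_iff_specializes (⟨⊥, Ideal.isPrime_bot⟩ : PrimeSpectrum (StrRing x i l)) z).mp
    bot_le).map (str hP hV he hx i l).continuous

theorem π_genPt (i l : Fin m) : π (genPt hP hV he hx i l) = x := π_str hP hV he hx i l _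

theorem genPt_mem_chart_self (i l : Fin m) : genPt hP hV he hx i l ∈ chart q e l :=
  str_mem_chart hP hV he hx i l _

theorem genPt_mem_chart (i l : Fin m) {k : Fin m} (hk : i ≤ k) : genPt hP hV he hx i l ∈ chart q e k := by
  by_cases hkl : k = l
  · subst hkl; exact genPt_mem_chart_self hP hV he hx i k
  · refine (str_mem_chart_iff hP hV he hx i l hkl _).mpr ?_
    rw [strHom_X, dif_pos hk]
    exact fun h => MvPolynomial.X_ne_zero _ (Ideal.mem_bot.mp h)

/-- The point of the `i`th stratum, generic in `T_{<i} = 0`. -/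
abbrev lin (i : Fin m) : P := genPt hP hV he hx i i

/-- `lin i` specialises to the points of the fibre outside the charts of index `< i`. -/
theorem lin_specializes {i : Fin m} {y : P} (hy : π y = x) (hlt : ∀ k, k < i → y ∉ chart q e k) :
    lin hP hV he hx i ⤳ y := by
  obtain ⟨l, hl⟩ := exists_mem_chart he hP y (by show π y ∈ V; rw [hy]; exact hx)
  have hil : i ≤ l := not_lt.mp fun h => hlt l h hl
  obtain ⟨z, rfl⟩ := exists_str_eq hP hV he hx i l hy hl hlt
  refine Specializes.trans ?_ (genPt_specializes_str hP hV he hx i l z)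
  obtain ⟨w, hw⟩ := exists_str_eq hP hV he hx i i (π_genPt hP hV he hx i l)
    (genPt_mem_chart hP hV he hx i l le_rfl) fun k hk => str_notMem_chart hP hV he hx i l hk hil _
  rw [← hw]
  exact genPt_specializes_str hP hV he hx i i w

theorem lin_notMem_chart {i k : Fin m} (hk : k < i) : lin hP hV he hx i ∉ chart q e k :=
  str_notMem_chart hP hV he hx i i hk le_rfl _

theorem lin_ne {i j : Fin m} (h : i < j) : lin hP hV he hx i ≠ lin hP hV he hx j := fun e' =>
  lin_notMem_chart hP hV he hx h (e' ▸ genPt_mem_chart_self hP hV he hx i i)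

/-! ### Dimensions -/

variable {δ : S → ℤ} {δP : P → ℤ} (hδ : Cyc.DeltaCompat π δP δ)

include hδ in
theorem deltaCompat_str (i l : Fin m) :
    Cyc.DeltaCompat (Spec.map (CommRingCat.ofHom (MvPolynomial.C : S.residueField x →+* StrRing x i l)))
      (δP ∘ str hP hV he hx i l) (fun _ => δ x) := by
  intro z
  obtain ⟨n, hn, hnd⟩ := Bivar.deltaCompat_comp (str hP hV he hx i l) π _ δP δ
    (Groth.Cycles.deltaCompat_preimmersion (str hP hV he hx i l) δP) hδ z
  refine ⟨n, ?_, ?_⟩
  · have h2 : Groth.Variety2.Dim.relTrdeg (str hP hV he hx i l ≫ π) z = n := hn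
    rw [str_π, Groth.Cycles.relTrdeg_preimmersion_comp] at h2
    exact h2
  · rw [Scheme.Hom.comp_apply, π_str] at hnd
    exact hnd

include hδ in
theorem isSetup_str (i l : Fin m) :
    Cyc.IsSetup (Spec (StrRing x i l)) (δP ∘ str hP hV he hx i l) := by
  have : LocallyOfFiniteType
      (Spec.map (CommRingCat.ofHom (MvPolynomial.C : S.residueField x →+* StrRing x i l))) :=
    (HasRingHomProperty.Spec_iff (P := @LocallyOfFiniteType)).mpr (RingHom.finiteType_algebraMap.mpr
      (inferInstance : Algebra.FiniteType (S.residueField x) (StrRing x i l)))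
  exact isSetup_field_const _ (deltaCompat_str hP hV he hx hδ i l)

include hδ in
theorem delta_genPt (i l : Fin m) :
    δP (genPt hP hV he hx i l) = δ x + (Fintype.card (Idx i l) : ℤ) := by
  let C' := Spec.map (CommRingCat.ofHom (MvPolynomial.C : S.residueField x →+* StrRing x i l))
  have : LocallyOfFiniteType C' :=
    (HasRingHomProperty.Spec_iff (P := @LocallyOfFiniteType)).mpr (RingHom.finiteType_algebraMap.mpr
      (inferInstance : Algebra.FiniteType (S.residueField x) (StrRing x i l)))
  let z₀ : Spec (StrRing x i l) := (⟨⊥, Ideal.isPrime_bot⟩ : PrimeSpectrum (StrRing x i l))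
  obtain ⟨n, hn, hnd⟩ := deltaCompat_str hP hV he hx hδ i l z₀
  obtain ⟨t, ht, hd⟩ := Groth.Cycles.relTrdeg_eq_fibreDimAt_of_isFibreGeneric C' (x := z₀)
    fun w _ hw => PrimeSpectrum.ext (le_bot_iff.mp ((PrimeSpectrum.le_iff_specializes _ _).mpr hw))
  rw [fibreDimAt_spec_C] at hd
  have h1 : t = Fintype.card (Idx i l) := by exact_mod_cast hd.symm
  have h2 : (n : Cardinal) = t := hn.symm.trans ht
  rw [show δP (genPt hP hV he hx i l) = (δP ∘ str hP hV he hx i l) z₀ from rfl, hnd, ← h1]
  exact_mod_cast congrArg (fun a : ℕ => δ x + (a : ℤ)) (Nat.cast_injective h2)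

theorem card_idx_self (i : Fin m) : Fintype.card (Idx i i) = m - 1 - (i : ℕ) := by
  rw [Fintype.card_congr (Equiv.subtypeEquivRight (q := fun k => k ∈ Finset.Ioi i) fun k => by
    simp [Finset.mem_Ioi, lt_iff_le_and_ne, ne_comm, eq_comm]), Fintype.card_coe, Fin.card_Ioi]

include hδ in
theorem delta_lin (i : Fin m) : δP (lin hP hV he hx i) = δ x + ((m - 1 - (i : ℕ) : ℕ) : ℤ) := by
  rw [delta_genPt hP hV he hx hδ, card_idx_self]

include hδ in
theorem delta_le_str (i l : Fin m) (z : Spec (StrRing x i l)) :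
    δP (str hP hV he hx i l z) ≤ δP (genPt hP hV he hx i l) :=
  Groth.Cycles.delta_le_of_specializes (isSetup_str hP hV he hx hδ i l).2.2
    ((PrimeSpectrum.le_iff_specializes _ _).mp bot_le)

include hδ in
/-- A point of the fibre outside the charts of index `< i` of the dimension of `lin i` is `lin i`. -/
theorem eq_lin_of_delta (hPd : Cyc.IsDimFun P δP) {i : Fin m} {y : P} (hy : π y = x)
    (hlt : ∀ k, k < i → y ∉ chart q e k) (hd : δP (lin hP hV he hx i) ≤ δP y) : y = lin hP hV he hx i := by
  by_contra hne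
  have := (hPd _ _ (lin_specializes hP hV he hx hy hlt) (Ne.symm hne)).1
  omega

end Groth.CycInter.PB
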