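import Groth.Agent.CycInter.PbRel
import Groth.Agent.PicAux.Powers
import Groth.Agent.PicAux.PullTensor
import Groth.Agent.DerivedCoh.KFlat.SchemeStalk

/-!
Chern roots of tensor products of filtered bundles.
-/

universe u

set_option autoImplicit false

open CategoryTheory CategoryTheory.Limits AlgebraicGeometry
open Groth.RefRank Groth.Cycles

noncomputable section

namespace Groth.CycInter.PB

variable {T : Scheme.{u}} {δ : T → ℤ} (hT : Cyc.IsSetup T δ)

theorem c1T_tensor {L N : T.Modules} (hL : PicF.IsInvertible L) (hN : PicF.IsInvertible N)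
    (h : PicF.IsInvertible (CohB1.tensorMod L N)) : c1T hT h = c1T hT hL + c1T hT hN := by
  refine hom_ext fun k α hα => ?_
  obtain ⟨sL, hsL⟩ := Biv.exists_secs hL
  obtain ⟨sN, hsN⟩ := Biv.exists_secs hN
  obtain ⟨sT, hsT⟩ := Biv.exists_secs h
  obtain ⟨γL, hγL⟩ := exists_cycle_c1CapFun hT hL α hsL
  obtain ⟨γN, hγN⟩ := exists_cycle_c1CapFun hT hN α hsN
  obtain ⟨γT, hγT⟩ := exists_cycle_c1CapFun hT h α hsT
  have hmL : γL ∈ Cyc.Zk T δ (k - 1) := Biv.c1Cap_mem _ hα _ hγL
  have hmN : γN ∈ Cyc.Zk T δ (k - 1) := Biv.c1Cap_mem _ hα _ hγN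
  have hmT : γT ∈ Cyc.Zk T δ (k - 1) := Biv.c1Cap_mem _ hα _ hγT
  rw [AddMonoidHom.add_apply, c1T_tcl hT h α hα h (Iso.refl _) hsT γT hγT hmT rfl,
    c1T_tcl hT hL α hα hL (Iso.refl _) hsL γL hγL hmL rfl,
    c1T_tcl hT hN α hα hN (Iso.refl _) hsN γN hγN hmN rfl,
    ← tcl_add hmL hmN ((ChowOps.zk T δ _).add_mem hmL hmN)]
  exact (tcl_eq_of_ratEquiv rfl _ _ (c1_tensor hT hL hN h (by rwa [sub_add_cancel]) hsL hsN hsT hγL hγN hγT)).symm

variable {hT}

theorem Filt.roots_tensorLine {E : T.Modules} {r : ℕ} (F : Filt E r) {L : T.Modules} (hL : PicF.IsInvertible L) :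
    Roots hT (CohB1.tensorMod E L) (fun i => F.ops hT i + c1T hT hL) r := by
  haveI := Groth.PicAux.isEquivalence_tensorRightMod_of_isInvertible hL
  induction F with
  | @zero E h => exact roots_zero hT ((DCoh.tensorRightMod L).map_isZero h) _
  | @step M E L' r F a b hL' hab hepi hex ih =>
      haveI := hepi
      have hLL := Groth.PicAux.isInvertible_tensorMod hL' hL
      have h := Roots.ext ((DCoh.tensorRightMod L).map a) ((DCoh.tensorRightMod L).map b)
        (by rw [← Functor.map_comp, hab, Functor.map_zero])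
        (hex.map_of_epi_of_preservesCokernel (DCoh.tensorRightMod L) hepi inferInstance) ih
        (roots_line hT hLL)
      refine h.congr fun i hi => ?_
      rw [concatFun, Filt.ops]
      rcases Nat.lt_or_ge i r with hir | hir
      · rw [if_pos hir, if_neg (by omega)]
      · rw [if_neg (by omega), if_pos (by omega), c1T_tensor hT hL' hL]

/-- The sums of the operators of two families, indexed by `i + r * j`. -/
def prodOps {A : Type*} [Add A] [Zero A] (f g : ℕ → A) (r : ℕ) : ℕ → ℕ → A
  | 0 => fun _ => 0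
  | s + 1 => concatFun (s * r) (prodOps f g r s) fun i => f i + g s

theorem prodOps_rel {A P : Type*} [AddCommGroup A] [AddCommGroup P] (φ : A →+ P) {f g : ℕ → (A →+ A)}
    {f' g' : ℕ → (P →+ P)} {r : ℕ} (hf : ∀ i < r, ∀ z, f' i (φ z) = φ (f i z)) :
    ∀ {s : ℕ}, (∀ j < s, ∀ z, g' j (φ z) = φ (g j z)) → ∀ i < s * r, ∀ z,
      prodOps f' g' r s i (φ z) = φ (prodOps f g r s i z)
  | 0, _, i, hi, _ => by omega
  | s + 1, hg, i, hi, z => by
      rw [Nat.succ_mul] at hi
      rw [prodOps, prodOps, concatFun, concatFun]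
      split_ifs with h
      · exact prodOps_rel φ hf (fun j hj => hg j (by omega)) i h z
      · rw [AddMonoidHom.add_apply, AddMonoidHom.add_apply, map_add, hf _ (by omega), hg s (by omega)]

theorem Filt.roots_tensor {E K : T.Modules} {r s : ℕ} (F : Filt E r) (G : Filt K s) :
    Roots hT (CohB1.tensorMod E K) (prodOps (F.ops hT) (G.ops hT) r s) (s * r) := by
  induction G with
  | @zero K h =>
      rw [Nat.zero_mul]
      exact roots_zero hT (((DCoh.tensorBi (X := T)).obj E).map_isZero h) _
  | @step M K L s G a b hL hab hepi hex ih =>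
      haveI := hepi
      haveI : PreservesColimitsOfShape WalkingSpan ((DCoh.tensorBi (X := T)).obj E) := inferInstance
      haveI : Epi (((DCoh.tensorBi (X := T)).obj E).map b) := inferInstance
      have hab' : ((DCoh.tensorBi (X := T)).obj E).map a ≫ ((DCoh.tensorBi (X := T)).obj E).map b = 0 := by
        rw [← Functor.map_comp, hab, Functor.map_zero]
      have h := @Roots.ext _ _ _ _ _ _ (((DCoh.tensorBi (X := T)).obj E).map a)
        (((DCoh.tensorBi (X := T)).obj E).map b) hab' ‹_›
        (hex.map_of_epi_of_preservesCokernel ((DCoh.tensorBi (X := T)).obj E) hepi inferInstance) _ _ _ _ ih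
        (F.roots_tensorLine hL)
      rw [Nat.succ_mul]
      refine h.congr fun i hi => ?_
      rw [prodOps]
      unfold concatFun
      split_ifs with h'
      · have hG : ∀ t ≤ s, prodOps (F.ops hT) (G.ops hT) r t =
            prodOps (F.ops hT) ((Filt.step G a b hL hab hepi hex).ops hT) r t := by
          intro t
          induction t with
          | zero => exact fun _ => rfl
          | succ t iht =>
              intro ht
              rw [prodOps, prodOps, iht (by omega), G.ops_step_lt hT a b hL hab hepi hex (show t < s by omega)]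
        exact congrFun (hG s le_rfl) i
      · rw [show (Filt.step G a b hL hab hepi hex).ops hT s = c1T hT hL from if_pos rfl]

variable {X : Scheme.{u}} {δX : X → ℤ}

/-- The Chern classes of a tensor product of filtered bundles. -/
theorem chernE_tensor_filt (hX : Cyc.IsSetup X δX) {E K M : X.Modules} {r s : ℕ} (F : Filt E r) (G : Filt K s)
    (eM : M ≅ CohB1.tensorMod E K) (hE : FlatMod.IsFinLocFreeOfRank (r * s) M) (n : ℕ) :
    chernE hX hE n = esymOp (prodOps (F.ops hX) (G.ops hX) r s) (r * s) n := by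
  refine chernE_eq_of_roots hX hE _ (fun B hB _ => ?_) n
  obtain ⟨e⟩ := Groth.PicAux.exists_pullback_tensorMod B.π E K
  refine ⟨prodOps ((F.pull B.π).ops B.hPs) ((G.pull B.π).ops B.hPs) r s, fun i hi z => ?_, fun i hi w => ?_, ?_⟩
  · exact prodOps_rel B.pull (fun a ha => B.ops_pull F ha) (fun b hb => B.ops_pull G hb) i (by rwa [mul_comm]) z
  · exact prodOps_rel B.H (fun a ha => B.ops_H (F.pull B.π) ha) (fun b hb => B.ops_H (G.pull B.π) hb) i
      (by rwa [mul_comm]) w
  · rw [mul_comm r s, hB]
    exact ((F.pull B.π).roots_tensor (G.pull B.π)).of_iso (e.symm ≪≫ ((Scheme.Modules.pullback B.π).mapIso eM).symm)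

/-- The Chern classes of a twist of a filtered bundle. -/
theorem chernE_twist_filt (hX : Cyc.IsSetup X δX) {E L M : X.Modules} {r : ℕ} (F : Filt E r)
    (hL : PicF.IsInvertible L) (eM : M ≅ CohB1.tensorMod E L) (hE : FlatMod.IsFinLocFreeOfRank r M) (n : ℕ) :
    chernE hX hE n = esymOp (fun i => F.ops hX i + c1T hX hL) r n := by
  refine chernE_eq_of_roots hX hE _ (fun B hB _ => ?_) n
  haveI := B.flatπ
  haveI := B.lftπ
  obtain ⟨e⟩ := Groth.PicAux.exists_pullback_tensorMod B.π E L
  have hL' := Groth.PicAux.isInvertible_pullback B.π hL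
  refine ⟨fun i => (F.pull B.π).ops B.hPs i + c1T B.hPs hL', fun i hi z => ?_, fun i hi w => ?_, ?_⟩
  · have h2 := DFunLike.congr_fun (pullT_c1T B.hX hL B.hPs B.π B.relDim B.hδ hL' (Iso.refl _)) z
    simp only [AddMonoidHom.add_apply, map_add]
    exact congrArg₂ (· + ·) (B.ops_pull F hi z) h2.symm
  · simp only [AddMonoidHom.add_apply, map_add]
    exact congrArg₂ (· + ·) (B.ops_H (F.pull B.π) hi w) (DFunLike.congr_fun (c1T_comm B.hPs hL' B.hO) w)
  · rw [hB]
    exact ((F.pull B.π).roots_tensorLine hL').of_iso (e.symm ≪≫ ((Scheme.Modules.pullback B.π).mapIso eM).symm)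

end Groth.CycInter.PB
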