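import Groth.Agent.CycInter.PbEsymShift

/-!
Chern classes of tensor products.
-/

universe u

set_option autoImplicit false

open CategoryTheory CategoryTheory.Limits AlgebraicGeometry
open Groth.RefRank Groth.Cycles

noncomputable section

namespace Groth.CycInter.PB

variable {X : Scheme.{u}} {δ : X → ℤ}

/-- An iterated first Chern class of a cycle is the class of the iterated cap. -/
theorem exists_c1PowFun (hX : Cyc.IsSetup X δ) {L : X.Modules} (hL : PicF.IsInvertible L)
    {t : ℕ → (ξ : X) → Cyc.secFibre L ξ} (ht : ∀ m ξ, t m ξ ≠ 0) {k : ℤ} (β : AlgebraicCycle X ℤ)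
    (hβ : β ∈ Cyc.Zk X δ k) : ∀ j : ℕ, ∃ (c : AlgebraicCycle X ℤ) (hc : c ∈ Cyc.Zk X δ (k - (j : ℤ))),
      ⇑c = Cyc.c1PowFun δ L t j ⇑β ∧ tcl c hc = iterOp (c1T hX hL) j (tcl β hβ)
  | 0 => ⟨β, by simpa using hβ, rfl, tcl_congr (by simp) rfl _ _⟩
  | j + 1 => by
      obtain ⟨c, hc, e, e'⟩ := exists_c1PowFun hX hL ht β hβ j
      obtain ⟨c', hc'⟩ := exists_cycle_c1CapFun hX hL c (ht j)
      have hm : c' ∈ Cyc.Zk X δ (k - (j : ℤ) - 1) := Biv.c1Cap_mem _ hc _ hc'
      refine ⟨c', by rwa [Nat.cast_succ, ← sub_sub], hc'.trans (congrArg (fun F => Cyc.c1CapFun δ L F (t j)) e), ?_⟩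
      refine Eq.trans ?_ (congrArg (c1T hX hL) e')
      exact (c1T_tcl hX hL c hc hL (Iso.refl _) (ht j) c' hc' _ (by push_cast; ring)).symm

/-- Chern classes of a twist by an invertible module. -/
theorem chernE_twist (hX : Cyc.IsSetup X δ) {E L : X.Modules} {r : ℕ} (hE : FlatMod.IsFinLocFreeOfRank r E)
    (hL : PicF.IsInvertible L) (hT : FlatMod.IsFinLocFreeOfRank r (CohB1.tensorMod E L)) (i : ℕ) (z : Tot X δ) :
    chernE hX hT i z = ∑ j ∈ Finset.range (i + 1),
      ((r - (i - j)).choose j : ℤ) • iterOp (c1T hX hL) j (chernE hX hE (i - j) z) := by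
  obtain ⟨S, ⟨F⟩⟩ := exists_split r hX hE
  haveI := S.hflat
  haveI := S.hlft
  obtain ⟨e⟩ := Groth.PicAux.exists_pullback_tensorMod S.π E L
  have hL' := Groth.PicAux.isInvertible_pullback S.π hL
  have hc : ∀ w, S.pull (c1T hX hL w) = c1T S.hP hL' (S.pull w) := fun w =>
    DFunLike.congr_fun (pullT_c1T S.hX hL S.hP S.π S.hd S.hδ hL' (Iso.refl _)) w
  have hit : ∀ (j : ℕ) (w : Tot X δ), S.pull (iterOp (c1T hX hL) j w) = iterOp (c1T S.hP hL') j (S.pull w) := by
    intro j
    induction j with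
    | zero => intro w; rfl
    | succ j ih => intro w; exact (hc _).trans (congrArg (c1T S.hP hL') (ih w))
  refine (show Function.Injective S.pull from S.inj) ?_
  rw [chernE_pull hX hT S, chernE_twist_filt S.hP F hL' e, map_sum,
    esymOp_shift _ _ r (fun a _ w => F.ops_comm S.hP hL' a w)]
  refine Finset.sum_congr rfl fun j _ => ?_
  rw [map_zsmul, hit, chernE_split hX hE S F]

/-- Pullback to a splitting of two bundles gives the Chern roots of the tensor product. -/
theorem chernE_tensor_split (hX : Cyc.IsSetup X δ) {E K : X.Modules} {r s : ℕ}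
    (hT : FlatMod.IsFinLocFreeOfRank (r * s) (CohB1.tensorMod E K)) (S : Split X δ)
    (F : Filt ((Scheme.Modules.pullback S.π).obj E) r) (G : Filt ((Scheme.Modules.pullback S.π).obj K) s)
    (n : ℕ) (z : Tot X δ) :
    S.pull (chernE hX hT n z) = esymOp (prodOps (F.ops S.hP) (G.ops S.hP) r s) (s * r) n (S.pull z) := by
  obtain ⟨e⟩ := Groth.PicAux.exists_pullback_tensorMod S.π E K
  rw [chernE_pull hX hT S, chernE_tensor_filt S.hP F G e, mul_comm s r]

/-- The first Chern class of a tensor product. -/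
theorem chernE_tensor_one (hX : Cyc.IsSetup X δ) {E K : X.Modules} {r s : ℕ}
    (hE : FlatMod.IsFinLocFreeOfRank r E) (hK : FlatMod.IsFinLocFreeOfRank s K)
    (hT : FlatMod.IsFinLocFreeOfRank (r * s) (CohB1.tensorMod E K)) (z : Tot X δ) :
    chernE hX hT 1 z = (s : ℤ) • chernE hX hE 1 z + (r : ℤ) • chernE hX hK 1 z := by
  obtain ⟨S, ⟨F⟩, ⟨G⟩⟩ := exists_split₂ hX hE hK
  refine (show Function.Injective S.pull from S.inj) ?_
  rw [chernE_tensor_split hX hT S F G, esymOp_prodOps_one _ _ r (fun a _ b w => F.ops_comm_ops S.hP G a b w) s,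
    map_add, map_zsmul, map_zsmul, chernE_split hX hE S F, chernE_split hX hK S G]

/-- The second Chern class of a tensor product. -/
theorem chernE_tensor_two (hX : Cyc.IsSetup X δ) {E K : X.Modules} {r s : ℕ}
    (hE : FlatMod.IsFinLocFreeOfRank r E) (hK : FlatMod.IsFinLocFreeOfRank s K)
    (hT : FlatMod.IsFinLocFreeOfRank (r * s) (CohB1.tensorMod E K)) (z : Tot X δ) :
    chernE hX hT 2 z = (r : ℤ) • chernE hX hK 2 z + (s : ℤ) • chernE hX hE 2 z +
      (r.choose 2 : ℤ) • chernE hX hK 1 (chernE hX hK 1 z) +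
        ((r * s : ℕ) - 1 : ℤ) • chernE hX hE 1 (chernE hX hK 1 z) +
          (s.choose 2 : ℤ) • chernE hX hE 1 (chernE hX hE 1 z) := by
  obtain ⟨S, ⟨F⟩, ⟨G⟩⟩ := exists_split₂ hX hE hK
  refine (show Function.Injective S.pull from S.inj) ?_
  rw [chernE_tensor_split hX hT S F G, esymOp_prodOps_two _ _ r (fun a _ b w => F.ops_comm_ops S.hP G a b w)
      (fun a b w => G.ops_comm_ops S.hP G a b w) s]
  simp only [map_add, map_zsmul, chernE_split hX hE S F, chernE_split hX hK S G]

end Groth.CycInter.PB
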