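import Groth.Agent.CycInter.PbRel
import Groth.Agent.CycInter.PbCompletion
import Groth.Agent.CycInter.BivClopen
import Groth.Agent.Cycles.Excision

/-!
Injectivity of the pullback to a vector bundle, through the projective completion.
-/

universe u

set_option autoImplicit false

open CategoryTheory CategoryTheory.Limits AlgebraicGeometry
open Groth.RefRank Groth.Cycles

noncomputable section

namespace Groth.CycInter.PB

variable {T : Scheme.{u}}

theorem notMem_vanishSet_of_gen {M O : T.Modules} (φ : M ⟶ O) {W : T.Opens} (m : Γ(M, W)) {y : T} (hy : y ∈ W)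
    (h : Groth.PicAux.Gen O W (φ.app W m)) : y ∉ vanishSet φ := fun hv => by
  have h1 := hv (Groth.QCohMod.germ M y hy m)
  rw [show RefHull.stalkMapₗ φ y (Groth.QCohMod.germ M y hy m) = Groth.QCohMod.germ O y hy (φ.app W m) from
    RefHull.stalkMapₗ_germ φ y hy m] at h1
  exact fmk_ne_zero_of_isStalkBasis (isStalkBasis_germ_of_gen h hy) h1

/-- Pullback keeps classes supported over a set. -/
theorem pullT_mem_suppSub {Y : Scheme.{u}} {δ : T → ℤ} {δY : Y → ℤ} (hT : Cyc.IsSetup T δ)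
    (hY : Cyc.IsSetup Y δY) (g : Y ⟶ T) [Flat g] [LocallyOfFiniteType g] {c : ℕ} (hc : Cyc.HasRelDim g c)
    (hδ : Cyc.DeltaCompat g δY δ) {Z : Set T} {w : Tot T δ} (hw : w ∈ suppSub T δ Z) :
    pullT hT hY g hc hδ w ∈ suppSub Y δY (g ⁻¹' Z) := by
  refine AddSubgroup.closure_induction (p := fun w _ => pullT hT hY g hc hδ w ∈ suppSub Y δY (g ⁻¹' Z)) ?_
    (by rw [map_zero]; exact zero_mem _) (fun a b _ _ ha hb => by rw [map_add]; exact add_mem ha hb)
    (fun a _ ha => by rw [map_neg]; exact neg_mem ha) hw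
  rintro _ ⟨k, z, hz, hs, rfl⟩
  rw [pullT_tcl hT hY g hc hδ z hz _ (pullCyc_spec hT hY g hc hδ z) (pullCyc_mem hT hY g hc hδ hz) rfl]
  refine AddSubgroup.subset_closure ⟨_, _, _, fun y hy => hs (g y) fun h => hy ?_, rfl⟩
  rw [pullCyc_spec, Cyc.pullFun, h, zero_mul, ite_self]

/-- The projection to one degree. -/
def degProj {Y : Scheme.{u}} (δY : Y → ℤ) (k : ℤ) : Tot Y δY →+ Tot Y δY :=
  (DirectSum.of (fun l => ChowOps.CH Y δY l) k).comp (DFinsupp.evalAddMonoidHom k)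

theorem degProj_tcl {Y : Scheme.{u}} {δY : Y → ℤ} (k : ℤ) {l : ℤ} (α : AlgebraicCycle Y ℤ)
    (hα : α ∈ Cyc.Zk Y δY l) : degProj δY k (tcl α hα) = if l = k then tcl α hα else 0 := by
  show DirectSum.of _ k ((DirectSum.of (fun m => ChowOps.CH Y δY m) l (ChowOps.cl α hα)) k) = _
  split_ifs with h
  · subst h
    rw [DirectSum.of_eq_same]
    rfl
  · rw [DirectSum.of_eq_of_ne _ _ _ (Ne.symm h), map_zero]

/-- A class vanishing on an open is supported on the complement. -/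
theorem mem_suppSub_compl {δ : T → ℤ} (hT : Cyc.IsSetup T δ) (U : T.Opens)
    (hUs : Cyc.IsSetup U.toScheme (fun u => δ (U.ι u))) (hU : Cyc.DeltaCompat U.ι (fun u => δ (U.ι u)) δ)
    (w : Tot T δ) (h : pullT hT hUs U.ι (Biv.hasRelDim_zero_openImm U.ι) hU w = 0) :
    w ∈ suppSub T δ (↑U)ᶜ := by
  classical
  let ρ := pullT hT hUs U.ι (Biv.hasRelDim_zero_openImm U.ι) hU
  have hcomm : ∀ k, ρ.comp (degProj δ k) = (degProj (fun u => δ (U.ι u)) k).comp ρ := fun k =>
    hom_ext fun l α hα => by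
      show pullT hT hUs U.ι (Biv.hasRelDim_zero_openImm U.ι) hU (degProj δ k (tcl α hα)) =
        degProj (fun u => δ (U.ι u)) k (pullT hT hUs U.ι (Biv.hasRelDim_zero_openImm U.ι) hU (tcl α hα))
      rw [degProj_tcl, pullT_tcl hT hUs U.ι (Biv.hasRelDim_zero_openImm U.ι) hU α hα _
        (pullCyc_spec hT hUs U.ι (Biv.hasRelDim_zero_openImm U.ι) hU α)
        (pullCyc_mem hT hUs U.ι (Biv.hasRelDim_zero_openImm U.ι) hU hα) rfl, degProj_tcl]
      by_cases hlk : l = k
      · rw [if_pos hlk, if_pos (by simp [hlk])]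
        exact pullT_tcl hT hUs U.ι (Biv.hasRelDim_zero_openImm U.ι) hU α hα _
          (pullCyc_spec hT hUs U.ι (Biv.hasRelDim_zero_openImm U.ι) hU α)
          (pullCyc_mem hT hUs U.ι (Biv.hasRelDim_zero_openImm U.ι) hU hα) rfl
      · rw [if_neg hlk, if_neg (by simpa using hlk), map_zero]
  rw [← DirectSum.sum_support_of w]
  refine sum_mem fun k _ => ?_
  have hk : ρ (degProj δ k w) = 0 := by
    rw [show ρ (degProj δ k w) = degProj (fun u => δ (U.ι u)) k (ρ w) from DFunLike.congr_fun (hcomm k) w,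
      show ρ w = 0 from h, map_zero]
  change ρ (DirectSum.of _ k (w k)) = 0 at hk
  obtain ⟨⟨α, hα⟩, hαe⟩ := QuotientAddGroup.mk_surjective (w k)
  have hwk : DirectSum.of (fun l => ChowOps.CH T δ l) k (w k) = tcl α hα := by rw [← hαe]; rfl
  rw [hwk] at hk ⊢
  let αU := pullCyc hT hUs U.ι (Biv.hasRelDim_zero_openImm U.ι) hU α
  have hαU : αU ∈ Cyc.Zk U.toScheme (fun u => δ (U.ι u)) k := by
    have := pullCyc_mem hT hUs U.ι (Biv.hasRelDim_zero_openImm U.ι) hU hα
    rwa [Nat.cast_zero, add_zero] at this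
  have h0 : Cyc.RatEquivZero (fun u => δ (U.ι u)) k αU := by
    refine ratEquivZero_of_tcl_eq_zero hUs (hα := hαU) ?_
    rw [← hk]
    exact (pullT_tcl hT hUs U.ι (Biv.hasRelDim_zero_openImm U.ι) hU α hα αU
      (pullCyc_spec hT hUs U.ι (Biv.hasRelDim_zero_openImm U.ι) hU α) hαU (by simp)).symm
  obtain ⟨γ, hγ, hγU, hγe⟩ := exists_excision δ hT U k α 0 hα (fun _ _ => rfl) αU 0
    (fun u => (congrFun (pullCyc_spec hT hUs U.ι (Biv.hasRelDim_zero_openImm U.ι) hU α) u).trans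
      (Biv.pullFun_openImm U.ι δ ⇑α u))
    (fun _ => rfl) (by rwa [Cyc.RatEquiv, sub_zero])
  rw [zero_add] at hγe
  exact AddSubgroup.subset_closure ⟨k, γ, hγ, fun y hy hyU => hy (hγU y hyU),
    tcl_eq_of_ratEquiv rfl hα hγ hγe⟩

variable {X : Scheme.{u}} {δ : X → ℤ}

/-- A class on the base whose pullback to a projective bundle is supported where a corank one subbundle
does not vanish is zero. -/
theorem eq_zero_of_supported {E : X.Modules} {r : ℕ} (hE : FlatMod.IsFinLocFreeOfRank r E) (B : Bun X δ)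
    (hBr : B.r = r + 1) (a : E ⟶ B.E) (D : Set B.P) (hspec : ∀ ξ y, ξ ⤳ y → ξ ∈ D → y ∈ D)
    (hD : ∀ y ∈ D, ∃ (W : B.P.Opens) (m : Γ((Scheme.Modules.pullback B.π).obj E, W)),
      y ∈ W ∧ Groth.PicAux.Gen B.O1 W (((Scheme.Modules.pullback B.π).map a ≫ B.q).app W m))
    (z : Tot X δ) (hz : B.pull z ∈ suppSub B.P B.δP D) : z = 0 := by
  obtain ⟨S, ⟨F⟩⟩ := exists_split r B.hX hE
  haveI := S.hflat
  haveI := S.hlft
  haveI := B.lftπ
  haveI := B.flatπ
  let g' := Limits.pullback.fst B.π S.π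
  let π' := Limits.pullback.snd B.π S.π
  let sq : IsPullback g' π' B.π S.π := IsPullback.of_hasPullback B.π S.π
  haveI : LocallyOfFiniteType π' := MorphismProperty.of_isPullback sq B.lftπ
  haveI : LocallyOfFiniteType g' := MorphismProperty.of_isPullback sq.flip S.hlft
  haveI : Flat π' := MorphismProperty.of_isPullback sq B.flatπ
  haveI : Flat g' := MorphismProperty.of_isPullback sq.flip S.hflat
  obtain ⟨δ', hδ'⟩ := Biv.exists_delta π' S.δP
  have hP' := P1C.isSetup_of_lft S.hP _ hδ'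
  have hg : Cyc.DeltaCompat g' δ' B.δP :=
    Dvr.deltaCompat_of_comp _ (g := B.π)
      (by rw [sq.w]; exact Bivar.deltaCompat_comp _ S.π δ' S.δP δ hδ' S.hδ) B.hδ
  let B' := B.bc S.π S.hP sq hP' hδ'
  haveI := B'.hP.epi
  have hd' : Cyc.HasRelDim g' S.d := Biv.hasRelDim_baseChange sq.flip S.hd
  have hd1 : Cyc.HasRelDim (g' ≫ B.π) (S.d + (B.r - 1)) :=
    (Groth.Agent.S1857.result _ B.P X δ' B.δP δ hP' B.hPs B.hX g' B.π S.d (B.r - 1) hd' B.relDim hg B.hδ 0).1
  have hd2 : Cyc.HasRelDim (π' ≫ S.π) ((B.r - 1) + S.d) :=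
    (Groth.Agent.S1857.result _ S.P X δ' S.δP δ hP' S.hP B.hX π' S.π (B.r - 1) S.d B'.relDim S.hd hδ' S.hδ 0).1
  have hcomm : pullT B.hPs hP' g' hd' hg (B.pull z) = B'.pull (S.pull z) := by
    have e1 := DFunLike.congr_fun (pullT_comp B.hX B.hPs B.π B.relDim B.hδ hP' g' hd' hg hd1 rfl) z
    have e2 := DFunLike.congr_fun (pullT_comp S.hX S.hP S.π S.hd S.hδ hP' π' B'.relDim hδ' hd2 rfl) z
    refine e1.trans (Eq.trans ?_ e2.symm)
    exact DFunLike.congr_fun (pullT_congr B.hX hP' sq.w hd1 hd2 (add_comm _ _) _ _) z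
  have hw : B'.pull (S.pull z) ∈ suppSub B'.P δ' (g' ⁻¹' D) :=
    hcomm ▸ pullT_mem_suppSub B.hPs hP' g' hd' hg hz
  let ψ : (Scheme.Modules.pullback π').obj ((Scheme.Modules.pullback S.π).obj E) ⟶ B'.O1 :=
    (Scheme.Modules.pullback π').map ((Scheme.Modules.pullback S.π).map a) ≫ B'.q
  let ψ₀ := (Scheme.Modules.pullback B.π).map a ≫ B.q
  let e : (Scheme.Modules.pullback π').obj ((Scheme.Modules.pullback S.π).obj E) ≅
      (Scheme.Modules.pullback g').obj ((Scheme.Modules.pullback B.π).obj E) :=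
    (Scheme.Modules.pullbackComp π' S.π).app E ≪≫ (Scheme.Modules.pullbackCongr sq.w.symm).app E ≪≫
      ((Scheme.Modules.pullbackComp g' B.π).app E).symm
  have hψ : e.inv ≫ ψ = (Scheme.Modules.pullback g').map ψ₀ := by
    rw [Iso.inv_comp_eq]
    show (Scheme.Modules.pullback π').map ((Scheme.Modules.pullback S.π).map a) ≫
      GrassFlag.bcQuot sq B.q = _
    simp only [GrassFlag.bcQuot, Grass.quotBC, e, ψ₀, Iso.trans_hom, Iso.symm_hom, Iso.app_hom, Iso.app_inv,
      Functor.map_comp, Category.assoc]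
    simp only [← Functor.comp_map, NatTrans.naturality_assoc]
    rfl
  have hne : g' ⁻¹' D ∩ vanishSet ψ = ∅ := by
    refine Set.eq_empty_iff_forall_notMem.mpr fun y hy => ?_
    obtain ⟨W, m, hyW, hgen⟩ := hD (g' y) hy.1
    refine notMem_vanishSet_of_gen ψ (e.inv.app (g' ⁻¹ᵁ W) (Groth.PicAux.pullSec g' _ m)) hyW ?_ hy.2
    rw [show ψ.app (g' ⁻¹ᵁ W) (e.inv.app (g' ⁻¹ᵁ W) (Groth.PicAux.pullSec g' _ m)) =
        (e.inv ≫ ψ).app (g' ⁻¹ᵁ W) (Groth.PicAux.pullSec g' _ m) from rfl, hψ]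
    exact Eq.mpr (congrArg (Groth.PicAux.Gen ((Scheme.Modules.pullback g').obj B.O1) (g' ⁻¹ᵁ W))
      (Groth.PicAux.pullSec_map g' ψ₀ m)) (hgen.pull g')
  have h0 : diffProd B'.H ((F.pull π').ops B'.hPs) r (B'.pull (S.pull z)) = 0 :=
    eq_zero_of_mem_suppSub hne
      ((F.pull π').mem_suppSub B'.hPs B'.hO (fun ξ y h hξ => hspec _ _ (h.map g'.continuous) hξ) hw ψ)
  replace h0 := (diffProd_apply B'.H ((F.pull π').ops B'.hPs) (F.ops S.hP) B'.pull r
    (fun i hi => B'.ops_pull F hi) (fun i hi => B'.ops_H (F.pull π') hi) (S.pull z)).symm.trans h0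
  simp only [B'.iterOp_H] at h0
  have h1 : ∑ i ∈ Finset.range (r + 1),
      (-1 : ℤ) ^ i • B'.Hpow i (B'.pull (esymOp (F.ops S.hP) r (r - i) (S.pull z))) = 0 := by
    rcases neg_one_pow_eq_or ℤ r with he | he <;> rw [he] at h0
    · rwa [one_smul] at h0
    · rwa [neg_one_smul, neg_eq_zero] at h0
  have hr' : B'.r = r + 1 := hBr
  rw [← hr', ← Fin.sum_univ_eq_sum_range
    (fun i => (-1 : ℤ) ^ i • B'.Hpow i (B'.pull (esymOp (F.ops S.hP) r (r - i) (S.pull z)))) B'.r] at h1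
  have h2 := B'.independent (fun i => (-1 : ℤ) ^ (i : ℕ) • esymOp (F.ops S.hP) r (r - i) (S.pull z))
    (by simpa only [map_zsmul] using h1) ⟨r, by omega⟩
  simp only [Nat.sub_self, esymOp_zero, AddMonoidHom.id_apply] at h2
  refine (injective_iff_map_eq_zero S.pull).mp S.inj z ?_
  rcases neg_one_pow_eq_or ℤ r with he | he <;> rw [he] at h2
  · rwa [one_smul] at h2
  · rwa [neg_one_smul, neg_eq_zero] at h2

/-- Off the finite part some section of `E` generates. -/
theorem exists_gen_of_notMem_finPart {E : X.Modules} {r : ℕ} (hE : FlatMod.IsFinLocFreeOfRank r E)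
    {P : Scheme.{u}} {π : P ⟶ X} {O1 : P.Modules} {q : (Scheme.Modules.pullback π).obj (Completion.aug E) ⟶ O1}
    (hP : KRR.IsProjBundle π (Completion.aug E) O1 q) {y : P} (hy : y ∉ Completion.finPart E q) :
    ∃ (W : P.Opens) (m : Γ((Scheme.Modules.pullback π).obj E, W)), y ∈ W ∧ Groth.PicAux.Gen O1 W
      (((Scheme.Modules.pullback π).map (biprod.inl : E ⟶ Completion.aug E) ≫ q).app W m) := by
  obtain ⟨V, e, -, hyV, he⟩ := Groth.LocFree.exists_affine_basis_ofRank hE (π y)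
  obtain ⟨j, hj⟩ := Groth.PBundle.exists_mem_chart (Completion.basis_aug E he) hP y hyV
  induction j using Fin.lastCases with
  | last =>
      refine absurd ?_ hy
      rw [Groth.PBundle.chart, Completion.augBasis, Fin.snoc_last, Completion.genLoc_ov] at hj
      exact hj.1
  | cast i =>
      refine ⟨_, Groth.PicAux.res _ Groth.PBundle.chart_le (Groth.PicAux.pullSec π E (e i)), hj, ?_⟩
      rw [Groth.PicAux.app_res]
      rw [show ((Scheme.Modules.pullback π).map (biprod.inl : E ⟶ Completion.aug E) ≫ q).app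
          (π ⁻¹ᵁ V) (Groth.PicAux.pullSec π E (e i)) =
          q.app _ (((Scheme.Modules.pullback π).map (biprod.inl : E ⟶ Completion.aug E)).app _
            (Groth.PicAux.pullSec π E (e i))) from rfl, Groth.PicAux.pullSec_map]
      have h := (Groth.RelTw.linData q).gen_genLoc V (Completion.augBasis e (Fin.castSucc i))
      have heq : (Groth.RelTw.linData q).app V (Completion.augBasis e (Fin.castSucc i)) =
          q.app _ (Groth.PicAux.pullSec π _ ((biprod.inl : E ⟶ Completion.aug E).app V (e i))) := by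
        rw [Groth.RelTw.linData_app, Completion.augBasis, Fin.snoc_castSucc]
        rfl
      rwa [heq] at h

/-- Pullback to a vector bundle is injective. -/
theorem pullT_vectorBundle_injective (hX : Cyc.IsSetup X δ) {E : X.Modules} [E.IsQuasicoherent] {r : ℕ}
    (hE : FlatMod.IsFinLocFreeOfRank r E) (A : RelSpec.QCAlg X) (j : E ⟶ A.toModule)
    (hA : RelSpec.IsSymAlg E A j) [Flat A.π] [LocallyOfFiniteType A.π] {δV : ↥A.spec → ℤ}
    (hV : Cyc.IsSetup A.spec δV) (hr : Cyc.HasRelDim A.π r) (hδ : Cyc.DeltaCompat A.π δV δ) :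
    Function.Injective (pullT hX hV A.π hr hδ) := by
  refine (injective_iff_map_eq_zero _).mpr fun z hz => ?_
  obtain ⟨B, hBr, hBE⟩ := exists_bun hX (Nat.le_add_left 1 r) (Completion.isFinLocFreeOfRank_aug E hE)
  obtain ⟨P, π, EB, O1, q, hP, rB, hrB, hEB, δP, hX', hPs, hδP, hp⟩ := B
  subst hBE hBr
  let B : Bun X δ := ⟨P, π, Completion.aug E, O1, q, hP, r + 1, hrB, hEB, δP, hX', hPs, hδP, hp⟩
  haveI := B.flatπ
  haveI := B.lftπ
  haveI := hp
  haveI := hPs.1
  let U := Completion.finPart E q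
  haveI : QuasiCompact (Completion.finProj E q) := inferInstance
  haveI : QuasiSeparated (Completion.finProj E q) := inferInstance
  obtain ⟨β, hβ⟩ := Completion.exists_iso_spec E q hA hE hP
  have hU : Cyc.DeltaCompat U.ι (fun u => δP (U.ι u)) δP := deltaCompat_preimmersion U.ι δP
  have hUs : Cyc.IsSetup U.toScheme (fun u => δP (U.ι u)) := P1C.isSetup_of_lft hPs U.ι hU
  have hUX : Cyc.DeltaCompat (U.ι ≫ π) (fun u => δP (U.ι u)) δ := Bivar.deltaCompat_comp U.ι π _ δP δ hU hδP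
  have hβc : Cyc.DeltaCompat β.hom (fun u => δP (U.ι u)) δV :=
    Dvr.deltaCompat_of_comp β.hom (g := A.π) (by rw [hβ]; exact hUX) hδ
  have hd1 : Cyc.HasRelDim (U.ι ≫ π) (0 + (r + 1 - 1)) :=
    (Groth.Agent.S1857.result _ P X _ δP δ hUs hPs hX U.ι π 0 (r + 1 - 1) (Biv.hasRelDim_zero_openImm U.ι)
      B.relDim hU hδP 0).1
  have hd2 : Cyc.HasRelDim (β.hom ≫ A.π) (0 + r) :=
    (Groth.Agent.S1857.result _ A.spec X _ δV δ hUs hV hX β.hom A.π 0 r (Biv.hasRelDim_zero_openImm β.hom)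
      hr hβc hδ 0).1
  have hres : ∀ w : Tot X δ, pullT hPs hUs U.ι (Biv.hasRelDim_zero_openImm U.ι) hU (B.pull w) =
      pullT hV hUs β.hom (Biv.hasRelDim_zero_openImm β.hom) hβc (pullT hX hV A.π hr hδ w) := fun w => by
    have e1 := DFunLike.congr_fun (pullT_comp hX hPs π B.relDim hδP hUs U.ι (Biv.hasRelDim_zero_openImm U.ι) hU
      hd1 rfl) w
    have e2 := DFunLike.congr_fun (pullT_comp hX hV A.π hr hδ hUs β.hom (Biv.hasRelDim_zero_openImm β.hom) hβc
      hd2 rfl) w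
    refine e1.trans (Eq.trans ?_ e2.symm)
    exact DFunLike.congr_fun (pullT_congr hX hUs hβ.symm hd1 hd2 (by simp) _ _) w
  refine eq_zero_of_supported hE B rfl biprod.inl (↑U)ᶜ (fun ξ y h hξ hy => hξ (h.mem_open U.2 hy))
    (fun y hy => exists_gen_of_notMem_finPart hE hP hy) z ?_
  have h0 : pullT hPs hUs U.ι (Biv.hasRelDim_zero_openImm U.ι) hU (B.pull z) = 0 := by
    rw [hres, hz, map_zero]
  exact mem_suppSub_compl hPs U hUs hU _ h0

/-- The structure morphism of a vector bundle is flat, locally of finite type, of relative dimension the rank. -/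
theorem vectorBundle_geom (hX : Cyc.IsSetup X δ) {E : X.Modules} [E.IsQuasicoherent] {r : ℕ}
    (hE : FlatMod.IsFinLocFreeOfRank r E) (A : RelSpec.QCAlg X) (j : E ⟶ A.toModule)
    (hA : RelSpec.IsSymAlg E A j) {δV : ↥A.spec → ℤ} (hV : Cyc.IsSetup A.spec δV)
    (hδ : Cyc.DeltaCompat A.π δV δ) : Flat A.π ∧ LocallyOfFiniteType A.π ∧ Cyc.HasRelDim A.π r := by
  obtain ⟨B, hBr, hBE⟩ := exists_bun hX (Nat.le_add_left 1 r) (Completion.isFinLocFreeOfRank_aug E hE)
  obtain ⟨P, π, EB, O1, q, hP, rB, hrB, hEB, δP, hX', hPs, hδP, hp⟩ := B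
  subst hBE hBr
  let B : Bun X δ := ⟨P, π, Completion.aug E, O1, q, hP, r + 1, hrB, hEB, δP, hX', hPs, hδP, hp⟩
  haveI := B.flatπ
  haveI := B.lftπ
  haveI : Flat π := B.flatπ
  haveI : LocallyOfFiniteType π := B.lftπ
  haveI := hp
  haveI := hPs.1
  let U := Completion.finPart E q
  haveI : QuasiCompact (Completion.finProj E q) := inferInstance
  haveI : QuasiSeparated (Completion.finProj E q) := inferInstance
  obtain ⟨β, hβ⟩ := Completion.exists_iso_spec E q hA hE hP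
  have e : A.π = β.inv ≫ (U.ι ≫ π) :=
    ((congrArg (β.inv ≫ ·) hβ.symm).trans (Iso.inv_hom_id_assoc β A.π)).symm
  have hU : Cyc.DeltaCompat U.ι (fun u => δP (U.ι u)) δP := deltaCompat_preimmersion U.ι δP
  have hUs : Cyc.IsSetup U.toScheme (fun u => δP (U.ι u)) := P1C.isSetup_of_lft hPs U.ι hU
  have hUX : Cyc.DeltaCompat (U.ι ≫ π) (fun u => δP (U.ι u)) δ := Bivar.deltaCompat_comp U.ι π _ δP δ hU hδP
  have hβc : Cyc.DeltaCompat β.inv δV (fun u => δP (U.ι u)) :=
    Dvr.deltaCompat_of_comp β.inv (g := U.ι ≫ π) (by rw [← e]; exact hδ) hUX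
  have hd1 : Cyc.HasRelDim (U.ι ≫ π) (0 + (r + 1 - 1)) :=
    (Groth.Agent.S1857.result _ P X _ δP δ hUs hPs hX U.ι π 0 (r + 1 - 1) (Biv.hasRelDim_zero_openImm U.ι)
      B.relDim hU hδP 0).1
  have hd2 : Cyc.HasRelDim (β.inv ≫ U.ι ≫ π) (0 + (0 + (r + 1 - 1))) :=
    (Groth.Agent.S1857.result _ _ X δV _ δ hV hUs hX β.inv (U.ι ≫ π) 0 (0 + (r + 1 - 1))
      (Biv.hasRelDim_zero_openImm β.inv) hd1 hβc hUX 0).1
  rw [e]
  exact ⟨inferInstance, inferInstance, by simpa using hd2⟩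

end Groth.CycInter.PB
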