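import Groth.Agent.CycInter.ExtPoint
import Groth.Agent.Calg6.DiagStalk
import Groth.Agent.S1582
import Mathlib.AlgebraicGeometry.PullbackCarrier

/-! The generic point of a product of point closures. -/

set_option linter.style.haveILetI false
universe u

open CategoryTheory CategoryTheory.Limits AlgebraicGeometry IsLocalRing
open Groth.CycleLimits Groth.Calg6.DiagStalk

namespace Groth.CycInter.Ext

variable {K : Type u} [Field K]

/-- Dimension functions compose. -/
theorem deltaCompat_comp {A B C : Scheme.{u}} (h : A ⟶ B) (g : B ⟶ C) {δA : A → ℤ} {δB : B → ℤ} {δC : C → ℤ}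
    (h1 : Cyc.DeltaCompat h δA δB) (h2 : Cyc.DeltaCompat g δB δC) : Cyc.DeltaCompat (h ≫ g) δA δC := by
  intro x
  obtain ⟨a, ha, ha'⟩ := h1 x
  obtain ⟨b, hb, hb'⟩ := h2 (h x)
  refine ⟨b + a, ?_, ?_⟩
  · have e := Groth.Cycles.relTrdeg_comp_add h g x
    rw [show Groth.Variety2.Dim.relTrdeg g (h x) = b from hb,
      show Groth.Variety2.Dim.relTrdeg h x = a from ha] at e
    rw [Nat.cast_add, ← e]
    rfl
  · rw [Scheme.Hom.comp_apply, ha', hb']
    push_cast
    ring

/-- The ideal of an integral closed subscheme is the prime of its generic point. -/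
theorem ker_stalkMapAt_integral {W P : Scheme.{u}} (p : W ⟶ P) [IsClosedImmersion p] [IsIntegral W]
    (z' : W) (z : P) (hz : p z' = z) (h : p (genericPoint W) ⤳ z) :
    RingHom.ker (stalkMapAt p z' z hz).hom = (Groth.Cycles.genPrime h).asIdeal := by
  subst hz
  rw [stalkMapAt_rfl]
  have hsp : genericPoint W ⤳ z' := genericPoint_specializes z'
  have hinj : Function.Injective (W.presheaf.stalkSpecializes hsp).hom :=
    IsFractionRing.injective (W.presheaf.stalk z') W.functionField
  have hfield : maximalIdeal (W.presheaf.stalk (genericPoint W)) = ⊥ := IsLocalRing.maximalIdeal_eq_bot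
  ext a
  have key : (W.presheaf.stalkSpecializes hsp).hom ((p.stalkMap z').hom a) =
      (p.stalkMap (genericPoint W)).hom ((P.presheaf.stalkSpecializes h).hom a) :=
    (Scheme.Hom.stalkSpecializes_stalkMap_apply ..).symm
  change (p.stalkMap z').hom a = 0 ↔ (P.presheaf.stalkSpecializes h).hom a ∈ maximalIdeal _
  constructor
  · intro ha
    rw [ha, map_zero] at key
    refine IsLocalRing.le_maximalIdeal (RingHom.ker_ne_top (p.stalkMap (genericPoint W)).hom) ?_
    exact key.symm
  · intro ha
    have h0 : (p.stalkMap (genericPoint W)).hom ((P.presheaf.stalkSpecializes h).hom a) = 0 := by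
      have := map_nonunit (p.stalkMap (genericPoint W)).hom _ ha
      rwa [hfield, Ideal.mem_bot] at this
    exact hinj (key.trans (h0.trans (map_zero _).symm))

variable [IsAlgClosed K] {X Y : Scheme.{u}} (f : X ⟶ Spec (CommRingCat.of K)) (g : Y ⟶ Spec (CommRingCat.of K))
  [IsSeparated f] [IsSeparated g] [LocallyOfFiniteType f] [LocallyOfFiniteType g] [QuasiCompact f] [QuasiCompact g]

set_option maxHeartbeats 1000000 in
/-- The generic point of the product of two point closures above a point of the product. -/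
theorem exists_prodGen {δX : X → ℤ} {δY : Y → ℤ} {δ : ↥(pullback f g) → ℤ}
    (hX : Cyc.DeltaCompat f δX fun _ => 0) (hY : Cyc.DeltaCompat g δY fun _ => 0)
    (hP : Cyc.DeltaCompat (pullback.fst f g ≫ f) δ fun _ => 0) (z : ↥(pullback f g)) (x : X) (y : Y)
    (hx : pullback.fst f g z = x) (hy : pullback.snd f g z = y) (x' : X) (y' : Y) (hx' : x' ⤳ x) (hy' : y' ⤳ y) :
    ∃ w : ↥(pullback f g), ∃ h : w ⤳ z, pullback.fst f g w = x' ∧ pullback.snd f g w = y' ∧
      δ w = δX x' + δY y' ∧
      (Groth.Cycles.genPrime h).asIdeal =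
        (Groth.Cycles.genPrime hx').asIdeal.map (stalkMapAt (pullback.fst f g) z x hx).hom ⊔
          (Groth.Cycles.genPrime hy').asIdeal.map (stalkMapAt (pullback.snd f g) z y hy).hom ∧
      Module.length ((pullback f g).presheaf.stalk w) ((pullback f g).presheaf.stalk w ⧸
        (fibreIdeal (pullback.fst f g) w ⊔ fibreIdeal (pullback.snd f g) w)) = 1 ∧
      ∀ w₂ : ↥(pullback f g), pullback.fst f g w₂ = x' → pullback.snd f g w₂ = y' →
        δ w₂ = δX x' + δY y' → w₂ = w := by
  obtain ⟨V, i, _, _, _, hir, hiη⟩ := Groth.Cycles.closure_scheme x'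
  obtain ⟨W, j, _, _, _, hjr, hjη⟩ := Groth.Cycles.closure_scheme y'
  have : IsIntegral V := isIntegral_of_irreducibleSpace_of_isReduced V
  have : IsIntegral W := isIntegral_of_irreducibleSpace_of_isReduced W
  have := geometricallyIntegral_of_isAlgClosed (i ≫ f)
  have := geometricallyIntegral_of_isAlgClosed (j ≫ g)
  let a := pullback.fst (i ≫ f) (j ≫ g)
  let b := pullback.snd (i ≫ f) (j ≫ g)
  let p : pullback (i ≫ f) (j ≫ g) ⟶ pullback f g :=
    pullback.map _ _ f g i j (𝟙 _) (Category.comp_id _) (Category.comp_id _)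
  have : IsClosedImmersion p :=
    MorphismProperty.pullbackMap (P := @IsClosedImmersion) ‹IsClosedImmersion i› ‹IsClosedImmersion j› rfl rfl
  have hp₁ : p ≫ pullback.fst f g = a ≫ i := pullback.lift_fst _ _ _
  have hp₂ : p ≫ pullback.snd f g = b ≫ j := pullback.lift_snd _ _ _
  have hp₁' : ∀ v, pullback.fst f g (p v) = i (a v) := fun v => by
    rw [← Scheme.Hom.comp_apply, hp₁, Scheme.Hom.comp_apply]
  have hp₂' : ∀ v, pullback.snd f g (p v) = j (b v) := fun v => by
    rw [← Scheme.Hom.comp_apply, hp₂, Scheme.Hom.comp_apply]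
  have : IsIntegral (pullback (i ≫ f) (j ≫ g)) := Groth.Agent.S1582.result K V W (i ≫ f) (j ≫ g)
  have : Flat (i ≫ f) := flat_of_field _
  have : Flat (j ≫ g) := flat_of_field _
  set η := genericPoint ↥(pullback (i ≫ f) (j ≫ g)) with hη
  have haη : a η = genericPoint V :=
    Groth.Cycles.apply_eq_genericPoint_of_max a fun w hw => (hw.antisymm (genericPoint_specializes w)).eq
  have hbη : b η = genericPoint W :=
    Groth.Cycles.apply_eq_genericPoint_of_max b fun w hw => (hw.antisymm (genericPoint_specializes w)).eq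
  have hr : ∀ w₂, pullback.fst f g w₂ ∈ closure {x'} → pullback.snd f g w₂ ∈ closure {y'} → w₂ ∈ Set.range p :=
    fun w₂ h1 h2 => by
      rw [Scheme.Pullback.range_map]
      exact ⟨by rw [hir]; exact h1, by rw [hjr]; exact h2⟩
  obtain ⟨z', hz'⟩ := hr z (hx ▸ hx'.mem_closure) (hy ▸ hy'.mem_closure)
  have h : p η ⤳ z := hz' ▸ (genericPoint_specializes z').map p.continuous
  have hδV := deltaCompat_comp i f (Groth.Cycles.deltaCompat_preimmersion i δX) hX
  have hδW := deltaCompat_comp j g (Groth.Cycles.deltaCompat_preimmersion j δY) hY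
  have hδp : Cyc.DeltaCompat (a ≫ (i ≫ f)) (δ ∘ p) fun _ => 0 := by
    have := deltaCompat_comp p (pullback.fst f g ≫ f) (Groth.Cycles.deltaCompat_preimmersion p δ) hP
    rw [← Category.assoc, hp₁, Category.assoc] at this
    exact this
  have hδη : δ (p η) = δX x' + δY y' := by
    obtain ⟨ξ, hξ, -, -, hd, -, -⟩ := exists_gen (i ≫ f) (j ≫ g) a b (IsPullback.of_hasPullback _ _) hδV hδW hδp η
    rw [(hξ.antisymm (genericPoint_specializes ξ)).eq, haη] at hd
    simpa [Function.comp_apply, hiη, hjη] using hd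
  have hker : ∀ (q : ↥(pullback f g)) (q' : ↥(pullback (i ≫ f) (j ≫ g))) (hq : p q' = q) (s : p η ⤳ q)
      (x₀ : X) (y₀ : Y) (hx₀ : pullback.fst f g q = x₀) (hy₀ : pullback.snd f g q = y₀)
      (sx : x' ⤳ x₀) (sy : y' ⤳ y₀),
      (Groth.Cycles.genPrime s).asIdeal =
        (Groth.Cycles.genPrime sx).asIdeal.map (stalkMapAt (pullback.fst f g) q x₀ hx₀).hom ⊔
          (Groth.Cycles.genPrime sy).asIdeal.map (stalkMapAt (pullback.snd f g) q y₀ hy₀).hom := by
    intro q q' hq s x₀ y₀ hx₀ hy₀ sx sy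
    rw [← ker_stalkMapAt_integral p q' q hq s, ker_prod f g i j p hp₁ hp₂ q' q x₀ y₀ hq hx₀ hy₀]
    have e1 : i (a q') = x₀ := by rw [← hp₁', hq, hx₀]
    have e2 : j (b q') = y₀ := by rw [← hp₂', hq, hy₀]
    subst hiη hjη
    rw [← ker_stalkMapAt i (a q') x₀ e1, ← ker_stalkMapAt j (b q') y₀ e2,
      ker_stalkMapAt_integral i (a q') x₀ e1 sx, ker_stalkMapAt_integral j (b q') y₀ e2 sy]
  refine ⟨p η, h, by rw [hp₁', haη, hiη], by rw [hp₂', hbη, hjη], hδη, hker z z' hz' h x y hx hy hx' hy', ?_,
    fun w₂ h1 h2 h3 => ?_⟩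
  · have e := hker (p η) η rfl specializes_rfl _ _ rfl rfl
      (specializes_of_eq (by rw [hp₁', haη, hiη])) (specializes_of_eq (by rw [hp₂', hbη, hjη]))
    have hmax : ∀ {S : Scheme.{u}} {s t : S} (hst : s ⤳ t), s = t →
        (Groth.Cycles.genPrime hst).asIdeal = maximalIdeal (S.presheaf.stalk t) := by
      rintro S s t hst rfl
      exact congrArg PrimeSpectrum.asIdeal ((S.fromSpecStalk s).isEmbedding.injective
        ((Groth.Cycles.fromSpecStalk_genPrime _).trans Scheme.fromSpecStalk_closedPoint.symm))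
    rw [hmax _ rfl, hmax _ (by rw [hp₁', haη, hiη]), hmax _ (by rw [hp₂', hbη, hjη]), stalkMapAt_rfl,
      stalkMapAt_rfl] at e
    rw [show fibreIdeal (pullback.fst f g) (p η) ⊔ fibreIdeal (pullback.snd f g) (p η) =
      maximalIdeal ((pullback f g).presheaf.stalk (p η)) from e.symm]
    have : IsSimpleModule ((pullback f g).presheaf.stalk (p η)) ((pullback f g).presheaf.stalk (p η) ⧸
        maximalIdeal ((pullback f g).presheaf.stalk (p η))) :=
      isSimpleModule_iff_isCoatom.2 (Ideal.isMaximal_def.1 (maximalIdeal.isMaximal _))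
    exact Module.length_eq_one _ _
  · obtain ⟨v, rfl⟩ := hr w₂ (subset_closure h1) (subset_closure h2)
    have hPs := isSetup_field (pullback.fst f g ≫ f) hP
    exact (Groth.Cycles.eq_of_specializes_of_delta_le hPs.2.2
      ((genericPoint_specializes v).map p.continuous) (by rw [hδη, h3])).symm

end Groth.CycInter.Ext
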