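import Groth.Agent.Cycles.FlatFam
import Groth.Agent.Cycles.DimFunLft
import Groth.Agent.Variety2.DimScheme
import Groth.Agent.CurveBridge.Field

/-! Flat pullback of the diagonal. -/

universe u
open CategoryTheory CategoryTheory.Limits AlgebraicGeometry IsLocalRing
open Groth.Cycles Groth.Variety2.Dim Groth.CycleLimits

namespace Groth.CycInter

theorem relTrdeg_eq_trdegAt {K : Type u} [Field K] {X : Scheme.{u}} (f : X ⟶ Spec (CommRingCat.of K))
    [LocallyOfFiniteType f] (x : X) : relTrdeg f x = trdegAt f x := by
  obtain ⟨b, hb, hb'⟩ := exists_trdegAt_eq_height (𝟙 (Spec (CommRingCat.of K))) (f x)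
  have h0 : Order.height (f x) = 0 := Order.height_eq_zero.2 fun y _ => by rw [Subsingleton.elim (f x) y]
  rw [h0] at hb'
  obtain rfl : b = 0 := by exact_mod_cast hb'.symm
  have hadd := trdegAt_eq_add f (𝟙 (Spec (CommRingCat.of K))) f (Category.comp_id f) x
  rw [hadd, hb, Nat.cast_zero, zero_add]

theorem delta_closedImm_eq {K : Type u} [Field K] {X Y : Scheme.{u}} (q : Y ⟶ Spec (CommRingCat.of K))
    [LocallyOfFiniteType q] {δ : Y → ℤ} (hδ : Cyc.DeltaCompat q δ (fun _ => 0)) (g d : X ⟶ Y)
    [IsClosedImmersion g] [IsClosedImmersion d] (h : g ≫ q = d ≫ q) (x : X) : δ (g x) = δ (d x) := by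
  obtain ⟨a, ha, ha'⟩ := hδ (g x)
  obtain ⟨b, hb, hb'⟩ := hδ (d x)
  have eg := trdegAt_eq_add (g ≫ q) q g rfl x
  have ed := trdegAt_eq_add (d ≫ q) q d rfl x
  rw [relTrdeg_eq_zero_of_surjective g x (residueFieldMap_surjective g x), add_zero] at eg
  rw [relTrdeg_eq_zero_of_surjective d x (residueFieldMap_surjective d x), add_zero] at ed
  have e : trdegAt q (g x) = trdegAt q (d x) := by
    rw [← eg, ← ed]
    congr 1
  rw [← relTrdeg_eq_trdegAt, ← relTrdeg_eq_trdegAt] at e
  have hab : (a : Cardinal.{u}) = b := ha.symm.trans (e.trans hb)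
  rw [ha', hb', Nat.cast_inj.1 hab]

theorem pullFun_diagonal {k : Type u} [Field k] {X : Scheme.{u}} (f : X ⟶ Spec (CommRingCat.of k))
    [IsProper f] [IsIntegral X] (hdim : topologicalKrullDim ↥X = 1) (ψ : X ⟶ X) (hψ : ψ ≫ f = f) [Flat ψ]
    (m : pullback f f ⟶ pullback f f) (hm₁ : m ≫ pullback.fst f f = pullback.fst f f ≫ ψ)
    (hm₂ : m ≫ pullback.snd f f = pullback.snd f f) (g : X ⟶ pullback f f)
    (hg₁ : g ≫ pullback.fst f f = 𝟙 X) (hg₂ : g ≫ pullback.snd f f = ψ)
    (δ : ↥(pullback f f) → ℤ) (hδ : Cyc.DeltaCompat (pullback.fst f f ≫ f) δ (fun _ => 0)) :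
    Cyc.pullFun m δ δ 0
        (Set.indicator ({pullback.diagonal f (genericPoint ↥X)} : Set ↥(pullback f f)) (fun _ => (1 : ℤ))) =
      Set.indicator ({g (genericPoint ↥X)} : Set ↥(pullback f f)) (fun _ => (1 : ℤ)) := by
  haveI : IsProper ψ := by
    have : IsProper (ψ ≫ f) := hψ.symm ▸ (inferInstance : IsProper f)
    exact IsProper.of_comp ψ f
  haveI : IsClosedImmersion (g ≫ pullback.fst f f) := by rw [hg₁]; infer_instance
  haveI : IsClosedImmersion g := IsClosedImmersion.of_comp g (pullback.fst f f)
  haveI : IsClosedImmersion (pullback.diagonal f) := inferInstance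
  set d := pullback.diagonal f with hd
  have hd₁ : d ≫ pullback.fst f f = 𝟙 X := pullback.diagonal_fst f
  have hd₂ : d ≫ pullback.snd f f = 𝟙 X := pullback.diagonal_snd f
  have hw : g ≫ m = ψ ≫ d := by
    apply pullback.hom_ext
    · rw [Category.assoc, hm₁, reassoc_of% hg₁, Category.assoc, hd₁, Category.comp_id]
    · rw [Category.assoc, hm₂, hg₂, Category.assoc, hd₂, Category.comp_id]
  have hpb : IsPullback g ψ m d := by
    refine IsPullback.of_isLimit' ⟨hw⟩ (PullbackCone.IsLimit.mk _
      (fun s => s.fst ≫ pullback.fst f f) (fun s => ?_) (fun s => ?_) (fun s t h₁ _ => ?_))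
    · have h1 := congr($(s.condition) ≫ pullback.fst f f)
      have h2 := congr($(s.condition) ≫ pullback.snd f f)
      simp only [Category.assoc, hm₁, hm₂, hd₁, hd₂, Category.comp_id] at h1 h2
      apply pullback.hom_ext
      · simp only [Category.assoc, hg₁, Category.comp_id]
      · simp only [Category.assoc, hg₂]
        rw [h1, h2]
    · have h1 := congr($(s.condition) ≫ pullback.fst f f)
      simp only [Category.assoc, hm₁, hd₁, Category.comp_id] at h1
      simpa only [Category.assoc] using h1
    · rw [← h₁, Category.assoc, hg₁, Category.comp_id]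
  set η := genericPoint ↥X with hη
  have hmax : ∀ z : X, z ⤳ η → z = η := fun z hz => (hz.antisymm (genericPoint_specializes z)).eq
  have hψη : ψ η = η := apply_eq_genericPoint_of_max ψ hmax
  have hfib : ∀ a : X, ψ a = η → a = η := by
    intro a ha
    by_contra hne
    have hac := (Groth.CurveBridge.isClosed_singleton_iff X hdim a).mpr hne
    have hc : IsClosed ({η} : Set X) := by simpa [ha] using ψ.isClosedMap _ hac
    exact (Groth.CurveBridge.isClosed_singleton_iff X hdim η).mp hc rfl
  have hmg : m (g η) = d η := by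
    rw [← Scheme.Hom.comp_apply, hw, Scheme.Hom.comp_apply, hψη]
  funext y
  simp only [Cyc.pullFun]
  by_cases hy : y = g η
  · subst hy
    rw [Set.indicator_of_mem (Set.mem_singleton _), if_pos]
    swap
    · haveI : LocallyOfFiniteType (pullback.fst f f ≫ f) := inferInstance
      rw [hmg, add_zero]
      exact delta_closedImm_eq _ hδ g d (by rw [reassoc_of% hg₁, reassoc_of% hd₁]) η
    rw [Set.indicator_of_mem (show m (g η) ∈ ({d η} : Set _) from hmg), one_mul]
    set e := hpb.isoPullback with he
    have hz : pullback.fst m d (e.hom η) = g η := by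
      rw [← Scheme.Hom.comp_apply, IsPullback.isoPullback_hom_fst]
    have hlen := length_fibre_pullback m d (e.hom η)
    have hF : IsField ((pullback m d).presheaf.stalk (e.hom η)) := by
      have : IsField (X.presheaf.stalk η) := Field.toIsField X.functionField
      exact MulEquiv.isField this (asIso (e.hom.stalkMap η)).commRingCatIsoToRingEquiv.toMulEquiv
    have hbot : fibreIdeal (pullback.snd m d) (e.hom η) = ⊥ := by
      letI := hF.toField
      rcases Ideal.eq_bot_or_top (fibreIdeal (pullback.snd m d) (e.hom η)) with h | h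
      · exact h
      · exfalso
        have hle : fibreIdeal (pullback.snd m d) (e.hom η) ≤ maximalIdeal _ := IsLocalRing.le_maximalIdeal (fibreIdeal_ne_top _ _)
        exact (IsLocalRing.maximalIdeal.isMaximal ((pullback m d).presheaf.stalk (e.hom η))).ne_top
          (top_le_iff.mp (h ▸ hle))
    have h1 : Module.length ((pullback m d).presheaf.stalk (e.hom η)) ((pullback m d).presheaf.stalk (e.hom η) ⧸
        fibreIdeal (pullback.snd m d) (e.hom η)) = 1 := by
      rw [hbot, (Submodule.quotEquivOfEqBot _ rfl).length_eq]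
      letI := hF.toField
      exact Module.length_eq_one_iff.mpr inferInstance
    rw [h1] at hlen
    have key : ∀ y', y' = g η → Module.length ((pullback f f).presheaf.stalk y')
        ((pullback f f).presheaf.stalk y' ⧸ fibreIdeal m y') = 1 →
      Module.length ((pullback f f).presheaf.stalk (g η))
        ((pullback f f).presheaf.stalk (g η) ⧸ fibreIdeal m (g η)) = 1 := by
      rintro y' rfl h; exact h
    have h2 := key _ hz hlen.symm
    rw [fibreIdeal] at h2
    rw [h2]
    rfl
  · rw [Set.indicator_of_notMem (s := ({g η} : Set _)) (a := y) (by simpa using hy)]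
    split_ifs with hd'
    · rw [Set.indicator_of_notMem, zero_mul]
      intro hmy
      rw [Set.mem_singleton_iff] at hmy
      apply hy
      obtain ⟨z, hz1, hz2⟩ := Scheme.Pullback.exists_preimage_pullback y η hmy
      have : z = hpb.isoPullback.hom (hpb.isoPullback.inv z) := by simp [← Scheme.Hom.comp_apply]
      have hg' : g (hpb.isoPullback.inv z) = y := by
        rw [← Scheme.Hom.comp_apply, IsPullback.isoPullback_inv_fst]; exact hz1
      have hψ' : ψ (hpb.isoPullback.inv z) = η := by
        rw [← Scheme.Hom.comp_apply, IsPullback.isoPullback_inv_snd]; exact hz2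
      rw [← hg', hfib _ hψ']
    · rfl

end Groth.CycInter
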