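import Groth.Agent.CycInter.RatOn
import Groth.Agent.QCohMod.Pullback
import Groth.Agent.PicAux.Pullback

/-!
Rational sections of the inverse image of an invertible module on a closed subscheme.
-/

universe u

set_option autoImplicit false

open CategoryTheory AlgebraicGeometry IsLocalRing
open Groth.RefRank Groth.QCohMod Groth.Cycles

namespace Groth.CycInter

variable {X D : Scheme.{u}} {δ : X → ℤ}

theorem isStalkBasis_pullGerm (f : D ⟶ X) {M : X.Modules} (hM : PicF.IsInvertible M) {d : D}
    {t : M.presheaf.stalk (f d)} (ht : IsStalkBasis M (f d) t) :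
    IsStalkBasis ((Scheme.Modules.pullback f).obj M) d (pullGerm f M d t) := by
  obtain ⟨U, s, hU, hs⟩ := exists_gen_nhd hM (f d)
  obtain ⟨w, hw, rfl⟩ := exists_unit_of_basis (isStalkBasis_germ_of_gen hs hU) ht.span_eq_top
  rw [pullGerm_smul, pullGerm_germ]
  exact isStalkBasis_smul (isStalkBasis_germ_of_gen (hs.pull f) hU) (hw.map (f.stalkMap d).hom)

theorem mspec_pullGerm (f : D ⟶ X) (M : X.Modules) {e d : D} (h : e ⤳ d)
    (t : M.presheaf.stalk (f d)) :
    mspec ((Scheme.Modules.pullback f).obj M) h (pullGerm f M d t) =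
      pullGerm f M e (mspec M (h.map f.continuous) t) := by
  obtain ⟨U, hU, m, rfl⟩ := exists_germ M (f d) t
  rw [pullGerm_germ, mspec_germ, mspec_germ, pullGerm_germ]

variable (i : D ⟶ X) {M : X.Modules}

/-- The restriction of a rational section to the closed subscheme. -/
noncomputable def pullFib (hM : PicF.IsInvertible M) (d : D) (s : Cyc.secFibre M (i d)) :
    Cyc.secFibre ((Scheme.Modules.pullback i).obj M) d :=
  (i.stalkMap d).hom (exists_coef (bas_spec hM (i d)) s).choose • fmk (pullGerm i M d (bas hM (i d)))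

theorem coef_pullFib (hM : PicF.IsInvertible M) (d : D) {t : M.presheaf.stalk (i d)}
    (ht : IsStalkBasis M (i d) t) (s : Cyc.secFibre M (i d)) :
    coef ((Scheme.Modules.pullback i).obj M) d (pullGerm i M d t) (pullFib i hM d s) =
      (i.residueFieldMap d).hom (coef M (i d) t s) := by
  have hres : ∀ a : X.presheaf.stalk (i d), D.residue d ((i.stalkMap d).hom a) =
      (i.residueFieldMap d).hom (X.residue (i d) a) := fun a => by
    show (i.stalkMap d ≫ D.residue d) a = (X.residue (i d) ≫ i.residueFieldMap d) a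
    rw [Scheme.residue_residueFieldMap]
  obtain ⟨w, hw, rfl⟩ := exists_unit_of_basis (bas_spec hM (i d)) ht.span_eq_top
  have hb := isStalkBasis_pullGerm i hM (bas_spec hM (i d))
  have hφ := (exists_coef (bas_spec hM (i d)) s).choose_spec
  have e1 : coef M (i d) (bas hM (i d)) s = X.residue (i d) (exists_coef (bas_spec hM (i d)) s).choose := by
    conv_lhs => rw [hφ]
    exact coef_smul (bas_spec hM (i d)) _
  have e2 : coef ((Scheme.Modules.pullback i).obj M) d (pullGerm i M d (bas hM (i d))) (pullFib i hM d s) =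
      (i.residueFieldMap d).hom (coef M (i d) (bas hM (i d)) s) := by
    rw [pullFib, coef_smul hb, hres, e1]
  have e3 := coef_smul_left (bas_spec hM (i d)) hw s
  have e4 := coef_smul_left hb (hw.map (i.stalkMap d).hom) (pullFib i hM d s)
  rw [e2, e3, map_mul, hres, ← pullGerm_smul] at e4
  exact (mul_right_cancel₀ ((map_ne_zero_iff _ (i.residueFieldMap d).hom.injective).mpr
    (hw.map (X.residue (i d)).hom).ne_zero) e4).symm

theorem pullFib_ne_zero (hM : PicF.IsInvertible M) (d : D) {s : Cyc.secFibre M (i d)} (hs : s ≠ 0) :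
    pullFib i hM d s ≠ 0 := fun h => by
  have ht := bas_spec hM (i d)
  have hb := isStalkBasis_pullGerm i hM ht
  have hc := coef_pullFib i hM d ht s
  rw [h, show (0 : Cyc.secFibre ((Scheme.Modules.pullback i).obj M) d) =
    (0 : D.presheaf.stalk d) • fmk (pullGerm i M d (bas hM (i d))) from (zero_smul _ _).symm,
    coef_smul hb, map_zero] at hc
  exact coef_ne_zero ht hs ((map_eq_zero_iff _ (i.residueFieldMap d).hom.injective).mp hc.symm)

variable [IsClosedImmersion i]

theorem isSetup_sub (hX : Cyc.IsSetup X δ) : Cyc.IsSetup D fun d => δ (i d) :=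
  isSetup_closedImmersion i hX

theorem secDivFun_pullFib (hX : Cyc.IsSetup X δ) (hM : PicF.IsInvertible M) {e : D}
    {s : Cyc.secFibre M (i e)} (hs : s ≠ 0) (d : D) :
    Cyc.secDivFun (fun d => δ (i d)) ((Scheme.Modules.pullback i).obj M) e (pullFib i hM e s) d =
      Cyc.secDivFun δ M (i e) s (i d) := by
  by_cases h : e ⤳ d
  swap
  · rw [secDivFun_of_not_specializes _ h,
      secDivFun_of_not_specializes _ fun h' => h ((closedImm_specializes_iff i).mp h')]
  have ht := bas_spec hM (i d)
  have hM' := Groth.PicAux.isInvertible_pullback i hM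
  rw [secDivFun_eq (isSetup_sub i hX) hM' h (specializes_refl d) (isStalkBasis_pullGerm i hM ht)
      (pullFib_ne_zero i hM e hs),
    secDivFun_eq hX hM (h.map i.continuous) (specializes_refl (i d)) ht hs, ← divFun_closedImm i δ e]
  congr 1
  rw [ratCoef, ratCoef, mspec_pullGerm]
  exact coef_pullFib i hM e (isStalkBasis_mspec hM _ ht) s

end Groth.CycInter
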