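import Groth.Agent.CycInter.ZeroSection
import Groth.Agent.RefRank.SupportStalk
import Groth.Agent.Cycles.PullSheaf

/-!
The Gysin map of the cycle of a coherent module is the cycle of its restriction.
-/

universe u

set_option autoImplicit false

open CategoryTheory AlgebraicGeometry IsLocalRing Order
open Groth.RefRank Groth.QCohMod Groth.Cycles
open scoped Pointwise TensorProduct

namespace Groth.CycInter

variable {X : Scheme.{u}} {δ : X → ℤ}

theorem isUnit_rspec_iff_genPrime {x ξ : X} (h : ξ ⤳ x) (r : X.presheaf.stalk x) :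
    IsUnit (rspec h r) ↔ r ∉ (genPrime h).asIdeal := by
  show IsUnit (X.presheaf.stalkSpecializes h r) ↔
    X.presheaf.stalkSpecializes h r ∉ maximalIdeal (X.presheaf.stalk ξ)
  exact (IsLocalRing.notMem_maximalIdeal).symm

theorem mem_support_genPrime_iff (F : X.Modules) [F.IsQuasicoherent] {x ξ : X} (h : ξ ⤳ x) :
    genPrime h ∈ Module.support (X.presheaf.stalk x) (F.presheaf.stalk x) ↔
      Nontrivial (F.presheaf.stalk ξ) :=
  (Groth.RefRank.SupportStalk.mem_support_stalk_iff F h (genPrime h) (isUnit_rspec_iff_genPrime h)).trans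
    not_subsingleton_iff_nontrivial

/-- The stalk at a generization is the localization of the stalk. -/
theorem length_localized_stalk (F : X.Modules) [F.IsQuasicoherent] {x ξ : X} (h : ξ ⤳ x) :
    Module.length (Localization.AtPrime (genPrime h).asIdeal)
      (LocalizedModule (genPrime h).asIdeal.primeCompl (F.presheaf.stalk x)) =
      Module.length (X.presheaf.stalk ξ) (F.presheaf.stalk ξ) := by
  letI : Algebra (X.presheaf.stalk x) (X.presheaf.stalk ξ) := (X.presheaf.stalkSpecializes h).hom.toAlgebra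
  have := isLocalization_stalkSpecializes h
  let e : Localization.AtPrime (genPrime h).asIdeal ≃ₐ[X.presheaf.stalk x] X.presheaf.stalk ξ :=
    IsLocalization.algEquiv (genPrime h).asIdeal.primeCompl _ _
  letI : Algebra (Localization.AtPrime (genPrime h).asIdeal) (X.presheaf.stalk ξ) :=
    e.toRingEquiv.toRingHom.toAlgebra
  letI : Module (X.presheaf.stalk x) (F.presheaf.stalk ξ) :=
    Module.compHom _ (algebraMap (X.presheaf.stalk x) (X.presheaf.stalk ξ))
  letI : Module (Localization.AtPrime (genPrime h).asIdeal) (F.presheaf.stalk ξ) :=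
    Module.compHom _ e.toRingEquiv.toRingHom
  haveI : IsScalarTower (Localization.AtPrime (genPrime h).asIdeal) (X.presheaf.stalk ξ) (F.presheaf.stalk ξ) :=
    IsScalarTower.of_algebraMap_smul fun _ _ => rfl
  haveI : IsScalarTower (X.presheaf.stalk x) (Localization.AtPrime (genPrime h).asIdeal) (F.presheaf.stalk ξ) :=
    IsScalarTower.of_algebraMap_smul fun r m => by
      show e (algebraMap _ _ r) • m = algebraMap (X.presheaf.stalk x) (X.presheaf.stalk ξ) r • m
      rw [e.commutes]
  let g : F.presheaf.stalk x →ₗ[X.presheaf.stalk x] F.presheaf.stalk ξ :=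
    { toFun := mspec F h, map_add' := map_add _, map_smul' := fun r v => mspec_smul F h r v }
  have : IsLocalizedModule (genPrime h).asIdeal.primeCompl g := by
    refine ⟨fun r => ?_, fun u => ?_, fun {v w} hvw => ?_⟩
    · have hu : IsUnit (rspec h r.1) := (isUnit_rspec_iff_genPrime h r.1).mpr r.2
      refine (Module.End.isUnit_iff _).mpr ⟨fun a b hab => hu.smul_left_cancel.mp hab, fun b => ?_⟩
      exact ⟨(↑hu.unit⁻¹ : X.presheaf.stalk ξ) • b, by
        show rspec h r.1 • (↑hu.unit⁻¹ : X.presheaf.stalk ξ) • b = b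
        rw [smul_smul, IsUnit.mul_val_inv, one_smul]⟩
    · obtain ⟨a, v, ha, hav⟩ := exists_smul_eq_mspec F h u
      exact ⟨(v, ⟨a, (isUnit_rspec_iff_genPrime h a).mp ha⟩), hav⟩
    · have hz : mspec F h (v - w) = 0 := by
        rw [map_sub, show mspec F h v = mspec F h w from hvw, sub_self]
      obtain ⟨a, ha, hav⟩ := exists_smul_eq_zero_of_mspec F h hz
      exact ⟨⟨a, (isUnit_rspec_iff_genPrime h a).mp ha⟩, sub_eq_zero.mp ((smul_sub a v w).symm.trans hav)⟩
  let e₂ := (IsLocalizedModule.iso (genPrime h).asIdeal.primeCompl g).extendScalarsOfIsLocalization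
    (genPrime h).asIdeal.primeCompl (Localization.AtPrime (genPrime h).asIdeal)
  rw [e₂.length_eq]
  exact Module.length_eq_of_surjective (R := X.presheaf.stalk ξ)
    (S := Localization.AtPrime (genPrime h).asIdeal) (M := F.presheaf.stalk ξ) e.surjective

variable {D : Scheme.{u}}

theorem length_pullback_closedImm (i : D ⟶ X) [IsClosedImmersion i] (F : X.Modules) (d : D)
    (f : X.presheaf.stalk (i d)) (hker : RingHom.ker (i.stalkMap d).hom = Ideal.span {f}) :
    Module.length (D.presheaf.stalk d) (((Scheme.Modules.pullback i).obj F).presheaf.stalk d) =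
      Module.length (X.presheaf.stalk (i d))
        (F.presheaf.stalk (i d) ⧸ f • (⊤ : Submodule (X.presheaf.stalk (i d)) (F.presheaf.stalk (i d)))) := by
  let _ := stalkAlg i d
  have hsurj : Function.Surjective (algebraMap (X.presheaf.stalk (i d)) (D.presheaf.stalk d)) :=
    i.stalkMap_surjective d
  rw [← (pullStalkEquiv i F d).length_eq,
    ← Module.length_eq_of_surjective (R := D.presheaf.stalk d) (S := X.presheaf.stalk (i d)) hsurj]
  let a := Ideal.quotientKerAlgEquivOfSurjective
    (f := Algebra.ofId (X.presheaf.stalk (i d)) (D.presheaf.stalk d)) hsurj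
  rw [((TensorProduct.congr a.toLinearEquiv.symm (LinearEquiv.refl _ (F.presheaf.stalk (i d)))).trans
    (TensorProduct.quotTensorEquivQuotSMul (F.presheaf.stalk (i d)) _)).length_eq]
  refine (Submodule.quotEquivOfEq _ _ ?_).length_eq
  rw [← Submodule.ideal_span_singleton_smul f, ← hker]
  rfl

theorem gysin_sheaf_eq (hX : Cyc.IsSetup X δ) {L : X.Modules} (hL : PicF.IsInvertible L)
    (s : L.presheaf.obj (Opposite.op ⊤)) (i : D ⟶ X) [IsClosedImmersion i] (hD : Cyc.IsZeroSchemeOf i L s)
    (k : ℤ) {F : X.Modules} (hF : Coh.IsCoh F) (hdim : ∀ x, Nontrivial (F.presheaf.stalk x) → δ x ≤ k + 1)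
    (hreg : ∀ (x : X) (t : L.presheaf.stalk x) (f : X.presheaf.stalk x),
      Submodule.span (X.presheaf.stalk x) {t} = ⊤ → (L.presheaf.germ ⊤ x trivial) s = f • t →
        Function.Injective (fun m : F.presheaf.stalk x => f • m))
    {w : (ξ : X) → Cyc.secFibre L ξ} (hw : ∀ ξ, w ξ ≠ 0) (d : D) :
    Cyc.c1CapFun δ L (Cyc.sheafFun δ (k + 1) F) (Cyc.gysinChoice L s w) (i d) =
      Cyc.sheafFun (fun d => δ (i d)) k ((Scheme.Modules.pullback i).obj F) d := by
  classical
  have := hX.1
  have := hF.1
  by_cases hx : δ (i d) = k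
  swap
  · rw [Cyc.sheafFun, if_neg hx]
    refine by_contra fun h => hx (delta_of_c1CapFun_ne_zero (δ := δ) (k := k) ?_ _ h)
    intro ξ hξ
    by_contra h'
    exact hξ (if_neg h')
  obtain ⟨t, f, hspan, hfs, hker⟩ := hD.2 d
  obtain ⟨μ, hμ, hμt⟩ := exists_unit_of_basis (bas_spec hL (i d)) hspan
  have ht : IsStalkBasis L (i d) t := by rw [hμt]; exact isStalkBasis_smul (bas_spec hL (i d)) hμ
  rw [Cyc.sheafFun, if_pos hx, length_pullback_closedImm i F d f hker]
  have := finite_stalkModule hF (i d)
  clear hker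
  generalize hxdef : i d = x at *
  have hnotZ : ∀ y, Nontrivial (F.presheaf.stalk y) → δ y = k + 1 → y ∉ zeroLocus L s := by
    intro y hy hδy hyZ
    obtain ⟨c, hc⟩ := (bas_spec hL y).2 ((L.presheaf.germ ⊤ y trivial) s)
    have hcm : c ∈ maximalIdeal (X.presheaf.stalk y) := by
      by_contra hcu
      refine fmk_ne_zero (isStalkBasis_smul (bas_spec hL y) (notMem_maximalIdeal.mp hcu)) ?_
      dsimp only at hc; rw [hc]; exact hyZ
    have hinj := hreg y _ c (bas_spec hL y).span_eq_top hc.symm
    have := finite_stalkModule hF y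
    have hfl := length_stalk_ne_top_of_le hX hF hdim y hδy
    have : IsFiniteLength (X.presheaf.stalk y) (F.presheaf.stalk y) := Module.length_ne_top_iff.mp hfl
    obtain ⟨_, _⟩ := isFiniteLength_iff_isNoetherian_isArtinian.mp this
    let φ : Module.End (X.presheaf.stalk y) (F.presheaf.stalk y) :=
      LinearMap.lsmul (X.presheaf.stalk y) (F.presheaf.stalk y) c
    have hsurj : Function.Surjective φ := IsArtinian.surjective_of_injective_endomorphism φ hinj
    have htop : (⊤ : Submodule (X.presheaf.stalk y) (F.presheaf.stalk y)) ≤ maximalIdeal (X.presheaf.stalk y) • ⊤ := by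
      intro m _
      obtain ⟨m', rfl⟩ := hsurj m
      exact Submodule.smul_mem_smul hcm Submodule.mem_top
    have h0 : (⊤ : Submodule (X.presheaf.stalk y) (F.presheaf.stalk y)) = ⊥ :=
      Submodule.eq_bot_of_le_smul_of_le_jacobson_bot _ _ (Module.Finite.fg_top) htop
        (IsLocalRing.maximalIdeal_le_jacobson _)
    exact not_subsingleton (F.presheaf.stalk y) ((Submodule.subsingleton_iff _).mp (subsingleton_of_bot_eq_top h0.symm))
  let e : PrimeSpectrum (X.presheaf.stalk x) → X := fun p => X.fromSpecStalk x p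
  have he : ∀ p, e p ⤳ x := fun p => (Scheme.range_fromSpecStalk (X := X) (x := x)).le ⟨p, rfl⟩
  have hep : ∀ p, genPrime (he p) = p := fun p => genPrime_fromSpecStalk p _
  have hsupp : ∀ p, p ∈ Module.support (X.presheaf.stalk x) (F.presheaf.stalk x) → Nontrivial (F.presheaf.stalk (e p)) :=
    fun p hp => (mem_support_genPrime_iff F (he p)).mp (by rwa [hep p])
  have hnemax : ∀ p : PrimeSpectrum (X.presheaf.stalk x), p.asIdeal ≠ maximalIdeal (X.presheaf.stalk x) → e p ≠ x :=
    fun p hp h => hp (by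
      have : p = closedPoint (X.presheaf.stalk x) := (X.fromSpecStalk x).isEmbedding.injective (by
        rw [Scheme.fromSpecStalk_closedPoint]; exact h)
      rw [this]; rfl)
  have hδe : ∀ p, p ∈ Module.support (X.presheaf.stalk x) (F.presheaf.stalk x) →
      p.asIdeal ≠ maximalIdeal (X.presheaf.stalk x) → δ (e p) = k + 1 := fun p hp hpm => by
    have h1 := (hX.2.2 (e p) x (he p) (hnemax p hpm)).1
    have := hdim (e p) (hsupp p hp)
    omega
  have hminsupp : ∀ p q, p ∈ Module.support (X.presheaf.stalk x) (F.presheaf.stalk x) →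
      q ∈ Module.support (X.presheaf.stalk x) (F.presheaf.stalk x) →
      p.asIdeal ≠ maximalIdeal (X.presheaf.stalk x) → q ≤ p → q = p := fun p q hp hq hpm hqp => by
    have hqm : q.asIdeal ≠ maximalIdeal (X.presheaf.stalk x) := fun hq' =>
      hpm (le_antisymm (le_maximalIdeal p.2.ne_top) (hq' ▸ hqp))
    have hs : e q ⤳ e p := ((PrimeSpectrum.le_iff_specializes q p).mp hqp).map (X.fromSpecStalk x).continuous
    refine (X.fromSpecStalk x).isEmbedding.injective (by_contra fun hne => ?_)
    have h1 := (hX.2.2 (e q) (e p) hs hne).1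
    have h2 := hδe p hp hpm
    have h3 := hδe q hq hqm
    omega
  have hratio : ∀ (p : PrimeSpectrum (X.presheaf.stalk x)),
      ratCoef (he p) t (sbar L s (e p)) = Cyc.specMap x (e p) (he p) f :=
    fun p => by
      rw [ratCoef, sbar, ← mspec_germ_top (he p), hfs, mspec_smul]
      exact coef_smul (isStalkBasis_mspec hL _ ht) _
  have hout : ∀ p, p ∈ Module.support (X.presheaf.stalk x) (F.presheaf.stalk x) →
      p.asIdeal ≠ maximalIdeal (X.presheaf.stalk x) → e p ∉ zeroLocus L s :=
    fun p hp hpm => hnotZ _ (hsupp p hp) (hδe p hp hpm)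
  have hfp : ∀ p, p ∈ Module.support (X.presheaf.stalk x) (F.presheaf.stalk x) →
      p.asIdeal ≠ maximalIdeal (X.presheaf.stalk x) → f ∉ p.asIdeal := fun p hp hpm h => by
    have h1 := ratCoef_ne_zero hL (he p) ht (hout p hp hpm)
    rw [hratio] at h1
    rw [← hep p, genPrime_asIdeal] at h
    exact h1 h
  have hk0 : LinearMap.ker (LinearMap.lsmul (X.presheaf.stalk x) (F.presheaf.stalk x) f) = ⊥ :=
    LinearMap.ker_eq_bot.mpr (hreg x t f hspan hfs)
  have hs1 : Module.supportDim (X.presheaf.stalk x) (F.presheaf.stalk x) ≤ 1 := by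
    rw [Module.supportDim]
    refine Order.krullDim_le_one_iff.mpr fun p => ?_
    by_cases hpm : p.1.asIdeal = maximalIdeal (X.presheaf.stalk x)
    · exact Or.inr fun q hq => show q.1.asIdeal ≤ p.1.asIdeal from hpm ▸ le_maximalIdeal q.1.2.ne_top
    · exact Or.inl fun q hq => (hminsupp p.1 q.1 p.2 q.2 hpm hq).ge
  have hs0 : Module.supportDim (X.presheaf.stalk x)
      (F.presheaf.stalk x ⧸ f • (⊤ : Submodule (X.presheaf.stalk x) (F.presheaf.stalk x))) ≤ 0 := by
    rw [Module.supportDim]
    refine Order.krullDim_nonpos_iff_forall_isMax.mpr fun p q hpq => ?_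
    have key : ∀ r : Module.support (X.presheaf.stalk x)
        (F.presheaf.stalk x ⧸ f • (⊤ : Submodule (X.presheaf.stalk x) (F.presheaf.stalk x))),
        r.1.asIdeal = maximalIdeal (X.presheaf.stalk x) := by
      rintro ⟨r, hr⟩
      by_contra hne
      have h1 : r ∈ Module.support (X.presheaf.stalk x) (QuotSMulTop f (F.presheaf.stalk x)) := hr
      rw [Module.support_quotSMulTop] at h1
      exact hfp r h1.1 hne (h1.2 rfl)
    exact le_of_eq (Subtype.ext (PrimeSpectrum.ext ((key q).trans (key p).symm)))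
  have main := Groth.Agent.S1833.result (X.presheaf.stalk x) (F.presheaf.stalk x) f hs1 hs0
  rw [hk0, Module.length_bot, zero_add] at main
  have hfin : {p : PrimeSpectrum (X.presheaf.stalk x) |
      p ∈ Module.support (X.presheaf.stalk x) (F.presheaf.stalk x) ∧
        p.asIdeal ≠ maximalIdeal (X.presheaf.stalk x)}.Finite := by
    refine (((Module.annihilator (X.presheaf.stalk x) (F.presheaf.stalk x)).finite_minimalPrimes_of_isNoetherianRing).preimage
      (fun a _ b _ h => PrimeSpectrum.ext h)).subset fun p hp => ?_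
    have hann : ∀ q : PrimeSpectrum (X.presheaf.stalk x),
        q ∈ Module.support (X.presheaf.stalk x) (F.presheaf.stalk x) ↔
          Module.annihilator (X.presheaf.stalk x) (F.presheaf.stalk x) ≤ q.asIdeal := fun q => by
      rw [Module.support_eq_zeroLocus, PrimeSpectrum.mem_zeroLocus, SetLike.coe_subset_coe]
    refine ⟨⟨p.2, (hann p).mp hp.1⟩, fun q hq hle => ?_⟩
    exact le_of_eq (congrArg PrimeSpectrum.asIdeal
      (hminsupp p ⟨q, hq.1⟩ hp.1 ((hann ⟨q, hq.1⟩).mpr hq.2) hp.2 hle).symm)
  replace main := main.trans (finsum_mem_eq_finite_toFinset_sum _ hfin)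
  set T := hfin.toFinset
  have hfactor : ∀ p ∈ T,
      Ring.ord (X.presheaf.stalk x ⧸ p.asIdeal) (Ideal.Quotient.mk p.asIdeal f) ≠ ⊤ ∧
      Module.length (Localization.AtPrime p.asIdeal) (LocalizedModule p.asIdeal.primeCompl (F.presheaf.stalk x)) ≠ ⊤ ∧
      Cyc.sheafFun δ (k + 1) F (e p) * Cyc.secDivFun δ L (e p) (Cyc.gysinChoice L s w (e p)) x =
        ((Ring.ord (X.presheaf.stalk x ⧸ p.asIdeal) (Ideal.Quotient.mk p.asIdeal f) *
          Module.length (Localization.AtPrime p.asIdeal) (LocalizedModule p.asIdeal.primeCompl (F.presheaf.stalk x))).toNat : ℤ) := by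
    intro p hp
    obtain ⟨hps, hpm⟩ := (Set.Finite.mem_toFinset _).mp hp
    have hd : IsDivPt δ (e p) x := ⟨he p, by rw [hδe p hps hpm, hx]⟩
    have := isDomain_locQuot hd.1
    have := krullDimLE_one_of_isDivPt hX hd
    have := isFractionRing_locQuot hd.1
    have hne : Ideal.Quotient.mk (RingHom.ker (Cyc.specMap x (e p) hd.1)) f ≠ 0 := by
      rw [Ne, Ideal.Quotient.eq_zero_iff_mem, ← genPrime_asIdeal, hep p]; exact hfp p hps hpm
    have hI : p.asIdeal = RingHom.ker (Cyc.specMap x (e p) hd.1) := by rw [← genPrime_asIdeal, hep p]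
    have hord : Ring.ord (X.presheaf.stalk x ⧸ p.asIdeal) (Ideal.Quotient.mk p.asIdeal f) =
        Ring.ord (Cyc.LocQuot x (e p) hd.1) (Ideal.Quotient.mk _ f) := by
      have aux : ∀ {I J : Ideal (X.presheaf.stalk x)}, I = J →
          Ring.ord (X.presheaf.stalk x ⧸ I) (Ideal.Quotient.mk I f) =
            Ring.ord (X.presheaf.stalk x ⧸ J) (Ideal.Quotient.mk J f) := by
        rintro I J rfl; rfl
      exact aux hI
    have hlen : Module.length (Localization.AtPrime p.asIdeal)
        (LocalizedModule p.asIdeal.primeCompl (F.presheaf.stalk x)) =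
        Module.length (X.presheaf.stalk (e p)) (F.presheaf.stalk (e p)) := by
      have := length_localized_stalk F (he p)
      rwa [hep p] at this
    refine ⟨hord ▸ Ring.ord_ne_top (mem_nonZeroDivisors_of_ne_zero hne),
      hlen ▸ length_stalk_ne_top_of_le hX hF hdim _ (hδe p hps hpm), ?_⟩
    rw [gysinChoice_of_notMem w (hout p hps hpm), secDivFun_eq hX hL (he p) (specializes_refl x) ht (hout p hps hpm),
      hratio, Cyc.divFun, dif_pos (show e p ⤳ x ∧ δ x + 1 = δ (e p) from hd),
      Cyc.sheafFun, if_pos (hδe p hps hpm), ENat.toNat_mul, Nat.cast_mul, hord, hlen, mul_comm]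
    congr 1
    rw [Cyc.ordAt, ← ordFrac_algebraMap' (K := X.residueField (e p)) hne]
    rfl
  have hinj : Set.InjOn e T := fun a _ b _ h => (X.fromSpecStalk x).isEmbedding.injective h
  rw [Cyc.c1CapFun, finsum_eq_sum_of_support_subset _ (s := T.image e) ?_, Finset.sum_image hinj,
    Finset.sum_congr rfl fun p hp => (hfactor p hp).2.2, ← Nat.cast_sum, Nat.cast_inj]
  · refine Eq.trans (Eq.symm ?_) (congrArg ENat.toNat main.symm)
    exact ENat.toNat_sum fun p hp => WithTop.mul_ne_top (hfactor p hp).1 (hfactor p hp).2.1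
  · intro ξ hξ
    have hl := left_ne_zero_of_mul hξ
    have h1 : δ ξ = k + 1 := by_contra fun h => hl (if_neg h)
    have hξx : ξ ⤳ x := by_contra fun h => right_ne_zero_of_mul hξ (secDivFun_of_not_specializes _ h)
    have hnt : Nontrivial (F.presheaf.stalk ξ) := by
      by_contra hn
      have := not_nontrivial_iff_subsingleton.mp hn
      exact hl (by rw [Cyc.sheafFun, if_pos h1, Module.length_eq_zero]; rfl)
    refine Finset.mem_coe.mpr (Finset.mem_image.mpr ⟨genPrime hξx, (Set.Finite.mem_toFinset _).mpr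
      ⟨(mem_support_genPrime_iff F hξx).mpr hnt, ?_⟩, fromSpecStalk_genPrime hξx⟩)
    intro h
    have : genPrime hξx = closedPoint (X.presheaf.stalk x) := PrimeSpectrum.ext h
    have h3 := fromSpecStalk_genPrime hξx
    rw [this, Scheme.fromSpecStalk_closedPoint] at h3
    rw [← h3] at h1; omega

theorem ratEquiv_of_eq (hX : Cyc.IsSetup X δ) {k : ℤ} {a b : AlgebraicCycle X ℤ} (h : ∀ x, a x = b x) :
    Cyc.RatEquiv δ k a b := by
  refine ratEquivZero_of_ratZeroOn hX (Z := Set.univ) ?_
  refine ⟨PEmpty, PEmpty.elim, fun i => i.elim, fun i => i.elim, fun i => i.elim,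
    fun V _ => Set.toFinite _, fun z => ?_⟩
  rw [finsum_of_isEmpty]
  simp [h z]

end Groth.CycInter
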