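import Groth.Agent.CycInter.SheafGysin
import Groth.Agent.CycInter.RatOn

/-!
The local equation of a coherent sheaf: length of the quotient by a regular germ as a sum of orders.
-/

universe u

set_option autoImplicit false

open CategoryTheory AlgebraicGeometry IsLocalRing Order
open scoped Pointwise TensorProduct
open Groth.RefRank Groth.QCohMod Groth.Cycles

namespace Groth.CycInter.P1C

variable {X : Scheme.{u}} {δ : X → ℤ}

/-- An associated point under which a germ with torsion vanishes. -/
theorem exists_associated_gen [IsLocallyNoetherian X] (F : X.Modules) [F.IsQuasicoherent] {x : X}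
    (f : X.presheaf.stalk x) (h : ¬ Function.Injective (fun m : F.presheaf.stalk x => f • m)) :
    ∃ (ξ : X) (hξ : ξ ⤳ x), ¬ IsUnit (rspec hξ f) ∧
      IsAssociatedPrime (maximalIdeal (X.presheaf.stalk ξ)) (F.presheaf.stalk ξ) := by
  rw [Function.not_injective_iff] at h
  obtain ⟨a, b, hab, hne⟩ := h
  obtain ⟨P, hP, hle⟩ := exists_le_isAssociatedPrime_of_isNoetherianRing (X.presheaf.stalk x) (a - b) (sub_ne_zero.mpr hne)
  have hfP : f ∈ P := hle (Submodule.mem_colon_singleton.mpr (by
    rw [Submodule.mem_bot, smul_sub]; exact sub_eq_zero.mpr hab))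
  let p : PrimeSpectrum (X.presheaf.stalk x) := ⟨P, hP.isPrime⟩
  set ξ := X.fromSpecStalk x p with hξdef
  have hs : ξ ⤳ x := (Scheme.range_fromSpecStalk (X := X) (x := x)).le ⟨p, rfl⟩
  have hp : genPrime hs = p := genPrime_fromSpecStalk p _
  refine ⟨ξ, hs, fun hu => (isUnit_rspec_iff_genPrime hs f).mp hu (by rw [hp]; exact hfP), ?_⟩
  letI : Algebra (X.presheaf.stalk x) (X.presheaf.stalk ξ) := (X.presheaf.stalkSpecializes hs).hom.toAlgebra
  have := isLocalization_stalkSpecializes hs
  letI : Module (X.presheaf.stalk x) (F.presheaf.stalk ξ) :=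
    Module.compHom _ (algebraMap (X.presheaf.stalk x) (X.presheaf.stalk ξ))
  haveI : IsScalarTower (X.presheaf.stalk x) (X.presheaf.stalk ξ) (F.presheaf.stalk ξ) :=
    IsScalarTower.of_algebraMap_smul fun _ _ => rfl
  let g : F.presheaf.stalk x →ₗ[X.presheaf.stalk x] F.presheaf.stalk ξ :=
    { toFun := mspec F hs, map_add' := map_add _, map_smul' := fun r v => mspec_smul F hs r v }
  have : IsLocalizedModule (genPrime hs).asIdeal.primeCompl g := by
    refine ⟨fun r => ?_, fun u => ?_, fun {v w} hvw => ?_⟩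
    · have hu : IsUnit (rspec hs r.1) := (isUnit_rspec_iff_genPrime hs r.1).mpr r.2
      refine (Module.End.isUnit_iff _).mpr ⟨fun a b hab => hu.smul_left_cancel.mp hab, fun b => ?_⟩
      exact ⟨(↑hu.unit⁻¹ : X.presheaf.stalk ξ) • b, by
        show rspec hs r.1 • (↑hu.unit⁻¹ : X.presheaf.stalk ξ) • b = b
        rw [smul_smul, IsUnit.mul_val_inv, one_smul]⟩
    · obtain ⟨a, v, ha, hav⟩ := exists_smul_eq_mspec F hs u
      exact ⟨(v, ⟨a, (isUnit_rspec_iff_genPrime hs a).mp ha⟩), hav⟩
    · have hz : mspec F hs (v - w) = 0 := by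
        rw [map_sub, show mspec F hs v = mspec F hs w from hvw, sub_self]
      obtain ⟨a, ha, hav⟩ := exists_smul_eq_zero_of_mspec F hs hz
      exact ⟨⟨a, (isUnit_rspec_iff_genPrime hs a).mp ha⟩, sub_eq_zero.mp ((smul_sub a v w).symm.trans hav)⟩
  refine Module.associatedPrimes.mem_associatedPrimes_of_comap_mem_associatedPrimes_of_isLocalizedModule
    (genPrime hs).asIdeal.primeCompl g _ ?_
  have hc : (maximalIdeal (X.presheaf.stalk ξ)).comap (algebraMap (X.presheaf.stalk x) (X.presheaf.stalk ξ)) = P :=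
    congrArg PrimeSpectrum.asIdeal hp
  rw [hc]
  exact hP

/-- The length of `F_x / f F_x` is the weighted sum of the orders of `f`. -/
theorem length_quot_eq_finsum (hX : Cyc.IsSetup X δ) (k : ℤ) {F : X.Modules} (hF : Coh.IsCoh F)
    (hdim : ∀ x, Nontrivial (F.presheaf.stalk x) → δ x ≤ k + 1) {x : X} (hx : δ x = k)
    (f : X.presheaf.stalk x) (hreg : Function.Injective (fun m : F.presheaf.stalk x => f • m))
    (hout : ∀ (ξ : X) (h : ξ ⤳ x), δ ξ = k + 1 → Nontrivial (F.presheaf.stalk ξ) → IsUnit (rspec h f))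
    (g : (ξ : X) → X.residueField ξ)
    (hg : ∀ (ξ : X) (h : ξ ⤳ x), δ ξ = k + 1 → Nontrivial (F.presheaf.stalk ξ) → g ξ = Cyc.specMap x ξ h f) :
    ((Module.length (X.presheaf.stalk x)
        (F.presheaf.stalk x ⧸ f • (⊤ : Submodule (X.presheaf.stalk x) (F.presheaf.stalk x)))).toNat : ℤ) =
      ∑ᶠ ξ, Cyc.sheafFun δ (k + 1) F ξ * Cyc.divFun δ ξ (g ξ) x := by
  classical
  have := hX.1
  have := hF.1
  have := finite_stalkModule hF x
  let e : PrimeSpectrum (X.presheaf.stalk x) → X := fun p => X.fromSpecStalk x p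
  have he : ∀ p, e p ⤳ x := fun p => (Scheme.range_fromSpecStalk (X := X) (x := x)).le ⟨p, rfl⟩
  have hep : ∀ p, genPrime (he p) = p := fun p => genPrime_fromSpecStalk p _
  have hsupp : ∀ p, p ∈ Module.support (X.presheaf.stalk x) (F.presheaf.stalk x) → Nontrivial (F.presheaf.stalk (e p)) :=
    fun p hp => (mem_support_genPrime_iff F (he p)).mp (by rwa [hep p])
  have hnemax : ∀ p : PrimeSpectrum (X.presheaf.stalk x), p.asIdeal ≠ maximalIdeal (X.presheaf.stalk x) → e p ≠ x :=
    fun p hp h => hp (by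
      have : p = closedPoint (X.presheaf.stalk x) := (X.fromSpecStalk x).isEmbedding.injective (by
        rw [Scheme.fromSpecStalk_closedPoint]; exact h)
      rw [this]; rfl)
  have hδe : ∀ p, p ∈ Module.support (X.presheaf.stalk x) (F.presheaf.stalk x) →
      p.asIdeal ≠ maximalIdeal (X.presheaf.stalk x) → δ (e p) = k + 1 := fun p hp hpm => by
    have h1 := (hX.2.2 (e p) x (he p) (hnemax p hpm)).1
    have := hdim (e p) (hsupp p hp)
    omega
  have hminsupp : ∀ p q, p ∈ Module.support (X.presheaf.stalk x) (F.presheaf.stalk x) →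
      q ∈ Module.support (X.presheaf.stalk x) (F.presheaf.stalk x) →
      p.asIdeal ≠ maximalIdeal (X.presheaf.stalk x) → q ≤ p → q = p := fun p q hp hq hpm hqp => by
    have hqm : q.asIdeal ≠ maximalIdeal (X.presheaf.stalk x) := fun hq' =>
      hpm (le_antisymm (le_maximalIdeal p.2.ne_top) (hq' ▸ hqp))
    have hs : e q ⤳ e p := ((PrimeSpectrum.le_iff_specializes q p).mp hqp).map (X.fromSpecStalk x).continuous
    refine (X.fromSpecStalk x).isEmbedding.injective (by_contra fun hne => ?_)
    have h1 := (hX.2.2 (e q) (e p) hs hne).1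
    have h2 := hδe p hp hpm
    have h3 := hδe q hq hqm
    omega
  have hfp : ∀ p, p ∈ Module.support (X.presheaf.stalk x) (F.presheaf.stalk x) →
      p.asIdeal ≠ maximalIdeal (X.presheaf.stalk x) → f ∉ p.asIdeal := fun p hp hpm h => by
    have h1 := (isUnit_rspec_iff_genPrime (he p) f).mp (hout _ (he p) (hδe p hp hpm) (hsupp p hp))
    rw [hep p] at h1
    exact h1 h
  have hk0 : LinearMap.ker (LinearMap.lsmul (X.presheaf.stalk x) (F.presheaf.stalk x) f) = ⊥ :=
    LinearMap.ker_eq_bot.mpr hreg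
  have hs1 : Module.supportDim (X.presheaf.stalk x) (F.presheaf.stalk x) ≤ 1 := by
    rw [Module.supportDim]
    refine Order.krullDim_le_one_iff.mpr fun p => ?_
    by_cases hpm : p.1.asIdeal = maximalIdeal (X.presheaf.stalk x)
    · exact Or.inr fun q hq => show q.1.asIdeal ≤ p.1.asIdeal from hpm ▸ le_maximalIdeal q.1.2.ne_top
    · exact Or.inl fun q hq => (hminsupp p.1 q.1 p.2 q.2 hpm hq).ge
  have hs0 : Module.supportDim (X.presheaf.stalk x)
      (F.presheaf.stalk x ⧸ f • (⊤ : Submodule (X.presheaf.stalk x) (F.presheaf.stalk x))) ≤ 0 := by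
    rw [Module.supportDim]
    refine Order.krullDim_nonpos_iff_forall_isMax.mpr fun p q hpq => ?_
    have key : ∀ r : Module.support (X.presheaf.stalk x)
        (F.presheaf.stalk x ⧸ f • (⊤ : Submodule (X.presheaf.stalk x) (F.presheaf.stalk x))),
        r.1.asIdeal = maximalIdeal (X.presheaf.stalk x) := by
      rintro ⟨r, hr⟩
      by_contra hne
      have h1 : r ∈ Module.support (X.presheaf.stalk x) (QuotSMulTop f (F.presheaf.stalk x)) := hr
      rw [Module.support_quotSMulTop] at h1
      exact hfp r h1.1 hne (h1.2 rfl)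
    exact le_of_eq (Subtype.ext (PrimeSpectrum.ext ((key q).trans (key p).symm)))
  have main := Groth.Agent.S1833.result (X.presheaf.stalk x) (F.presheaf.stalk x) f hs1 hs0
  rw [hk0, Module.length_bot, zero_add] at main
  have hfin : {p : PrimeSpectrum (X.presheaf.stalk x) |
      p ∈ Module.support (X.presheaf.stalk x) (F.presheaf.stalk x) ∧
        p.asIdeal ≠ maximalIdeal (X.presheaf.stalk x)}.Finite := by
    refine (((Module.annihilator (X.presheaf.stalk x) (F.presheaf.stalk x)).finite_minimalPrimes_of_isNoetherianRing).preimage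
      (fun a _ b _ h => PrimeSpectrum.ext h)).subset fun p hp => ?_
    have hann : ∀ q : PrimeSpectrum (X.presheaf.stalk x),
        q ∈ Module.support (X.presheaf.stalk x) (F.presheaf.stalk x) ↔
          Module.annihilator (X.presheaf.stalk x) (F.presheaf.stalk x) ≤ q.asIdeal := fun q => by
      rw [Module.support_eq_zeroLocus, PrimeSpectrum.mem_zeroLocus, SetLike.coe_subset_coe]
    refine ⟨⟨p.2, (hann p).mp hp.1⟩, fun q hq hle => ?_⟩
    exact le_of_eq (congrArg PrimeSpectrum.asIdeal
      (hminsupp p ⟨q, hq.1⟩ hp.1 ((hann ⟨q, hq.1⟩).mpr hq.2) hp.2 hle).symm)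
  replace main := main.trans (finsum_mem_eq_finite_toFinset_sum _ hfin)
  set T := hfin.toFinset
  have hfactor : ∀ p ∈ T,
      Ring.ord (X.presheaf.stalk x ⧸ p.asIdeal) (Ideal.Quotient.mk p.asIdeal f) ≠ ⊤ ∧
      Module.length (Localization.AtPrime p.asIdeal) (LocalizedModule p.asIdeal.primeCompl (F.presheaf.stalk x)) ≠ ⊤ ∧
      Cyc.sheafFun δ (k + 1) F (e p) * Cyc.divFun δ (e p) (g (e p)) x =
        ((Ring.ord (X.presheaf.stalk x ⧸ p.asIdeal) (Ideal.Quotient.mk p.asIdeal f) *
          Module.length (Localization.AtPrime p.asIdeal) (LocalizedModule p.asIdeal.primeCompl (F.presheaf.stalk x))).toNat : ℤ) := by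
    intro p hp
    obtain ⟨hps, hpm⟩ := (Set.Finite.mem_toFinset _).mp hp
    have hd : IsDivPt δ (e p) x := ⟨he p, by rw [hδe p hps hpm, hx]⟩
    have := isDomain_locQuot hd.1
    have := krullDimLE_one_of_isDivPt hX hd
    have := isFractionRing_locQuot hd.1
    have hne : Ideal.Quotient.mk (RingHom.ker (Cyc.specMap x (e p) hd.1)) f ≠ 0 := by
      rw [Ne, Ideal.Quotient.eq_zero_iff_mem, ← genPrime_asIdeal, hep p]; exact hfp p hps hpm
    have hI : p.asIdeal = RingHom.ker (Cyc.specMap x (e p) hd.1) := by rw [← genPrime_asIdeal, hep p]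
    have hord : Ring.ord (X.presheaf.stalk x ⧸ p.asIdeal) (Ideal.Quotient.mk p.asIdeal f) =
        Ring.ord (Cyc.LocQuot x (e p) hd.1) (Ideal.Quotient.mk _ f) := by
      have aux : ∀ {I J : Ideal (X.presheaf.stalk x)}, I = J →
          Ring.ord (X.presheaf.stalk x ⧸ I) (Ideal.Quotient.mk I f) =
            Ring.ord (X.presheaf.stalk x ⧸ J) (Ideal.Quotient.mk J f) := by
        rintro I J rfl; rfl
      exact aux hI
    have hlen : Module.length (Localization.AtPrime p.asIdeal)
        (LocalizedModule p.asIdeal.primeCompl (F.presheaf.stalk x)) =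
        Module.length (X.presheaf.stalk (e p)) (F.presheaf.stalk (e p)) := by
      have := length_localized_stalk F (he p)
      rwa [hep p] at this
    refine ⟨hord ▸ Ring.ord_ne_top (mem_nonZeroDivisors_of_ne_zero hne),
      hlen ▸ length_stalk_ne_top_of_le hX hF hdim _ (hδe p hps hpm), ?_⟩
    rw [hg _ (he p) (hδe p hps hpm) (hsupp p hps), Cyc.divFun, dif_pos (show e p ⤳ x ∧ δ x + 1 = δ (e p) from hd),
      Cyc.sheafFun, if_pos (hδe p hps hpm), ENat.toNat_mul, Nat.cast_mul, hord, hlen, mul_comm]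
    congr 1
    rw [Cyc.ordAt, ← ordFrac_algebraMap' (K := X.residueField (e p)) hne]
    rfl
  have hinj : Set.InjOn e T := fun a _ b _ h => (X.fromSpecStalk x).isEmbedding.injective h
  rw [finsum_eq_sum_of_support_subset _ (s := T.image e) ?_, Finset.sum_image hinj,
    Finset.sum_congr rfl fun p hp => (hfactor p hp).2.2, ← Nat.cast_sum, Nat.cast_inj]
  · refine Eq.trans (congrArg ENat.toNat main) ?_
    exact ENat.toNat_sum fun p hp => WithTop.mul_ne_top (hfactor p hp).1 (hfactor p hp).2.1
  · intro ξ hξ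
    have hl := left_ne_zero_of_mul hξ
    have h1 : δ ξ = k + 1 := by_contra fun h => hl (if_neg h)
    have hξx : ξ ⤳ x := by_contra fun h => right_ne_zero_of_mul hξ (divFun_of_not_specializes _ h)
    have hnt : Nontrivial (F.presheaf.stalk ξ) := by
      by_contra hn
      have := not_nontrivial_iff_subsingleton.mp hn
      exact hl (by rw [Cyc.sheafFun, if_pos h1, Module.length_eq_zero]; rfl)
    refine Finset.mem_coe.mpr (Finset.mem_image.mpr ⟨genPrime hξx, (Set.Finite.mem_toFinset _).mpr
      ⟨(mem_support_genPrime_iff F hξx).mpr hnt, ?_⟩, fromSpecStalk_genPrime hξx⟩)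
    intro h
    have : genPrime hξx = closedPoint (X.presheaf.stalk x) := PrimeSpectrum.ext h
    have h3 := fromSpecStalk_genPrime hξx
    rw [this, Scheme.fromSpecStalk_closedPoint] at h3
    rw [← h3] at h1; omega

end Groth.CycInter.P1C
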