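import Groth.Agent.CycInter.DivZero
import Groth.Agent.Cycles.DimJacobson
import Groth.Agent.S1833
import Groth.Agent.Cycles.FlatFam

/-!
The cycle of the zero scheme of a section as a first Chern class of the fundamental cycle.
-/

universe u

set_option autoImplicit false

open CategoryTheory AlgebraicGeometry IsLocalRing Order
open Groth.RefRank Groth.QCohMod Groth.Cycles
open scoped Pointwise

namespace Groth.CycInter

variable {Y : Scheme.{u}} {δ : Y → ℤ} {L : Y.Modules}

theorem ringKrullDim_stalk_le_one (hδ : Cyc.IsDimFun Y δ) {k : ℤ} {x : Y} (hx : δ x = k)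
    (hdim : ∀ y, y ⤳ x → δ y ≤ k + 1) : ringKrullDim (Y.presheaf.stalk x) ≤ 1 := by
  rw [ringKrullDim_stalk_eq_coheight, show ((1 : WithBot ℕ∞)) = ((1 : ℕ∞) : WithBot ℕ∞) from rfl, WithBot.coe_le_coe]
  refine Order.coheight_le_iff.mpr fun p hp => ?_
  have h1 := length_le_delta_sub hδ p
  have hle : x ≤ p.last := hp.trans (LTSeries.head_le_last p)
  have h2 := hdim p.last (Scheme.le_iff_specializes.mp hle)
  have h3 : k ≤ δ p.head := by
    by_cases e : x = p.head
    · rw [← hx, e]
    · rw [← hx]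
      exact (delta_strictMono hδ (lt_iff_specializes.mpr ⟨Scheme.le_iff_specializes.mp hp, e⟩)).le
  exact_mod_cast (show (p.length : ℤ) ≤ 1 by omega)

theorem length_stalk_ne_top_of_maximal (hY : IsLocallyNoetherian Y) {ξ : Y}
    (hmax : ∀ z, z ⤳ ξ → z = ξ) : Module.length (Y.presheaf.stalk ξ) (Y.presheaf.stalk ξ) ≠ ⊤ := by
  have hmin := (genPrime_mem_minimalPrimes_iff (specializes_refl ξ)).mpr hmax
  have hg : (genPrime (specializes_refl ξ)).asIdeal = maximalIdeal (Y.presheaf.stalk ξ) := by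
    ext a
    rw [genPrime_asIdeal, RingHom.mem_ker, ← IsLocalRing.residue_eq_zero_iff]
    show Y.residue ξ (Y.presheaf.stalkSpecializes (specializes_refl ξ) a) = 0 ↔ _
    rw [TopCat.Presheaf.stalkSpecializes_refl]
    rfl
  rw [hg] at hmin
  have : Ring.KrullDimLE 0 (Y.presheaf.stalk ξ) := Ring.krullDimLE_zero_iff.mpr fun p hp => by
    have hle := le_maximalIdeal hp.ne_top
    rw [le_antisymm hle (hmin.2 ⟨hp, bot_le⟩ hle)]
    exact maximalIdeal.isMaximal _
  have : IsArtinianRing (Y.presheaf.stalk ξ) := IsNoetherianRing.isArtinianRing_of_krullDimLE_zero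
  exact Module.length_ne_top

theorem zeroSection_eq_c1 (hY : Cyc.IsSetup Y δ) (hL : PicF.IsInvertible L) (k : ℤ)
    (hdim : ∀ y, δ y ≤ k + 1) (s : L.presheaf.obj (Opposite.op ⊤))
    (hZ : ∀ y, y ∈ zeroLocus L s → δ y ≤ k)
    (hreg : ∀ y : Y, δ y = k → Function.Injective (fun a : Y.presheaf.stalk y => a • (L.presheaf.germ ⊤ y trivial) s)) :
    Cyc.zeroSectionFun δ k L s =
      Cyc.c1CapFun δ L (Cyc.subschemeFun δ (k + 1) (𝟙 Y)) (sbar L s) := by
  classical
  have := hY.1
  funext x
  by_cases hx : δ x = k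
  swap
  · rw [Cyc.zeroSectionFun, if_neg hx]
    refine (by_contra fun h => hx (delta_of_c1CapFun_ne_zero (δ := δ) (k := k) ?_ _ (Ne.symm h)))
    intro ξ hξ
    by_contra h'
    exact hξ (if_neg h')
  have hex : ∃ t : L.presheaf.stalk x, Submodule.span (Y.presheaf.stalk x) {t} = ⊤ :=
    ⟨_, (bas_spec hL x).span_eq_top⟩
  obtain ⟨μ, hμ, hμt⟩ := exists_unit_of_basis (bas_spec hL x) (Classical.choose_spec hex)
  have ht : IsStalkBasis L x (Classical.choose hex) := by
    rw [hμt]; exact isStalkBasis_smul (bas_spec hL x) hμ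
  have hf : ∃ f : Y.presheaf.stalk x, (L.presheaf.germ ⊤ x trivial) s = f • Classical.choose hex :=
    ((ht.2 _).imp fun f hf => hf.symm)
  rw [Cyc.zeroSectionFun, if_pos hx, dif_pos hex, dif_pos hf]
  have hfs := Classical.choose_spec hf
  revert hfs
  generalize Classical.choose hf = f
  clear hf hμt
  revert ht
  generalize Classical.choose hex = t
  intro ht hfs
  have hd1 := ringKrullDim_stalk_le_one hY.2.2 hx fun y _ => hdim y
  let e : PrimeSpectrum (Y.presheaf.stalk x) → Y := fun p => Y.fromSpecStalk x p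
  have he : ∀ p, e p ⤳ x := fun p =>
    (Scheme.range_fromSpecStalk (X := Y) (x := x)).le ⟨p, rfl⟩
  have hep : ∀ p, genPrime (he p) = p := fun p => genPrime_fromSpecStalk p _
  have hmax : ∀ p : PrimeSpectrum (Y.presheaf.stalk x), p.asIdeal ≠ maximalIdeal (Y.presheaf.stalk x) → e p ≠ x := fun p hp h => hp (by
    have : p = closedPoint (Y.presheaf.stalk x) := (Y.fromSpecStalk x).isEmbedding.injective (by
      rw [Scheme.fromSpecStalk_closedPoint]; exact h)
    rw [this]; rfl)
  have hδe : ∀ p : PrimeSpectrum (Y.presheaf.stalk x), p.asIdeal ≠ maximalIdeal (Y.presheaf.stalk x) → δ (e p) = k + 1 := fun p hp => by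
    have h1 := (hY.2.2 (e p) x (he p) (hmax p hp)).1
    have := hdim (e p)
    omega
  have hout : ∀ p : PrimeSpectrum (Y.presheaf.stalk x), p.asIdeal ≠ maximalIdeal (Y.presheaf.stalk x) → e p ∉ zeroLocus L s := fun p hp h => by
    have := hZ _ h; have := hδe p hp; omega
  have hratio : ∀ (p : PrimeSpectrum (Y.presheaf.stalk x)), ratCoef (he p) t (sbar L s (e p)) = Cyc.specMap x (e p) (he p) f :=
    fun p => by
      rw [ratCoef, sbar, ← mspec_germ_top (he p), hfs, mspec_smul]
      exact coef_smul (isStalkBasis_mspec hL _ ht) _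
  have hfp : ∀ p : PrimeSpectrum (Y.presheaf.stalk x), p.asIdeal ≠ maximalIdeal (Y.presheaf.stalk x) → f ∉ p.asIdeal := fun p hp h => by
    have h1 := ratCoef_ne_zero hL (he p) ht (hout p hp)
    rw [hratio] at h1
    rw [← hep p, genPrime_asIdeal] at h
    exact h1 h
  have hker : LinearMap.ker (LinearMap.lsmul (Y.presheaf.stalk x) (Y.presheaf.stalk x) f) = ⊥ := LinearMap.ker_eq_bot'.mpr fun a ha => by
    refine hreg x hx ?_
    show a • _ = (0 : (Y.presheaf.stalk x)) • _
    rw [zero_smul, hfs, smul_smul, show a * f = 0 from (mul_comm a f).trans ha, zero_smul]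
  have hsupp0 : Module.supportDim (Y.presheaf.stalk x) ((Y.presheaf.stalk x) ⧸ f • (⊤ : Submodule (Y.presheaf.stalk x) (Y.presheaf.stalk x))) ≤ 0 := by
    rw [Module.supportDim]
    refine Order.krullDim_nonpos_iff_forall_isMax.mpr fun p q hpq => ?_
    have key : ∀ r : Module.support (Y.presheaf.stalk x) ((Y.presheaf.stalk x) ⧸ f • (⊤ : Submodule (Y.presheaf.stalk x) (Y.presheaf.stalk x))), r.1.asIdeal = maximalIdeal (Y.presheaf.stalk x) := by
      rintro ⟨r, hr⟩
      by_contra hne
      refine hfp r hne ?_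
      have h1 : r ∈ Module.support (Y.presheaf.stalk x) (QuotSMulTop f (Y.presheaf.stalk x)) := hr
      rw [Module.support_quotSMulTop] at h1
      exact h1.2 rfl
    exact le_of_eq (Subtype.ext (PrimeSpectrum.ext ((key q).trans (key p).symm)))
  have hsupp1 : Module.supportDim (Y.presheaf.stalk x) (Y.presheaf.stalk x) ≤ 1 := (Module.supportDim_self_eq_ringKrullDim _).trans_le hd1
  have main := Groth.Agent.S1833.result (Y.presheaf.stalk x) (Y.presheaf.stalk x) f hsupp1 hsupp0
  rw [hker, Module.length_bot, zero_add] at main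
  have hfin : {p : PrimeSpectrum (Y.presheaf.stalk x) | p ∈ Module.support (Y.presheaf.stalk x) (Y.presheaf.stalk x) ∧ p.asIdeal ≠ maximalIdeal (Y.presheaf.stalk x)}.Finite := by
    refine ((minimalPrimes.finite_of_isNoetherianRing (Y.presheaf.stalk x)).preimage
      (fun a _ b _ h => PrimeSpectrum.ext h)).subset fun p hp => ?_
    have hmin : ∀ z : Y, z ⤳ e p → z = e p := fun z hz => by_contra fun hne => by
      have h1 := (hY.2.2 z (e p) hz hne).1
      have := hdim z; have := hδe p hp.2; omega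
    have h2 := (genPrime_mem_minimalPrimes_iff (he p)).mpr hmin
    rw [hep p] at h2
    exact h2
  set T := hfin.toFinset
  have hT : ∀ p ∈ T, p.asIdeal ≠ maximalIdeal (Y.presheaf.stalk x) := fun p hp => ((Set.Finite.mem_toFinset _).mp hp).2
  replace main := main.trans (finsum_mem_eq_finite_toFinset_sum _ hfin)
  have hfactor : ∀ p ∈ T,
      Ring.ord ((Y.presheaf.stalk x) ⧸ p.asIdeal) (Ideal.Quotient.mk p.asIdeal f) ≠ ⊤ ∧
      Module.length (Localization.AtPrime p.asIdeal) (LocalizedModule p.asIdeal.primeCompl (Y.presheaf.stalk x)) ≠ ⊤ ∧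
      Cyc.subschemeFun δ (k + 1) (𝟙 Y) (e p) * Cyc.secDivFun δ L (e p) (sbar L s (e p)) x =
        ((Ring.ord ((Y.presheaf.stalk x) ⧸ p.asIdeal) (Ideal.Quotient.mk p.asIdeal f) *
          Module.length (Localization.AtPrime p.asIdeal) (LocalizedModule p.asIdeal.primeCompl (Y.presheaf.stalk x))).toNat : ℤ) := by
    intro p hp
    have hpm := hT p hp
    have hd : IsDivPt δ (e p) x := ⟨he p, by rw [hδe p hpm, hx]⟩
    have := isDomain_locQuot hd.1
    have := krullDimLE_one_of_isDivPt hY hd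
    have := isFractionRing_locQuot hd.1
    have hne : Ideal.Quotient.mk (RingHom.ker (Cyc.specMap x (e p) hd.1)) f ≠ 0 := by
      rw [Ne, Ideal.Quotient.eq_zero_iff_mem, ← genPrime_asIdeal, hep p]; exact hfp p hpm
    have hI : p.asIdeal = RingHom.ker (Cyc.specMap x (e p) hd.1) := by rw [← genPrime_asIdeal, hep p]
    have hord : Ring.ord ((Y.presheaf.stalk x) ⧸ p.asIdeal) (Ideal.Quotient.mk p.asIdeal f) =
        Ring.ord (Cyc.LocQuot x (e p) hd.1) (Ideal.Quotient.mk _ f) := by
      have aux : ∀ {I J : Ideal (Y.presheaf.stalk x)}, I = J →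
          Ring.ord ((Y.presheaf.stalk x) ⧸ I) (Ideal.Quotient.mk I f) = Ring.ord ((Y.presheaf.stalk x) ⧸ J) (Ideal.Quotient.mk J f) := by
        rintro I J rfl; rfl
      exact aux hI
    have hlen : Module.length (Localization.AtPrime p.asIdeal) (LocalizedModule p.asIdeal.primeCompl (Y.presheaf.stalk x)) =
        Module.length (Y.presheaf.stalk (e p)) (Y.presheaf.stalk (e p)) := by
      have := length_stalk_eq (he p)
      rwa [hep p] at this
    have hmin : ∀ z : Y, z ⤳ e p → z = e p := fun z hz => by_contra fun hne => by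
      have h1 := (hY.2.2 z (e p) hz hne).1
      have := hdim z; have := hδe p hpm; omega
    refine ⟨hord ▸ Ring.ord_ne_top (mem_nonZeroDivisors_of_ne_zero hne),
      hlen ▸ length_stalk_ne_top_of_maximal hY.1 hmin, ?_⟩
    rw [secDivFun_eq hY hL (he p) (specializes_refl x) ht (hout p hpm), hratio, Cyc.divFun, dif_pos (show e p ⤳ x ∧ δ x + 1 = δ (e p) from hd),
      Cyc.subschemeFun, if_pos (hδe p hpm), show {z : Y | (𝟙 Y) z = e p} = {e p} from Set.ext fun z => Iff.rfl,
      finsum_mem_singleton, ENat.toNat_mul, Nat.cast_mul, hord, hlen, mul_comm]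
    congr 1
    rw [Cyc.ordAt, ← ordFrac_algebraMap' (K := Y.residueField (e p)) hne]
    rfl
  have hinj : Set.InjOn e T := fun a _ b _ h => (Y.fromSpecStalk x).isEmbedding.injective h
  rw [Cyc.c1CapFun, finsum_eq_sum_of_support_subset _ (s := T.image e) ?_, Finset.sum_image hinj,
    Finset.sum_congr rfl fun p hp => (hfactor p hp).2.2, ← Nat.cast_sum, Nat.cast_inj]
  · refine Eq.trans ?_ (ENat.toNat_sum (s := T) (f := fun p => Ring.ord (_ ⧸ p.asIdeal) (Ideal.Quotient.mk p.asIdeal f) *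
      Module.length (Localization.AtPrime p.asIdeal) (LocalizedModule p.asIdeal.primeCompl (Y.presheaf.stalk x)))
      fun p hp => WithTop.mul_ne_top (hfactor p hp).1 (hfactor p hp).2.1)
    rw [← main]
    congr 1
    refine (Submodule.quotEquivOfEq _ _ ?_).length_eq
    ext a
    rw [Ideal.mem_span_singleton', Submodule.mem_smul_pointwise_iff_exists]
    exact ⟨fun ⟨b, hb⟩ => ⟨b, trivial, by rw [smul_eq_mul, mul_comm]; exact hb⟩,
      fun ⟨b, _, hb⟩ => ⟨b, by rw [mul_comm, ← smul_eq_mul]; exact hb⟩⟩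
  · intro ξ hξ
    have h1 : δ ξ = k + 1 := by_contra fun h => left_ne_zero_of_mul hξ (if_neg h)
    have h2 := right_ne_zero_of_mul hξ
    have hξx : ξ ⤳ x := by_contra fun h => h2 (secDivFun_of_not_specializes _ h)
    refine Finset.mem_coe.mpr (Finset.mem_image.mpr ⟨genPrime hξx, (Set.Finite.mem_toFinset _).mpr ⟨?_, ?_⟩,
      fromSpecStalk_genPrime hξx⟩)
    · rw [Module.mem_support_iff_of_finite]; simp [Module.annihilator_eq_bot.mpr inferInstance]
    · intro h
      have : genPrime hξx = closedPoint (Y.presheaf.stalk x) := PrimeSpectrum.ext h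
      have h3 := fromSpecStalk_genPrime hξx
      rw [this, Scheme.fromSpecStalk_closedPoint] at h3
      rw [← h3] at h1; omega

end Groth.CycInter

namespace Groth.CycInter

variable {X Y : Scheme.{u}} {δ : X → ℤ} {L : X.Modules} (ι : Y ⟶ X) [IsClosedImmersion ι]

theorem finite_preimage_compact {A : Set Y}
    (hA : ∀ W : Y.Opens, IsAffineOpen W → ((W : Set Y) ∩ A).Finite) (V : X.Opens) (hV : IsAffineOpen V) :
    ((ι ⁻¹' (V : Set X)) ∩ A).Finite := by
  have h := hA (ι ⁻¹ᵁ V) (hV.preimage ι)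
  exact h

/-- Pushing a family of principal divisors forward along a closed immersion. -/
theorem ratZeroOn_push (hX : Cyc.IsSetup X δ) {k : ℤ} {F : Y → ℤ}
    (h : RatZeroOn (fun y => δ (ι y)) k Set.univ F) {G : X → ℤ} (hG : ∀ y, G (ι y) = F y)
    (hout : ∀ x, x ∉ Set.range ι → G x = 0) : RatZeroOn δ k (Set.range ι) G := by
  obtain ⟨J, ξ, f, hf, hδ, hfin, hF⟩ := h
  let g : (j : J) → X.residueField (ι (ξ j)) := fun j =>
    (RingEquiv.ofBijective _ (Groth.Cycles.residueFieldMap_bijective ι (ξ j))).symm (f j)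
  have hg : ∀ j, (ι.residueFieldMap (ξ j)).hom (g j) = f j := fun j =>
    (RingEquiv.ofBijective _ (Groth.Cycles.residueFieldMap_bijective ι (ξ j))).apply_symm_apply (f j)
  have hg1 : ∀ j, g j ≠ 1 → f j ≠ 1 := fun j hj h1 => hj <| by
    apply (ι.residueFieldMap (ξ j)).hom.injective
    rw [hg, h1, map_one]
  refine ⟨J, fun j => ι (ξ j), g, fun j h0 => hf j (by rw [← hg, h0, map_zero]),
    fun j hj => ⟨(hδ j (hg1 j hj)).1, Set.mem_range_self _⟩, fun V hV => ?_, fun z => ?_⟩
  · exact (hfin (ι ⁻¹ᵁ V) (hV.preimage ι)).subset fun j hj => ⟨hg1 j hj.1, hj.2⟩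
  · by_cases hz : z ∈ Set.range ι
    · obtain ⟨y, rfl⟩ := hz
      rw [hG, hF]
      exact finsum_congr fun j => by rw [← divFun_closedImm ι δ (ξ j) (g j) y, hg]
    · rw [hout z hz]
      refine (finsum_eq_zero_of_forall_eq_zero fun j => divFun_of_not_specializes _ fun hs => hz ?_).symm
      exact hs.mem_closed ι.isClosedEmbedding.isClosed_range (Set.mem_range_self _)

theorem subschemeFun_closedImm (k : ℤ) (y : Y) :
    Cyc.subschemeFun δ k ι (ι y) = Cyc.subschemeFun (fun y => δ (ι y)) k (𝟙 Y) y := by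
  have hs : {z : Y | ι z = ι y} = {z : Y | (𝟙 Y) z = y} := Set.ext fun z => ι.isEmbedding.injective.eq_iff
  classical
  by_cases h : δ (ι y) = k
  · rw [Cyc.subschemeFun, if_pos h, Cyc.subschemeFun, if_pos h, hs]
  · rw [Cyc.subschemeFun, if_neg h, Cyc.subschemeFun, if_neg h]

theorem subschemeFun_closedImm_of_notMem (k : ℤ) {x : X} (hx : x ∉ Set.range ι) :
    Cyc.subschemeFun δ k ι x = 0 := by
  classical
  rw [Cyc.subschemeFun]
  split_ifs
  · refine finsum_eq_zero_of_forall_eq_zero fun z => ?_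
    rw [finsum_eq_if, if_neg fun hz : z ∈ {z : Y | ι z = x} => hx ⟨z, hz⟩]
  · rfl

theorem c1_subscheme (hX : Cyc.IsSetup X δ) (hL : PicF.IsInvertible L) (k : ℤ) (hY : ∀ y, δ (ι y) ≤ k + 1)
    (s : ((Scheme.Modules.pullback ι).obj L).presheaf.obj (Opposite.op ⊤))
    (hZ : ∀ y, y ∈ zeroLocus ((Scheme.Modules.pullback ι).obj L) s → δ (ι y) ≤ k)
    (hreg : ∀ y : Y, δ (ι y) = k → Function.Injective (fun a : Y.presheaf.stalk y =>
      a • (((Scheme.Modules.pullback ι).obj L).presheaf.germ ⊤ y trivial) s))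
    {v : (ξ : X) → Cyc.secFibre L ξ} (hv : ∀ ξ, v ξ ≠ 0)
    {γ : AlgebraicCycle X ℤ} (hγ : ⇑γ = Cyc.c1CapFun δ L (Cyc.subschemeFun δ (k + 1) ι) v)
    {ζ : AlgebraicCycle Y ℤ}
    (hζ : ⇑ζ = Cyc.zeroSectionFun (fun y => δ (ι y)) k ((Scheme.Modules.pullback ι).obj L) s) :
    Cyc.RatEquiv δ k γ (AlgebraicCycle.map ι (fun y => δ (ι y)) δ ζ) := by
  classical
  have hY' := isSetup_sub ι hX
  have := hY'.1
  have hM := Groth.PicAux.isInvertible_pullback ι hL
  set B := Cyc.subschemeFun (fun y => δ (ι y)) (k + 1) (𝟙 Y)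
  have hBk : ∀ y, B y ≠ 0 → δ (ι y) = k + 1 := fun y hy => by_contra fun h => hy (if_neg h)
  have hfin : ∀ V : Y.Opens, IsAffineOpen V → ((V : Set Y) ∩ Function.support B).Finite := fun V hV =>
    (Groth.Cycles.finite_maximal_inter hV).subset fun y hy => ⟨fun z hz => by_contra fun hne => by
      have h1 : δ (ι y) < δ (ι z) := (hY'.2.2 z y hz hne).1
      have := hY z
      have := hBk y hy.2
      omega, hy.1⟩
  have hzs := zeroSection_eq_c1 hY' hM k hY s hZ hreg
  have hpf : ∀ e, pullFib ι hL e (v (ι e)) ≠ 0 := fun e => pullFib_ne_zero ι hL e (hv _)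
  have e1 := c1CapFun_sections hY' hM (k := k) (Z := Set.univ) B hfin hBk hpf
    (gysinChoice_ne_zero (s := s) hpf) fun e _ h => absurd (Set.mem_univ e) h
  have hsame : ∀ y, Cyc.c1CapFun (fun y => δ (ι y)) ((Scheme.Modules.pullback ι).obj L) B
      (Cyc.gysinChoice _ s fun e => pullFib ι hL e (v (ι e))) y =
      Cyc.c1CapFun (fun y => δ (ι y)) ((Scheme.Modules.pullback ι).obj L) B (sbar _ s) y := fun y =>
    finsum_congr fun e => by
      by_cases h : B e = 0
      · rw [h, zero_mul, zero_mul]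
      · rw [gysinChoice_of_notMem _ fun h' => by have := hZ e h'; have := hBk e h; omega]
  refine ratEquivZero_of_ratZeroOn hX (ratZeroOn_push ι hX e1 (fun y => ?_) fun x hx => ?_)
  · simp only [Function.locallyFinsuppWithin.coe_sub, Pi.sub_apply]
    rw [map_closedImm_apply, hγ, hζ, hzs, hsame]
    rw [← c1CapFun_closedImm ι hX hL (Cyc.subschemeFun δ (k + 1) ι)
      (fun x hx => subschemeFun_closedImm_of_notMem ι _ hx) v hv y]
    simp only [subschemeFun_closedImm]
    rfl
  · simp only [Function.locallyFinsuppWithin.coe_sub, Pi.sub_apply]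
    rw [map_closedImm_apply_of_notMem _ hx, hγ, sub_zero]
    refine finsum_eq_zero_of_forall_eq_zero fun ξ => ?_
    by_cases hξ : ξ ∈ Set.range ι
    · refine mul_eq_zero_of_right _ (secDivFun_of_not_specializes _ fun hs => hx ?_)
      exact hs.mem_closed ι.isClosedEmbedding.isClosed_range hξ
    · rw [subschemeFun_closedImm_of_notMem ι _ hξ, zero_mul]

end Groth.CycInter
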